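import Mathlib.GroupTheory.Commutator.Basic
import Mathlib.GroupTheory.Sylow
import Mathlib.GroupTheory.Solvable
import Mathlib.GroupTheory.Index
import Mathlib.GroupTheory.Complement
import Mathlib.GroupTheory.Nilpotent
import Mathlib.GroupTheory.QuotientGroup.Basic
import Mathlib.Algebra.Group.Subgroup.Pointwise
import Mathlib.Data.Nat.Factorization.Basic

/-!
Elementary tools for the solvable-group library: conjugate subgroups, orders of images in
quotients, minimal normal subgroups.
-/

open scoped Pointwise commutatorElement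
set_option linter.style.haveILetI false

namespace CfsgLib.Solvable.Basic

variable {G : Type*} [Group G]

theorem mem_conj_smul {g x : G} {H : Subgroup G} :
    x ∈ MulAut.conj g • H ↔ g⁻¹ * x * g ∈ H := by
  rw [Subgroup.mem_pointwise_smul_iff_inv_smul_mem, ← map_inv, MulAut.smul_def,
    MulAut.conj_apply, inv_inv]

theorem conj_mem_conj_smul {g x : G} {H : Subgroup G} (hx : x ∈ H) :
    g * x * g⁻¹ ∈ MulAut.conj g • H := by
  rw [mem_conj_smul]; simpa [mul_assoc] using hx

theorem conj_smul_eq_map (g : G) (H : Subgroup G) :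
    MulAut.conj g • H = H.map (MulAut.conj g).toMonoidHom := rfl

theorem conj_smul_conj_smul (a b : G) (H : Subgroup G) :
    MulAut.conj a • MulAut.conj b • H = MulAut.conj (a * b) • H := by
  rw [smul_smul, ← map_mul]

theorem card_conj_smul (g : G) (H : Subgroup G) :
    Nat.card (MulAut.conj g • H : Subgroup G) = Nat.card H :=
  Nat.card_congr (Subgroup.equivSMul (MulAut.conj g) H).symm.toEquiv

theorem index_conj_smul (g : G) (H : Subgroup G) :
    (MulAut.conj g • H : Subgroup G).index = H.index := by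
  rw [conj_smul_eq_map]
  exact Subgroup.index_map_equiv (MulAut.conj g) (H := H)

theorem map_conj_smul {G' : Type*} [Group G'] (f : G →* G') (g : G) (H : Subgroup G) :
    (MulAut.conj g • H).map f = MulAut.conj (f g) • H.map f := by
  rw [conj_smul_eq_map, conj_smul_eq_map, Subgroup.map_map, Subgroup.map_map]
  congr 1
  ext x
  simp

theorem conj_smul_mono {g : G} {H K : Subgroup G} (h : H ≤ K) :
    MulAut.conj g • H ≤ MulAut.conj g • K :=
  Subgroup.pointwise_smul_le_pointwise_smul_iff.mpr h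

/-- A conjugate taken inside a subgroup, pushed up to the whole group. -/
theorem map_subtype_conj_smul {H : Subgroup G} (h : H) (K : Subgroup H) :
    (MulAut.conj h • K).map H.subtype = MulAut.conj (h : G) • K.map H.subtype :=
  map_conj_smul H.subtype h K

theorem card_map_mk_mul (N : Subgroup G) [N.Normal] (H : Subgroup G) :
    Nat.card (H.map (QuotientGroup.mk' N)) * Nat.card (N ⊓ H : Subgroup G) = Nat.card H := by
  have h1 := Subgroup.relIndex_ker (K := H) (QuotientGroup.mk' N)
  rw [QuotientGroup.ker_mk'] at h1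
  rw [← h1, ← Subgroup.inf_relIndex_right]
  have h2 := Subgroup.relIndex_mul_relIndex (⊥ : Subgroup G) (N ⊓ H) H bot_le inf_le_right
  rw [Subgroup.relIndex_bot_left, Subgroup.relIndex_bot_left] at h2
  rw [mul_comm]; exact h2

theorem card_map_mk_of_disjoint (N : Subgroup G) [N.Normal] (H : Subgroup G) (h : N ⊓ H = ⊥) :
    Nat.card (H.map (QuotientGroup.mk' N)) = Nat.card H := by
  have := card_map_mk_mul N H
  rwa [h, Subgroup.card_bot, mul_one] at this

theorem card_map_mk_of_le (N : Subgroup G) [N.Normal] (H : Subgroup G) (h : N ≤ H) :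
    Nat.card (H.map (QuotientGroup.mk' N)) * Nat.card N = Nat.card H := by
  have := card_map_mk_mul N H
  rwa [inf_eq_left.mpr h] at this

theorem card_comap_mk (N : Subgroup G) [N.Normal] (H : Subgroup (G ⧸ N)) :
    Nat.card (H.comap (QuotientGroup.mk' N)) = Nat.card H * Nat.card N := by
  have := card_map_mk_of_le N (H.comap (QuotientGroup.mk' N)) (QuotientGroup.le_comap_mk' N H)
  rwa [Subgroup.map_comap_eq_self_of_surjective (QuotientGroup.mk'_surjective N), eq_comm] at this

theorem card_sup_mul (N : Subgroup G) [N.Normal] (H : Subgroup G) :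
    Nat.card (H ⊔ N : Subgroup G) * Nat.card (N ⊓ H : Subgroup G) = Nat.card H * Nat.card N := by
  have h1 := card_map_mk_mul N H
  have h2 := card_map_mk_of_le N (H ⊔ N) le_sup_right
  have h3 : (H ⊔ N).map (QuotientGroup.mk' N) = H.map (QuotientGroup.mk' N) := by
    rw [Subgroup.map_eq_map_iff, sup_assoc, QuotientGroup.ker_mk', sup_idem]
  rw [h3] at h2
  rw [← h1, ← h2]; ring

theorem card_sup_of_disjoint (N : Subgroup G) [N.Normal] (H : Subgroup G) (h : N ⊓ H = ⊥) :
    Nat.card (H ⊔ N : Subgroup G) = Nat.card H * Nat.card N := by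
  have := card_sup_mul N H
  rwa [h, Subgroup.card_bot, mul_one] at this

theorem le_of_map_mk_le {N H K : Subgroup G} [N.Normal]
    (h : H.map (QuotientGroup.mk' N) ≤ K.map (QuotientGroup.mk' N)) : H ≤ K ⊔ N := by
  rw [Subgroup.map_le_map_iff, QuotientGroup.ker_mk'] at h; exact h

theorem sup_eq_of_map_mk_eq {N H K : Subgroup G} [N.Normal]
    (h : H.map (QuotientGroup.mk' N) = K.map (QuotientGroup.mk' N)) : H ⊔ N = K ⊔ N := by
  rw [Subgroup.map_eq_map_iff, QuotientGroup.ker_mk'] at h; exact h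

theorem isMulCommutative_subgroup_iff {H : Subgroup G} :
    IsMulCommutative H ↔ ∀ a ∈ H, ∀ b ∈ H, a * b = b * a := by
  rw [isMulCommutative_iff]
  exact ⟨fun h a ha b hb => congrArg Subtype.val (h ⟨a, ha⟩ ⟨b, hb⟩),
    fun h a b => Subtype.ext (h a a.2 b b.2)⟩

/-- A nontrivial normal subgroup of a finite group contains a minimal normal subgroup. -/
theorem exists_minimal_normal_le [Finite G] {H : Subgroup G} [hn : H.Normal] (hH : H ≠ ⊥) :
    ∃ N : Subgroup G, N.Normal ∧ N ≠ ⊥ ∧ N ≤ H ∧
      ∀ K : Subgroup G, K.Normal → K ≤ N → K = ⊥ ∨ K = N := by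
  obtain ⟨N, hle, ⟨hNn, hN⟩, hmin⟩ := Finite.exists_le_minimal
    (p := fun K : Subgroup G => K.Normal ∧ K ≠ ⊥) ⟨hn, hH⟩
  refine ⟨N, hNn, hN, hle, fun K hK hKN => ?_⟩
  by_cases hK0 : K = ⊥
  · exact Or.inl hK0
  · exact Or.inr (le_antisymm hKN (hmin ⟨hK, hK0⟩ hKN))

/-- In a group, a minimal normal subgroup which is solvable is elementary abelian. -/
theorem minimal_normal_solvable [Finite G] (N : Subgroup G) [N.Normal] (hN : N ≠ ⊥)
    (hmin : ∀ M : Subgroup G, M.Normal → M ≤ N → M = ⊥ ∨ M = N) [Group.IsSolvable N] :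
    IsMulCommutative N ∧ ∃ p : ℕ, p.Prime ∧ (∀ x ∈ N, x ^ p = 1) ∧ IsPGroup p N := by
  have : Nontrivial N := (Subgroup.nontrivial_iff_ne_bot N).mpr hN
  have hcomm : IsMulCommutative N := by
    have hlt : commutator N < ⊤ := Group.IsSolvable.commutator_lt_top_of_nontrivial N
    have hle : (commutator N).map N.subtype ≤ N := Subgroup.map_subtype_le _
    rcases hmin _ inferInstance hle with h | h
    · rw [Subgroup.map_eq_bot_iff_of_injective _ N.subtype_injective] at h
      rw [isMulCommutative_iff]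
      intro a b
      have hmem : ⁅a, b⁆ ∈ commutator N :=
        Subgroup.commutator_mem_commutator (Subgroup.mem_top a) (Subgroup.mem_top b)
      rw [h, Subgroup.mem_bot, commutatorElement_eq_one_iff_mul_comm] at hmem
      exact hmem
    · exfalso
      apply hlt.ne
      apply Subgroup.map_injective N.subtype_injective
      rw [h, ← MonoidHom.range_eq_map, Subgroup.range_subtype]
  refine ⟨hcomm, ?_⟩
  have hcard : Nat.card N ≠ 1 := by rwa [Ne, Subgroup.card_eq_one]
  obtain ⟨p, hp, hpd⟩ := Nat.exists_prime_and_dvd hcard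
  haveI := Fact.mk hp
  obtain ⟨x, hx⟩ := exists_prime_orderOf_dvd_card' p hpd
  have hc := isMulCommutative_subgroup_iff.mp hcomm
  let S : Subgroup G :=
    { carrier := {y | y ∈ N ∧ y ^ p = 1}
      one_mem' := ⟨one_mem N, one_pow p⟩
      mul_mem' := fun {a b} ha hb => ⟨mul_mem ha.1 hb.1, by
        have hab : Commute a b := hc a ha.1 b hb.1
        rw [hab.mul_pow, ha.2, hb.2, one_mul]⟩
      inv_mem' := fun {a} ha => ⟨inv_mem ha.1, by rw [inv_pow, ha.2, inv_one]⟩ }
  have hSn : S.Normal := ⟨fun y hy g => ⟨Subgroup.Normal.conj_mem ‹_› y hy.1 g, by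
    rw [conj_pow, hy.2, mul_one, mul_inv_cancel]⟩⟩
  have hS : S = N := by
    refine (hmin S hSn (fun y hy => hy.1)).resolve_left ?_
    intro h
    have hxS : (x : G) ∈ S := ⟨x.2, by
      rw [← Subgroup.coe_pow, ← hx, pow_orderOf_eq_one, Subgroup.coe_one]⟩
    rw [h, Subgroup.mem_bot, OneMemClass.coe_eq_one, ← orderOf_eq_one_iff] at hxS
    exact hp.one_lt.ne' (hx ▸ hxS)
  have hexp : ∀ y ∈ N, y ^ p = 1 := fun y hy => by
    rw [← hS] at hy; exact hy.2
  refine ⟨p, hp, hexp, fun y => ⟨1, ?_⟩⟩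
  apply Subtype.ext
  rw [pow_one, Subgroup.coe_pow, Subgroup.coe_one]
  exact hexp y y.2

/-- A finite nontrivial solvable group has a nontrivial normal abelian `p`-subgroup. -/
theorem exists_minimal_normal_pgroup [Finite G] [Group.IsSolvable G] {H : Subgroup G} [H.Normal]
    (hH : H ≠ ⊥) :
    ∃ (N : Subgroup G) (p : ℕ), p.Prime ∧ N.Normal ∧ N ≠ ⊥ ∧ N ≤ H ∧ IsMulCommutative N ∧
      IsPGroup p N ∧ ∀ K : Subgroup G, K.Normal → K ≤ N → K = ⊥ ∨ K = N := by
  obtain ⟨N, hn, hN, hle, hmin⟩ := exists_minimal_normal_le hH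
  haveI := hn
  obtain ⟨hc, p, hp, -, hpg⟩ := minimal_normal_solvable N hN hmin
  exact ⟨N, p, hp, hn, hN, hle, hc, hpg, hmin⟩

theorem card_quotient_lt [Finite G] (N : Subgroup G) [N.Normal] (hN : N ≠ ⊥) :
    Nat.card (G ⧸ N) < Nat.card G := by
  rw [← Subgroup.index_eq_card, ← N.card_mul_index]
  have h1 : 1 < Nat.card N := Subgroup.one_lt_card_iff_ne_bot N |>.mpr hN
  have h2 : 0 < N.index := Nat.pos_of_ne_zero Subgroup.index_ne_zero_of_finite
  nlinarith

theorem card_subgroup_lt [Finite G] (H : Subgroup G) (hH : H ≠ ⊤) :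
    Nat.card H < Nat.card G := by
  rw [← H.card_mul_index]
  have h1 : 1 < H.index := Subgroup.one_lt_index_of_ne_top hH
  have h2 : 0 < Nat.card H := Nat.card_pos
  nlinarith

end CfsgLib.Solvable.Basic
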