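import Cfsg.Prelude.Def_Solvable
import Cfsg.Agent.Lib.Solvable.Basic
import Mathlib.GroupTheory.Sylow
import Mathlib.GroupTheory.Nilpotent

/-!
The `p`-core, the `p'`-core and the Fitting subgroup of a finite group.
-/

open scoped Pointwise commutatorElement
set_option linter.style.haveILetI false

namespace CfsgLib.Solvable.Cores

open CfsgLib.Solvable.Basic

variable {G : Type*} [Group G]

instance pCore_normal (p : ℕ) : (Cfsg.pCore p G).Normal :=
  Subgroup.sSup_normal _ fun _ h => h.1

instance pPrimeCore_normal (p : ℕ) : (Cfsg.pPrimeCore p G).Normal :=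
  Subgroup.sSup_normal _ fun _ h => h.1

instance fittingSubgroup_normal : (Cfsg.fittingSubgroup G).Normal :=
  Subgroup.sSup_normal _ fun _ h => h.1

theorem le_pCore {p : ℕ} {N : Subgroup G} [hn : N.Normal] (h : IsPGroup p N) :
    N ≤ Cfsg.pCore p G :=
  le_sSup ⟨hn, h⟩

theorem le_pPrimeCore {p : ℕ} {N : Subgroup G} [hn : N.Normal] (h : (Nat.card N).Coprime p) :
    N ≤ Cfsg.pPrimeCore p G :=
  le_sSup ⟨hn, h⟩

theorem le_fittingSubgroup {N : Subgroup G} [hn : N.Normal] (h : Group.IsNilpotent N) :
    N ≤ Cfsg.fittingSubgroup G :=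
  le_sSup ⟨hn, h⟩

theorem isPGroup_pCore (p : ℕ) : IsPGroup p (Cfsg.pCore p G) :=
  Sylow.sSup_of_normal _ (fun _ h => h.2) fun _ h => h.1

/-- A join of normal subgroups of orders coprime to `n` has order coprime to `n`. -/
theorem coprime_card_sSup [Finite G] (n : ℕ) (S : Set (Subgroup G))
    (hN : ∀ H ∈ S, H.Normal) (hc : ∀ H ∈ S, (Nat.card H).Coprime n) :
    (Nat.card (sSup S : Subgroup G)).Coprime n := by
  induction S, S.toFinite using Set.Finite.induction_on with
  | empty => simp
  | @insert A T _ _ ih =>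
    rw [sSup_insert]
    haveI : (sSup T : Subgroup G).Normal :=
      Subgroup.sSup_normal _ fun H hH => hN H (Set.mem_insert_of_mem _ hH)
    have h1 := ih (fun H hH => hN H (Set.mem_insert_of_mem _ hH))
      (fun H hH => hc H (Set.mem_insert_of_mem _ hH))
    exact ((hc A (Set.mem_insert _ _)).mul_left h1).coprime_dvd_left
      ⟨_, (card_sup_mul (sSup T) A).symm⟩

theorem coprime_card_pPrimeCore [Finite G] (p : ℕ) :
    (Nat.card (Cfsg.pPrimeCore p G)).Coprime p :=
  coprime_card_sSup p _ (fun _ h => h.1) fun _ h => h.2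

theorem card_pow_of_pCore [Finite G] (p : ℕ) [Fact p.Prime] :
    ∃ k, Nat.card (Cfsg.pCore p G) = p ^ k :=
  IsPGroup.iff_card.mp (isPGroup_pCore p)

theorem coprime_card_pCore [Finite G] {p q : ℕ} [Fact p.Prime] (hq : q.Prime) (h : p ≠ q) :
    (Nat.card (Cfsg.pCore p G)).Coprime q := by
  obtain ⟨k, hk⟩ := card_pow_of_pCore (G := G) p
  rw [hk]
  exact ((Nat.coprime_primes Fact.out hq).mpr h).pow_left k

theorem pCore_le_pPrimeCore [Finite G] {p q : ℕ} [Fact p.Prime] (hq : q.Prime) (h : p ≠ q) :
    Cfsg.pCore p G ≤ Cfsg.pPrimeCore q G :=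
  le_pPrimeCore (coprime_card_pCore hq h)

theorem pCore_le_sylow {p : ℕ} (P : Sylow p G) : Cfsg.pCore p G ≤ P :=
  (isPGroup_pCore p).le_sylow_of_normal P

theorem pCore_eq_iInf (p : ℕ) [Fact p.Prime] [Finite G] :
    Cfsg.pCore p G = ⨅ P : Sylow p G, (P : Subgroup G) := by
  refine le_antisymm (le_iInf pCore_le_sylow) ?_
  haveI : (⨅ P : Sylow p G, (P : Subgroup G)).Normal := ⟨fun x hx g => by
    simp only [Subgroup.mem_iInf] at hx ⊢
    intro P
    have := hx (g⁻¹ • P)
    rw [Sylow.coe_subgroup_smul, mem_conj_smul] at this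
    simpa using this⟩
  obtain ⟨P⟩ : Nonempty (Sylow p G) := inferInstance
  exact le_pCore (P.isPGroup'.to_le (iInf_le _ P))

theorem pCore_isNilpotent [Finite G] (p : ℕ) [Fact p.Prime] :
    Group.IsNilpotent (Cfsg.pCore p G) :=
  (isPGroup_pCore p).isNilpotent

theorem pCore_le_fittingSubgroup [Finite G] (p : ℕ) [Fact p.Prime] :
    Cfsg.pCore p G ≤ Cfsg.fittingSubgroup G :=
  le_fittingSubgroup (pCore_isNilpotent p)

/-- A subgroup containing a Sylow subgroup for each prime is everything. -/
theorem eq_top_of_sylow_le [Finite G] (H : Subgroup G)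
    (h : ∀ p : ℕ, p.Prime → ∃ P : Sylow p G, (P : Subgroup G) ≤ H) : H = ⊤ := by
  rw [← Subgroup.index_eq_one]
  refine Nat.eq_one_iff_not_exists_prime_dvd.mpr fun p hp hd => ?_
  haveI := Fact.mk hp
  obtain ⟨P, hP⟩ := h p hp
  exact P.not_dvd_index (hd.trans (Subgroup.index_dvd_of_le hP))

theorem le_iSup_pCore [Finite G] (N : Subgroup G) [N.Normal] (h : Group.IsNilpotent N) :
    N ≤ ⨆ p : Nat.Primes, Cfsg.pCore (p : ℕ) G := by
  rw [← Subgroup.subgroupOf_eq_top]
  refine eq_top_of_sylow_le _ fun p hp => ?_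
  haveI := Fact.mk hp
  obtain ⟨P⟩ : Nonempty (Sylow p N) := inferInstance
  refine ⟨P, ?_⟩
  have hPn : (P : Subgroup N).Normal := inferInstance
  haveI : (P : Subgroup N).Characteristic := P.characteristic_of_normal hPn
  have hle : (P : Subgroup N).map N.subtype ≤ Cfsg.pCore p G :=
    le_pCore (P.isPGroup'.map N.subtype)
  intro x hx
  exact le_iSup (fun p : Nat.Primes => Cfsg.pCore (p : ℕ) G) ⟨p, hp⟩
    (hle (Subgroup.mem_map_of_mem _ hx))

theorem iSup_pCore_isNilpotent [Finite G] :
    Group.IsNilpotent (⨆ p : Nat.Primes, Cfsg.pCore (p : ℕ) G : Subgroup G) := by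
  set F : Subgroup G := ⨆ p : Nat.Primes, Cfsg.pCore (p : ℕ) G with hF
  refine (Group.isNilpotent_of_finite_tfae.out 0 3).mpr fun p hp Q => ?_
  haveI : Fact p.Prime := hp
  let pp : Nat.Primes := ⟨p, hp.out⟩
  let S : Set (Subgroup G) := (fun q : Nat.Primes => Cfsg.pCore (q : ℕ) G) '' {q | q ≠ pp}
  have hS : ∀ H ∈ S, H.Normal := by rintro _ ⟨q, -, rfl⟩; exact pCore_normal _
  haveI : (sSup S : Subgroup G).Normal := Subgroup.sSup_normal _ hS
  have hsup : Cfsg.pCore p G ⊔ sSup S = F := by
    apply le_antisymm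
    · refine sup_le (le_iSup (fun q : Nat.Primes => Cfsg.pCore (q : ℕ) G) pp) (sSup_le ?_)
      rintro _ ⟨q, -, rfl⟩
      exact le_iSup (fun q : Nat.Primes => Cfsg.pCore (q : ℕ) G) q
    · refine iSup_le fun q => ?_
      by_cases hq : q = pp
      · subst hq; exact le_sup_left
      · exact le_trans (le_sSup (show Cfsg.pCore (q : ℕ) G ∈ S from ⟨q, hq, rfl⟩)) le_sup_right
  have hcop : (Nat.card (sSup S : Subgroup G)).Coprime p := by
    refine coprime_card_sSup p S hS ?_
    rintro _ ⟨q, hq, rfl⟩
    haveI := Fact.mk q.2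
    exact coprime_card_pCore hp.out fun h => hq (Subtype.ext h)
  have hidx : (Cfsg.pCore p G).relIndex F = (Cfsg.pCore p G).relIndex (sSup S) := by
    rw [← hsup, Subgroup.relIndex_sup_left]
  have hnd : ¬ p ∣ ((Cfsg.pCore p G).subgroupOf F).index := by
    intro hd
    change p ∣ (Cfsg.pCore p G).relIndex F at hd
    rw [hidx] at hd
    exact hp.out.coprime_iff_not_dvd.mp hcop.symm (hd.trans (Subgroup.relIndex_dvd_card _ _))
  let P : Sylow p F := ((isPGroup_pCore p).comap_subtype (K := F)).toSylow hnd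
  haveI hPn : (P : Subgroup F).Normal :=
    inferInstanceAs ((Cfsg.pCore p G).subgroupOf F).Normal
  haveI : Subsingleton (Sylow p F) := by
    haveI := Sylow.unique_of_normal P hPn; infer_instance
  rw [Subsingleton.elim Q P]; exact hPn

theorem fittingSubgroup_eq_iSup_pCore [Finite G] :
    Cfsg.fittingSubgroup G = ⨆ p : Nat.Primes, Cfsg.pCore (p : ℕ) G := by
  refine le_antisymm (sSup_le fun N hN => ?_) (iSup_le fun p => ?_)
  · haveI := hN.1; exact le_iSup_pCore N hN.2
  · haveI := Fact.mk p.2; exact pCore_le_fittingSubgroup _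

instance fittingSubgroup_isNilpotent [Finite G] : Group.IsNilpotent (Cfsg.fittingSubgroup G) := by
  rw [fittingSubgroup_eq_iSup_pCore]; exact iSup_pCore_isNilpotent

theorem map_pCore {H : Type*} [Group H] (e : G ≃* H) (p : ℕ) :
    (Cfsg.pCore p G).map e.toMonoidHom = Cfsg.pCore p H := by
  refine le_antisymm ?_ ?_
  · haveI : ((Cfsg.pCore p G).map e.toMonoidHom).Normal :=
      Subgroup.Normal.map inferInstance _ e.surjective
    exact le_pCore ((isPGroup_pCore p).map _)
  · haveI : ((Cfsg.pCore p H).comap e.toMonoidHom).Normal := Subgroup.Normal.comap inferInstance _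
    have h := le_pCore ((isPGroup_pCore (G := H) p).comap_of_injective e.toMonoidHom e.injective)
    intro x hx
    exact ⟨e.symm x, h (by simpa using hx), by simp⟩

instance pCore_characteristic (p : ℕ) : (Cfsg.pCore p G).Characteristic :=
  Subgroup.characteristic_iff_map_eq.mpr fun e => map_pCore e p

instance fittingSubgroup_characteristic [Finite G] : (Cfsg.fittingSubgroup G).Characteristic := by
  refine Subgroup.characteristic_iff_map_le.mpr fun e => ?_
  haveI : ((Cfsg.fittingSubgroup G).map e.toMonoidHom).Normal :=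
    Subgroup.Normal.map inferInstance _ e.surjective
  exact le_fittingSubgroup (Group.nilpotent_of_surjective _
    (MonoidHom.subgroupMap_surjective e.toMonoidHom _))

instance pPrimeCore_characteristic [Finite G] (p : ℕ) : (Cfsg.pPrimeCore p G).Characteristic := by
  refine Subgroup.characteristic_iff_map_le.mpr fun e => ?_
  haveI : ((Cfsg.pPrimeCore p G).map e.toMonoidHom).Normal :=
    Subgroup.Normal.map inferInstance _ e.surjective
  exact le_pPrimeCore ((coprime_card_pPrimeCore p).coprime_dvd_left (Subgroup.card_map_dvd _ e.toMonoidHom))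

/-- Normal subgroups of a normal subgroup that are characteristic in it. -/
theorem map_pCore_le (p : ℕ) (N : Subgroup G) [N.Normal] :
    (Cfsg.pCore p N).map N.subtype ≤ Cfsg.pCore p G :=
  le_pCore ((isPGroup_pCore p).map _)

theorem map_fittingSubgroup_le [Finite G] (N : Subgroup G) [N.Normal] :
    (Cfsg.fittingSubgroup N).map N.subtype ≤ Cfsg.fittingSubgroup G :=
  le_fittingSubgroup (Group.nilpotent_of_surjective _ (MonoidHom.subgroupMap_surjective _ _))

theorem fittingSubgroup_eq_top_iff [Finite G] :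
    Cfsg.fittingSubgroup G = ⊤ ↔ Group.IsNilpotent G := by
  constructor
  · intro h
    haveI := fittingSubgroup_isNilpotent (G := G)
    rw [h] at this
    exact Group.isNilpotent_top.mp this
  · intro h
    exact top_le_iff.mp (le_fittingSubgroup (Group.isNilpotent_top.mpr h))

/-- In a finite solvable group the Fitting subgroup contains its centralizer. -/
theorem centralizer_fittingSubgroup_le [Finite G] [Group.IsSolvable G] :
    Subgroup.centralizer (Cfsg.fittingSubgroup G : Set G) ≤ Cfsg.fittingSubgroup G := by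
  set F := Cfsg.fittingSubgroup G with hF
  set C := Subgroup.centralizer (F : Set G) with hC
  by_contra hne
  set Z := C ⊓ F with hZ
  have hCZ : C.map (QuotientGroup.mk' Z) ≠ ⊥ := by
    rw [Ne, Subgroup.map_eq_bot_iff, QuotientGroup.ker_mk']
    exact fun h => hne (h.trans inf_le_right)
  haveI : (C.map (QuotientGroup.mk' Z)).Normal :=
    Subgroup.Normal.map inferInstance _ (QuotientGroup.mk'_surjective _)
  obtain ⟨M, p, -, hMn, hM, hMle, hMc, -, -⟩ := exists_minimal_normal_pgroup hCZ
  haveI := hMn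
  set M₀ := M.comap (QuotientGroup.mk' Z) with hM₀
  have hMC : M₀ ≤ C := by
    refine (Subgroup.comap_mono hMle).trans ?_
    rw [Subgroup.comap_map_eq, QuotientGroup.ker_mk']
    exact sup_le le_rfl inf_le_left
  let f : M₀ →* M := (QuotientGroup.mk' Z).subgroupComap M
  haveI : Group.IsNilpotent M := by
    letI : CommGroup M := { (inferInstance : Group M) with mul_comm := mul_comm' }
    infer_instance
  have hnil : Group.IsNilpotent M₀ := by
    refine Subgroup.isNilpotent_of_ker_le_center f ?_
    intro x hx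
    have hx' : (x : G) ∈ Z := by
      rw [MonoidHom.mem_ker] at hx
      have := congrArg Subtype.val hx
      rw [← QuotientGroup.eq_one_iff]
      exact this
    rw [Subgroup.mem_center_iff]
    intro y
    apply Subtype.ext
    exact (Subgroup.mem_centralizer_iff.mp (hMC y.2) x hx'.2).symm
  have hle : M₀ ≤ Z := le_inf hMC (le_fittingSubgroup hnil)
  apply hM
  rw [← Subgroup.map_comap_eq_self_of_surjective (QuotientGroup.mk'_surjective Z) M,
    Subgroup.map_eq_bot_iff, QuotientGroup.ker_mk']
  exact hle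

theorem fittingSubgroup_eq_pCore [Finite G] (p : ℕ) [Fact p.Prime]
    (h : Cfsg.pPrimeCore p G = ⊥) : Cfsg.fittingSubgroup G = Cfsg.pCore p G := by
  refine le_antisymm ?_ (pCore_le_fittingSubgroup p)
  rw [fittingSubgroup_eq_iSup_pCore]
  refine iSup_le fun q => ?_
  by_cases hq : (q : ℕ) = p
  · rw [hq]
  · haveI := Fact.mk q.2
    have := pCore_le_pPrimeCore (G := G) (p := (q : ℕ)) (Fact.out : p.Prime) hq
    rw [h, le_bot_iff] at this
    rw [this]; exact bot_le

theorem fittingSubgroup_ne_bot [Finite G] [Group.IsSolvable G] [Nontrivial G] :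
    Cfsg.fittingSubgroup G ≠ ⊥ := by
  intro h
  have := centralizer_fittingSubgroup_le (G := G)
  rw [h, le_bot_iff] at this
  have ht : Subgroup.centralizer ((⊥ : Subgroup G) : Set G) = ⊤ := by
    rw [eq_top_iff]
    intro x _
    rw [Subgroup.mem_centralizer_iff]
    intro y hy
    rw [Subgroup.mem_bot.mp hy, one_mul, mul_one]
  exact top_ne_bot (ht.symm.trans this)

end CfsgLib.Solvable.Cores
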