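import Cfsg.Agent.Lib.Solvable.Cores
import Mathlib.GroupTheory.Frattini
import Mathlib.GroupTheory.SchurZassenhaus

/-!
The Frattini subgroup, nilpotent normal subgroups and complements.
-/

open scoped Pointwise commutatorElement
set_option linter.style.haveILetI false

namespace CfsgLib.Solvable.FrattiniFitting

open CfsgLib.Solvable.Basic CfsgLib.Solvable.Cores

variable {G : Type*} [Group G]

/-- Dedekind's rule for a normal subgroup inside `H`. -/
theorem sup_inf_eq {D H M : Subgroup G} [D.Normal] (hD : D ≤ H) (hM : D ⊔ M = ⊤) :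
    D ⊔ (H ⊓ M) = H := by
  refine le_antisymm (sup_le hD inf_le_left) fun x hx => ?_
  have hx' : x ∈ ((D ⊔ M : Subgroup G) : Set G) := by rw [hM]; trivial
  rw [Subgroup.normal_mul] at hx'
  obtain ⟨d, hd, m, hm, rfl⟩ := hx'
  exact Subgroup.mul_mem_sup hd ⟨by simpa using mul_mem (inv_mem (hD hd)) hx, hm⟩

/-- If `D ≤ H` is normal and `H` is a minimal supplement of some `A`, then `D ≤ frattini`
whenever `D ≤ A`. -/
theorem inf_minimal_supplement_le_frattini {A D H : Subgroup G} [D.Normal] (hDH : D ≤ H)
    (hDA : D ≤ A) (hsup : A ⊔ H = ⊤) (hmin : ∀ K, K ≤ H → A ⊔ K = ⊤ → K = H) :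
    D ≤ frattini G := by
  refine le_iInf₂ fun M hM => ?_
  by_contra hDM
  have hMt : D ⊔ M = ⊤ := hM.2 _ (right_lt_sup.mpr hDM)
  have hH : H ⊓ M = H := by
    refine hmin _ inf_le_left (top_le_iff.mp ?_)
    rw [← hsup]
    refine sup_le le_sup_left ?_
    conv_lhs => rw [← sup_inf_eq hDH hMt]
    exact sup_le (hDA.trans le_sup_left) le_sup_right
  exact hDM (hDH.trans (hH ▸ inf_le_right))

theorem exists_minimal_supplement [Finite G] (A : Subgroup G) :
    ∃ H : Subgroup G, A ⊔ H = ⊤ ∧ ∀ K, K ≤ H → A ⊔ K = ⊤ → K = H := by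
  obtain ⟨H, -, hH, hmin⟩ := Finite.exists_le_minimal
    (p := fun K : Subgroup G => A ⊔ K = ⊤) (a := ⊤) (by simp)
  exact ⟨H, hH, fun K hK hK' => le_antisymm hK (hmin hK' hK)⟩

theorem inf_normal_of_abelian {A H : Subgroup G} [A.Normal] (hc : IsMulCommutative A)
    (hsup : A ⊔ H = ⊤) : (A ⊓ H).Normal := by
  rw [← Subgroup.normalizer_eq_top_iff, eq_top_iff, ← hsup]
  refine sup_le (fun a ha => ?_) (fun h hh => ?_)
  · rw [Subgroup.mem_normalizer_iff]
    intro x
    have key : ∀ y ∈ A, a * y * a⁻¹ = y := fun y hy => by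
      rw [isMulCommutative_subgroup_iff.mp hc a ha y hy, mul_inv_cancel_right]
    constructor
    · intro hx; rw [key x hx.1]; exact hx
    · intro hx
      have hxA : x ∈ A := by simpa [mul_assoc] using mul_mem (mul_mem (inv_mem ha) hx.1) ha
      rwa [key x hxA] at hx
  · rw [Subgroup.mem_normalizer_iff]
    intro x
    constructor
    · intro hx
      exact ⟨Subgroup.Normal.conj_mem ‹_› x hx.1 h, H.mul_mem (H.mul_mem hh hx.2) (H.inv_mem hh)⟩
    · intro hx
      exact ⟨by simpa [mul_assoc] using Subgroup.Normal.conj_mem ‹_› _ hx.1 h⁻¹,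
        by simpa [mul_assoc] using mul_mem (mul_mem (inv_mem hh) hx.2) hh⟩

theorem isComplement'_of_sup_inf [Finite G] {A H : Subgroup G} [A.Normal] (hs : A ⊔ H = ⊤)
    (hi : A ⊓ H = ⊥) : Subgroup.IsComplement' A H := by
  refine Subgroup.isComplement'_of_card_mul_and_disjoint ?_ (disjoint_iff.mpr hi)
  rw [← Subgroup.card_top (G := G), ← hs, sup_comm, card_sup_of_disjoint A H hi, mul_comm]

/-- An abelian normal subgroup meeting the Frattini subgroup trivially is complemented. -/
theorem exists_complement_of_inf_frattini [Finite G] (A : Subgroup G) [A.Normal]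
    (hc : IsMulCommutative A) (h : A ⊓ frattini G = ⊥) :
    ∃ H : Subgroup G, Subgroup.IsComplement' A H := by
  obtain ⟨H, hH, hmin⟩ := exists_minimal_supplement A
  haveI := inf_normal_of_abelian hc hH
  refine ⟨H, isComplement'_of_sup_inf hH (le_bot_iff.mp ?_)⟩
  rw [← h]
  exact le_inf inf_le_left
    (inf_minimal_supplement_le_frattini inf_le_right inf_le_left hH hmin)

/-- If `B ≤ frattini G` and `A / B` is nilpotent then so is `A`. -/
theorem isNilpotent_of_quotient_frattini [Finite G] (A B : Subgroup G) [A.Normal] [B.Normal]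
    (hBA : B ≤ A) (hB : B ≤ frattini G) [Group.IsNilpotent (A ⧸ B.subgroupOf A)] :
    Group.IsNilpotent A := by
  refine (Group.isNilpotent_of_finite_tfae.out 0 3).mpr fun p hp P => ?_
  haveI : Fact p.Prime := hp
  let f := QuotientGroup.mk' (B.subgroupOf A)
  let Q : Sylow p (A ⧸ B.subgroupOf A) := P.mapSurjective (QuotientGroup.mk'_surjective _)
  have hQn : (Q : Subgroup (A ⧸ B.subgroupOf A)).Normal := inferInstance
  haveI hQc : (Q : Subgroup (A ⧸ B.subgroupOf A)).Characteristic := Q.characteristic_of_normal hQn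
  set P₀ : Subgroup G := (P : Subgroup A).map A.subtype with hP₀
  -- `P₀ ⊔ B` is normal in `G`
  haveI hPB : (P₀ ⊔ B).Normal := by
    have hmap : P₀ ⊔ B = ((P : Subgroup A) ⊔ B.subgroupOf A).map A.subtype := by
      rw [Subgroup.map_sup, Subgroup.map_subgroupOf_eq_of_le hBA]
    have hcomap : (P : Subgroup A) ⊔ B.subgroupOf A = (Q : Subgroup _).comap f := by
      rw [Sylow.coe_mapSurjective, Subgroup.comap_map_eq, QuotientGroup.ker_mk']
    rw [hmap, hcomap]
    refine ⟨fun x hx g => ?_⟩
    obtain ⟨a, ha, rfl⟩ := hx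
    -- conjugation by `g` induces an automorphism of `A / B`
    let c : A ≃* A := MulAut.conjNormal g
    have hcB : (B.subgroupOf A).map c.toMonoidHom = B.subgroupOf A := by
      ext y
      constructor
      · rintro ⟨z, hz, rfl⟩
        exact Subgroup.Normal.conj_mem ‹B.Normal› _ hz g
      · intro hy
        refine ⟨c.symm y, ?_, by simp⟩
        show ((c.symm y : A) : G) ∈ B
        rw [MulAut.conjNormal_symm_apply]
        simpa using Subgroup.Normal.conj_mem ‹B.Normal› _ hy g⁻¹
    let e : (A ⧸ B.subgroupOf A) ≃* (A ⧸ B.subgroupOf A) :=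
      QuotientGroup.congr _ _ c hcB
    refine ⟨c a, ?_, MulAut.conjNormal_apply g a⟩
    have h2 := (Subgroup.characteristic_iff_map_eq.mp hQc e).le (Subgroup.mem_map_of_mem _ ha)
    exact h2
  have hfr : Subgroup.normalizer (P₀ : Set G) = ⊤ := by
    refine frattini_nongenerating (top_le_iff.mp ?_)
    have hPA : P₀ ≤ A := Subgroup.map_subtype_le _
    let S : Sylow p (P₀ ⊔ B : Subgroup G) := by
      refine (IsPGroup.toSylow (P := P₀.subgroupOf (P₀ ⊔ B))
        ((P.isPGroup'.map A.subtype).comap_subtype) ?_)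
      intro hd
      apply P.not_dvd_index
      refine hd.trans ?_
      have hle : (P₀ ⊔ B : Subgroup G) ≤ A := sup_le hPA hBA
      have : (P : Subgroup A).index = P₀.relIndex A := by
        rw [hP₀, Subgroup.relIndex, Subgroup.subgroupOf, Subgroup.comap_map_eq_self_of_injective
          A.subtype_injective]
      rw [this, ← Subgroup.relIndex_mul_relIndex P₀ (P₀ ⊔ B) A le_sup_left hle]
      exact dvd_mul_right _ _
    have h := Sylow.normalizer_sup_eq_top S
    have hS : (S : Subgroup (P₀ ⊔ B : Subgroup G)).map (P₀ ⊔ B).subtype = P₀ :=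
      Subgroup.map_subgroupOf_eq_of_le le_sup_left
    rw [hS] at h
    rw [← h]
    exact sup_le le_sup_left (sup_le (Subgroup.le_normalizer.trans le_sup_left)
      (hB.trans le_sup_right))
  exact (Subgroup.normalizer_eq_top_iff.mp hfr).of_map_subtype

theorem frattini_subtype_le [Finite G] (H : Subgroup G) [H.Normal] :
    (frattini H).map H.subtype ≤ frattini G := by
  refine le_iInf₂ fun M hM => ?_
  by_contra hDM
  set D := (frattini H).map H.subtype
  have hMt : D ⊔ M = ⊤ := hM.2 _ (right_lt_sup.mpr hDM)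
  have hDH : D ≤ H := Subgroup.map_subtype_le _
  have h := sup_inf_eq hDH hMt
  have h2 : M.subgroupOf H = ⊤ := by
    apply frattini_nongenerating
    apply Subgroup.map_injective H.subtype_injective
    rw [Subgroup.map_sup, Subgroup.subgroupOf_map_subtype, ← MonoidHom.range_eq_map,
      Subgroup.range_subtype, inf_comm, sup_comm]
    exact h
  exact hDM (hDH.trans (Subgroup.subgroupOf_eq_top.mp h2))

theorem map_fittingSubgroup_quotient [Finite G] (N : Subgroup G) [N.Normal] :
    (Cfsg.fittingSubgroup G).map (QuotientGroup.mk' N) ≤ Cfsg.fittingSubgroup (G ⧸ N) := by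
  haveI : ((Cfsg.fittingSubgroup G).map (QuotientGroup.mk' N)).Normal :=
    Subgroup.Normal.map inferInstance _ (QuotientGroup.mk'_surjective N)
  exact le_fittingSubgroup (Group.nilpotent_of_surjective _
    (MonoidHom.subgroupMap_surjective _ _))

theorem fittingSubgroup_quotient_frattini [Finite G] :
    Cfsg.fittingSubgroup (G ⧸ frattini G)
      = (Cfsg.fittingSubgroup G).map (QuotientGroup.mk' (frattini G)) := by
  refine le_antisymm ?_ (map_fittingSubgroup_quotient _)
  set F := Cfsg.fittingSubgroup (G ⧸ frattini G)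
  set A := F.comap (QuotientGroup.mk' (frattini G))
  have hΦA : frattini G ≤ A := QuotientGroup.le_comap_mk' _ _
  let f : A →* F := (QuotientGroup.mk' (frattini G)).subgroupComap F
  have hf : Function.Surjective f :=
    MonoidHom.subgroupComap_surjective_of_surjective _ _ (QuotientGroup.mk'_surjective _)
  have hker : f.ker = (frattini G).subgroupOf A := by
    ext x
    rw [MonoidHom.mem_ker, Subgroup.mem_subgroupOf, ← QuotientGroup.eq_one_iff,
      ← OneMemClass.coe_eq_one]
    rfl
  haveI : Group.IsNilpotent (A ⧸ (frattini G).subgroupOf A) :=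
    Group.nilpotent_of_mulEquiv ((QuotientGroup.quotientKerEquivOfSurjective f hf).symm.trans
      (QuotientGroup.quotientMulEquivOfEq hker))
  have hA : A ≤ Cfsg.fittingSubgroup G :=
    le_fittingSubgroup (isNilpotent_of_quotient_frattini A (frattini G) hΦA le_rfl)
  intro x hx
  obtain ⟨y, rfl⟩ := QuotientGroup.mk'_surjective (frattini G) x
  exact ⟨y, hA hx, rfl⟩

/-- A nontrivial normal subgroup of a nilpotent group meets the centre nontrivially. -/
theorem inf_center_ne_bot [Group.IsNilpotent G] (N : Subgroup G) [N.Normal] (hN : N ≠ ⊥) :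
    N ⊓ Subgroup.center G ≠ ⊥ := by
  classical
  intro h
  apply hN
  have : ∀ n, N ⊓ Subgroup.upperCentralSeries G n = ⊥ := by
    intro n
    induction n with
    | zero => simp [Subgroup.upperCentralSeries_zero]
    | succ n ih =>
      rw [eq_bot_iff]
      rintro x ⟨hxN, hx⟩
      have hc : x ∈ Subgroup.center G := by
        rw [Subgroup.mem_center_iff]
        intro y
        have h1 : ⁅x, y⁆ ∈ N ⊓ Subgroup.upperCentralSeries G n :=
          ⟨by
            rw [commutatorElement_def, mul_assoc x y x⁻¹, mul_assoc x (y * x⁻¹) y⁻¹]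
            exact mul_mem hxN (by simpa using Subgroup.Normal.conj_mem ‹_› _ (inv_mem hxN) y),
          (Subgroup.mem_upperCentralSeries_succ_iff).mp hx y⟩
        rw [ih, Subgroup.mem_bot, commutatorElement_eq_one_iff_mul_comm] at h1
        exact h1.symm
      have : x ∈ N ⊓ Subgroup.center G := ⟨hxN, hc⟩
      rwa [h] at this
  obtain ⟨n, hn⟩ := Group.IsNilpotent.nilpotent G
  simpa [hn] using this n

/-- In a nilpotent group every maximal subgroup contains the commutator subgroup. -/
theorem commutator_le_frattini [Finite G] [Group.IsNilpotent G] :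
    commutator G ≤ frattini G := by
  refine le_iInf₂ fun M hM => ?_
  haveI hMn : M.Normal := Subgroup.NormalizerCondition.normal_of_coatom M
    Group.normalizerCondition_of_isNilpotent hM
  haveI : Nontrivial (G ⧸ M) := QuotientGroup.nontrivial_iff.mpr hM.1
  have hc : Subgroup.center (G ⧸ M) = ⊤ := by
    by_contra hne
    have h1 : (Subgroup.center (G ⧸ M)).comap (QuotientGroup.mk' M) = M := by
      rcases eq_or_lt_of_le (QuotientGroup.le_comap_mk' M (Subgroup.center (G ⧸ M))) with h | h
      · exact h.symm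
      · exfalso
        apply hne
        rw [← Subgroup.map_comap_eq_self_of_surjective (QuotientGroup.mk'_surjective M)
          (Subgroup.center (G ⧸ M)), hM.2 _ h,
          Subgroup.map_top_of_surjective _ (QuotientGroup.mk'_surjective M)]
    apply Group.IsNilpotent.center_ne_bot (G := G ⧸ M)
    rw [← Subgroup.map_comap_eq_self_of_surjective (QuotientGroup.mk'_surjective M)
      (Subgroup.center (G ⧸ M)), h1, Subgroup.map_eq_bot_iff, QuotientGroup.ker_mk']
  rw [commutator_def, Subgroup.commutator_le]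
  intro a _ b _
  rw [← QuotientGroup.eq_one_iff]
  show (QuotientGroup.mk' M) ⁅a, b⁆ = 1
  rw [map_commutatorElement, commutatorElement_eq_one_iff_mul_comm]
  exact (Subgroup.mem_center_iff.mp (hc ▸ Subgroup.mem_top _) _).symm

/-- The Fitting subgroup centralizes every minimal normal subgroup. -/
theorem fittingSubgroup_le_centralizer [Finite G] (M : Subgroup G) [M.Normal]
    (hmin : ∀ K : Subgroup G, K.Normal → K ≤ M → K = ⊥ ∨ K = M) :
    Cfsg.fittingSubgroup G ≤ Subgroup.centralizer (M : Set G) := by
  set F := Cfsg.fittingSubgroup G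
  rcases hmin (M ⊓ F) inferInstance inf_le_left with h | h
  · intro f hf
    rw [Subgroup.mem_centralizer_iff]
    intro m hm
    have h1 : ⁅m, f⁆ ∈ M ⊓ F := by
      refine ⟨?_, ?_⟩
      · rw [commutatorElement_def, mul_assoc m f m⁻¹, mul_assoc m (f * m⁻¹) f⁻¹]
        exact mul_mem hm (Subgroup.Normal.conj_mem ‹M.Normal› _ (inv_mem hm) f)
      · rw [commutatorElement_def]
        exact F.mul_mem (Subgroup.Normal.conj_mem inferInstance _ hf m) (F.inv_mem hf)
    rwa [h, Subgroup.mem_bot, commutatorElement_eq_one_iff_mul_comm] at h1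
  · have hMF : M ≤ F := h ▸ inf_le_right
    by_cases hM : M = ⊥
    · intro f _
      rw [Subgroup.mem_centralizer_iff]
      intro m hm
      rw [hM] at hm
      rw [Subgroup.mem_bot.mp hm, one_mul, mul_one]
    have hne : M.subgroupOf F ≠ ⊥ := by
      rw [Ne, Subgroup.subgroupOf_eq_bot, disjoint_iff, inf_eq_left.mpr hMF]; exact hM
    have h2 := inf_center_ne_bot (M.subgroupOf F) hne
    set Z : Subgroup G := (M.subgroupOf F ⊓ Subgroup.center F).map F.subtype
    have hZ : Z = M ⊓ (Subgroup.center F).map F.subtype := by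
      show (M.subgroupOf F ⊓ _).map F.subtype = _
      rw [Subgroup.map_inf _ _ _ F.subtype_injective, Subgroup.map_subgroupOf_eq_of_le hMF]
    haveI : Z.Normal := by rw [hZ]; infer_instance
    have hZM : Z = M := (hmin Z inferInstance (hZ ▸ inf_le_left)).resolve_left fun h3 =>
      h2 ((Subgroup.map_eq_bot_iff_of_injective _ F.subtype_injective).mp h3)
    intro f hf
    rw [Subgroup.mem_centralizer_iff]
    intro m hm
    rw [← hZM] at hm
    obtain ⟨z, hz, rfl⟩ := hm
    exact (congrArg Subtype.val (Subgroup.mem_center_iff.mp hz.2 ⟨f, hf⟩)).symm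

/-- With trivial Frattini subgroup, the Fitting subgroup is the abelian socle. -/
theorem fittingSubgroup_eq_sSup [Finite G] (hΦ : frattini G = ⊥) :
    Cfsg.fittingSubgroup G = sSup {N : Subgroup G | N.Normal ∧ N ≠ ⊥ ∧ IsMulCommutative N ∧
      ∀ K : Subgroup G, K.Normal → K ≤ N → K = ⊥ ∨ K = N} := by
  set S := sSup {N : Subgroup G | N.Normal ∧ N ≠ ⊥ ∧ IsMulCommutative N ∧
      ∀ K : Subgroup G, K.Normal → K ≤ N → K = ⊥ ∨ K = N}
  set F := Cfsg.fittingSubgroup G with hF
  haveI : S.Normal := Subgroup.sSup_normal _ fun _ h => h.1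
  have hSF : S ≤ F := sSup_le fun N hN => by
    haveI := hN.1
    haveI := hN.2.2.1
    letI : CommGroup N := { (inferInstance : Group N) with mul_comm := mul_comm' }
    exact le_fittingSubgroup inferInstance
  refine le_antisymm ?_ hSF
  have hFc : IsMulCommutative F := by
    rw [isMulCommutative_iff]
    intro a b
    have h1 : ⁅a, b⁆ ∈ frattini F := commutator_le_frattini
      (Subgroup.commutator_mem_commutator (Subgroup.mem_top a) (Subgroup.mem_top b))
    have h2 := frattini_subtype_le F (Subgroup.mem_map_of_mem _ h1)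
    rw [hΦ, Subgroup.mem_bot] at h2
    rw [← commutatorElement_eq_one_iff_mul_comm]
    exact Subtype.ext h2
  have hSc : IsMulCommutative S := by
    rw [isMulCommutative_subgroup_iff]
    intro a ha b hb
    exact isMulCommutative_subgroup_iff.mp hFc a (hSF ha) b (hSF hb)
  obtain ⟨H, hH⟩ := exists_complement_of_inf_frattini S hSc (by rw [hΦ, inf_bot_eq])
  have hFH : F ⊔ H = ⊤ := top_le_iff.mp (hH.sup_eq_top ▸ sup_le_sup_right hSF H)
  haveI := inf_normal_of_abelian hFc hFH
  have hbot : F ⊓ H = ⊥ := by
    by_contra hne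
    obtain ⟨N, hNn, hN, hle, hmin⟩ := exists_minimal_normal_le hne
    have hNc : IsMulCommutative N := by
      rw [isMulCommutative_subgroup_iff]
      intro a ha b hb
      exact isMulCommutative_subgroup_iff.mp hFc a (hle ha).1 b (hle hb).1
    have hNS : N ≤ S := le_sSup ⟨hNn, hN, hNc, hmin⟩
    apply hN
    rw [eq_bot_iff]
    exact fun x hx => Subgroup.disjoint_def.mp hH.disjoint (hNS hx) (hle hx).2 ▸ one_mem _
  have := sup_inf_eq hSF hH.sup_eq_top
  rw [hbot, sup_bot_eq] at this
  exact this.ge

end CfsgLib.Solvable.FrattiniFitting
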