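import Cfsg.Agent.Lib.Solvable.Basic
import Mathlib.GroupTheory.SchurZassenhaus

/-!
Hall's theorems for finite solvable groups.
-/

open scoped Pointwise
set_option linter.style.haveILetI false

namespace CfsgLib.Solvable.Hall

open CfsgLib.Solvable.Basic

universe u

/-- `p ^ a` with `p ∤ m` is coprime to `m`. -/
theorem dvd_of_coprime_mul {a m n : ℕ} (h : a ∣ m * n) (hc : a.Coprime n) : a ∣ m :=
  hc.dvd_of_dvd_mul_right h

theorem exists_subgroup_aux : ∀ (N : ℕ) (G : Type u) [Group G] [Finite G] [Group.IsSolvable G],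
    Nat.card G = N → ∀ m n : ℕ, Nat.card G = m * n → m.Coprime n →
      ∃ H : Subgroup G, Nat.card H = m := by
  intro N
  induction N using Nat.strong_induction_on with
  | _ N ih =>
    intro G _ _ _ hN m n hG hmn
    by_cases hG1 : (⊤ : Subgroup G) = ⊥
    · refine ⟨⊥, ?_⟩
      have h1 : Nat.card G = 1 := by rw [← Subgroup.card_top, hG1, Subgroup.card_bot]
      rw [Subgroup.card_bot]
      exact (Nat.eq_one_of_mul_eq_one_right (hG.symm.trans h1)).symm
    obtain ⟨A, p, hp, hAn, hA, -, -, hAp, -⟩ := exists_minimal_normal_pgroup hG1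
    haveI := Fact.mk hp
    obtain ⟨a, ha⟩ := IsPGroup.iff_card.mp hAp
    have ha0 : 0 < a := by
      rcases Nat.eq_zero_or_pos a with h | h
      · subst h; exact absurd (Subgroup.card_eq_one.mp (by simpa using ha)) hA
      · exact h
    have hlt : Nat.card (G ⧸ A) < N := hN ▸ card_quotient_lt A hA
    have hq : Nat.card (G ⧸ A) * Nat.card A = m * n := by
      rw [← hG, ← Subgroup.index_eq_card, Subgroup.index_mul_card]
    by_cases hpm : p ∣ m
    · have hcA : (Nat.card A).Coprime n := by
        rw [ha]; exact (hmn.coprime_dvd_left hpm).pow_left a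
      obtain ⟨m', hm'⟩ : Nat.card A ∣ m := dvd_of_coprime_mul (hq ▸ dvd_mul_left _ _) hcA
      have hq' : Nat.card (G ⧸ A) = m' * n := by
        have : Nat.card (G ⧸ A) * Nat.card A = m' * n * Nat.card A := by rw [hq, hm']; ring
        exact Nat.eq_of_mul_eq_mul_right Nat.card_pos this
      obtain ⟨H, hH⟩ := ih _ hlt (G ⧸ A) rfl m' n hq'
        (hmn.coprime_dvd_left ⟨_, hm'.trans (mul_comm _ _)⟩)
      exact ⟨H.comap (QuotientGroup.mk' A), by rw [card_comap_mk, hH, hm', mul_comm]⟩
    · have hcA : (Nat.card A).Coprime m := by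
        rw [ha]; exact (hp.coprime_iff_not_dvd.mpr hpm).pow_left a
      obtain ⟨n', hn'⟩ : Nat.card A ∣ n := by
        refine hcA.dvd_of_dvd_mul_left ?_
        rw [← hq]; exact dvd_mul_left _ _
      have hq' : Nat.card (G ⧸ A) = m * n' := by
        have : Nat.card (G ⧸ A) * Nat.card A = m * n' * Nat.card A := by rw [hq, hn']; ring
        exact Nat.eq_of_mul_eq_mul_right Nat.card_pos this
      obtain ⟨H, hH⟩ := ih _ hlt (G ⧸ A) rfl m n' hq'
        (hmn.coprime_dvd_right ⟨_, hn'.trans (mul_comm _ _)⟩)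
      set H₀ := H.comap (QuotientGroup.mk' A) with hH₀
      have hc₀ : Nat.card H₀ = m * Nat.card A := by rw [hH₀, card_comap_mk, hH]
      by_cases htop : H₀ = ⊤
      · rw [htop, Subgroup.card_top] at hc₀
        have hidx : A.index = m := by
          have := A.index_mul_card
          rw [hc₀] at this
          exact Nat.eq_of_mul_eq_mul_right Nat.card_pos this
        obtain ⟨K, hK⟩ := Subgroup.exists_right_complement'_of_coprime (N := A) (hidx ▸ hcA)
        refine ⟨K, ?_⟩
        have := hK.card_mul_card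
        rw [hc₀, mul_comm] at this
        exact Nat.eq_of_mul_eq_mul_right Nat.card_pos this
      · obtain ⟨K, hK⟩ := ih _ (hN ▸ card_subgroup_lt H₀ htop) H₀ rfl m (Nat.card A) hc₀ hcA.symm
        exact ⟨K.map H₀.subtype, by rw [Subgroup.card_map_of_injective H₀.subtype_injective, hK]⟩

theorem le_conj_aux : ∀ (N : ℕ) (G : Type u) [Group G] [Finite G] [Group.IsSolvable G],
    Nat.card G = N → ∀ m n : ℕ, Nat.card G = m * n → m.Coprime n → ∀ H K : Subgroup G,
      Nat.card H = m → (Nat.card K).Coprime n → ∃ g : G, K ≤ MulAut.conj g • H := by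
  intro N
  induction N using Nat.strong_induction_on with
  | _ N ih =>
    intro G _ _ _ hN m n hG hmn H K hH hK
    by_cases hG1 : (⊤ : Subgroup G) = ⊥
    · refine ⟨1, fun x hx => ?_⟩
      have : x ∈ (⊤ : Subgroup G) := Subgroup.mem_top x
      rw [hG1, Subgroup.mem_bot] at this
      subst this; exact one_mem _
    obtain ⟨A, p, hp, hAn, hA, -, -, hAp, -⟩ := exists_minimal_normal_pgroup hG1
    haveI := Fact.mk hp
    obtain ⟨a, ha⟩ := IsPGroup.iff_card.mp hAp
    have hlt : Nat.card (G ⧸ A) < N := hN ▸ card_quotient_lt A hA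
    have hq : Nat.card (G ⧸ A) * Nat.card A = m * n := by
      rw [← hG, ← Subgroup.index_eq_card, Subgroup.index_mul_card]
    have hinjA : Function.Injective fun x : ℕ => x * Nat.card A := fun x y h =>
      Nat.eq_of_mul_eq_mul_right Nat.card_pos h
    by_cases hpm : p ∣ m
    · have hcA : (Nat.card A).Coprime n := by
        rw [ha]; exact (hmn.coprime_dvd_left hpm).pow_left a
      have hAH : A ≤ H := by
        have h1 : Nat.card (H ⊔ A : Subgroup G) ∣ m := by
          refine dvd_of_coprime_mul (hG ▸ Subgroup.card_subgroup_dvd_card _) ?_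
          exact ((hH.symm ▸ hmn).mul_left hcA).coprime_dvd_left ⟨_, (card_sup_mul A H).symm⟩
        have h2 : H = H ⊔ A := Subgroup.eq_of_le_of_card_ge le_sup_left
          (hH ▸ Nat.le_of_dvd (hH ▸ Nat.card_pos) h1)
        exact h2 ▸ le_sup_right
      have hcH : Nat.card (H.map (QuotientGroup.mk' A)) * Nat.card A = m :=
        hH ▸ card_map_mk_of_le A H hAH
      obtain ⟨g, hg⟩ := ih _ hlt (G ⧸ A) rfl (Nat.card (H.map (QuotientGroup.mk' A))) n
        (hinjA (by simp only; rw [hq, ← hcH]; ring))
        (hmn.coprime_dvd_left ⟨_, hcH.symm⟩) _ (K.map (QuotientGroup.mk' A)) rfl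
        (hK.coprime_dvd_left (Subgroup.card_map_dvd _ _))
      obtain ⟨g, rfl⟩ := QuotientGroup.mk'_surjective A g
      rw [← map_conj_smul] at hg
      refine ⟨g, (le_of_map_mk_le hg).trans (sup_le le_rfl ?_)⟩
      calc A = MulAut.conj g • A := (Subgroup.Normal.conj_smul_eq_self g A).symm
        _ ≤ _ := conj_smul_mono hAH
    · have hcA : (Nat.card A).Coprime m := by
        rw [ha]; exact (hp.coprime_iff_not_dvd.mpr hpm).pow_left a
      obtain ⟨n', hn'⟩ : Nat.card A ∣ n := by
        refine hcA.dvd_of_dvd_mul_left ?_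
        rw [← hq]; exact dvd_mul_left _ _
      have hn'n : n' ∣ n := ⟨_, hn'.trans (mul_comm _ _)⟩
      have hdisH : A ⊓ H = ⊥ := Subgroup.inf_eq_bot_of_coprime (hH.symm ▸ hcA)
      have hdisK : A ⊓ K = ⊥ := Subgroup.inf_eq_bot_of_coprime
        (hK.coprime_dvd_right ⟨_, hn'⟩).symm
      obtain ⟨g, hg⟩ := ih _ hlt (G ⧸ A) rfl m n'
        (hinjA (by simp only; rw [hq, hn']; ring)) (hmn.coprime_dvd_right hn'n)
        (H.map (QuotientGroup.mk' A)) (K.map (QuotientGroup.mk' A))
        (by rw [card_map_mk_of_disjoint A H hdisH, hH])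
        ((hK.coprime_dvd_right hn'n).coprime_dvd_left (Subgroup.card_map_dvd _ _))
      obtain ⟨g, rfl⟩ := QuotientGroup.mk'_surjective A g
      rw [← map_conj_smul] at hg
      have hKle : K ≤ MulAut.conj g • H ⊔ A := le_of_map_mk_le hg
      set H' := MulAut.conj g • H with hH'def
      suffices h : ∃ g' : G, K ≤ MulAut.conj g' • H' by
        obtain ⟨g', hg'⟩ := h
        exact ⟨g' * g, hg'.trans (le_of_eq (conj_smul_conj_smul g' g H))⟩
      have hH' : Nat.card H' = m := by rw [hH'def, card_conj_smul, hH]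
      have hdisH' : A ⊓ H' = ⊥ := Subgroup.inf_eq_bot_of_coprime (hH'.symm ▸ hcA)
      -- induction inside a proper subgroup containing `H'` and `K`
      have inside : ∀ J : Subgroup G, J ≠ ⊤ → ∀ H₁ K₁ : Subgroup G, H₁ ≤ J → K₁ ≤ J →
          Nat.card K₁ ∣ Nat.card H₁ → (Nat.card H₁).Coprime n → Nat.card H₁ ∣ m →
          (H₁.relIndex J).Coprime m → ∃ g' : G, K₁ ≤ MulAut.conj g' • H₁ := by
        intro J hJ H₁ K₁ hH₁ hK₁ hdiv _ hdvm hidx
        have hcJ : Nat.card (H₁.subgroupOf J) = Nat.card H₁ :=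
          Nat.card_congr (Subgroup.subgroupOfEquivOfLe hH₁).toEquiv
        obtain ⟨g', hg'⟩ := ih _ (hN ▸ card_subgroup_lt J hJ) J rfl (Nat.card H₁)
          (H₁.relIndex J) (by rw [← hcJ]; exact ((H₁.subgroupOf J).card_mul_index).symm)
          (hidx.symm.coprime_dvd_left hdvm) (H₁.subgroupOf J) (K₁.subgroupOf J) hcJ
          (by
            rw [Nat.card_congr (Subgroup.subgroupOfEquivOfLe hK₁).toEquiv]
            exact (hidx.symm.coprime_dvd_left hdvm).coprime_dvd_left hdiv)
        refine ⟨g', ?_⟩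
        have := Subgroup.map_mono (f := J.subtype) hg'
        rwa [map_subtype_conj_smul, Subgroup.map_subgroupOf_eq_of_le hH₁,
          Subgroup.map_subgroupOf_eq_of_le hK₁] at this
      have hKm : Nat.card K ∣ m :=
        dvd_of_coprime_mul (hG ▸ Subgroup.card_subgroup_dvd_card K) hK
      set J := H' ⊔ A with hJdef
      have hcardJ : Nat.card J = m * Nat.card A := by
        rw [hJdef, card_sup_of_disjoint A H' hdisH', hH']
      by_cases hJtop : J ≠ ⊤
      · refine inside J hJtop H' K le_sup_left hKle (hH'.symm ▸ hKm) (hH'.symm ▸ hmn)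
          hH'.dvd ?_
        have h1 := Subgroup.card_mul_index (H'.subgroupOf J)
        rw [Nat.card_congr (Subgroup.subgroupOfEquivOfLe (le_sup_left : H' ≤ J)).toEquiv,
          hcardJ, hH'] at h1
        have h2 : H'.relIndex J = Nat.card A :=
          Nat.eq_of_mul_eq_mul_left (hH' ▸ Nat.card_pos) h1
        rw [h2]; exact hcA
      rw [not_not] at hJtop
      have hnA : n = Nat.card A := by
        rw [hJtop, Subgroup.card_top, hG] at hcardJ
        exact Nat.eq_of_mul_eq_mul_left (hH' ▸ Nat.card_pos) hcardJ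
      have hsetA : ((H' : Set G) * (A : Set G)) = Set.univ := by
        rw [← Subgroup.mul_normal, ← hJdef, hJtop, Subgroup.coe_top]
      -- a subgroup containing `A` is generated by its part in `H'` and `A`
      have dedekind : ∀ L : Subgroup G, A ≤ L → (H' ⊓ L) ⊔ A = L := by
        intro L hAL
        refine le_antisymm (sup_le inf_le_right hAL) fun x hx => ?_
        obtain ⟨h, hh, y, hy, rfl⟩ : x ∈ (H' : Set G) * (A : Set G) := hsetA ▸ Set.mem_univ x
        exact Subgroup.mul_mem_sup ⟨hh, by simpa using mul_mem hx (inv_mem (hAL hy))⟩ hy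
      have cardpart : ∀ L : Subgroup G, A ≤ L → Nat.card (H' ⊓ L : Subgroup G) * Nat.card A =
          Nat.card L := by
        intro L hAL
        have h := card_sup_of_disjoint A (H' ⊓ L)
          (le_bot_iff.mp (le_trans (inf_le_inf_left A inf_le_left) hdisH'.le))
        rw [dedekind L hAL] at h; exact h.symm
      by_cases hKA : K ⊔ A ≠ ⊤
      · have hc1 : Nat.card (H' ⊓ (K ⊔ A) : Subgroup G) = Nat.card K := by
          refine Nat.eq_of_mul_eq_mul_right Nat.card_pos ((cardpart _ le_sup_right).trans ?_)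
          rw [card_sup_of_disjoint A K hdisK]
        obtain ⟨g', hg'⟩ := inside (K ⊔ A) hKA (H' ⊓ (K ⊔ A)) K inf_le_right le_sup_left
          hc1.symm.dvd (hc1.symm ▸ hK) (hc1.symm ▸ hKm) (by
            have h1 := Subgroup.card_mul_index ((H' ⊓ (K ⊔ A)).subgroupOf (K ⊔ A))
            rw [Nat.card_congr (Subgroup.subgroupOfEquivOfLe
              (inf_le_right : H' ⊓ (K ⊔ A) ≤ K ⊔ A)).toEquiv, card_sup_of_disjoint A K hdisK,
              hc1] at h1
            have h2 : (H' ⊓ (K ⊔ A)).relIndex (K ⊔ A) = Nat.card A :=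
              Nat.eq_of_mul_eq_mul_left Nat.card_pos h1
            rw [h2]; exact hcA)
        exact ⟨g', hg'.trans (conj_smul_mono inf_le_left)⟩
      rw [not_not] at hKA
      have hcK : Nat.card K = m := by
        have := card_sup_of_disjoint A K hdisK
        rw [hKA, Subgroup.card_top, hG, hnA] at this
        exact (Nat.eq_of_mul_eq_mul_right Nat.card_pos this).symm
      by_cases hm1 : m = 1
      · refine ⟨1, ?_⟩
        rw [Subgroup.card_eq_one.mp (hcK.trans hm1)]; exact bot_le
      have hne : (⊤ : Subgroup (G ⧸ A)) ≠ ⊥ := by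
        intro h
        have h1 : Nat.card (G ⧸ A) = 1 := by rw [← Subgroup.card_top, h, Subgroup.card_bot]
        have h2 : m * n = Nat.card A := by rw [← hq, h1, one_mul]
        rw [hnA] at h2
        exact hm1 (Nat.eq_of_mul_eq_mul_right Nat.card_pos (h2.trans (one_mul _).symm))
      obtain ⟨M, r, hr, hMn, hM, -, -, hMr, -⟩ := exists_minimal_normal_pgroup hne
      haveI := Fact.mk hr
      set M₀ := M.comap (QuotientGroup.mk' A) with hM₀
      haveI : M₀.Normal := Subgroup.Normal.comap hMn _
      have hAM : A ≤ M₀ := QuotientGroup.le_comap_mk' A M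
      have hcM : Nat.card M₀ = Nat.card M * Nat.card A := card_comap_mk A M
      obtain ⟨b, hb⟩ := IsPGroup.iff_card.mp hMr
      have hb0 : 0 < b := by
        rcases Nat.eq_zero_or_pos b with h | h
        · subst h; exact absurd (Subgroup.card_eq_one.mp (by simpa using hb)) hM
        · exact h
      have hMm : Nat.card M ∣ m := by
        have h1 := Subgroup.card_subgroup_dvd_card M
        have h2 : Nat.card (G ⧸ A) * Nat.card A = m * Nat.card A := by rw [hq, hnA]
        rwa [Nat.eq_of_mul_eq_mul_right Nat.card_pos h2] at h1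
      have hrm : r ∣ m := (dvd_pow_self r hb0.ne').trans (hb ▸ hMm)
      have hrA : ¬ r ∣ Nat.card A := fun h => hr.ne_one (Nat.eq_one_of_dvd_coprimes hcA h hrm)
      -- Sylow `r`-subgroups of `M₀` from the two complements
      have mkSylow : ∀ L : Subgroup G, L ⊔ A = ⊤ → A ⊓ L = ⊥ →
          ∃ S : Sylow r M₀, (S : Subgroup M₀) = L.subgroupOf M₀ := by
        intro L hLA hLd
        have hset : ((L : Set G) * (A : Set G)) = Set.univ := by
          rw [← Subgroup.mul_normal, hLA, Subgroup.coe_top]
        have hsup : (L ⊓ M₀) ⊔ A = M₀ := by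
          refine le_antisymm (sup_le inf_le_right hAM) fun x hx => ?_
          obtain ⟨h, hh, y, hy, rfl⟩ : x ∈ (L : Set G) * (A : Set G) := hset ▸ Set.mem_univ x
          exact Subgroup.mul_mem_sup ⟨hh, by simpa using mul_mem hx (inv_mem (hAM hy))⟩ hy
        have hcd := card_sup_of_disjoint A (L ⊓ M₀)
          (le_bot_iff.mp (le_trans (inf_le_inf_left A inf_le_left) hLd.le))
        rw [hsup, hcM] at hcd
        have hcL : Nat.card (L.subgroupOf M₀) = r ^ b := by
          rw [← Subgroup.inf_subgroupOf_right,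
            Nat.card_congr (Subgroup.subgroupOfEquivOfLe (inf_le_right : L ⊓ M₀ ≤ M₀)).toEquiv]
          exact (Nat.eq_of_mul_eq_mul_right Nat.card_pos hcd).symm.trans hb
        have hidx : (L.subgroupOf M₀).index = Nat.card A := by
          have h1 := Subgroup.card_mul_index (L.subgroupOf M₀)
          rw [hcL, hcM, hb] at h1
          exact Nat.eq_of_mul_eq_mul_left (pow_pos hr.pos b) h1
        exact ⟨(IsPGroup.of_card hcL).toSylow (hidx ▸ hrA), rfl⟩
      obtain ⟨S₁, hS₁⟩ := mkSylow H' hJtop hdisH'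
      obtain ⟨S₂, hS₂⟩ := mkSylow K hKA hdisK
      obtain ⟨x, hx⟩ := MulAction.exists_smul_eq M₀ S₁ S₂
      have hconj : MulAut.conj (x : G) • (H' ⊓ M₀) = K ⊓ M₀ := by
        have h := congrArg (fun S : Sylow r M₀ => (S : Subgroup M₀).map M₀.subtype) hx
        simp only [Sylow.coe_subgroup_smul, map_subtype_conj_smul, hS₁, hS₂,
          Subgroup.subgroupOf_map_subtype] at h
        exact h
      set H'' := MulAut.conj (x : G) • H' with hH''def
      have hH'' : Nat.card H'' = m := by rw [hH''def, card_conj_smul, hH']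
      suffices h : ∃ g' : G, K ≤ MulAut.conj g' • H'' by
        obtain ⟨g', hg'⟩ := h
        exact ⟨g' * x, hg'.trans (le_of_eq (conj_smul_conj_smul g' x H'))⟩
      set R := K ⊓ M₀ with hRdef
      have hRH : H'' ⊓ M₀ = R := by
        rw [← hconj, Subgroup.smul_inf, Subgroup.Normal.conj_smul_eq_self (x : G) M₀]
      have normR : ∀ L : Subgroup G, L ⊓ M₀ = R → L ≤ Subgroup.normalizer (R : Set G) := by
        intro L hL y hy
        rw [← hL, Subgroup.mem_normalizer_iff]
        intro z
        constructor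
        · rintro ⟨h1, h2⟩
          exact ⟨L.mul_mem (L.mul_mem hy h1) (L.inv_mem hy), Subgroup.Normal.conj_mem ‹_› z h2 y⟩
        · rintro ⟨h1, h2⟩
          refine ⟨?_, ?_⟩
          · simpa [mul_assoc] using L.mul_mem (L.mul_mem (L.inv_mem hy) h1) hy
          · simpa [mul_assoc] using Subgroup.Normal.conj_mem ‹_› _ h2 y⁻¹
      set J' := Subgroup.normalizer (R : Set G) with hJ'def
      by_cases hJ' : J' ≠ ⊤
      · refine inside J' hJ' H'' K (normR H'' hRH) (normR K rfl) (hH''.symm ▸ hKm)
          (hH''.symm ▸ hmn) hH''.dvd ?_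
        have hidx : H''.index = n := by
          have h := H''.card_mul_index
          rw [hH'', hG] at h
          exact Nat.eq_of_mul_eq_mul_left (hH' ▸ Nat.card_pos) h
        exact hmn.symm.coprime_dvd_left
          (hidx ▸ Subgroup.relIndex_dvd_index_of_le (normR H'' hRH))
      rw [not_not, hJ'def, Subgroup.normalizer_eq_top_iff] at hJ'
      haveI := hJ'
      have hRne : R ≠ ⊥ := by
        intro h
        have h1 : (S₂ : Subgroup M₀) = ⊥ := by
          rw [hS₂, ← Subgroup.inf_subgroupOf_right, ← hRdef, h, Subgroup.bot_subgroupOf]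
        exact S₂.ne_bot_of_dvd_card
          (hcM ▸ ((hb.symm ▸ dvd_pow_self r hb0.ne').mul_right _)) h1
      have hRH'' : R ≤ H'' := hRH ▸ inf_le_left
      have hcR : Nat.card (H''.map (QuotientGroup.mk' R)) * Nat.card R = m :=
        hH'' ▸ card_map_mk_of_le R H'' hRH''
      obtain ⟨g', hg'⟩ := ih _ (hN ▸ card_quotient_lt R hRne) (G ⧸ R) rfl
        (Nat.card (H''.map (QuotientGroup.mk' R))) n
        (by
          refine Nat.eq_of_mul_eq_mul_right (m := Nat.card R) Nat.card_pos ?_
          rw [← Subgroup.index_eq_card, Subgroup.index_mul_card, hG, ← hcR]; ring)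
        (hmn.coprime_dvd_left ⟨_, hcR.symm⟩) _ (K.map (QuotientGroup.mk' R)) rfl
        (hK.coprime_dvd_left (Subgroup.card_map_dvd _ _))
      obtain ⟨g', rfl⟩ := QuotientGroup.mk'_surjective R g'
      rw [← map_conj_smul] at hg'
      refine ⟨g', (le_of_map_mk_le hg').trans (sup_le le_rfl ?_)⟩
      calc R = MulAut.conj g' • R := (Subgroup.Normal.conj_smul_eq_self g' R).symm
        _ ≤ _ := conj_smul_mono hRH''

variable {G : Type*} [Group G] [Finite G]

/-- **Hall's theorem**, existence. -/
theorem exists_card_eq [Group.IsSolvable G] {m n : ℕ} (hG : Nat.card G = m * n)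
    (hmn : m.Coprime n) : ∃ H : Subgroup G, Nat.card H = m :=
  exists_subgroup_aux _ G rfl m n hG hmn

/-- **Hall's theorem**: a subgroup of order coprime to `n` lies in a conjugate of any subgroup
of order `m`. -/
theorem le_conj [Group.IsSolvable G] {m n : ℕ} (hG : Nat.card G = m * n)
    (hmn : m.Coprime n) {H K : Subgroup G} (hH : Nat.card H = m) (hK : (Nat.card K).Coprime n) :
    ∃ g : G, K ≤ MulAut.conj g • H :=
  le_conj_aux _ G rfl m n hG hmn H K hH hK

/-- **Hall's theorem**, conjugacy. -/
theorem conj_eq [Group.IsSolvable G] {m n : ℕ} (hG : Nat.card G = m * n)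
    (hmn : m.Coprime n) {H K : Subgroup G} (hH : Nat.card H = m) (hK : Nat.card K = m) :
    ∃ g : G, MulAut.conj g • H = K := by
  obtain ⟨g, hg⟩ := le_conj hG hmn hH (hK.symm ▸ hmn)
  refine ⟨g, (Subgroup.eq_of_le_of_card_ge hg ?_).symm⟩
  rw [card_conj_smul, hH, hK]

theorem exists_hall_ge [Group.IsSolvable G] {m n : ℕ} (hG : Nat.card G = m * n)
    (hmn : m.Coprime n) {K : Subgroup G} (hK : (Nat.card K).Coprime n) :
    ∃ H : Subgroup G, Nat.card H = m ∧ K ≤ H := by
  obtain ⟨H, hH⟩ := exists_card_eq hG hmn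
  obtain ⟨g, hg⟩ := le_conj hG hmn hH hK
  exact ⟨_, (card_conj_smul g H).trans hH, hg⟩

/-- Hall subgroups (order coprime to index) of the same order are conjugate. -/
theorem conj_eq_of_coprime_index [Group.IsSolvable G] {H K : Subgroup G}
    (hH : (Nat.card H).Coprime H.index) (hc : Nat.card K = Nat.card H) :
    ∃ g : G, MulAut.conj g • H = K :=
  conj_eq (H.card_mul_index).symm hH rfl hc

/-- A subgroup of order coprime to the index of a Hall subgroup lies in a conjugate of it. -/
theorem le_conj_of_coprime_index [Group.IsSolvable G] {H K : Subgroup G}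
    (hH : (Nat.card H).Coprime H.index) (hK : (Nat.card K).Coprime H.index) :
    ∃ g : G, K ≤ MulAut.conj g • H :=
  le_conj (H.card_mul_index).symm hH rfl hK

/-- Frattini argument for Hall subgroups of a solvable normal subgroup. -/
theorem sup_normalizer_eq_top (L : Subgroup G) [L.Normal] [Group.IsSolvable L] (H : Subgroup G)
    (hHL : H ≤ L) (hHall : (Nat.card H).Coprime (H.relIndex L)) :
    L ⊔ Subgroup.normalizer (H : Set G) = ⊤ := by
  refine eq_top_iff.mpr fun g _ => ?_
  have hgL : MulAut.conj g • H ≤ L :=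
    (conj_smul_mono hHL).trans (Subgroup.Normal.conj_smul_eq_self g L).le
  have hc : Nat.card (H.subgroupOf L) = Nat.card H :=
    Nat.card_congr (Subgroup.subgroupOfEquivOfLe hHL).toEquiv
  obtain ⟨x, hx⟩ := conj_eq_of_coprime_index (H := H.subgroupOf L)
    (K := (MulAut.conj g • H).subgroupOf L) (by rw [hc]; exact hHall)
    (by rw [Nat.card_congr (Subgroup.subgroupOfEquivOfLe hgL).toEquiv, card_conj_smul, hc])
  have h := congrArg (Subgroup.map L.subtype) hx
  rw [map_subtype_conj_smul, Subgroup.map_subgroupOf_eq_of_le hHL,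
    Subgroup.map_subgroupOf_eq_of_le hgL] at h
  have hmem : (x : G)⁻¹ * g ∈ Subgroup.normalizer (H : Set G) := by
    have h1 : MulAut.conj ((x : G)⁻¹ * g) • H = H := by
      rw [← conj_smul_conj_smul, ← h, conj_smul_conj_smul, inv_mul_cancel, map_one, one_smul]
    rw [Subgroup.mem_normalizer_iff]
    intro y
    conv_rhs => rw [← h1]
    rw [mem_conj_smul]
    simp [mul_assoc]
  have := Subgroup.mul_mem_sup (x.2) hmem
  simpa using this

end CfsgLib.Solvable.Hall
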