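import Cfsg.Agent.Lib.Solvable.Basic
import Cfsg.Agent.S0144
import Cfsg.Agent.S0007

/-!
Solvability criteria: Wielandt's theorem on factorisations, the converse of Hall's theorem.
-/

open scoped Pointwise
set_option linter.style.haveILetI false

namespace CfsgLib.Solvable.SolvabilityCriteria

open CfsgLib.Solvable.Basic

universe u

theorem map_prod {G : Type u} [Group G] {G' : Type*} [Group G'] (f : G →* G')
    (hf : Function.Surjective f) {A B : Subgroup G} (h : ∀ g : G, ∃ a ∈ A, ∃ b ∈ B, g = a * b) :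
    ∀ g : G', ∃ a ∈ A.map f, ∃ b ∈ B.map f, g = a * b := by
  intro g
  obtain ⟨x, rfl⟩ := hf g
  obtain ⟨a, ha, b, hb, rfl⟩ := h x
  exact ⟨f a, Subgroup.mem_map_of_mem f ha, f b, Subgroup.mem_map_of_mem f hb, map_mul f a b⟩

theorem wielandt_aux : ∀ (n : ℕ) (G : Type u) [Group G] [Finite G], Nat.card G = n →
    ∀ H₁ H₂ H₃ : Subgroup G, Group.IsSolvable H₁ → Group.IsSolvable H₂ → Group.IsSolvable H₃ →
    (∀ g : G, ∃ x ∈ H₁, ∃ y ∈ H₂, g = x * y) → (∀ g : G, ∃ x ∈ H₁, ∃ y ∈ H₃, g = x * y) →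
    H₂.index.Coprime H₃.index → Group.IsSolvable G := by
  intro n
  induction n using Nat.strong_induction_on with
  | _ n ih =>
    intro G _ _ hn H₁ H₂ H₃ h₁ h₂ h₃ h12 h13 hcop
    haveI := h₁
    by_cases h1bot : (⊤ : Subgroup H₁) = ⊥
    · have hH₂ : H₂ = ⊤ := by
        rw [eq_top_iff]
        intro g _
        obtain ⟨x, hx, y, hy, rfl⟩ := h12 g
        have : (⟨x, hx⟩ : H₁) ∈ (⊥ : Subgroup H₁) := h1bot ▸ Subgroup.mem_top _
        rw [Subgroup.mem_bot] at this
        rw [show x = 1 from congrArg Subtype.val this, one_mul]; exact hy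
      subst hH₂
      haveI := h₂
      exact Group.isSolvable_of_surjective
        (f := (⊤ : Subgroup G).subtype) (fun g => ⟨⟨g, Subgroup.mem_top g⟩, rfl⟩)
    obtain ⟨N, p, hp, hNn, hN, -, -, hNp, -⟩ := exists_minimal_normal_pgroup h1bot
    haveI := hNn
    haveI := Fact.mk hp
    wlog hp2 : ¬ p ∣ H₂.index generalizing H₂ H₃
    · exact this H₃ H₂ h₃ h₂ h13 h12 hcop.symm fun h =>
        hp.ne_one (Nat.eq_one_of_dvd_coprimes hcop (not_not.mp hp2) h)
    set N₁ := N.map H₁.subtype
    have hN₁p : IsPGroup p N₁ := hNp.map _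
    have hN₁ : N₁ ≠ ⊥ := fun h =>
      hN ((Subgroup.map_eq_bot_iff_of_injective _ H₁.subtype_injective).mp h)
    have hN₁H : ∀ h ∈ H₁, ∀ x ∈ N₁, h * x * h⁻¹ ∈ N₁ := by
      rintro h hh _ ⟨x, hx, rfl⟩
      exact ⟨_, hNn.conj_mem x hx ⟨h, hh⟩, rfl⟩
    obtain ⟨Q⟩ : Nonempty (Sylow p H₂) := inferInstance
    have hnd : ¬ p ∣ ((Q : Subgroup H₂).map H₂.subtype).index := by
      rw [Subgroup.index_map_subtype]
      exact fun hd => (hp.dvd_mul.mp hd).elim Q.not_dvd_index hp2
    obtain ⟨R, hR⟩ := hN₁p.exists_le_sylow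
    obtain ⟨g, hg⟩ := MulAction.exists_smul_eq G R ((Q.isPGroup'.map H₂.subtype).toSylow hnd)
    obtain ⟨x, hx, y, hy, hxy⟩ := h12 g⁻¹
    have hN₁₂ : N₁ ≤ H₂ := by
      intro z hz
      have h1 : g * (x * z * x⁻¹) * g⁻¹ ∈ H₂ := by
        refine (Subgroup.map_subtype_le (Q : Subgroup H₂)) ?_
        rw [← IsPGroup.toSylow_coe (Q.isPGroup'.map H₂.subtype) hnd, ← hg, Sylow.coe_subgroup_smul]
        exact conj_mem_conj_smul (hR (hN₁H x hx z hz))
      have e : g = y⁻¹ * x⁻¹ := by rw [← mul_inv_rev, ← hxy, inv_inv]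
      rw [e, show y⁻¹ * x⁻¹ * (x * z * x⁻¹) * (y⁻¹ * x⁻¹)⁻¹ = y⁻¹ * z * y by group] at h1
      simpa [mul_assoc] using H₂.mul_mem (H₂.mul_mem hy h1) (H₂.inv_mem hy)
    set M := Subgroup.normalClosure (N₁ : Set G)
    have hM : M ≤ H₂ := by
      show Subgroup.closure (Group.conjugatesOfSet (N₁ : Set G)) ≤ H₂
      rw [Subgroup.closure_le]
      intro w hw
      obtain ⟨z, hz, hc⟩ := Group.mem_conjugatesOfSet_iff.mp hw
      obtain ⟨c, rfl⟩ := isConj_iff.mp hc
      obtain ⟨a, ha, b, hb, hab⟩ := h12 c⁻¹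
      have e : c = b⁻¹ * a⁻¹ := by rw [← mul_inv_rev, ← hab, inv_inv]
      rw [e, show b⁻¹ * a⁻¹ * z * (b⁻¹ * a⁻¹)⁻¹ = b⁻¹ * (a⁻¹ * z * a⁻¹⁻¹) * b by group]
      exact H₂.mul_mem (H₂.mul_mem (H₂.inv_mem hb) (hN₁₂ (hN₁H _ (inv_mem ha) z hz))) hb
    have hM0 : M ≠ ⊥ := fun h => hN₁ (le_bot_iff.mp (h ▸ Subgroup.le_normalClosure))
    haveI := h₂
    haveI := h₃
    haveI : Group.IsSolvable M :=
      Group.isSolvable_of_isSolvable_injective (Subgroup.inclusion_injective hM)
    set q := QuotientGroup.mk' M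
    have hq := QuotientGroup.mk'_surjective M
    haveI := ih _ (hn ▸ card_quotient_lt M hM0) (G ⧸ M) rfl (H₁.map q) (H₂.map q) (H₃.map q)
      (Group.isSolvable_of_surjective (q.subgroupMap_surjective H₁))
      (Group.isSolvable_of_surjective (q.subgroupMap_surjective H₂))
      (Group.isSolvable_of_surjective (q.subgroupMap_surjective H₃))
      (map_prod q hq h12) (map_prod q hq h13)
      ((hcop.coprime_dvd_left (Subgroup.index_map_dvd _ hq)).coprime_dvd_right
        (Subgroup.index_map_dvd _ hq))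
    refine Group.isSolvable_of_ker_le_range M.subtype q (le_of_eq ?_)
    rw [Subgroup.range_subtype, QuotientGroup.ker_mk']

theorem wielandt {G : Type*} [Group G] [Finite G] (H₁ H₂ H₃ : Subgroup G)
    (h₁ : Group.IsSolvable H₁) (h₂ : Group.IsSolvable H₂) (h₃ : Group.IsSolvable H₃)
    (h12 : ∀ g : G, ∃ x ∈ H₁, ∃ y ∈ H₂, g = x * y) (h13 : ∀ g : G, ∃ x ∈ H₁, ∃ y ∈ H₃, g = x * y)
    (hcop : H₂.index.Coprime H₃.index) : Group.IsSolvable G :=
  wielandt_aux _ G rfl H₁ H₂ H₃ h₁ h₂ h₃ h12 h13 hcop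

theorem pow_factorization_coprime {n p q : ℕ} (hp : p.Prime) (hq : q.Prime) (h : p ≠ q) :
    (p ^ n.factorization p).Coprime (q ^ n.factorization q) :=
  ((Nat.coprime_primes hp hq).mpr h).pow _ _

theorem hall_converse_aux : ∀ (n : ℕ) (G : Type u) [Group G] [Finite G], Nat.card G = n →
    (∀ p : ℕ, p.Prime → ∃ H : Subgroup G, H.index = p ^ (Nat.card G).factorization p) →
    Group.IsSolvable G := by
  intro n
  induction n using Nat.strong_induction_on with
  | _ n ih =>
    intro G _ _ hn h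
    by_cases hfew : (Nat.card G).primeFactors.card ≤ 2
    · obtain ⟨p, q, hp, hq, a, b, hG⟩ : ∃ p q : ℕ, p.Prime ∧ q.Prime ∧ ∃ a b,
          Nat.card G = p ^ a * q ^ b := by
        have hfac := Nat.prod_factorization_pow_eq_self (n := Nat.card G) Nat.card_pos.ne'
        rw [Finsupp.prod, Nat.support_factorization] at hfac
        rcases Nat.lt_or_ge (Nat.card G).primeFactors.card 1 with h0 | h0
        · rw [Nat.lt_one_iff, Finset.card_eq_zero] at h0
          rw [h0, Finset.prod_empty] at hfac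
          exact ⟨2, 2, Nat.prime_two, Nat.prime_two, 0, 0, by simpa using hfac.symm⟩
        rcases Nat.lt_or_ge (Nat.card G).primeFactors.card 2 with h1 | h1
        · obtain ⟨p, hp⟩ := Finset.card_eq_one.mp (Nat.le_antisymm (Nat.lt_succ_iff.mp h1) h0)
          rw [hp, Finset.prod_singleton] at hfac
          have hpp : p.Prime := Nat.prime_of_mem_primeFactors (n := Nat.card G) (by simp [hp])
          exact ⟨p, p, hpp, hpp, (Nat.card G).factorization p, 0, by simpa using hfac.symm⟩
        · obtain ⟨p, q, hpq, he⟩ := Finset.card_eq_two.mp (Nat.le_antisymm hfew h1)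
          rw [he, Finset.prod_pair hpq] at hfac
          exact ⟨p, q, Nat.prime_of_mem_primeFactors (n := Nat.card G) (by simp [he]),
            Nat.prime_of_mem_primeFactors (n := Nat.card G) (by simp [he]), _, _, hfac.symm⟩
      exact Cfsg.Agent.S0144.result p q a b hp hq hG
    obtain ⟨p, q, r, hp, hq, hr, hpq, hpr, hqr⟩ := Finset.two_lt_card_iff.mp (not_le.mp hfew)
    have hsol : ∀ p ∈ (Nat.card G).primeFactors, ∃ H : Subgroup G,
        H.index = p ^ (Nat.card G).factorization p ∧ Group.IsSolvable H := by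
      intro p hp
      have hpp := Nat.prime_of_mem_primeFactors hp
      haveI := Fact.mk hpp
      obtain ⟨H, hH⟩ := h p hpp
      refine ⟨H, hH, ih _ ?_ H rfl fun s hs => ?_⟩
      · rw [← hn]
        refine card_subgroup_lt H fun e => ?_
        rw [e, Subgroup.index_top] at hH
        exact (Nat.pow_eq_one.mp hH.symm).elim hpp.ne_one
          (Nat.pos_iff_ne_zero.mp (hpp.factorization_pos_of_dvd Nat.card_pos.ne'
            (Nat.dvd_of_mem_primeFactors hp)))
      have hcard := H.card_mul_index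
      rw [hH] at hcard
      have hfac : ∀ s, (Nat.card G).factorization s = (Nat.card H).factorization s +
          (p ^ (Nat.card G).factorization p).factorization s := by
        intro s
        conv_lhs => rw [← hcard]
        rw [Nat.factorization_mul Nat.card_pos.ne' (pow_ne_zero _ hpp.ne_zero), Finsupp.add_apply]
      by_cases hsp : s = p
      · refine ⟨⊤, ?_⟩
        have := hfac p
        rw [hpp.factorization_pow, Finsupp.single_eq_same] at this
        rw [Subgroup.index_top, hsp, show (Nat.card H).factorization p = 0 by omega, pow_zero]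
      · obtain ⟨K, hK⟩ := h s hs
        have hc : H.index.Coprime K.index := by
          rw [hH, hK]; exact pow_factorization_coprime hpp hs (Ne.symm hsp)
        have h7 := (Cfsg.Agent.S0007.result H K hc).1
        refine ⟨K.subgroupOf H, ?_⟩
        have h8 := Subgroup.relIndex_mul_index (inf_le_left : H ⊓ K ≤ H)
        rw [h7, mul_comm H.index, Subgroup.inf_relIndex_left] at h8
        have h9 : K.relIndex H = K.index :=
          Nat.eq_of_mul_eq_mul_right (Nat.pos_of_ne_zero Subgroup.index_ne_zero_of_finite) h8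
        show K.relIndex H = _
        rw [h9, hK, hfac s, hpp.factorization_pow, Finsupp.single_eq_of_ne hsp, add_zero]
    obtain ⟨H₁, i1, s1⟩ := hsol p hp
    obtain ⟨H₂, i2, s2⟩ := hsol q hq
    obtain ⟨H₃, i3, s3⟩ := hsol r hr
    have pp := fun {p} (h : p ∈ (Nat.card G).primeFactors) => Nat.prime_of_mem_primeFactors h
    refine wielandt H₁ H₂ H₃ s1 s2 s3 (Cfsg.Agent.S0007.result H₁ H₂ ?_).2
      (Cfsg.Agent.S0007.result H₁ H₃ ?_).2 ?_
    · rw [i1, i2]; exact pow_factorization_coprime (pp hp) (pp hq) hpq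
    · rw [i1, i3]; exact pow_factorization_coprime (pp hp) (pp hr) hpr
    · rw [i2, i3]; exact pow_factorization_coprime (pp hq) (pp hr) hqr

theorem hall_converse {G : Type*} [Group G] [Finite G]
    (h : ∀ p : ℕ, p.Prime → ∃ H : Subgroup G, H.index = p ^ (Nat.card G).factorization p) :
    Group.IsSolvable G :=
  hall_converse_aux _ G rfl h

/-- If every nontrivial subgroup has, for each prime divisor, a proper subgroup of prime power
index, the group is solvable. -/
theorem solvable_of_prime_power_index {G : Type*} [Group G] [Finite G]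
    (h : ∀ H : Subgroup G, H ≠ ⊥ → ∀ p : ℕ, p.Prime → p ∣ Nat.card H →
      ∃ K : Subgroup H, K ≠ ⊤ ∧ ∃ k : ℕ, K.index = p ^ k) : Group.IsSolvable G := by
  refine hall_converse fun p hp => ?_
  haveI := Fact.mk hp
  obtain ⟨H, -, ⟨k, hk⟩, hmin⟩ := Finite.exists_le_minimal
    (p := fun H : Subgroup G => ∃ k, H.index = p ^ k) (a := ⊤) ⟨0, by simp⟩
  refine ⟨H, ?_⟩
  have hnd : ¬ p ∣ Nat.card H := by
    intro hd
    obtain ⟨K, hKne, j, hj⟩ := h H (fun e => by
      rw [e, Subgroup.card_bot] at hd; exact hp.ne_one (Nat.dvd_one.mp hd)) p hp hd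
    have hle := hmin (y := K.map H.subtype)
      ⟨j + k, by rw [Subgroup.index_map_subtype, hj, hk, pow_add]⟩ (Subgroup.map_subtype_le K)
    apply hKne
    rw [eq_top_iff]
    intro x _
    exact (Subgroup.mem_map_iff_mem H.subtype_injective).mp (hle x.2)
  have hcard := H.card_mul_index
  rw [hk] at hcard
  rw [hk, ← hcard, Nat.factorization_mul Nat.card_pos.ne' (pow_ne_zero _ hp.ne_zero),
    Finsupp.add_apply, hp.factorization_pow, Finsupp.single_eq_same,
    Nat.factorization_eq_zero_of_not_dvd hnd, zero_add]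

end CfsgLib.Solvable.SolvabilityCriteria
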