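import Cfsg.Prelude.Def_SolvableStructure
import Cfsg.Agent.Lib.Solvable.Hall
import Cfsg.Agent.Lib.Solvable.Cores
import Cfsg.Agent.Lib.Solvable.SolvabilityCriteria
import Mathlib.Algebra.GCDMonoid.Nat

/-!
Hall complement systems, Sylow systems, system normalizers.
-/

open scoped Pointwise commutatorElement
set_option linter.style.haveILetI false

namespace CfsgLib.Solvable.HallSystem

open CfsgLib.Solvable.Basic

variable {G : Type*} [Group G]

theorem coe_mul_eq_of_card_le [Finite G] {A B W : Subgroup G} (hA : A ≤ W) (hB : B ≤ W)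
    (h : Nat.card W * Nat.card (A ⊓ B : Subgroup G) ≤ Nat.card A * Nat.card B) :
    (A : Set G) * (B : Set G) = W := by
  let f : A ⧸ B.subgroupOf A → W ⧸ B.subgroupOf W :=
    Quotient.map' (fun a => ⟨a, hA a.2⟩) fun a b hab => by
      rw [QuotientGroup.leftRel_apply] at hab ⊢
      exact hab
  have hf : Function.Injective f := by
    intro a b hab
    induction a using QuotientGroup.induction_on with | _ a => ?_
    induction b using QuotientGroup.induction_on with | _ b => ?_
    rw [QuotientGroup.eq, Subgroup.mem_subgroupOf]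
    exact (QuotientGroup.eq (s := B.subgroupOf W)).mp hab
  have hsurj : Function.Surjective f := by
    refine (hf.bijective_of_nat_card_le ?_).2
    rw [← Subgroup.index_eq_card, ← Subgroup.index_eq_card]
    show B.relIndex W ≤ B.relIndex A
    have h2 := Subgroup.relIndex_mul_relIndex (⊥ : Subgroup G) B W bot_le hB
    have h3 := Subgroup.relIndex_mul_relIndex (⊥ : Subgroup G) (A ⊓ B) A bot_le inf_le_left
    rw [Subgroup.relIndex_bot_left, Subgroup.relIndex_bot_left] at h2 h3
    rw [Subgroup.inf_relIndex_left] at h3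
    rw [← h2, ← h3] at h
    refine Nat.le_of_mul_le_mul_left ?_ (Nat.mul_pos (Nat.card_pos (α := B))
      (Nat.card_pos (α := (A ⊓ B : Subgroup G))))
    calc Nat.card B * Nat.card (A ⊓ B : Subgroup G) * B.relIndex W
        = Nat.card B * B.relIndex W * Nat.card (A ⊓ B : Subgroup G) := by ring
      _ ≤ _ := h
      _ = _ := by ring
  apply Set.Subset.antisymm
  · rintro _ ⟨a, ha, b, hb, rfl⟩
    exact W.mul_mem (hA ha) (hB hb)
  · intro x hx
    obtain ⟨q, hq⟩ := hsurj (QuotientGroup.mk ⟨x, hx⟩)
    induction q using QuotientGroup.induction_on with | _ a => ?_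
    exact ⟨a, a.2, _, (QuotientGroup.eq (s := B.subgroupOf W)).mp hq, mul_inv_cancel_left _ _⟩

theorem ppart_coprime {n : ℕ} {p q : Nat.Primes} (h : p ≠ q) :
    ((p : ℕ) ^ n.factorization p).Coprime ((q : ℕ) ^ n.factorization q) :=
  SolvabilityCriteria.pow_factorization_coprime p.2 q.2 fun e => h (Subtype.ext e)

theorem exists_complementSystem [Finite G] [Group.IsSolvable G] :
    ∃ K : Nat.Primes → Subgroup G, Cfsg.IsComplementSystem K := by
  have h : ∀ p : Nat.Primes, ∃ H : Subgroup G,
      H.index = (p : ℕ) ^ (Nat.card G).factorization p := by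
    intro p
    obtain ⟨H, hH⟩ := Hall.exists_card_eq (G := G)
      (m := Nat.card G / (p : ℕ) ^ (Nat.card G).factorization p)
      (n := (p : ℕ) ^ (Nat.card G).factorization p)
      (Nat.div_mul_cancel (Nat.ordProj_dvd _ _)).symm
      ((Nat.coprime_ordCompl p.2 Nat.card_pos.ne').pow_left _).symm
    refine ⟨H, ?_⟩
    have h1 := H.card_mul_index
    conv_rhs at h1 => rw [← Nat.div_mul_cancel (Nat.ordProj_dvd (Nat.card G) p)]
    rw [← hH] at h1
    exact Nat.eq_of_mul_eq_mul_left Nat.card_pos h1
  choose K hK using h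
  exact ⟨K, hK⟩

variable {K L : Nat.Primes → Subgroup G}

theorem index_iInf [Finite G] (hK : Cfsg.IsComplementSystem K) (T : Finset Nat.Primes) :
    (⨅ q ∈ T, K q).index = ∏ q ∈ T, (q : ℕ) ^ (Nat.card G).factorization q := by
  classical
  induction T using Finset.induction_on with
  | empty => simp
  | @insert a T ha ih =>
    rw [Finset.iInf_insert, Finset.prod_insert ha]
    have hc : (K a).index.Coprime (⨅ q ∈ T, K q).index := by
      rw [ih, hK a]
      exact Nat.Coprime.prod_right fun q hq => ppart_coprime fun e => ha (e ▸ hq)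
    rw [(Cfsg.Agent.S0007.result _ _ hc).1, ih, hK a]

/-- The primes dividing the order of `G`. -/
noncomputable def primesOf (G : Type*) : Finset Nat.Primes :=
  (Nat.card G).primeFactors.attach.map
    ⟨fun q => ⟨q.1, (Nat.mem_primeFactors.mp q.2).1⟩, fun a b h => by
      cases a; cases b; cases h; rfl⟩

theorem mem_primesOf [Finite G] {p : Nat.Primes} : p ∈ primesOf G ↔ (p : ℕ) ∣ Nat.card G := by
  rw [primesOf, Finset.mem_map]
  constructor
  · rintro ⟨q, -, rfl⟩
    exact (Nat.mem_primeFactors.mp q.2).2.1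
  · intro h
    exact ⟨⟨p, Nat.mem_primeFactors.mpr ⟨p.2, h, Nat.card_pos.ne'⟩⟩, Finset.mem_attach _ _, rfl⟩

theorem eq_top_of_notMem [Finite G] (hK : Cfsg.IsComplementSystem K) {p : Nat.Primes}
    (hp : p ∉ primesOf G) : K p = ⊤ := by
  rw [← Subgroup.index_eq_one, hK p, Nat.factorization_eq_zero_of_not_dvd (mt mem_primesOf.mpr hp),
    pow_zero]

theorem prod_primesOf [Finite G] :
    ∏ q ∈ primesOf G, (q : ℕ) ^ (Nat.card G).factorization q = Nat.card G := by
  classical
  have h := Nat.prod_factorization_pow_eq_self (n := Nat.card G) Nat.card_pos.ne'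
  rw [Finsupp.prod, Nat.support_factorization] at h
  conv_rhs => rw [← h]
  rw [primesOf, Finset.prod_map]
  exact Finset.prod_attach _ (fun q => q ^ (Nat.card G).factorization q)

theorem coprime_card (hK : Cfsg.IsComplementSystem K) [Finite G] (p : Nat.Primes) :
    (Nat.card (K p)).Coprime p := by
  by_contra h
  have hd : (p : ℕ) ∣ Nat.card (K p) := by
    by_contra hd; exact h ((p.2.coprime_iff_not_dvd.mpr hd).symm)
  have h1 := (K p).card_mul_index
  rw [hK p] at h1
  obtain ⟨c, hc⟩ := hd
  apply Nat.pow_succ_factorization_not_dvd (n := Nat.card G) Nat.card_pos.ne' p.2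
  refine ⟨c, ?_⟩
  conv_lhs => rw [← h1, hc]
  ring

/-- Two systems congruent modulo a normal subgroup `N` are conjugate by an element of `N`. -/
theorem conj_of_congr [Finite G] [Group.IsSolvable G] (hK : Cfsg.IsComplementSystem K)
    (hL : Cfsg.IsComplementSystem L) (N : Subgroup G) [N.Normal]
    (h : ∀ p, K p ⊔ N = L p ⊔ N) :
    ∃ n ∈ N, ∀ p : Nat.Primes, MulAut.conj n • K p = L p := by
  classical
  suffices ∀ T : Finset Nat.Primes, ∃ n ∈ N, ∀ p ∈ T, MulAut.conj n • K p = L p by
    obtain ⟨n, hn, hp⟩ := this (primesOf G)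
    refine ⟨n, hn, fun p => ?_⟩
    by_cases hp' : p ∈ primesOf G
    · exact hp p hp'
    · rw [eq_top_of_notMem hK hp', eq_top_of_notMem hL hp']
      exact Subgroup.Normal.conj_smul_eq_self n ⊤
  intro T
  induction T using Finset.induction_on with
  | empty => exact ⟨1, one_mem N, by simp⟩
  | @insert a T ha ih =>
    obtain ⟨n₀, hn₀, hT⟩ := ih
    set K' := MulAut.conj n₀ • K a with hK'
    have hsup : K' ⊔ N = L a ⊔ N := by
      rw [← h a]
      conv_rhs => rw [← Subgroup.conj_smul_eq_self_of_mem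
        (Subgroup.mem_sup_right hn₀ : n₀ ∈ K a ⊔ N)]
      rw [Subgroup.smul_sup, Subgroup.Normal.conj_smul_eq_self n₀ N]
    set J := L a ⊔ N with hJ
    have hK'J : K' ≤ J := hsup ▸ le_sup_left
    have hLJ : L a ≤ J := le_sup_left
    have hci : K'.index = (L a).index := by rw [index_conj_smul, hK, hL]
    have hcc : Nat.card K' = Nat.card (L a) := by
      have e := K'.card_mul_index
      rw [← (L a).card_mul_index, hci] at e
      exact Nat.eq_of_mul_eq_mul_right (Nat.pos_of_ne_zero Subgroup.index_ne_zero_of_finite) e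
    have hcopL : (Nat.card (L a)).Coprime ((a : ℕ) ^ (Nat.card G).factorization a) :=
      (coprime_card hL a).pow_right _
    have hcK : Nat.card (K'.subgroupOf J) = Nat.card (L a) := by
      rw [Nat.card_congr (Subgroup.subgroupOfEquivOfLe hK'J).toEquiv, hcc]
    obtain ⟨y, hy⟩ := Hall.conj_eq_of_coprime_index (H := K'.subgroupOf J) (K := (L a).subgroupOf J)
      (by
        rw [hcK]
        refine hcopL.coprime_dvd_right ?_
        rw [← hK a, ← index_conj_smul n₀ (K a)]
        exact Subgroup.relIndex_dvd_index_of_le hK'J)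
      (by rw [hcK, Nat.card_congr (Subgroup.subgroupOfEquivOfLe hLJ).toEquiv])
    have hy' := congrArg (Subgroup.map J.subtype) hy
    rw [map_subtype_conj_smul, Subgroup.map_subgroupOf_eq_of_le hK'J,
      Subgroup.map_subgroupOf_eq_of_le hLJ] at hy'
    obtain ⟨k, hk, n, hn, hkn⟩ : (y : G) ∈ (L a : Set G) * (N : Set G) :=
      Subgroup.mul_normal (L a) N ▸ y.2
    have hnK : MulAut.conj n • K' = L a := by
      have hk' : MulAut.conj k⁻¹ • L a = L a := Subgroup.conj_smul_eq_self_of_mem (inv_mem hk)
      conv_rhs => rw [← hk', ← hy']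
      rw [← hkn]
      show MulAut.conj n • K' = MulAut.conj k⁻¹ • MulAut.conj (k * n) • K'
      rw [conj_smul_conj_smul k⁻¹, inv_mul_cancel_left]
    set I : Subgroup G := ⨅ q ∈ T, L q
    set A := (L a).subgroupOf N
    set B := I.subgroupOf N
    have hA : A.index ∣ (L a).index := by
      show (L a).relIndex N ∣ _
      have h1 := Subgroup.relIndex_mul_relIndex (⊥ : Subgroup G) (L a ⊓ N) N bot_le inf_le_right
      rw [Subgroup.relIndex_bot_left, Subgroup.relIndex_bot_left, Subgroup.inf_relIndex_right] at h1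
      have h2 := card_sup_mul N (L a)
      rw [inf_comm, ← h1] at h2
      have h3 := Subgroup.relIndex_mul_relIndex (⊥ : Subgroup G) (L a) (L a ⊔ N) bot_le le_sup_left
      rw [Subgroup.relIndex_bot_left, Subgroup.relIndex_bot_left] at h3
      rw [← h3] at h2
      have h4 : (L a).relIndex (L a ⊔ N) = (L a).relIndex N :=
        Nat.eq_of_mul_eq_mul_left
          (Nat.mul_pos (Nat.card_pos (α := L a)) (Nat.card_pos (α := (L a ⊓ N : Subgroup G))))
          (by linarith)
      rw [← h4]
      exact Subgroup.relIndex_dvd_index_of_le le_sup_left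
    have hB : B.index ∣ I.index := by
      show I.relIndex N ∣ _
      have h1 := Subgroup.relIndex_mul_relIndex (⊥ : Subgroup G) (I ⊓ N) N bot_le inf_le_right
      rw [Subgroup.relIndex_bot_left, Subgroup.relIndex_bot_left, Subgroup.inf_relIndex_right] at h1
      have h2 := card_sup_mul N I
      rw [inf_comm, ← h1] at h2
      have h3 := Subgroup.relIndex_mul_relIndex (⊥ : Subgroup G) I (I ⊔ N) bot_le le_sup_left
      rw [Subgroup.relIndex_bot_left, Subgroup.relIndex_bot_left] at h3
      rw [← h3] at h2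
      have h4 : I.relIndex (I ⊔ N) = I.relIndex N :=
        Nat.eq_of_mul_eq_mul_left
          (Nat.mul_pos (Nat.card_pos (α := I)) (Nat.card_pos (α := (I ⊓ N : Subgroup G))))
          (by linarith)
      rw [← h4]
      exact Subgroup.relIndex_dvd_index_of_le le_sup_left
    have hcop : A.index.Coprime B.index := by
      refine (Nat.Coprime.coprime_dvd_left hA (Nat.Coprime.coprime_dvd_right hB ?_))
      rw [index_iInf hL, hL a]
      exact Nat.Coprime.prod_right fun q hq => ppart_coprime fun e => ha (e ▸ hq)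
    obtain ⟨x, hx, z, hz, hxz⟩ := (Cfsg.Agent.S0007.result A B hcop).2 ⟨n, hn⟩
    have hxz' : n = (x : G) * (z : G) := congrArg Subtype.val hxz
    refine ⟨(z : G) * n₀, mul_mem z.2 hn₀, fun q hq => ?_⟩
    rw [← conj_smul_conj_smul]
    rcases Finset.mem_insert.mp hq with rfl | hq
    · have hx' : MulAut.conj (x : G)⁻¹ • L q = L q :=
        Subgroup.conj_smul_eq_self_of_mem (inv_mem (Subgroup.mem_subgroupOf.mp hx))
      rw [← hK', show (z : G) = (x : G)⁻¹ * n by rw [hxz', inv_mul_cancel_left],
        ← conj_smul_conj_smul, hnK, hx']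
    · rw [hT q hq]
      exact Subgroup.conj_smul_eq_self_of_mem
        ((Subgroup.mem_iInf.mp ((Subgroup.mem_iInf.mp (Subgroup.mem_subgroupOf.mp hz)) q)) hq)

/-- **Conjugacy of complement systems**. -/
theorem conj_systems [Finite G] [Group.IsSolvable G] (hK : Cfsg.IsComplementSystem K)
    (hL : Cfsg.IsComplementSystem L) : ∃ g : G, ∀ p : Nat.Primes, MulAut.conj g • K p = L p := by
  obtain ⟨g, -, hg⟩ := conj_of_congr hK hL ⊤ fun p => by simp
  exact ⟨g, hg⟩

theorem isComplementSystem_map [Finite G] (hK : Cfsg.IsComplementSystem K) (N : Subgroup G)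
    [N.Normal] : Cfsg.IsComplementSystem (fun p => (K p).map (QuotientGroup.mk' N)) := by
  intro p
  show ((K p).map (QuotientGroup.mk' N)).index = _
  obtain ⟨k, -, hk⟩ := (Nat.dvd_prime_pow p.2).mp
    (hK p ▸ Subgroup.index_map_dvd (K p) (QuotientGroup.mk'_surjective N))
  have h1 : ((K p).map (QuotientGroup.mk' N)).index ∣ Nat.card (G ⧸ N) := Subgroup.index_dvd_card _
  have h2 : (Nat.card ((K p).map (QuotientGroup.mk' N))).Coprime p :=
    (coprime_card hK p).coprime_dvd_left (Subgroup.card_map_dvd _ _)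
  rw [hk]
  congr 1
  have h3 := ((K p).map (QuotientGroup.mk' N)).card_mul_index
  rw [hk] at h3
  rw [← h3, Nat.factorization_mul Nat.card_pos.ne' (pow_ne_zero _ p.2.ne_zero), Finsupp.add_apply,
    p.2.factorization_pow, Finsupp.single_eq_same,
    Nat.factorization_eq_zero_of_not_dvd (p.2.coprime_iff_not_dvd.mp h2.symm), zero_add]

theorem systemNormalizer_map [Finite G] [Group.IsSolvable G] (hK : Cfsg.IsComplementSystem K)
    (N : Subgroup G) [N.Normal] :
    Cfsg.systemNormalizer (fun p => (K p).map (QuotientGroup.mk' N)) =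
      (Cfsg.systemNormalizer K).map (QuotientGroup.mk' N) := by
  refine le_antisymm (fun x hx => ?_) ?_
  · obtain ⟨g, rfl⟩ := QuotientGroup.mk'_surjective N x
    simp only [Cfsg.systemNormalizer, Subgroup.mem_iInf] at hx
    have hK' : Cfsg.IsComplementSystem (fun p => MulAut.conj g • K p) := fun p => by
      show (MulAut.conj g • K p).index = _
      rw [index_conj_smul, hK p]
    obtain ⟨n, hn, hnp⟩ := conj_of_congr hK' hK N fun p => by
      refine sup_eq_of_map_mk_eq ?_
      show (MulAut.conj g • K p).map _ = _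
      rw [map_conj_smul]
      exact Subgroup.conjAct_pointwise_smul_eq_self (hx p)
    refine ⟨n * g, ?_, ?_⟩
    · show n * g ∈ Cfsg.systemNormalizer K
      simp only [Cfsg.systemNormalizer, Subgroup.mem_iInf]
      intro p
      have h := hnp p
      rw [conj_smul_conj_smul] at h
      rw [Subgroup.mem_normalizer_iff]
      intro y
      conv_rhs => rw [← h]
      rw [mem_conj_smul]
      group
    · rw [map_mul, show QuotientGroup.mk' N n = 1 from (QuotientGroup.eq_one_iff n).mpr hn, one_mul]
  · simp only [Cfsg.systemNormalizer]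
    refine le_iInf fun p => (Subgroup.map_mono (iInf_le _ p)).trans ?_
    exact Subgroup.le_normalizer_map _

theorem relIndex_dvd_of_le_normalizer [Finite G] {H X : Subgroup G}
    (h : X ≤ Subgroup.normalizer (H : Set G)) : H.relIndex X ∣ H.index := by
  set J := Subgroup.normalizer (H : Set G)
  haveI : (H.subgroupOf J).Normal := Subgroup.normal_in_normalizer
  have h1 : (H.subgroupOf J).relIndex (X.subgroupOf J) = H.relIndex X :=
    Subgroup.relIndex_subgroupOf h
  rw [← h1]
  exact (Subgroup.relIndex_dvd_index_of_normal _ _).trans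
    (Subgroup.relIndex_dvd_index_of_le Subgroup.le_normalizer)

theorem systemNormalizer_le (p : Nat.Primes) :
    Cfsg.systemNormalizer K ≤ Subgroup.normalizer (K p : Set G) :=
  iInf_le (fun q => Subgroup.normalizer (K q : Set G)) p

open Classical in
/-- The Sylow subgroup cut out by a complement system. -/
noncomputable def sylowOf (K : Nat.Primes → Subgroup G) (p : Nat.Primes) : Subgroup G :=
  ⨅ q ∈ (primesOf G).erase p, K q

theorem card_iInf_compl [Finite G] (hK : Cfsg.IsComplementSystem K) (T : Finset Nat.Primes)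
    (hT : T ⊆ primesOf G) [DecidableEq Nat.Primes] :
    Nat.card (⨅ q ∈ primesOf G \ T, K q : Subgroup G) =
      ∏ q ∈ T, (q : ℕ) ^ (Nat.card G).factorization q := by
  have h1 := (⨅ q ∈ primesOf G \ T, K q : Subgroup G).card_mul_index
  rw [index_iInf hK] at h1
  conv_rhs at h1 => rw [← prod_primesOf, ← Finset.prod_sdiff hT, mul_comm]
  exact Nat.eq_of_mul_eq_mul_right (Finset.prod_pos fun q _ => pow_pos q.2.pos _) h1

theorem card_sylowOf [Finite G] (hK : Cfsg.IsComplementSystem K) (p : Nat.Primes) :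
    Nat.card (sylowOf K p) = (p : ℕ) ^ (Nat.card G).factorization p := by
  classical
  by_cases hp : p ∈ primesOf G
  · have h := card_iInf_compl hK {p} (Finset.singleton_subset_iff.mpr hp)
    rw [Finset.prod_singleton, Finset.sdiff_singleton_eq_erase] at h
    rw [← h, sylowOf]
  · have h := card_iInf_compl hK ∅ (Finset.empty_subset _)
    rw [Finset.prod_empty, Finset.sdiff_empty] at h
    rw [Nat.factorization_eq_zero_of_not_dvd (mt mem_primesOf.mpr hp), pow_zero, ← h, sylowOf,
      Finset.erase_eq_of_notMem hp]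

/-- A solvable group has a Sylow system. -/
theorem exists_sylow_system [Finite G] [Group.IsSolvable G] :
    ∃ S : (p : Nat.Primes) → Sylow (p : ℕ) G,
      ∀ p q : Nat.Primes, (S p : Set G) * (S q : Set G) = (S q : Set G) * (S p : Set G) := by
  classical
  obtain ⟨K, hK⟩ := exists_complementSystem (G := G)
  let S : (p : Nat.Primes) → Sylow (p : ℕ) G := fun p =>
    haveI := Fact.mk p.2
    Sylow.ofCard (sylowOf K p) (card_sylowOf hK p)
  refine ⟨S, fun p q => ?_⟩
  have hS : ∀ p, ((S p : Subgroup G) : Set G) = (sylowOf K p : Set G) := fun p => rfl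
  show ((S p : Subgroup G) : Set G) * ((S q : Subgroup G) : Set G) =
    ((S q : Subgroup G) : Set G) * ((S p : Subgroup G) : Set G)
  rw [hS, hS]
  by_cases hpq : p = q
  · rw [hpq]
  have htriv : ∀ r, r ∉ primesOf G → sylowOf K r = ⊥ := fun r hr => by
    rw [← Subgroup.card_eq_one, card_sylowOf hK,
      Nat.factorization_eq_zero_of_not_dvd (mt mem_primesOf.mpr hr), pow_zero]
  by_cases hp : p ∈ primesOf G
  swap
  · rw [htriv p hp]; simp
  by_cases hq : q ∈ primesOf G
  swap
  · rw [htriv q hq]; simp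
  set W : Subgroup G := ⨅ r ∈ primesOf G \ {p, q}, K r with hW
  have hsub : ∀ r, r ∈ ({p, q} : Finset Nat.Primes) → sylowOf K r ≤ W := by
    intro r hr
    refine biInf_mono fun s hs => ?_
    rw [Finset.mem_sdiff] at hs
    exact Finset.mem_erase.mpr ⟨fun e => hs.2 (e ▸ hr), hs.1⟩
  have hcW : Nat.card W = Nat.card (sylowOf K p) * Nat.card (sylowOf K q) := by
    rw [hW, card_iInf_compl hK {p, q} (by simp [Finset.insert_subset_iff, hp, hq]),
      Finset.prod_pair hpq, card_sylowOf hK, card_sylowOf hK]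
  have hd : Nat.card (sylowOf K p ⊓ sylowOf K q : Subgroup G) = 1 := by
    refine Nat.eq_one_of_dvd_coprimes (ppart_coprime (n := Nat.card G) hpq) ?_ ?_
    · rw [← card_sylowOf hK p]; exact Subgroup.card_dvd_of_le inf_le_left
    · rw [← card_sylowOf hK q]; exact Subgroup.card_dvd_of_le inf_le_right
  rw [coe_mul_eq_of_card_le (hsub p (by simp)) (hsub q (by simp)) (by rw [hcW, hd, mul_one]),
    coe_mul_eq_of_card_le (hsub q (by simp)) (hsub p (by simp))
      (by rw [inf_comm, hcW, hd, mul_one, mul_comm])]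

/-- The system normalizer is nilpotent. -/
theorem systemNormalizer_isNilpotent [Finite G] [Group.IsSolvable G]
    (hK : Cfsg.IsComplementSystem K) : Group.IsNilpotent (Cfsg.systemNormalizer K) := by
  classical
  set D := Cfsg.systemNormalizer K
  refine (Group.isNilpotent_of_finite_tfae.out 0 3).mpr fun p hp Q => ?_
  haveI : Fact p.Prime := hp
  let pp : Nat.Primes := ⟨p, hp.out⟩
  set S := sylowOf K pp with hS
  have hnd : ∀ T : Finset Nat.Primes, pp ∉ T → ¬ p ∣ (⨅ q ∈ T, K q).relIndex D := by
    intro T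
    induction T using Finset.induction_on with
    | empty => intro _; simp [Subgroup.relIndex_top_left, hp.out.ne_one]
    | @insert a T ha ih =>
      intro hT
      rw [Finset.mem_insert, not_or] at hT
      rw [Finset.iInf_insert, ← Subgroup.relIndex_inf_mul_relIndex]
      intro hd
      rcases hp.out.dvd_mul.mp hd with h | h
      · have h2 := h.trans (relIndex_dvd_of_le_normalizer (H := K a)
          (inf_le_right.trans (systemNormalizer_le a)))
        rw [hK a] at h2
        exact hT.1 (Subtype.ext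
          ((Nat.prime_dvd_prime_iff_eq hp.out a.2).mp (hp.out.dvd_of_dvd_pow h2)))
      · exact ih hT.2 h
  have hSp : IsPGroup p S := IsPGroup.of_card (card_sylowOf hK pp)
  let P : Sylow p D := (hSp.comap_subtype (K := D)).toSylow
    (hnd _ (Finset.notMem_erase _ _))
  haveI hPn : (P : Subgroup D).Normal := by
    show (S.subgroupOf D).Normal
    refine ⟨fun x hx d => ?_⟩
    rw [Subgroup.mem_subgroupOf] at hx ⊢
    rw [hS, sylowOf, Subgroup.mem_iInf] at hx ⊢
    intro q
    rw [Subgroup.mem_iInf]
    intro hq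
    exact (Subgroup.mem_normalizer_iff.mp (systemNormalizer_le q d.2) _).mp
      (Subgroup.mem_iInf.mp (hx q) hq)
  haveI : Subsingleton (Sylow p D) := by
    haveI := Sylow.unique_of_normal P hPn; infer_instance
  rw [Subsingleton.elim Q P]; exact hPn

/-- A subgroup of order prime to `p` normal in `G` lies in the `p`-complement. -/
theorem le_of_normal_coprime [Finite G] (hK : Cfsg.IsComplementSystem K) {p : Nat.Primes}
    {N : Subgroup G} [N.Normal] (hN : (Nat.card N).Coprime p) : N ≤ K p := by
  have h1 : (Nat.card (K p ⊔ N : Subgroup G)).Coprime p :=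
    ((coprime_card hK p).mul_left hN).coprime_dvd_left ⟨_, (card_sup_mul N (K p)).symm⟩
  have h2 : (K p ⊔ N).index ∣ (p : ℕ) ^ (Nat.card G).factorization p :=
    hK p ▸ Subgroup.index_dvd_of_le le_sup_left
  have h3 : K p = K p ⊔ N := by
    refine Subgroup.eq_of_le_of_card_ge le_sup_left ?_
    refine Nat.le_of_dvd Nat.card_pos ?_
    have h4 := (K p).card_mul_index
    rw [hK p, ← (K p ⊔ N).card_mul_index] at h4
    exact (h1.pow_right _).dvd_of_dvd_mul_right (h4.symm ▸ dvd_mul_right _ _)
  exact h3 ▸ le_sup_right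

theorem inf_systemNormalizer_eq_bot [Finite G] [Group.IsSolvable G]
    (hK : Cfsg.IsComplementSystem K) (B : Subgroup G) [B.Normal]
    (hmin : ∀ N : Subgroup G, N.Normal → N ≤ B → N = ⊥ ∨ N = B)
    (hnc : ¬ B ≤ Subgroup.center G) : B ⊓ Cfsg.systemNormalizer K = ⊥ := by
  have hB : B ≠ ⊥ := fun h => hnc (h ▸ bot_le)
  obtain ⟨hBc, r, hr, hexp, hBr⟩ := minimal_normal_solvable B hB hmin
  haveI := Fact.mk hr
  let rr : Nat.Primes := ⟨r, hr⟩
  set C := Subgroup.centralizer (B : Set G) with hC
  have hCne : C ≠ ⊤ := fun h => hnc fun b hb => Subgroup.mem_center_iff.mpr fun g =>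
    (Subgroup.mem_centralizer_iff.mp (h ▸ Subgroup.mem_top g : g ∈ C) b hb).symm
  haveI : Nontrivial (G ⧸ C) := QuotientGroup.nontrivial_iff.mpr hCne
  obtain ⟨M, s, hs, hMn, hM, -, -, hMs, hMmin⟩ :=
    exists_minimal_normal_pgroup (H := (⊤ : Subgroup (G ⧸ C))) top_ne_bot
  haveI := hMn
  haveI := Fact.mk hs
  set q := QuotientGroup.mk' C
  set M₀ := M.comap q with hM₀
  haveI : M₀.Normal := hMn.comap q
  -- the fixed points of `M₀` on `B`
  set F := B ⊓ Subgroup.centralizer (M₀ : Set G) with hF
  have hF0 : F = ⊥ := by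
    refine (hmin F inferInstance inf_le_left).resolve_right fun h => hM ?_
    have h1 : M₀ ≤ C := by
      rw [hC, Subgroup.le_centralizer_iff]; exact h ▸ inf_le_right
    rw [← Subgroup.map_comap_eq_self_of_surjective (QuotientGroup.mk'_surjective C) M,
      Subgroup.map_eq_bot_iff, QuotientGroup.ker_mk']
    exact h1
  have hsr : s ≠ r := by
    intro e
    subst e
    obtain ⟨R⟩ : Nonempty (Sylow s M₀) := inferInstance
    set R₀ := (R : Subgroup M₀).map M₀.subtype
    have hR₀p : IsPGroup s R₀ := R.isPGroup'.map _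
    -- `R₀` together with `C` is `M₀`
    have hgen : ∀ x ∈ M₀, ∃ y ∈ R₀, q y = q x := by
      intro x hx
      let RM := R.mapSurjective (f := q.subgroupComap M)
        (MonoidHom.subgroupComap_surjective_of_surjective _ _ (QuotientGroup.mk'_surjective C))
      have hRM : (RM : Subgroup M) = ⊤ := (RM.3 (hMs.to_subgroup ⊤) le_top).symm
      have hm : (⟨q x, hx⟩ : M) ∈ (RM : Subgroup M) := hRM ▸ Subgroup.mem_top _
      rw [Sylow.coe_mapSurjective] at hm
      obtain ⟨y, hy, hy'⟩ := hm
      exact ⟨y, Subgroup.mem_map_of_mem _ hy, congrArg Subtype.val hy'⟩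
    letI : MulAction R₀ B := MulAction.compHom B ((MulAut.conjNormal (H := B)).comp R₀.subtype)
    have hdvd : s ∣ Nat.card B := by
      obtain ⟨k, hk⟩ := IsPGroup.iff_card.mp hBr
      rcases Nat.eq_zero_or_pos k with h0 | h0
      · subst h0; exact absurd (Subgroup.card_eq_one.mp (by simpa using hk)) hB
      · exact hk ▸ dvd_pow_self s h0.ne'
    have h1 : (1 : B) ∈ MulAction.fixedPoints R₀ B := fun c =>
      map_one (MulAut.conjNormal (H := B) (c : G))
    obtain ⟨b, hb, hb1⟩ :=
      hR₀p.exists_fixed_point_of_prime_dvd_card_of_fixed_point B hdvd h1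
    have hbF : (b : G) ∈ F := by
      refine ⟨b.2, Subgroup.mem_centralizer_iff.mpr fun x hx => ?_⟩
      obtain ⟨y, hy, hyx⟩ := hgen x hx
      have hyb : y * (b : G) = b * y :=
        mul_inv_eq_iff_eq_mul.mp (congrArg Subtype.val (hb ⟨y, hy⟩))
      have hc : y⁻¹ * x ∈ C := QuotientGroup.eq.mp hyx
      calc x * b = y * ((y⁻¹ * x) * b) := by group
        _ = y * (b * (y⁻¹ * x)) := by rw [← Subgroup.mem_centralizer_iff.mp hc b b.2]
        _ = b * x := by rw [← mul_assoc, hyb]; group
    rw [hF0, Subgroup.mem_bot] at hbF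
    exact hb1 (Subtype.ext hbF.symm)
  have hMK : M ≤ (K rr).map q := by
    refine le_of_normal_coprime (isComplementSystem_map hK C) ?_
    obtain ⟨k, hk⟩ := IsPGroup.iff_card.mp hMs
    rw [hk]
    exact ((Nat.coprime_primes hs hr).mpr hsr).pow_left k
  rw [eq_bot_iff, ← hF0]
  rintro b ⟨hb, hbD⟩
  refine ⟨hb, Subgroup.mem_centralizer_iff.mpr fun x hx => ?_⟩
  obtain ⟨k, hk, hkx⟩ := hMK hx
  have hkb : k * b = b * k := by
    rw [← commutatorElement_eq_one_iff_mul_comm, commutatorElement_def]
    have hBK : B ⊓ K rr = ⊥ := by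
      rw [eq_bot_iff]
      rintro z ⟨h1, h2⟩
      rw [Subgroup.mem_bot, ← orderOf_eq_one_iff]
      refine Nat.eq_one_of_dvd_coprimes (coprime_card hK rr) (Subgroup.orderOf_dvd_natCard _ h2) ?_
      exact orderOf_dvd_of_pow_eq_one (hexp z h1)
    rw [← Subgroup.mem_bot, ← hBK]
    refine ⟨B.mul_mem (Subgroup.Normal.conj_mem ‹B.Normal› b hb k) (B.inv_mem hb), ?_⟩
    have h1 : b * k⁻¹ * b⁻¹ ∈ K rr :=
      (Subgroup.mem_normalizer_iff.mp (systemNormalizer_le rr hbD) _).mp (inv_mem hk)
    have h2 := mul_mem hk h1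
    simpa [mul_assoc] using h2
  have hc : k⁻¹ * x ∈ C := QuotientGroup.eq.mp hkx
  calc x * b = k * ((k⁻¹ * x) * b) := by group
    _ = k * (b * (k⁻¹ * x)) := by rw [← Subgroup.mem_centralizer_iff.mp hc b hb]
    _ = b * x := by rw [← mul_assoc, hkb]; group

theorem le_systemNormalizer_of_central [Finite G] (B : Subgroup G) (h : B ≤ Subgroup.center G) :
    B ≤ Cfsg.systemNormalizer K := by
  refine le_iInf fun p => fun b hb => ?_
  rw [Subgroup.mem_normalizer_iff]
  intro y
  rw [← Subgroup.mem_center_iff.mp (h hb) y, mul_inv_cancel_right]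

/-- System normalizers cover central chief factors and avoid the others. -/
theorem cover_avoid [Finite G] [Group.IsSolvable G] (hK : Cfsg.IsComplementSystem K)
    (A B : Subgroup G) [A.Normal] [B.Normal] (hAB : A < B)
    (hchief : ∀ N : Subgroup G, N.Normal → A ≤ N → N ≤ B → N = A ∨ N = B) :
    (⁅B, (⊤ : Subgroup G)⁆ ≤ A → B ≤ A ⊔ Cfsg.systemNormalizer K) ∧
      (¬ ⁅B, (⊤ : Subgroup G)⁆ ≤ A → B ⊓ Cfsg.systemNormalizer K ≤ A) := by
  set q := QuotientGroup.mk' A
  have hq := QuotientGroup.mk'_surjective A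
  have hsys := isComplementSystem_map hK A
  have hmap := systemNormalizer_map hK A
  haveI : (B.map q).Normal := Subgroup.Normal.map ‹_› q hq
  have hcen : ⁅B, (⊤ : Subgroup G)⁆ ≤ A ↔ B.map q ≤ Subgroup.center (G ⧸ A) := by
    rw [Subgroup.commutator_le]
    constructor
    · rintro h _ ⟨b, hb, rfl⟩
      rw [Subgroup.mem_center_iff]
      intro g
      obtain ⟨g, rfl⟩ := hq g
      symm
      rw [← commutatorElement_eq_one_iff_mul_comm, ← map_commutatorElement]
      exact (QuotientGroup.eq_one_iff _).mpr (h b hb g (Subgroup.mem_top g))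
    · intro h b hb g _
      rw [← QuotientGroup.eq_one_iff]
      show q _ = 1
      rw [map_commutatorElement, commutatorElement_eq_one_iff_mul_comm]
      exact (Subgroup.mem_center_iff.mp (h (Subgroup.mem_map_of_mem q hb)) _).symm
  constructor
  · intro h
    have h1 := le_systemNormalizer_of_central (K := fun p => (K p).map q) _ (hcen.mp h)
    rw [hmap] at h1
    exact (le_of_map_mk_le h1).trans (le_of_eq (sup_comm _ _))
  · intro h
    have hmin : ∀ N : Subgroup (G ⧸ A), N.Normal → N ≤ B.map q → N = ⊥ ∨ N = B.map q := by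
      intro N hN hle
      rcases hchief (N.comap q) (hN.comap q) (QuotientGroup.le_comap_mk' A N)
        ((Subgroup.comap_mono hle).trans (by
          rw [Subgroup.comap_map_eq, QuotientGroup.ker_mk']; exact sup_le le_rfl hAB.le)) with e | e
      · left
        rw [← Subgroup.map_comap_eq_self_of_surjective hq N, e, Subgroup.map_eq_bot_iff,
          QuotientGroup.ker_mk']
      · right
        rw [← Subgroup.map_comap_eq_self_of_surjective hq N, e]
    have h1 := inf_systemNormalizer_eq_bot hsys (B.map q) hmin (mt hcen.mpr h)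
    rw [hmap] at h1
    intro x hx
    rw [← QuotientGroup.eq_one_iff, ← Subgroup.mem_bot, ← h1]
    exact ⟨Subgroup.mem_map_of_mem q hx.1, Subgroup.mem_map_of_mem q hx.2⟩

theorem normalClosure_systemNormalizer [Finite G] [Group.IsSolvable G]
    (hK : Cfsg.IsComplementSystem K) :
    Subgroup.normalClosure ((Cfsg.systemNormalizer K : Subgroup G) : Set G) = ⊤ := by
  by_contra hne
  set N := Subgroup.normalClosure ((Cfsg.systemNormalizer K : Subgroup G) : Set G)
  obtain ⟨M, hNM, ⟨hMn, hM⟩, hmax⟩ := Finite.exists_le_maximal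
    (p := fun M : Subgroup G => M.Normal ∧ M ≠ ⊤) (a := N) ⟨inferInstance, hne⟩
  haveI := hMn
  have hDM : Cfsg.systemNormalizer K ≤ M := Subgroup.le_normalClosure.trans hNM
  have hchief : ∀ X : Subgroup G, X.Normal → M ≤ X → X ≤ ⊤ → X = M ∨ X = ⊤ := fun X hX hMX _ => by
    by_cases e : X = ⊤
    · exact Or.inr e
    · exact Or.inl (le_antisymm (hmax ⟨hX, e⟩ hMX) hMX)
  have hc : ⁅(⊤ : Subgroup G), (⊤ : Subgroup G)⁆ ≤ M := by
    haveI : Nontrivial (G ⧸ M) := QuotientGroup.nontrivial_iff.mpr hM
    set q := QuotientGroup.mk' M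
    rcases hchief ((commutator (G ⧸ M)).comap q) inferInstance (QuotientGroup.le_comap_mk' M _)
      le_top with e | e
    · rw [← e]
      refine Subgroup.map_le_iff_le_comap.mp ?_
      rw [Subgroup.map_commutator, commutator_def]
      exact Subgroup.commutator_mono le_top le_top
    · exfalso
      refine (Group.IsSolvable.commutator_lt_top_of_nontrivial (G ⧸ M)).ne ?_
      rw [← Subgroup.map_comap_eq_self_of_surjective (QuotientGroup.mk'_surjective M)
        (commutator (G ⧸ M)), e, Subgroup.map_top_of_surjective _ (QuotientGroup.mk'_surjective M)]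
  exact hM (top_le_iff.mp (((cover_avoid hK M ⊤ (lt_top_iff_ne_top.mpr hM) hchief).1 hc).trans
    (sup_le le_rfl hDM)))

/-- Products of normal Hall subgroups of the two factors of a factorised solvable group. -/
theorem hall_mul_hall [Finite G] [Group.IsSolvable G] (A B : Subgroup G)
    (hA : (Nat.card A).Coprime A.index) (hB : (Nat.card B).Coprime B.index) :
    ∃ x y : G, ∃ S : Subgroup G,
      (S : Set G) = ((MulAut.conj x • A : Subgroup G) : Set G) *
        ((MulAut.conj y • B : Subgroup G) : Set G) := by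
  set a := Nat.card A
  set b := Nat.card B
  have hd : Nat.lcm a b ∣ Nat.card G :=
    Nat.lcm_dvd A.card_subgroup_dvd_card B.card_subgroup_dvd_card
  obtain ⟨n, hn⟩ := hd
  have hcop : (Nat.lcm a b).Coprime n := by
    refine Nat.coprime_of_dvd fun p hp h1 h2 => ?_
    have hab : p ∣ a ∨ p ∣ b := hp.dvd_mul.mp (h1.trans (Nat.lcm_dvd_mul a b))
    have key : ∀ H : Subgroup G, (Nat.card H).Coprime H.index → Nat.card H ∣ Nat.lcm a b →
        p ∣ Nat.card H → False := by
      intro H hH hle hpH
      obtain ⟨c, hc⟩ := hle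
      have e := H.card_mul_index
      rw [hn, hc, mul_assoc] at e
      have : H.index = c * n := Nat.eq_of_mul_eq_mul_left Nat.card_pos e
      exact hp.ne_one (Nat.eq_one_of_dvd_coprimes hH hpH (this ▸ h2.mul_left c))
    rcases hab with h | h
    · exact key A hA (Nat.dvd_lcm_left a b) h
    · exact key B hB (Nat.dvd_lcm_right a b) h
  obtain ⟨W, hW⟩ := Hall.exists_card_eq hn hcop
  obtain ⟨x, hx⟩ := Hall.le_conj hn hcop (K := A) hW (hcop.coprime_dvd_left (Nat.dvd_lcm_left a b))
  obtain ⟨y, hy⟩ := Hall.le_conj hn hcop (K := B) hW (hcop.coprime_dvd_left (Nat.dvd_lcm_right a b))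
  refine ⟨x⁻¹, y⁻¹, W, (coe_mul_eq_of_card_le ?_ ?_ ?_).symm⟩
  · rw [map_inv]; exact Subgroup.pointwise_smul_subset_iff.mpr (by rwa [inv_inv])
  · rw [map_inv]; exact Subgroup.pointwise_smul_subset_iff.mpr (by rwa [inv_inv])
  · rw [card_conj_smul, card_conj_smul, hW, mul_comm (Nat.card A) (Nat.card B)]
    refine le_trans (Nat.mul_le_mul_left _ (Nat.le_of_dvd (Nat.gcd_pos_of_pos_left _ Nat.card_pos)
      (Nat.dvd_gcd (n := b) (m := a) ?_ ?_))) (le_of_eq ?_)
    · exact (Subgroup.card_dvd_of_le inf_le_left).trans (card_conj_smul _ A).dvd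
    · exact (Subgroup.card_dvd_of_le inf_le_right).trans (card_conj_smul _ B).dvd
    · rw [Nat.mul_comm, Nat.gcd_mul_lcm, Nat.mul_comm]

end CfsgLib.Solvable.HallSystem
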