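import Cfsg.Prelude.Def_SolvableStructure
import Cfsg.Agent.Lib.Solvable.HallSystem

/-!
Carter subgroups of finite solvable groups and their relation to system normalizers.
-/

open scoped Pointwise commutatorElement
set_option linter.style.haveILetI false

namespace CfsgLib.Solvable.Carter

open CfsgLib.Solvable.Basic

universe u

variable {G : Type u} [Group G]

theorem le_of_coprime_relIndex [Finite G] {R C L : Subgroup G}
    (hn : C ≤ Subgroup.normalizer (R : Set G)) (hL : L ≤ C)
    (h : (Nat.card L).Coprime (R.relIndex C)) : L ≤ R := by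
  intro x hx
  haveI : (R.subgroupOf C).Normal :=
    Subgroup.normal_subgroupOf_of_le_normalizer hn
  have h1 := orderOf_map_dvd (QuotientGroup.mk' (R.subgroupOf C)) ⟨x, hL hx⟩
  have h2 : orderOf (QuotientGroup.mk' (R.subgroupOf C) ⟨x, hL hx⟩) ∣ R.relIndex C := by
    show _ ∣ (R.subgroupOf C).index
    rw [Subgroup.index_eq_card]
    exact orderOf_dvd_natCard _
  rw [← Subgroup.orderOf_coe] at h1
  have h3 := Nat.eq_one_of_dvd_coprimes h
    (h1.trans (Subgroup.orderOf_dvd_natCard L hx)) h2
  rw [orderOf_eq_one_iff] at h3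
  exact Subgroup.mem_subgroupOf.mp ((QuotientGroup.eq_one_iff _).mp h3)

theorem eq_top_of_normalizer_eq [Group.IsNilpotent G] {H : Subgroup G}
    (h : Subgroup.normalizer (H : Set G) = H) : H = ⊤ :=
  normalizerCondition_iff_only_full_group_self_normalizing.mp
    normalizerCondition_of_isNilpotent H h

theorem eq_of_le_of_normalizer_eq {C J : Subgroup G} (hle : C ≤ J) (hJ : Group.IsNilpotent J)
    (h : Subgroup.normalizer (C : Set G) = C) : C = J := by
  refine le_antisymm hle (Subgroup.subgroupOf_eq_top.mp (eq_top_of_normalizer_eq ?_))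
  rw [← Subgroup.subgroupOf_normalizer_eq hle, h]

/-- A nilpotent subgroup has a normal Hall `p'`-subgroup, containing all its `p'`-subgroups. -/
theorem exists_hall_compl [Finite G] {p : ℕ} (hp : p.Prime) {C : Subgroup G}
    (hC : Group.IsNilpotent C) :
    ∃ R : Subgroup G, R ≤ C ∧ (Nat.card R).Coprime p ∧ (∃ k, R.relIndex C = p ^ k) ∧
      C ≤ Subgroup.normalizer (R : Set G) ∧
      ∀ L : Subgroup G, L ≤ C → (Nat.card L).Coprime p → L ≤ R := by
  haveI := hC
  set n := p ^ (Nat.card C).factorization p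
  set m := Nat.card C / n
  have hcard : Nat.card C = m * n := (Nat.div_mul_cancel (Nat.ordProj_dvd _ _)).symm
  have hmp : m.Coprime p := (Nat.coprime_ordCompl hp Nat.card_pos.ne').symm
  have hmn : m.Coprime n := hmp.pow_right _
  obtain ⟨H, hH⟩ := Hall.exists_card_eq hcard hmn
  haveI hHn : H.Normal := by
    rw [← Subgroup.normalizer_eq_top_iff]
    refine eq_top_of_normalizer_eq (le_antisymm (fun g hg => ?_) Subgroup.le_normalizer)
    set J := Subgroup.normalizer (H : Set C) with hJ
    have hgJ : MulAut.conj g • J = J := Subgroup.conjAct_pointwise_smul_eq_self hg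
    have h1 : MulAut.conj g • H ≤ H := by
      refine le_of_coprime_relIndex (C := J) le_rfl
        (hgJ ▸ conj_smul_mono Subgroup.le_normalizer) ?_
      rw [card_conj_smul, hH]
      refine hmn.coprime_dvd_right ?_
      refine (Subgroup.relIndex_dvd_index_of_le Subgroup.le_normalizer).trans (dvd_of_eq ?_)
      have := H.card_mul_index
      rw [hH, hcard] at this
      exact Nat.eq_of_mul_eq_mul_left (hH ▸ Nat.card_pos) this
    rw [Subgroup.mem_normalizer_iff]
    intro y
    have h2 : MulAut.conj g • H = H :=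
      Subgroup.eq_of_le_of_card_ge h1 (card_conj_smul g H).ge
    constructor
    · intro hy; exact h2 ▸ conj_mem_conj_smul hy
    · intro hy
      rw [← h2, mem_conj_smul] at hy
      simpa [mul_assoc] using hy
  refine ⟨H.map C.subtype, Subgroup.map_subtype_le H, ?_,
    ⟨(Nat.card C).factorization p, ?_⟩, ?_, ?_⟩
  · rwa [Subgroup.card_subtype, hH]
  · show ((H.map C.subtype).subgroupOf C).index = n
    rw [Subgroup.subgroupOf, Subgroup.comap_map_eq_self_of_injective C.subtype_injective]
    have := H.card_mul_index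
    rw [hH, hcard] at this
    exact Nat.eq_of_mul_eq_mul_left (hH ▸ Nat.card_pos) this
  · refine le_trans (le_of_eq ?_) (Subgroup.le_normalizer_map C.subtype)
    rw [Subgroup.normalizer_eq_top, ← MonoidHom.range_eq_map, Subgroup.range_subtype]
  · intro L hL hLp
    have h1 : L.subgroupOf C ≤ H := by
      refine le_of_coprime_relIndex (C := ⊤) (fun x _ => ?_) le_top ?_
      · rw [Subgroup.normalizer_eq_top]; trivial
      rw [Subgroup.relIndex_top_right, Nat.card_congr (Subgroup.subgroupOfEquivOfLe hL).toEquiv]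
      have := H.card_mul_index
      rw [hH, hcard] at this
      rw [Nat.eq_of_mul_eq_mul_left (hH ▸ Nat.card_pos) this]
      exact hLp.pow_right _
    rw [← Subgroup.map_subgroupOf_eq_of_le hL]
    exact Subgroup.map_mono h1

theorem coprime_of_card_dvd_mul [Finite G] {p a : ℕ} {N : Subgroup G} (hN : IsPGroup p N)
    [Fact p.Prime] (ha : a.Coprime p) : a.Coprime (Nat.card N) := by
  obtain ⟨k, hk⟩ := IsPGroup.iff_card.mp hN
  exact hk ▸ ha.pow_right k

/-- If `G / N` is nilpotent for a normal `p`-subgroup `N`, the normalizer of a Hall `p'`-subgroup is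
a Carter subgroup. -/
theorem normalizer_hall_isCarter [Finite G] {p : ℕ} [Fact p.Prime] (N : Subgroup G) [N.Normal]
    (hN : IsPGroup p N) (hq : Group.IsNilpotent (G ⧸ N)) (R : Subgroup G)
    (hRp : (Nat.card R).Coprime p) (hRi : ∃ k, R.index = p ^ k) :
    Cfsg.IsCarterSubgroup (Subgroup.normalizer (R : Set G)) := by
  haveI := hq
  set J := Subgroup.normalizer (R : Set G) with hJ
  obtain ⟨k, hk⟩ := hRi
  have hrel : R.relIndex J ∣ p ^ k := hk ▸ Subgroup.relIndex_dvd_index_of_le Subgroup.le_normalizer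
  constructor
  · haveI : (R.subgroupOf J).Normal := Subgroup.normal_in_normalizer
    have hpQ : IsPGroup p (J ⧸ R.subgroupOf J) := by
      obtain ⟨i, -, hi⟩ := (Nat.dvd_prime_pow (Fact.out (p := p.Prime))).mp hrel
      exact IsPGroup.of_card ((Subgroup.index_eq_card _).symm.trans hi)
    haveI := hpQ.isNilpotent
    let φ : J →* (J ⧸ R.subgroupOf J) × (G ⧸ N) :=
      (QuotientGroup.mk' (R.subgroupOf J)).prod ((QuotientGroup.mk' N).comp J.subtype)
    have hφ : Function.Injective φ := by
      rw [← MonoidHom.ker_eq_bot_iff, eq_bot_iff]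
      intro x hx
      simp only [φ, MonoidHom.mem_ker, MonoidHom.prod_apply, Prod.mk_eq_one,
        MonoidHom.coe_comp, Function.comp_apply, Subgroup.coe_subtype] at hx
      have h1 : (x : G) ∈ R := Subgroup.mem_subgroupOf.mp ((QuotientGroup.eq_one_iff _).mp hx.1)
      have h2 : (x : G) ∈ N := (QuotientGroup.eq_one_iff _).mp hx.2
      have : orderOf (x : G) = 1 := Nat.eq_one_of_dvd_coprimes (coprime_of_card_dvd_mul hN hRp)
        (Subgroup.orderOf_dvd_natCard _ h1) (Subgroup.orderOf_dvd_natCard _ h2)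
      rw [Subgroup.mem_bot]
      exact Subtype.ext (orderOf_eq_one_iff.mp this)
    exact Group.isNilpotent_congr (MonoidHom.ofInjective hφ) |>.mpr inferInstance
  · refine le_antisymm (fun g hg => ?_) Subgroup.le_normalizer
    have hgJ : MulAut.conj g • J = J := Subgroup.conjAct_pointwise_smul_eq_self hg
    have h1 : MulAut.conj g • R ≤ R := by
      refine le_of_coprime_relIndex (C := J) le_rfl
        (hgJ ▸ conj_smul_mono Subgroup.le_normalizer) ?_
      rw [card_conj_smul]
      exact (hRp.pow_right k).coprime_dvd_right hrel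
    have h2 : MulAut.conj g • R = R :=
      Subgroup.eq_of_le_of_card_ge h1 (card_conj_smul g R).ge
    rw [hJ, Subgroup.mem_normalizer_iff]
    intro y
    constructor
    · intro hy; exact h2 ▸ conj_mem_conj_smul hy
    · intro hy
      rw [← h2, mem_conj_smul] at hy
      simpa [mul_assoc] using hy

/-- In the situation `G = C N`, a Carter subgroup is the normalizer of a Hall `p'`-subgroup. -/
theorem eq_normalizer_hall [Finite G] {p : ℕ} [Fact p.Prime] (N : Subgroup G) [N.Normal]
    (hN : IsPGroup p N) {C : Subgroup G} (hC : Cfsg.IsCarterSubgroup C) (hCN : C ⊔ N = ⊤) :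
    ∃ R : Subgroup G, R ≤ C ∧ (Nat.card R).Coprime p ∧ (∃ k, R.index = p ^ k) ∧
      C = Subgroup.normalizer (R : Set G) := by
  obtain ⟨R, hRC, hRp, ⟨k, hk⟩, hn, -⟩ := exists_hall_compl (p := p) (Fact.out) hC.1
  have hindex : ∃ j, R.index = p ^ j := by
    obtain ⟨i, hi⟩ := IsPGroup.iff_card.mp hN
    have h1 := card_sup_mul N C
    rw [hCN, Subgroup.card_top] at h1
    have h2 : R.index ∣ p ^ (k + i) := by
      refine (Nat.mul_dvd_mul_iff_left (Nat.card_pos (α := R))).mp ?_
      rw [R.card_mul_index, pow_add, ← hi, ← hk, ← mul_assoc]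
      have h3 := Subgroup.relIndex_mul_relIndex (⊥ : Subgroup G) R C bot_le hRC
      rw [Subgroup.relIndex_bot_left, Subgroup.relIndex_bot_left] at h3
      rw [h3]
      exact ⟨_, h1.symm⟩
    obtain ⟨j, -, hj⟩ := (Nat.dvd_prime_pow (Fact.out (p := p.Prime))).mp h2
    exact ⟨j, hj⟩
  refine ⟨R, hRC, hRp, hindex, ?_⟩
  have hq : Group.IsNilpotent (G ⧸ N) := by
    haveI := hC.1
    refine Group.nilpotent_of_surjective ((QuotientGroup.mk' N).comp C.subtype) fun x => ?_
    have : x ∈ C.map (QuotientGroup.mk' N) := by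
      rw [(Subgroup.map_eq_map_iff (K := ⊤)).mpr (by rw [QuotientGroup.ker_mk', hCN]; simp),
        Subgroup.map_top_of_surjective _ (QuotientGroup.mk'_surjective N)]
      trivial
    obtain ⟨y, hy, rfl⟩ := this
    exact ⟨⟨y, hy⟩, rfl⟩
  exact eq_of_le_of_normalizer_eq hn (normalizer_hall_isCarter N hN hq R hRp hindex).1 hC.2

/-- Images of Carter subgroups in quotients are self-normalizing. -/
theorem normalizer_sup_eq [Finite G] (N : Subgroup G) [N.Normal] {C : Subgroup G}
    (hC : Cfsg.IsCarterSubgroup C)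
    (hconj : ∀ D : Subgroup G, D ≤ C ⊔ N → Cfsg.IsCarterSubgroup D →
      ∃ x ∈ C ⊔ N, MulAut.conj x • C = D) :
    Subgroup.normalizer ((C ⊔ N : Subgroup G) : Set G) = C ⊔ N := by
  refine le_antisymm (fun g hg => ?_) Subgroup.le_normalizer
  have hgJ : MulAut.conj g • (C ⊔ N) = C ⊔ N := Subgroup.conjAct_pointwise_smul_eq_self hg
  have hD : Cfsg.IsCarterSubgroup (MulAut.conj g • C) := by
    refine ⟨(Group.isNilpotent_congr (Subgroup.equivSMul (MulAut.conj g) C)).mp hC.1, ?_⟩
    rw [conj_smul_eq_map, ← Subgroup.map_equiv_normalizer_eq, hC.2]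
  obtain ⟨x, hx, hxC⟩ := hconj _ (hgJ ▸ conj_smul_mono le_sup_left) hD
  have h1 : x⁻¹ * g ∈ Subgroup.normalizer (C : Set G) := by
    have h2 : MulAut.conj (x⁻¹ * g) • C = C := by
      rw [← conj_smul_conj_smul, ← hxC, conj_smul_conj_smul, inv_mul_cancel, map_one, one_smul]
    rw [Subgroup.mem_normalizer_iff]
    intro y
    conv_rhs => rw [← h2]
    rw [mem_conj_smul]
    group
  rw [hC.2] at h1
  simpa using (C ⊔ N).mul_mem hx (Subgroup.mem_sup_left h1)

theorem isCarter_subgroupOf {C H : Subgroup G} (hle : C ≤ H) (hC : Cfsg.IsCarterSubgroup C) :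
    Cfsg.IsCarterSubgroup (C.subgroupOf H) := by
  refine ⟨(Group.isNilpotent_congr (Subgroup.subgroupOfEquivOfLe hle)).mpr hC.1, ?_⟩
  rw [← Subgroup.subgroupOf_normalizer_eq hle, hC.2]

theorem carter_aux : ∀ (n : ℕ) (G : Type u) [Group G] [Finite G] [Group.IsSolvable G],
    Nat.card G = n → (∃ C : Subgroup G, Cfsg.IsCarterSubgroup C) ∧
      ∀ C D : Subgroup G, Cfsg.IsCarterSubgroup C → Cfsg.IsCarterSubgroup D →
        ∃ g : G, MulAut.conj g • C = D := by
  intro n
  induction n using Nat.strong_induction_on with | _ n ih => ?_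
  intro G _ _ _ hn
  subst hn
  by_cases hnil : Group.IsNilpotent G
  · refine ⟨⟨⊤, Group.isNilpotent_top.mpr hnil, ?_⟩, fun C D hC hD => ⟨1, ?_⟩⟩
    · exact top_le_iff.mp Subgroup.le_normalizer
    · rw [eq_top_of_normalizer_eq hC.2, eq_top_of_normalizer_eq hD.2, map_one, one_smul]
  haveI : Nontrivial G := by
    by_contra h; rw [not_nontrivial_iff_subsingleton] at h; exact hnil inferInstance
  obtain ⟨N, p, hp, hNn, hN, -, -, hNp, -⟩ :=
    exists_minimal_normal_pgroup (H := (⊤ : Subgroup G)) top_ne_bot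
  haveI := hNn
  haveI := Fact.mk hp
  set q := QuotientGroup.mk' N with hqdef
  have hq := QuotientGroup.mk'_surjective N
  obtain ⟨⟨Cb, hCb⟩, hconjQ⟩ := ih _ (card_quotient_lt N hN) (G ⧸ N) rfl
  have hsub : ∀ H : Subgroup G, H ≠ ⊤ → ∀ C D : Subgroup G, C ≤ H → D ≤ H →
      Cfsg.IsCarterSubgroup C → Cfsg.IsCarterSubgroup D → ∃ x ∈ H, MulAut.conj x • C = D := by
    intro H hH C D hCH hDH hC hD
    obtain ⟨x, hx⟩ := (ih _ (card_subgroup_lt H hH) H rfl).2 _ _
      (isCarter_subgroupOf hCH hC) (isCarter_subgroupOf hDH hD)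
    refine ⟨x, x.2, ?_⟩
    have h := congrArg (Subgroup.map H.subtype) hx
    rwa [map_subtype_conj_smul, Subgroup.map_subgroupOf_eq_of_le hCH,
      Subgroup.map_subgroupOf_eq_of_le hDH] at h
  have himage : ∀ C : Subgroup G, Cfsg.IsCarterSubgroup C →
      Cfsg.IsCarterSubgroup (C.map q) := by
    intro C hC
    haveI := hC.1
    refine ⟨Group.nilpotent_of_surjective (q.subgroupMap C) (q.subgroupMap_surjective C), ?_⟩
    refine le_antisymm (fun x hx => ?_) Subgroup.le_normalizer
    obtain ⟨g, rfl⟩ := hq x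
    by_cases htop : C ⊔ N = ⊤
    · rw [(Subgroup.map_eq_map_iff (K := ⊤)).mpr (by rw [QuotientGroup.ker_mk', htop]; simp),
        Subgroup.map_top_of_surjective _ hq]
      trivial
    · have h1 := normalizer_sup_eq N hC fun D hD hDc => hsub _ htop C D le_sup_left hD hC hDc
      have h2 : g ∈ Subgroup.normalizer ((C ⊔ N : Subgroup G) : Set G) := by
        have h3 : g ∈ (Subgroup.normalizer (C.map q : Set (G ⧸ N))).comap q := hx
        rw [Subgroup.comap_normalizer_eq_of_surjective _ hq, Subgroup.comap_map_eq,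
          QuotientGroup.ker_mk'] at h3
        exact h3
      rw [h1] at h2
      have h4 := Subgroup.mem_map_of_mem q h2
      rwa [Subgroup.map_sup, hqdef, QuotientGroup.map_mk'_self, sup_bot_eq] at h4
  constructor
  · set C₁ := Cb.comap q with hC₁
    by_cases htop : C₁ = ⊤
    · have hnq : Group.IsNilpotent (G ⧸ N) := by
        have : Cb = ⊤ := by
          rw [← Subgroup.map_comap_eq_self_of_surjective hq Cb, ← hC₁, htop,
            Subgroup.map_top_of_surjective _ hq]
        exact Group.isNilpotent_top.mp (this ▸ hCb.1)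
      set m := Nat.card G / p ^ (Nat.card G).factorization p
      have hmp : m.Coprime p := (Nat.coprime_ordCompl hp Nat.card_pos.ne').symm
      have hG : Nat.card G = m * p ^ (Nat.card G).factorization p :=
        (Nat.div_mul_cancel (Nat.ordProj_dvd _ _)).symm
      obtain ⟨R, hR⟩ := Hall.exists_card_eq hG (hmp.pow_right _)
      refine ⟨_, normalizer_hall_isCarter N hNp hnq R (hR ▸ hmp)
        ⟨(Nat.card G).factorization p, ?_⟩⟩
      refine Nat.eq_of_mul_eq_mul_left (Nat.card_pos (α := R)) ?_
      rw [R.card_mul_index]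
      conv_lhs => rw [hG, ← hR]
    · obtain ⟨C', hC'⟩ := (ih _ (card_subgroup_lt C₁ htop) C₁ rfl).1
      refine ⟨C'.map C₁.subtype, ?_, ?_⟩
      · exact (Group.isNilpotent_congr
          (C'.equivMapOfInjective C₁.subtype C₁.subtype_injective)).mp hC'.1
      -- the Carter subgroup of the preimage covers it modulo `N`
      haveI : (N.subgroupOf C₁).Normal := inferInstance
      have hcov : C' ⊔ N.subgroupOf C₁ = ⊤ := by
        have h1 := normalizer_sup_eq (N.subgroupOf C₁) hC' fun D _ hD => by
          obtain ⟨x, hx⟩ := (ih _ (card_subgroup_lt C₁ htop) C₁ rfl).2 C' D hC' hD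
          by_cases ht : C' ⊔ N.subgroupOf C₁ = ⊤
          · exact ⟨x, ht ▸ Subgroup.mem_top x, hx⟩
          · have hle : D ≤ C' ⊔ N.subgroupOf C₁ := by assumption
            obtain ⟨y, hy⟩ := (ih _ ((card_subgroup_lt _ ht).trans (card_subgroup_lt C₁ htop))
              (C' ⊔ N.subgroupOf C₁ : Subgroup C₁) rfl).2 _ _
              (isCarter_subgroupOf le_sup_left hC') (isCarter_subgroupOf hle hD)
            refine ⟨y, y.2, ?_⟩
            have h := congrArg (Subgroup.map (C' ⊔ N.subgroupOf C₁).subtype) hy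
            rwa [map_subtype_conj_smul, Subgroup.map_subgroupOf_eq_of_le le_sup_left,
              Subgroup.map_subgroupOf_eq_of_le hle] at h
        -- its image in the nilpotent quotient is self-normalizing
        set r := QuotientGroup.mk' (N.subgroupOf C₁)
        haveI := hCb.1
        haveI : Group.IsNilpotent (C₁ ⧸ N.subgroupOf C₁) := by
          let ψ : C₁ ⧸ N.subgroupOf C₁ →* Cb :=
            QuotientGroup.lift _ (q.subgroupComap Cb) fun x hx =>
              Subtype.ext ((QuotientGroup.eq_one_iff _).mpr hx)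
          have hψ : Function.Injective ψ := by
            rw [← MonoidHom.ker_eq_bot_iff, eq_bot_iff]
            intro x hx
            induction x using QuotientGroup.induction_on with | _ x => ?_
            rw [Subgroup.mem_bot, QuotientGroup.eq_one_iff]
            exact (QuotientGroup.eq_one_iff (N := N) (x : G)).mp
              (congrArg Subtype.val (MonoidHom.mem_ker.mp hx))
          exact (Group.isNilpotent_congr (MonoidHom.ofInjective hψ)).mpr inferInstance
        have h2 : (C' ⊔ N.subgroupOf C₁).map r = ⊤ := by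
          apply eq_top_of_normalizer_eq
          apply Subgroup.comap_injective (QuotientGroup.mk'_surjective _)
          rw [Subgroup.comap_normalizer_eq_of_surjective _ (QuotientGroup.mk'_surjective _),
            Subgroup.comap_map_eq_self, h1]
          rw [QuotientGroup.ker_mk']; exact le_sup_right
        have h5 := congrArg (Subgroup.comap r) h2
        rwa [Subgroup.comap_top, Subgroup.comap_map_eq_self] at h5
        rw [QuotientGroup.ker_mk']; exact le_sup_right
      set C := C'.map C₁.subtype with hC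
      have hCC₁ : C ≤ C₁ := Subgroup.map_subtype_le C'
      have hCN : C ⊔ N = C₁ := by
        have h := congrArg (Subgroup.map C₁.subtype) hcov
        rwa [Subgroup.map_sup, Subgroup.map_subgroupOf_eq_of_le (QuotientGroup.le_comap_mk' N Cb),
          ← MonoidHom.range_eq_map, Subgroup.range_subtype] at h
      refine le_antisymm (fun g hg => ?_) Subgroup.le_normalizer
      have hg1 : g ∈ C₁ := by
        have h1 : MulAut.conj g • C₁ = C₁ := by
          conv_lhs => rw [← hCN]
          rw [Subgroup.smul_sup, Subgroup.Normal.conj_smul_eq_self g N,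
            (show MulAut.conj g • C = C from Subgroup.conjAct_pointwise_smul_eq_self hg), hCN]
        have h2 : g ∈ Subgroup.normalizer (C₁ : Set G) := by
          rw [Subgroup.mem_normalizer_iff]
          intro y
          conv_rhs => rw [← h1]
          rw [mem_conj_smul]
          group
        rwa [hC₁, ← Subgroup.comap_normalizer_eq_of_surjective _ hq, hCb.2] at h2
      have h3 : (⟨g, hg1⟩ : C₁) ∈ Subgroup.normalizer (C' : Set C₁) := by
        rw [Subgroup.mem_normalizer_iff]
        intro y
        have h := (Subgroup.mem_normalizer_iff.mp hg) (y : G)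
        rw [hC] at h
        constructor
        · intro hy
          obtain ⟨z, hz, hz'⟩ := h.mp (Subgroup.mem_map_of_mem C₁.subtype hy)
          have : z = ⟨g, hg1⟩ * y * ⟨g, hg1⟩⁻¹ := Subtype.ext hz'
          exact this ▸ hz
        · intro hy
          obtain ⟨z, hz, hz'⟩ := h.mpr (Subgroup.mem_map_of_mem C₁.subtype hy)
          have : z = y := Subtype.ext hz'
          exact this ▸ hz
      rw [hC'.2] at h3
      exact Subgroup.mem_map_of_mem C₁.subtype h3
  · intro C D hC hD
    obtain ⟨x, hx⟩ := hconjQ _ _ (himage C hC) (himage D hD)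
    obtain ⟨g, rfl⟩ := hq x
    rw [← map_conj_smul] at hx
    have hsup := sup_eq_of_map_mk_eq hx
    have hgC : Cfsg.IsCarterSubgroup (MulAut.conj g • C) := by
      refine ⟨(Group.isNilpotent_congr (Subgroup.equivSMul (MulAut.conj g) C)).mp hC.1, ?_⟩
      rw [conj_smul_eq_map, ← Subgroup.map_equiv_normalizer_eq, hC.2]
    by_cases htop : D ⊔ N = ⊤
    · obtain ⟨R, -, hRp, ⟨i, hi⟩, hRe⟩ := eq_normalizer_hall N hNp hgC (hsup.trans htop)
      obtain ⟨S, -, hSp, ⟨j, hj⟩, hSe⟩ := eq_normalizer_hall N hNp hD htop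
      have hcard : Nat.card R = Nat.card S := by
        have e := (R.card_mul_index).trans (S.card_mul_index).symm
        rw [hi, hj] at e
        refine Nat.dvd_antisymm ((hRp.pow_right j).dvd_of_dvd_mul_right ⟨_, e.symm⟩)
          ((hSp.pow_right i).dvd_of_dvd_mul_right ⟨_, e⟩)
      obtain ⟨y, hy⟩ := Hall.conj_eq_of_coprime_index (H := R) (K := S)
        (hi ▸ hRp.pow_right i) hcard.symm
      refine ⟨y * g, ?_⟩
      rw [← conj_smul_conj_smul, hRe, conj_smul_eq_map, Subgroup.map_equiv_normalizer_eq,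
        ← conj_smul_eq_map, hy, ← hSe]
    · obtain ⟨y, -, hy⟩ := hsub _ htop _ _ (hsup ▸ le_sup_left) le_sup_left hgC hD
      exact ⟨y * g, by rw [← conj_smul_conj_smul, hy]⟩

theorem exists_carter [Finite G] [Group.IsSolvable G] :
    ∃ C : Subgroup G, Cfsg.IsCarterSubgroup C :=
  (carter_aux _ G rfl).1

/-- **Conjugacy of Carter subgroups**. -/
theorem conj_eq [Finite G] [Group.IsSolvable G] {C D : Subgroup G}
    (hC : Cfsg.IsCarterSubgroup C) (hD : Cfsg.IsCarterSubgroup D) :
    ∃ g : G, MulAut.conj g • C = D :=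
  (carter_aux _ G rfl).2 C D hC hD

theorem isCarter_map [Finite G] [Group.IsSolvable G] (N : Subgroup G) [N.Normal] {C : Subgroup G}
    (hC : Cfsg.IsCarterSubgroup C) : Cfsg.IsCarterSubgroup (C.map (QuotientGroup.mk' N)) := by
  haveI := hC.1
  set q := QuotientGroup.mk' N with hqdef
  have hq := QuotientGroup.mk'_surjective N
  refine ⟨Group.nilpotent_of_surjective (q.subgroupMap C) (q.subgroupMap_surjective C), ?_⟩
  have h1 := normalizer_sup_eq N hC fun D hD hDc => by
    obtain ⟨x, hx⟩ := conj_eq (isCarter_subgroupOf (le_sup_left : C ≤ C ⊔ N) hC)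
      (isCarter_subgroupOf hD hDc)
    refine ⟨x, x.2, ?_⟩
    have h := congrArg (Subgroup.map (C ⊔ N).subtype) hx
    rwa [map_subtype_conj_smul, Subgroup.map_subgroupOf_eq_of_le le_sup_left,
      Subgroup.map_subgroupOf_eq_of_le hD] at h
  apply Subgroup.comap_injective hq
  rw [Subgroup.comap_normalizer_eq_of_surjective _ hq, Subgroup.comap_map_eq,
    QuotientGroup.ker_mk', h1]

/-- The system `K` reduces into `C`: every `p'`-subgroup of `C` lies in `K p`. -/
def Reduces (K : Nat.Primes → Subgroup G) (C : Subgroup G) : Prop :=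
  ∀ (p : Nat.Primes) (L : Subgroup G), L ≤ C → (Nat.card L).Coprime p → L ≤ K p

theorem exists_reduces [Finite G] [Group.IsSolvable G] {C : Subgroup G} (hC : Group.IsNilpotent C) :
    ∃ K : Nat.Primes → Subgroup G, Cfsg.IsComplementSystem K ∧ Reduces K C := by
  have h : ∀ p : Nat.Primes, ∃ K : Subgroup G,
      K.index = (p : ℕ) ^ (Nat.card G).factorization p ∧
        ∀ L : Subgroup G, L ≤ C → (Nat.card L).Coprime p → L ≤ K := by
    intro p
    obtain ⟨R, -, hRp, -, -, hRu⟩ := exists_hall_compl p.2 hC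
    set m := Nat.card G / (p : ℕ) ^ (Nat.card G).factorization p
    have hG : Nat.card G = m * (p : ℕ) ^ (Nat.card G).factorization p :=
      (Nat.div_mul_cancel (Nat.ordProj_dvd _ _)).symm
    obtain ⟨K, hK, hRK⟩ := Hall.exists_hall_ge hG
      ((Nat.coprime_ordCompl p.2 Nat.card_pos.ne').symm.pow_right _) (K := R) (hRp.pow_right _)
    refine ⟨K, ?_, fun L hL hLp => (hRu L hL hLp).trans hRK⟩
    refine Nat.eq_of_mul_eq_mul_left (Nat.card_pos (α := K)) ?_
    rw [K.card_mul_index]
    conv_lhs => rw [hG, ← hK]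
  choose K hK hK' using h
  exact ⟨K, hK, hK'⟩

theorem systemNormalizer_le_aux : ∀ (n : ℕ) (G : Type u) [Group G] [Finite G] [Group.IsSolvable G],
    Nat.card G = n → ∀ (K : Nat.Primes → Subgroup G) (C : Subgroup G),
      Cfsg.IsComplementSystem K → Cfsg.IsCarterSubgroup C → Reduces K C →
      Cfsg.systemNormalizer K ≤ C := by
  intro n
  induction n using Nat.strong_induction_on with | _ n ih => ?_
  intro G _ _ _ hn K C hK hC hred
  subst hn
  by_cases hbot : (⊤ : Subgroup G) = ⊥
  · exact le_top.trans (hbot.le.trans bot_le)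
  obtain ⟨N, r, hr, hNn, hN, -, -, hNp, -⟩ :=
    exists_minimal_normal_pgroup (H := (⊤ : Subgroup G)) hbot
  haveI := hNn
  haveI := Fact.mk hr
  set q := QuotientGroup.mk' N with hqdef
  set D := Cfsg.systemNormalizer K with hD
  have hCb := isCarter_map N hC
  have hredq : Reduces (fun p => (K p).map q) (C.map q) := by
    intro p L hL hLp
    obtain ⟨R, hRC, hRp, ⟨k, hk⟩, hn, hRu⟩ := exists_hall_compl p.2 hC.1
    refine le_trans ?_ (Subgroup.map_mono (hred p R hRC hRp))
    refine le_of_coprime_relIndex ?_ hL ?_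
    · exact (Subgroup.map_mono hn).trans (Subgroup.le_normalizer_map q)
    · exact (hLp.pow_right k).coprime_dvd_right (by
        rw [← Subgroup.relIndex_comap, ← hk]
        exact Subgroup.relIndex_dvd_of_le_left C (Subgroup.le_comap_map q R))
  have hDq : D.map q ≤ C.map q := by
    rw [hD, hqdef, ← HallSystem.systemNormalizer_map hK N]
    exact ih _ (card_quotient_lt N hN) (G ⧸ N) rfl _ _ (HallSystem.isComplementSystem_map hK N)
      hCb hredq
  have hDC : D ≤ C ⊔ N := le_of_map_mk_le hDq
  set C₁ := C ⊔ N with hC₁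
  by_cases htop : C₁ = ⊤
  · obtain ⟨R, hRC, hRp, ⟨j, hj⟩, hRe⟩ := eq_normalizer_hall N hNp hC htop
    have hle : R ≤ K ⟨r, hr⟩ := hred ⟨r, hr⟩ R hRC hRp
    have heq : R = K ⟨r, hr⟩ := by
      refine Subgroup.eq_of_le_of_card_ge hle (Nat.le_of_dvd Nat.card_pos ?_)
      refine ((HallSystem.coprime_card hK ⟨r, hr⟩).pow_right j).dvd_of_dvd_mul_right ?_
      have e := R.card_mul_index
      rw [hj] at e
      rw [e]
      exact Subgroup.card_subgroup_dvd_card _
    rw [hRe, heq]
    exact HallSystem.systemNormalizer_le _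
  · set K' : Nat.Primes → Subgroup C₁ := fun p => (K p).subgroupOf C₁ with hK'
    have hcop : ∀ p : Nat.Primes, (Nat.card (K' p)).Coprime p := fun p =>
      (HallSystem.coprime_card hK p).coprime_dvd_left (by
        rw [hK', Nat.card_congr (Subgroup.equivMapOfInjective _ C₁.subtype
          C₁.subtype_injective).toEquiv, Subgroup.subgroupOf_map_subtype]
        exact Subgroup.card_dvd_of_le inf_le_left)
    have hK'sys : Cfsg.IsComplementSystem K' := by
      intro p
      show (K p).relIndex C₁ = _
      obtain ⟨R, hRC, hRp, ⟨k, hk⟩, hn, -⟩ := exists_hall_compl p.2 hC.1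
      have hd : ∃ i, (K p).relIndex C₁ ∣ (p : ℕ) ^ i := by
        obtain ⟨i, hi⟩ := IsPGroup.iff_card.mp hNp
        have h1 := card_sup_mul N C
        have h3 := Subgroup.relIndex_mul_relIndex (⊥ : Subgroup G) R C bot_le hRC
        rw [Subgroup.relIndex_bot_left, Subgroup.relIndex_bot_left, hk] at h3
        by_cases hpr : (p : ℕ) = r
        · refine ⟨k + i, (Subgroup.relIndex_dvd_of_le_left C₁ (hred p R hRC hRp)).trans ?_⟩
          refine (Nat.mul_dvd_mul_iff_left (Nat.card_pos (α := R))).mp ?_
          have h2 := Subgroup.relIndex_mul_relIndex (⊥ : Subgroup G) R C₁ bot_le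
            (hRC.trans le_sup_left)
          rw [Subgroup.relIndex_bot_left, Subgroup.relIndex_bot_left] at h2
          rw [h2, pow_add, ← mul_assoc, h3]
          conv_rhs => rw [hpr, ← hi]
          exact ⟨_, h1.symm⟩
        · have hNK : N ≤ K p := HallSystem.le_of_normal_coprime hK
            (hi ▸ ((Nat.coprime_primes hr p.2).mpr (Ne.symm hpr)).pow_left i)
          refine ⟨k, (Subgroup.relIndex_dvd_of_le_left C₁
            (sup_le (hred p R hRC hRp) hNK)).trans ?_⟩
          refine (Nat.mul_dvd_mul_iff_left (Nat.card_pos (α := (R ⊔ N : Subgroup G)))).mp ?_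
          have h2 := Subgroup.relIndex_mul_relIndex (⊥ : Subgroup G) (R ⊔ N) C₁ bot_le
            (sup_le (hRC.trans le_sup_left) le_sup_right)
          rw [Subgroup.relIndex_bot_left, Subgroup.relIndex_bot_left] at h2
          rw [h2]
          have h4 : N ⊓ R = N ⊓ C := by
            refine le_antisymm (inf_le_inf_left _ hRC) (le_inf inf_le_left ?_)
            refine le_of_coprime_relIndex hn inf_le_right ?_
            rw [hk]
            refine Nat.Coprime.pow_right k ?_
            exact (hi ▸ ((Nat.coprime_primes hr p.2).mpr (Ne.symm hpr)).pow_left i).coprime_dvd_left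
              (Subgroup.card_dvd_of_le inf_le_left)
          have h5 := card_sup_mul N R
          rw [h4] at h5
          refine dvd_of_eq ?_
          refine Nat.eq_of_mul_eq_mul_right (Nat.card_pos (α := (N ⊓ C : Subgroup G))) ?_
          rw [h1, mul_right_comm, h5, mul_right_comm, h3]
      obtain ⟨i, hi⟩ := hd
      obtain ⟨e, -, he⟩ := (Nat.dvd_prime_pow p.2).mp hi
      have h := (K' p).card_mul_index
      rw [show (K' p).index = (p : ℕ) ^ e from he] at h
      rw [he, ← h, Nat.factorization_mul Nat.card_pos.ne' (pow_ne_zero _ p.2.ne_zero),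
        Finsupp.add_apply, p.2.factorization_pow, Finsupp.single_eq_same,
        Nat.factorization_eq_zero_of_not_dvd (p.2.coprime_iff_not_dvd.mp (hcop p).symm), zero_add]
    have hred' : Reduces K' (C.subgroupOf C₁) := by
      intro p L hL hLp
      rw [← Subgroup.comap_map_eq_self_of_injective C₁.subtype_injective L]
      refine Subgroup.comap_mono (hred p _ ?_ ?_)
      · exact (Subgroup.map_mono hL).trans (le_of_eq
          (Subgroup.map_subgroupOf_eq_of_le le_sup_left))
      · rwa [Subgroup.card_subtype]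
    have h := ih _ (card_subgroup_lt C₁ htop) C₁ rfl K' _ hK'sys
      (isCarter_subgroupOf le_sup_left hC) hred'
    intro d hd
    have hd' : (⟨d, hDC hd⟩ : C₁) ∈ Cfsg.systemNormalizer K' := by
      simp only [Cfsg.systemNormalizer, Subgroup.mem_iInf]
      intro p
      rw [Subgroup.mem_normalizer_iff]
      intro y
      exact Subgroup.mem_normalizer_iff.mp (HallSystem.systemNormalizer_le p hd) _
    exact h hd'

theorem systemNormalizer_le_carter [Finite G] [Group.IsSolvable G]
    {K : Nat.Primes → Subgroup G} {C : Subgroup G} (hK : Cfsg.IsComplementSystem K)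
    (hC : Cfsg.IsCarterSubgroup C) (hred : Reduces K C) : Cfsg.systemNormalizer K ≤ C :=
  systemNormalizer_le_aux _ G rfl K C hK hC hred

theorem exists_carter_ge [Finite G] [Group.IsSolvable G] {K : Nat.Primes → Subgroup G}
    (hK : Cfsg.IsComplementSystem K) :
    ∃ C : Subgroup G, Cfsg.IsCarterSubgroup C ∧ Cfsg.systemNormalizer K ≤ C := by
  obtain ⟨C, hC⟩ := exists_carter (G := G)
  obtain ⟨K₀, hK₀, hred⟩ := exists_reduces hC.1
  obtain ⟨g, hg⟩ := HallSystem.conj_systems hK₀ hK
  refine ⟨MulAut.conj g • C, ⟨(Group.isNilpotent_congr (Subgroup.equivSMul _ C)).mp hC.1, ?_⟩, ?_⟩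
  · rw [conj_smul_eq_map, ← Subgroup.map_equiv_normalizer_eq, hC.2]
  intro d hd
  rw [mem_conj_smul]
  refine systemNormalizer_le_carter hK₀ hC hred ?_
  simp only [Cfsg.systemNormalizer, Subgroup.mem_iInf]
  intro p
  have h := HallSystem.systemNormalizer_le p hd
  rw [← hg p, conj_smul_eq_map, ← Subgroup.map_equiv_normalizer_eq, ← conj_smul_eq_map,
    mem_conj_smul] at h
  exact h

theorem carter_eq_systemNormalizer [Finite G] [Group.IsSolvable G] (F : Subgroup G) [F.Normal]
    (hF : Group.IsNilpotent F) (hGF : Group.IsNilpotent (G ⧸ F)) {C : Subgroup G}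
    (hC : Cfsg.IsCarterSubgroup C) {K : Nat.Primes → Subgroup G}
    (hK : Cfsg.IsComplementSystem K) (hred : Reduces K C) :
    C = Cfsg.systemNormalizer K := by
  haveI := hGF
  refine le_antisymm (le_iInf fun p => ?_) (systemNormalizer_le_carter hK hC hred)
  have hsup : C ⊔ F = ⊤ := by
    have h := eq_top_of_normalizer_eq (isCarter_map F hC).2
    have h2 := congrArg (Subgroup.comap (QuotientGroup.mk' F)) h
    rwa [Subgroup.comap_map_eq, QuotientGroup.ker_mk', Subgroup.comap_top] at h2
  obtain ⟨R, hRC, hRp, ⟨k, hk⟩, hRn, -⟩ := exists_hall_compl p.2 hC.1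
  obtain ⟨S, hSF, hSp, ⟨l, hl⟩, -, hSu⟩ := exists_hall_compl p.2 hF
  haveI hSnormal : S.Normal := ⟨fun x hx g => by
    have hle : MulAut.conj g • S ≤ S := hSu _
      ((conj_smul_mono hSF).trans (Subgroup.Normal.conj_smul_eq_self g F).le)
      (by rwa [card_conj_smul])
    exact hle (conj_mem_conj_smul hx)⟩
  have hRK := hred p R hRC hRp
  have hSK : S ≤ K p := HallSystem.le_of_normal_coprime hK hSp
  have heq : R ⊔ S = K p := by
    refine Subgroup.eq_of_le_of_card_ge (sup_le hRK hSK) (Nat.le_of_dvd Nat.card_pos ?_)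
    refine Nat.Coprime.dvd_of_dvd_mul_right
      ((HallSystem.coprime_card hK p).pow_right (k + l)) ?_
    have h1 := card_sup_mul F C
    rw [hsup, Subgroup.card_top] at h1
    have h3 := Subgroup.relIndex_mul_relIndex (⊥ : Subgroup G) R C bot_le hRC
    rw [Subgroup.relIndex_bot_left, Subgroup.relIndex_bot_left, hk] at h3
    have h4 := Subgroup.relIndex_mul_relIndex (⊥ : Subgroup G) S F bot_le hSF
    rw [Subgroup.relIndex_bot_left, Subgroup.relIndex_bot_left, hl] at h4
    have h5 := card_sup_mul S R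
    refine (Subgroup.card_subgroup_dvd_card (K p)).trans ?_
    -- `|G| |F ⊓ C| = |R| |S| p ^ (k + l) = |R ⊔ S| |S ⊓ R| p ^ (k + l)`
    refine Nat.dvd_of_mul_dvd_mul_right (Nat.card_pos (α := (S ⊓ R : Subgroup G))) ?_
    refine (mul_dvd_mul_left _ (Subgroup.card_dvd_of_le (inf_le_inf hSF hRC))).trans ?_
    rw [h1, ← h3, ← h4, pow_add]
    refine dvd_of_eq ?_
    calc _ = Nat.card R * Nat.card S * ((p : ℕ) ^ k * (p : ℕ) ^ l) := by ring
      _ = _ := by rw [← h5]; ring
  intro c hc
  rw [← heq, Subgroup.mem_normalizer_iff]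
  intro y
  have hcs : MulAut.conj c • (R ⊔ S) = R ⊔ S := by
    rw [Subgroup.smul_sup,
      (show MulAut.conj c • R = R from Subgroup.conjAct_pointwise_smul_eq_self (hRn hc)),
      Subgroup.Normal.conj_smul_eq_self c S]
  conv_rhs => rw [← hcs]
  rw [mem_conj_smul]
  group

end CfsgLib.Solvable.Carter
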