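import Cfsg.Prelude.Def_SolvableStructure
import Cfsg.Prelude.Def_Transfer
import Cfsg.Agent.Lib.Solvable.Carter
import Cfsg.Agent.Lib.Solvable.FrattiniFitting
import Cfsg.Agent.Lib.Coprime.Action
import Cfsg.Agent.Lib.FrobRealize.Kernel

/-!
Schmidt's theorem on groups all of whose proper subgroups are nilpotent, and Wielandt's theorem
on nilpotent Hall subgroups.
-/

open scoped Pointwise commutatorElement
set_option linter.style.haveILetI false

namespace CfsgLib.Solvable.Schmidt

open CfsgLib.Solvable.Basic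

universe u

variable {G : Type u} [Group G]

theorem isNilpotent_of_le {H K : Subgroup G} (h : H ≤ K) (hK : Group.IsNilpotent K) :
    Group.IsNilpotent H := by
  haveI := hK
  exact (Group.isNilpotent_congr (Subgroup.subgroupOfEquivOfLe h)).mp inferInstance

/-- In a nilpotent subgroup, `p`-elements and `p'`-elements commute. -/
theorem le_centralizer_of_nilpotent [Finite G] {p : ℕ} [Fact p.Prime] {C A B : Subgroup G}
    (hC : Group.IsNilpotent C) (hAC : A ≤ C) (hBC : B ≤ C) (hA : IsPGroup p A)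
    (hB : (Nat.card B).Coprime p) : A ≤ Subgroup.centralizer (B : Set G) := by
  haveI := hC
  obtain ⟨R, hRC, hRp, -, hRn, hRu⟩ := Carter.exists_hall_compl (p := p) Fact.out hC
  obtain ⟨S, hAS⟩ := (hA.comap_subtype (K := C)).exists_le_sylow
  intro a ha
  rw [Subgroup.mem_centralizer_iff]
  intro b hb
  have hbR : b ∈ R := hRu B hBC hB hb
  haveI : (R.subgroupOf C).Normal := Subgroup.normal_subgroupOf_of_le_normalizer hRn
  have hd : Disjoint (S : Subgroup C) (R.subgroupOf C) := by
    rw [Subgroup.disjoint_def]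
    intro x hx hx'
    obtain ⟨k, hk⟩ := IsPGroup.iff_card.mp S.isPGroup'
    have h1 : orderOf x = 1 := Nat.eq_one_of_dvd_coprimes (hRp.symm.pow_left k)
      (hk ▸ Subgroup.orderOf_dvd_natCard _ hx)
      ((Subgroup.orderOf_coe x) ▸ Subgroup.orderOf_dvd_natCard R (Subgroup.mem_subgroupOf.mp hx'))
    exact orderOf_eq_one_iff.mp h1
  have := Subgroup.commute_of_normal_of_disjoint _ _ inferInstance inferInstance hd
    ⟨a, hAC ha⟩ ⟨b, hBC hb⟩ (hAS (Subgroup.mem_subgroupOf.mpr ha))
    (Subgroup.mem_subgroupOf.mpr hbR)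
  exact (congrArg Subtype.val this.eq).symm

theorem isNilpotent_of_isMulCommutative {H : Subgroup G} (h : IsMulCommutative H) :
    Group.IsNilpotent H :=
  letI : CommGroup H := { (inferInstance : Group H) with mul_comm := mul_comm' }
  inferInstance

/-- A finite nilpotent group whose Sylow subgroups are abelian is abelian. -/
theorem isMulCommutative_of_sylow [Finite G] [Group.IsNilpotent G]
    (h : ∀ (p : ℕ), p.Prime → ∀ P : Sylow p G, IsMulCommutative (P : Subgroup G)) :
    IsMulCommutative G := by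
  have hc : Subgroup.center G = ⊤ := by
    refine Cores.eq_top_of_sylow_le _ fun p hp => ?_
    haveI := Fact.mk hp
    obtain ⟨P⟩ : Nonempty (Sylow p G) := inferInstance
    refine ⟨P, ?_⟩
    have hC : Subgroup.centralizer ((P : Subgroup G) : Set G) = ⊤ := by
      refine Cores.eq_top_of_sylow_le _ fun r hr => ?_
      haveI := Fact.mk hr
      obtain ⟨R⟩ : Nonempty (Sylow r G) := inferInstance
      refine ⟨R, ?_⟩
      by_cases hrp : r = p
      · subst hrp
        haveI := Sylow.unique_of_normal R inferInstance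
        intro x hx
        rw [Subgroup.mem_centralizer_iff]
        intro y hy
        have hP : P = R := Subsingleton.elim _ _
        subst hP
        exact (isMulCommutative_subgroup_iff.mp (h r hr P)) y hy x hx
      · rw [Subgroup.le_centralizer_iff]
        refine le_centralizer_of_nilpotent (Group.isNilpotent_top.mpr inferInstance) le_top le_top
          P.isPGroup' ?_
        obtain ⟨k, hk⟩ := IsPGroup.iff_card.mp R.isPGroup'
        rw [hk]
        exact ((Nat.coprime_primes hr hp).mpr hrp).pow_left k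
    intro x hx
    rw [Subgroup.mem_center_iff]
    intro g
    exact (Subgroup.mem_centralizer_iff.mp (hC ▸ Subgroup.mem_top g) x hx).symm
  rw [isMulCommutative_iff]
  intro a b
  exact Subgroup.mem_center_iff.mp (hc ▸ Subgroup.mem_top b) a

theorem solvable_aux : ∀ (n : ℕ) (G : Type u) [Group G] [Finite G], Nat.card G = n →
    (∀ M : Subgroup G, IsCoatom M → Group.IsNilpotent M) → Group.IsSolvable G := by
  intro n
  induction n using Nat.strong_induction_on with | _ n ih => ?_
  intro G _ _ hn h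
  subst hn
  haveI : IsCoatomic (Subgroup G) := inferInstance
  by_cases hsimple : ∃ N : Subgroup G, N.Normal ∧ N ≠ ⊥ ∧ N ≠ ⊤
  · obtain ⟨N, hNn, hN, hN'⟩ := hsimple
    haveI := hNn
    obtain ⟨M, hM, hNM⟩ := (eq_top_or_exists_le_coatom N).resolve_left hN'
    haveI : Group.IsNilpotent N := isNilpotent_of_le hNM (h M hM)
    haveI : Group.IsSolvable (G ⧸ N) := by
      refine ih _ (card_quotient_lt N hN) (G ⧸ N) rfl fun X hX => ?_
      have hq := QuotientGroup.mk'_surjective N
      haveI := h _ (Subgroup.isCoatom_comap_of_surjective hq hX)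
      exact Group.nilpotent_of_surjective ((QuotientGroup.mk' N).subgroupComap X)
        (MonoidHom.subgroupComap_surjective_of_surjective _ _ hq)
    exact Group.isSolvable_of_ker_le_range N.subtype (QuotientGroup.mk' N)
      (by rw [QuotientGroup.ker_mk', Subgroup.range_subtype])
  by_cases hcomm : ∀ a b : G, a * b = b * a
  · exact Group.isSolvable_of_comm hcomm
  exfalso
  push Not at hsimple hcomm
  obtain ⟨a, b, hab⟩ := hcomm
  haveI : Nontrivial G := ⟨⟨a * b, b * a, hab⟩⟩
  have hcyc : ∀ x : G, Subgroup.zpowers x ≠ ⊤ := fun x hx => hab (by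
    obtain ⟨i, rfl⟩ := Subgroup.mem_zpowers_iff.mp (hx ▸ Subgroup.mem_top a : a ∈ Subgroup.zpowers x)
    obtain ⟨j, rfl⟩ := Subgroup.mem_zpowers_iff.mp (hx ▸ Subgroup.mem_top b : b ∈ Subgroup.zpowers x)
    rw [← zpow_add, ← zpow_add, add_comm])
  have hbot : ∀ M : Subgroup G, IsCoatom M → M ≠ ⊥ := fun M hM e => by
    obtain ⟨x, hx⟩ := exists_ne (1 : G)
    refine hcyc x (hM.2 _ (e ▸ bot_lt_iff_ne_bot.mpr ?_))
    simpa [Subgroup.zpowers_eq_bot] using hx
  have hconj : ∀ (g : G) (M : Subgroup G), IsCoatom M → IsCoatom (MulAut.conj g • M) :=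
    fun g M hM => (OrderIso.isCoatom_iff (MulAut.conj g).mapSubgroup M).mpr hM
  have hnorm : ∀ M : Subgroup G, IsCoatom M → Subgroup.normalizer (M : Set G) = M := by
    intro M hM
    rcases hM.le_iff.mp (Subgroup.le_normalizer : M ≤ Subgroup.normalizer (M : Set G)) with e | e
    · exact absurd (hsimple M (Subgroup.normalizer_eq_top_iff.mp e) (hbot M hM)) hM.1
    · exact e
  -- distinct maximal subgroups meet trivially
  have hTI : ∀ M₁ M₂ : Subgroup G, IsCoatom M₁ → IsCoatom M₂ → M₁ ≠ M₂ → M₁ ⊓ M₂ = ⊥ := by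
    intro M₁ M₂ h1 h2 hne
    by_contra hD
    obtain ⟨D, hle, ⟨N₁, N₂, hN1, hN2, hN12, rfl⟩, hmax⟩ := Finite.exists_le_maximal
      (p := fun D : Subgroup G => ∃ N₁ N₂ : Subgroup G, IsCoatom N₁ ∧ IsCoatom N₂ ∧ N₁ ≠ N₂ ∧
        D = N₁ ⊓ N₂) (a := M₁ ⊓ M₂) ⟨M₁, M₂, h1, h2, hne, rfl⟩
    set D := N₁ ⊓ N₂
    have hDbot : D ≠ ⊥ := fun e => hD (le_bot_iff.mp (e ▸ hle))
    have hDtop : D ≠ ⊤ := fun e => hN1.1 (top_le_iff.mp (e ▸ inf_le_left))
    have hN : Subgroup.normalizer (D : Set G) ≠ ⊤ := fun e =>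
      hDtop (hsimple D (Subgroup.normalizer_eq_top_iff.mp e) hDbot)
    obtain ⟨M, hM, hDM⟩ := (eq_top_or_exists_le_coatom _).resolve_left hN
    have key : ∀ X : Subgroup G, IsCoatom X → D < X → M = X := by
      intro X hX hlt
      by_contra hMX
      haveI := h X hX
      have h3 : D.subgroupOf X < Subgroup.normalizer (D.subgroupOf X : Set X) :=
        normalizerCondition_of_isNilpotent _ (lt_top_iff_ne_top.mpr fun e =>
          hlt.not_ge (Subgroup.subgroupOf_eq_top.mp e))
      obtain ⟨x, hx, hx'⟩ := SetLike.exists_of_lt h3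
      rw [← Subgroup.subgroupOf_normalizer_eq hlt.le, Subgroup.mem_subgroupOf] at hx
      have h4 : D ≤ M ⊓ X := le_inf (Subgroup.le_normalizer.trans hDM) hlt.le
      exact hx' (Subgroup.mem_subgroupOf.mpr (hmax ⟨M, X, hM, hX, hMX, rfl⟩ h4 ⟨hDM hx, x.2⟩))
    have e1 : M = N₁ := key N₁ hN1 (lt_of_le_of_ne inf_le_left fun e =>
      hN12 ((hN1.le_iff.mp (inf_eq_left.mp e)).resolve_left hN2.1).symm)
    have e2 : M = N₂ := key N₂ hN2 (lt_of_le_of_ne inf_le_right fun e =>
      hN12 ((hN2.le_iff.mp (inf_eq_right.mp e)).resolve_left hN1.1))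
    exact hN12 (e1.symm.trans e2)
  have hFC : ∀ M : Subgroup G, IsCoatom M → Cfsg.IsFrobeniusComplement M := by
    intro M hM
    refine ⟨hbot M hM, hM.1, fun g hg => hTI _ _ hM (hconj g M hM) fun e => hg ?_⟩
    rw [← hnorm M hM, Subgroup.mem_normalizer_iff]
    intro y
    conv_rhs => rw [e, mem_conj_smul]
    group
  have hcount : ∀ M : Subgroup G, IsCoatom M →
      2 * M.index ≤ Nat.card G ∧ (Cfsg.frobeniusKernel M).ncard = M.index ∧ 1 < M.index := by
    intro M hM
    refine ⟨?_, ?_, Subgroup.one_lt_index_of_ne_top hM.1⟩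
    · rw [← M.card_mul_index]
      exact Nat.mul_le_mul_right _ (Subgroup.one_lt_card_iff_ne_bot M |>.mpr (hbot M hM))
    · rw [← Nat.card_coe_set_eq, FrobRealize.Kernel.card_frobeniusKernel (hFC M hM)]
  obtain ⟨M₁, hM₁, -⟩ := (eq_top_or_exists_le_coatom (⊥ : Subgroup G)).resolve_left bot_ne_top
  obtain ⟨hA1, hA2, hA3⟩ := hcount M₁ hM₁
  obtain ⟨x, hx, hx1⟩ : ∃ x ∈ Cfsg.frobeniusKernel M₁, x ≠ 1 := by
    by_contra hall
    push Not at hall
    have : Cfsg.frobeniusKernel M₁ ⊆ {1} := fun x hx => hall x hx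
    have := Set.ncard_le_ncard this
    rw [Set.ncard_singleton, hA2] at this
    omega
  obtain ⟨M₂, hM₂, hxM⟩ :=
    (eq_top_or_exists_le_coatom (Subgroup.zpowers x)).resolve_left (hcyc x)
  obtain ⟨hB1, hB2, hB3⟩ := hcount M₂ hM₂
  have hsub : (Cfsg.frobeniusKernel M₂)ᶜ ⊆ Cfsg.frobeniusKernel M₁ \ {1} := by
    intro y hy
    rw [Set.mem_compl_iff, FrobRealize.Kernel.mem_frobeniusKernel, not_or] at hy
    obtain ⟨hy1, hy2⟩ := hy
    refine ⟨FrobRealize.Kernel.mem_frobeniusKernel.mpr (Or.inr fun g hg => ?_), hy1⟩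
    push Not at hy2
    obtain ⟨k, hk⟩ := hy2
    have he : MulAut.conj g • M₁ = MulAut.conj k • M₂ := by
      by_contra hne
      have := hTI _ _ (hconj g _ hM₁) (hconj k _ hM₂) hne
      refine hy1 (Subgroup.mem_bot.mp (this ▸ ⟨?_, ?_⟩))
      · exact mem_conj_smul.mpr hg
      · exact mem_conj_smul.mpr hk
    have hx2 : x ∈ MulAut.conj (k⁻¹ * g) • M₁ := by
      rw [← conj_smul_conj_smul, he, conj_smul_conj_smul, inv_mul_cancel, map_one, one_smul]
      exact hxM (Subgroup.mem_zpowers x)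
    exact ((FrobRealize.Kernel.mem_frobeniusKernel.mp hx).resolve_left hx1) (k⁻¹ * g)
      (mem_conj_smul.mp hx2)
  have h3 := Set.ncard_le_ncard hsub
  have h1mem : (1 : G) ∈ Cfsg.frobeniusKernel M₁ := Or.inl rfl
  rw [Set.ncard_compl, hB2, Set.ncard_diff_singleton_of_mem h1mem, hA2] at h3
  omega

/-- **Schmidt**: if all maximal subgroups are nilpotent the group is solvable. -/
theorem isSolvable_of_maximal_nilpotent [Finite G]
    (h : ∀ M : Subgroup G, IsCoatom M → Group.IsNilpotent M) : Group.IsSolvable G :=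
  solvable_aux _ G rfl h

theorem exists_normal_prime_index [Finite G] [Group.IsSolvable G] [Nontrivial G] :
    ∃ (p : ℕ) (M : Subgroup G), p.Prime ∧ M.Normal ∧ M.index = p := by
  obtain ⟨M, hM, hle⟩ := (eq_top_or_exists_le_coatom (commutator G)).resolve_left
    (Group.IsSolvable.commutator_lt_top_of_nontrivial G).ne
  haveI hMn : M.Normal := Subgroup.Normal.of_commutator_le G hle
  obtain ⟨p, hp, hpd⟩ := Nat.exists_prime_and_dvd
    (show Nat.card (G ⧸ M) ≠ 1 by
      rw [← Subgroup.index_eq_card]; exact mt Subgroup.index_eq_one.mp hM.1)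
  haveI := Fact.mk hp
  obtain ⟨x, hx⟩ := exists_prime_orderOf_dvd_card' p hpd
  refine ⟨p, M, hp, hMn, ?_⟩
  have htop : Subgroup.zpowers x = ⊤ := by
    apply Subgroup.comap_injective (QuotientGroup.mk'_surjective M)
    rw [Subgroup.comap_top]
    refine hM.2 _ (lt_of_le_of_ne (QuotientGroup.le_comap_mk' M _) fun e => ?_)
    have hx1 : x = 1 := by
      obtain ⟨g, rfl⟩ := QuotientGroup.mk'_surjective M x
      exact (QuotientGroup.eq_one_iff g).mpr (e ▸ Subgroup.mem_zpowers (QuotientGroup.mk' M g))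
    rw [hx1, orderOf_one] at hx
    exact hp.one_lt.ne hx
  rw [Subgroup.index_eq_card, ← hx, ← Nat.card_zpowers, htop, Subgroup.card_top]

/-- The structure of a minimal non-nilpotent group. -/
theorem structure_minimal [Finite G] (hG : ¬ Group.IsNilpotent G)
    (h : ∀ H : Subgroup G, H ≠ ⊤ → Group.IsNilpotent H) :
    ∃ p q : ℕ, p.Prime ∧ q.Prime ∧ p ≠ q ∧ ∃ (P : Sylow p G) (Q : Sylow q G),
      IsCyclic P ∧ (Q : Subgroup G).Normal ∧ (P : Subgroup G) ⊔ Q = ⊤ ∧
      ¬ (P : Subgroup G) ≤ Subgroup.centralizer ((Q : Subgroup G) : Set G) ∧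
      ¬ (P : Subgroup G).Normal := by
  haveI : Group.IsSolvable G := isSolvable_of_maximal_nilpotent fun M hM => h M hM.1
  haveI : Nontrivial G := by
    by_contra hn; rw [not_nontrivial_iff_subsingleton] at hn; exact hG inferInstance
  obtain ⟨p, M, hp, hMn, hMi⟩ := exists_normal_prime_index (G := G)
  haveI := hMn
  haveI := Fact.mk hp
  have hMne : M ≠ ⊤ := fun e => hp.ne_one (hMi ▸ Subgroup.index_eq_one.mpr e)
  haveI := h M hMne
  have hRn : ∀ r : ℕ, r.Prime → r ≠ p → ∀ R : Sylow r G, (R : Subgroup G).Normal := by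
    intro r hr hrp R
    haveI := Fact.mk hr
    have hle : ∀ S : Sylow r G, (S : Subgroup G) ≤ M := by
      intro S
      obtain ⟨k, hk⟩ := IsPGroup.iff_card.mp S.isPGroup'
      refine Carter.le_of_coprime_relIndex (C := ⊤) ?_ le_top ?_
      · rw [Subgroup.normalizer_eq_top]
      · rw [Subgroup.relIndex_top_right, hk, hMi]
        exact ((Nat.coprime_primes hr hp).mpr hrp).pow_left k
    haveI hRM : ((R.subtype (hle R) : Sylow r M) : Subgroup M).Normal := inferInstance
    haveI := Sylow.unique_of_normal (R.subtype (hle R)) hRM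
    haveI : Subsingleton (Sylow r G) := by
      refine ⟨fun A B => Sylow.ext ?_⟩
      have e : A.subtype (hle A) = B.subtype (hle B) := Subsingleton.elim _ _
      have := congrArg (fun S : Sylow r M => (S : Subgroup M).map M.subtype) e
      simpa [Subgroup.map_subgroupOf_eq_of_le, hle A, hle B] using this
    exact R.normal_of_subsingleton
  obtain ⟨P⟩ : Nonempty (Sylow p G) := inferInstance
  have hPn : ¬ (P : Subgroup G).Normal := by
    intro hP
    refine hG ((Group.isNilpotent_of_finite_tfae.out 0 3).mpr fun r hr R => ?_)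
    by_cases hrp : r = p
    · subst hrp
      haveI := Sylow.unique_of_normal P hP
      rw [Subsingleton.elim R P]
      exact hP
    · exact hRn r hr.out hrp R
  obtain ⟨q, hq, hqp, Q, hQ⟩ : ∃ q : ℕ, q.Prime ∧ q ≠ p ∧ ∃ Q : Sylow q G,
      (P : Subgroup G) ⊔ Q = ⊤ := by
    by_contra hall
    push Not at hall
    refine hPn (Subgroup.normalizer_eq_top_iff.mp (Cores.eq_top_of_sylow_le _ fun r hr => ?_))
    haveI := Fact.mk hr
    by_cases hrp : r = p
    · subst hrp; exact ⟨P, Subgroup.le_normalizer⟩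
    obtain ⟨R⟩ : Nonempty (Sylow r G) := inferInstance
    refine ⟨R, le_trans ?_ (Subgroup.centralizer_le_normalizer _)⟩
    rw [Subgroup.le_centralizer_iff]
    obtain ⟨k, hk⟩ := IsPGroup.iff_card.mp R.isPGroup'
    exact le_centralizer_of_nilpotent (h _ (hall r hr hrp R)) le_sup_left le_sup_right P.isPGroup'
      (hk ▸ ((Nat.coprime_primes hr hp).mpr hrp).pow_left k)
  haveI := Fact.mk hq
  have hQn := hRn q hq hqp Q
  haveI := hQn
  obtain ⟨k, hk⟩ := IsPGroup.iff_card.mp Q.isPGroup'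
  have hcopQ : (Nat.card (Q : Subgroup G)).Coprime p :=
    hk ▸ ((Nat.coprime_primes hq hp).mpr hqp).pow_left k
  have hnc : ¬ (P : Subgroup G) ≤ Subgroup.centralizer ((Q : Subgroup G) : Set G) := by
    intro hc
    refine hPn (Subgroup.normalizer_eq_top_iff.mp (top_le_iff.mp (hQ ▸ sup_le
      Subgroup.le_normalizer ?_)))
    exact (Subgroup.le_centralizer_iff.mp hc).trans (Subgroup.centralizer_le_normalizer _)
  refine ⟨p, q, hp, hq, hqp.symm, P, Q, ?_, hQn, hQ, hnc, hPn⟩
  obtain ⟨x, hx, hxnc⟩ := SetLike.not_le_iff_exists.mp hnc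
  suffices e : Subgroup.zpowers x = (P : Subgroup G) from e ▸ Subgroup.isCyclic_zpowers x
  by_contra hne
  have hle : Subgroup.zpowers x ≤ (P : Subgroup G) := Subgroup.zpowers_le.mpr hx
  by_cases htop : Subgroup.zpowers x ⊔ (Q : Subgroup G) = ⊤
  · refine hne (le_antisymm hle fun y hy => ?_)
    have hy' : y ∈ ((Subgroup.zpowers x : Subgroup G) : Set G) * ((Q : Subgroup G) : Set G) := by
      rw [← Subgroup.mul_normal (Subgroup.zpowers x) (Q : Subgroup G), htop]; trivial
    obtain ⟨a, ha, b, hb, rfl⟩ := hy'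
    have hb1 : b = 1 := by
      obtain ⟨l, hl⟩ := IsPGroup.iff_card.mp P.isPGroup'
      have : b ∈ (P : Subgroup G) := by
        simpa using (P : Subgroup G).mul_mem ((P : Subgroup G).inv_mem (hle ha)) hy
      exact orderOf_eq_one_iff.mp (Nat.eq_one_of_dvd_coprimes (hcopQ.pow_right l)
        (Subgroup.orderOf_dvd_natCard _ hb) (hl ▸ Subgroup.orderOf_dvd_natCard _ this))
    simpa [hb1] using ha
  · exact hxnc (le_centralizer_of_nilpotent (h _ htop) le_sup_left le_sup_right
      (P.isPGroup'.to_le hle) hcopQ (Subgroup.mem_zpowers x))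

/-- The structure of a minimal non-abelian group. -/
theorem structure_minimal_nonabelian [Finite G] (hna : ¬ IsMulCommutative G)
    (h : ∀ H : Subgroup G, H ≠ ⊤ → IsMulCommutative H) :
    (∃ p : ℕ, p.Prime ∧ IsPGroup p G) ∨ ∃ p q : ℕ, p.Prime ∧ q.Prime ∧ p ≠ q ∧
      ∃ (P : Sylow p G) (Q : Sylow q G), IsCyclic P ∧ (Q : Subgroup G).Normal ∧
        Cfsg.IsElementaryAbelian q (Q : Subgroup G) ∧ (P : Subgroup G) ⊔ Q = ⊤ := by
  by_cases hnil : Group.IsNilpotent G
  · left
    by_contra hnot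
    push Not at hnot
    refine hna (isMulCommutative_of_sylow fun p hp P => h _ fun e => hnot p hp ?_)
    haveI := Fact.mk hp
    exact (e ▸ P.isPGroup' : IsPGroup p (⊤ : Subgroup G)).of_equiv Subgroup.topEquiv
  obtain ⟨p, q, hp, hq, hpq, P, Q, hPc, hQn, hsup, hnc, -⟩ :=
    structure_minimal hnil fun H hH => isNilpotent_of_isMulCommutative (h H hH)
  haveI := Fact.mk hp
  haveI := Fact.mk hq
  haveI := hQn
  right
  have hQne : (Q : Subgroup G) ≠ ⊤ := fun e =>
    hnil ((e ▸ Q.isPGroup' : IsPGroup q (⊤ : Subgroup G)).of_equiv Subgroup.topEquiv).isNilpotent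
  have hQc := isMulCommutative_subgroup_iff.mp (h _ hQne)
  obtain ⟨l, hl⟩ := IsPGroup.iff_card.mp P.isPGroup'
  obtain ⟨k, hk⟩ := IsPGroup.iff_card.mp Q.isPGroup'
  have hcop : (Nat.card (P : Subgroup G)).Coprime (Nat.card (Q : Subgroup G)) :=
    hl ▸ hk ▸ ((Nat.coprime_primes hp hq).mpr hpq).pow l k
  -- a proper subgroup of `Q` normalised by `P` generates with it an abelian group
  have hproper : ∀ E : Subgroup G, E.Normal → E < (Q : Subgroup G) →
      ∀ x ∈ (P : Subgroup G), ∀ e ∈ E, x * e = e * x := by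
    intro E hE hlt x hx e he
    haveI := hE
    refine isMulCommutative_subgroup_iff.mp (h ((P : Subgroup G) ⊔ E) fun htop => ?_)
      x (Subgroup.mem_sup_left hx) e (Subgroup.mem_sup_right he)
    obtain ⟨y, hy, hy'⟩ := SetLike.exists_of_lt hlt
    have hyP : y ∈ ((P : Subgroup G) : Set G) * (E : Set G) := by
      rw [← Subgroup.mul_normal (P : Subgroup G) E, htop]; trivial
    obtain ⟨a, ha, b, hb, rfl⟩ := hyP
    have haQ : a ∈ (Q : Subgroup G) := by
      simpa [mul_assoc] using (Q : Subgroup G).mul_mem hy ((Q : Subgroup G).inv_mem (hlt.le hb))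
    have : a = 1 := orderOf_eq_one_iff.mp (Nat.eq_one_of_dvd_coprimes hcop
      (Subgroup.orderOf_dvd_natCard _ ha) (Subgroup.orderOf_dvd_natCard _ haQ))
    exact hy' (by simpa [this] using hb)
  let E : Subgroup G :=
    { carrier := {y | y ∈ (Q : Subgroup G) ∧ y ^ q = 1}
      one_mem' := ⟨one_mem _, one_pow q⟩
      mul_mem' := fun {a b} ha hb => ⟨mul_mem ha.1 hb.1, by
        rw [(show Commute a b from hQc a ha.1 b hb.1).mul_pow, ha.2, hb.2, one_mul]⟩
      inv_mem' := fun {a} ha => ⟨inv_mem ha.1, by rw [inv_pow, ha.2, inv_one]⟩ }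
  let F : Subgroup G :=
    { carrier := {z | ∃ y ∈ (Q : Subgroup G), y ^ q = z}
      one_mem' := ⟨1, one_mem _, one_pow q⟩
      mul_mem' := by
        rintro _ _ ⟨a, ha, rfl⟩ ⟨b, hb, rfl⟩
        exact ⟨a * b, mul_mem ha hb, (show Commute a b from hQc a ha b hb).mul_pow q⟩
      inv_mem' := by
        rintro _ ⟨a, ha, rfl⟩
        exact ⟨a⁻¹, inv_mem ha, inv_pow a q⟩ }
  have hEn : E.Normal := ⟨fun y hy g => ⟨hQn.conj_mem y hy.1 g, by
    rw [conj_pow, hy.2, mul_one, mul_inv_cancel]⟩⟩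
  have hFn : F.Normal := ⟨by
    rintro _ ⟨y, hy, rfl⟩ g
    exact ⟨g * y * g⁻¹, hQn.conj_mem y hy g, conj_pow⟩⟩
  refine ⟨p, q, hp, hq, hpq, P, Q, hPc, hQn, ⟨h _ hQne, fun y hy => ?_⟩, hsup⟩
  have hQbot : (Q : Subgroup G) ≠ ⊥ := fun e => hnc (by
    intro x _
    rw [Subgroup.mem_centralizer_iff]
    intro z hz
    have : z = 1 := Subgroup.mem_bot.mp (e ▸ hz)
    simp [this])
  have hFlt : F < (Q : Subgroup G) := by
    refine lt_of_le_of_ne (by rintro _ ⟨a, ha, rfl⟩; exact pow_mem ha q) fun e => ?_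
    let f : ↥(Q : Subgroup G) → ↥(Q : Subgroup G) := fun z => z ^ q
    have hf : Function.Surjective f := fun z => by
      obtain ⟨w, hw, hwz⟩ := (e.symm ▸ z.2 : (z : G) ∈ F)
      exact ⟨⟨w, hw⟩, Subtype.ext hwz⟩
    have hd : q ∣ Nat.card (Q : Subgroup G) := by
      rw [hk]
      exact dvd_pow_self q fun h0 => hQbot (Subgroup.card_eq_one.mp (by rw [hk, h0, pow_zero]))
    obtain ⟨z, hz⟩ := exists_prime_orderOf_dvd_card' q hd
    have := Finite.injective_iff_surjective.mpr hf (a₁ := z) (a₂ := 1) (by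
      show z ^ q = 1 ^ q
      rw [one_pow]; exact orderOf_dvd_iff_pow_eq_one.mp hz.dvd)
    rw [this, orderOf_one] at hz
    exact hq.one_lt.ne hz
  by_contra hyq
  have hElt : E < (Q : Subgroup G) :=
    lt_of_le_of_ne (fun z hz => hz.1) fun e => hyq (e.symm ▸ hy : y ∈ E).2
  refine hnc (CfsgLib.Coprime.le_centralizer_of_stabilizes (N := E) ?_ ?_ ?_)
  · exact hcop.coprime_dvd_right (Subgroup.card_dvd_of_le hElt.le)
  · intro x hx
    rw [Subgroup.mem_centralizer_iff]
    exact fun e he => (hproper E hEn hElt x hx e he).symm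
  · intro x hx z hz
    have hxz : x * z * x⁻¹ ∈ (Q : Subgroup G) := hQn.conj_mem z hz x
    refine ⟨(Q : Subgroup G).mul_mem hxz ((Q : Subgroup G).inv_mem hz), ?_⟩
    show (x * z * x⁻¹ * z⁻¹) ^ q = 1
    rw [(show Commute (x * z * x⁻¹) z⁻¹ from hQc _ hxz _ (inv_mem hz)).mul_pow, conj_pow,
      inv_pow, hproper F hFn hFlt x hx (z ^ q) ⟨z, hz, rfl⟩]
    group

/-- The quotient of a minimal non-nilpotent group by the derived group of its normal Sylow
subgroup is minimal non-abelian. -/
theorem quotient_minimal [Finite G] (hG : ¬ Group.IsNilpotent G)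
    (h : ∀ H : Subgroup G, H ≠ ⊤ → Group.IsNilpotent H) (q : ℕ) [Fact q.Prime]
    (hqd : q ∣ Nat.card G) (Q : Sylow q G) (hQn : (Q : Subgroup G).Normal) (D : Subgroup G)
    [D.Normal] (hD : D = (commutator ↥(Q : Subgroup G)).map (Q : Subgroup G).subtype) :
    ¬ IsMulCommutative (G ⧸ D) ∧ ∀ K : Subgroup (G ⧸ D), K ≠ ⊤ → IsMulCommutative K := by
  obtain ⟨p, q₀, hp, hq₀, hpq, P, Q₀, hPc, hQ₀n, hsup, hnc, hPn⟩ := structure_minimal hG h
  haveI := Fact.mk hp
  haveI := Fact.mk hq₀
  haveI := hQn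
  haveI := hQ₀n
  have hdiv : ∀ r : ℕ, r.Prime → r ∣ Nat.card G → r = p ∨ r = q₀ := by
    intro r hr hrd
    obtain ⟨k, hk⟩ := IsPGroup.iff_card.mp P.isPGroup'
    obtain ⟨l, hl⟩ := IsPGroup.iff_card.mp Q₀.isPGroup'
    have h1 := card_sup_mul (Q₀ : Subgroup G) (P : Subgroup G)
    rw [hsup, Subgroup.card_top, hk, hl] at h1
    rcases hr.dvd_mul.mp (hrd.trans ⟨_, h1.symm⟩) with h2 | h2
    · exact Or.inl ((Nat.prime_dvd_prime_iff_eq hr hp).mp (hr.dvd_of_dvd_pow h2))
    · exact Or.inr ((Nat.prime_dvd_prime_iff_eq hr hq₀).mp (hr.dvd_of_dvd_pow h2))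
  obtain rfl : q = q₀ := (hdiv q Fact.out hqd).resolve_left fun e => by
    subst e
    haveI := Sylow.unique_of_normal Q hQn
    exact hPn (Subsingleton.elim P Q ▸ hQn)
  haveI := Sylow.unique_of_normal Q hQn
  obtain rfl : Q₀ = Q := Subsingleton.elim _ _
  set f := QuotientGroup.mk' D with hf
  have hfs := QuotientGroup.mk'_surjective D
  haveI : Group.IsNilpotent (Q₀ : Subgroup G) := Q₀.isPGroup'.isNilpotent
  constructor
  · intro hc
    refine hnc (CfsgLib.Coprime.le_centralizer_of_frattini ?_ ?_ ?_)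
    · rw [Subgroup.normalizer_eq_top]; exact le_top
    · obtain ⟨k, hk⟩ := IsPGroup.iff_card.mp P.isPGroup'
      obtain ⟨l, hl⟩ := IsPGroup.iff_card.mp Q₀.isPGroup'
      rw [hk]
      exact Nat.Coprime.coprime_dvd_right
        ((Subgroup.card_subgroup_dvd_card (frattini (Q₀ : Subgroup G))).trans hl.dvd)
        (((Nat.coprime_primes hp Fact.out).mpr hpq).pow k l)
    · intro a _ z _
      refine Subgroup.map_mono FrattiniFitting.commutator_le_frattini ?_
      rw [← hD, ← QuotientGroup.eq_one_iff]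
      show f ⁅a, z⁆ = 1
      rw [map_commutatorElement, commutatorElement_eq_one_iff_mul_comm]
      exact (isMulCommutative_iff.mp hc) _ _
  · intro K hK
    haveI : Group.IsNilpotent K := by
      haveI := h (K.comap f) fun e => hK (by
        rw [← Subgroup.map_comap_eq_self_of_surjective hfs K, e,
          Subgroup.map_top_of_surjective _ hfs])
      exact Group.nilpotent_of_surjective (f.subgroupComap K)
        (MonoidHom.subgroupComap_surjective_of_surjective _ _ hfs)
    refine isMulCommutative_of_sylow fun r hr R => ?_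
    haveI := Fact.mk hr
    obtain ⟨T, hT⟩ := (R.isPGroup'.map K.subtype).exists_le_sylow
    obtain ⟨T₀⟩ : Nonempty (Sylow r G) := inferInstance
    obtain ⟨c, hc⟩ := MulAction.exists_smul_eq (G ⧸ D) (T₀.mapSurjective hfs) T
    obtain ⟨g, rfl⟩ := hfs c
    have hT' : (T : Subgroup (G ⧸ D)) = ((g • T₀ : Sylow r G) : Subgroup G).map f := by
      rw [← hc, Sylow.coe_subgroup_smul, Sylow.coe_mapSurjective, Sylow.coe_subgroup_smul,
        map_conj_smul]
    have hcomm : ∀ a ∈ ((g • T₀ : Sylow r G) : Subgroup G),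
        ∀ b ∈ ((g • T₀ : Sylow r G) : Subgroup G), f a * f b = f b * f a := by
      intro a ha b hb
      by_cases hrd : r ∣ Nat.card G
      · rcases hdiv r hr hrd with rfl | rfl
        · obtain ⟨x, hx⟩ := MulAction.exists_smul_eq G P (g • T₀)
          rw [← hx, Sylow.coe_subgroup_smul, mem_conj_smul] at ha hb
          letI := IsCyclic.commGroup (α := (P : Subgroup G))
          have := congrArg Subtype.val
            (mul_comm (⟨_, ha⟩ : (P : Subgroup G)) ⟨_, hb⟩)
          simp only [Subgroup.coe_mul] at this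
          have e : a * b = b * a := by
            calc a * b = x * ((x⁻¹ * a * x) * (x⁻¹ * b * x)) * x⁻¹ := by group
              _ = x * ((x⁻¹ * b * x) * (x⁻¹ * a * x)) * x⁻¹ := by rw [this]
              _ = b * a := by group
          rw [← map_mul, ← map_mul, e]
        · rw [Subsingleton.elim (g • T₀) Q₀] at ha hb
          rw [← commutatorElement_eq_one_iff_mul_comm, ← map_commutatorElement]
          refine (QuotientGroup.eq_one_iff _).mpr ?_
          rw [hD]
          exact ⟨⁅(⟨a, ha⟩ : (Q₀ : Subgroup G)), ⟨b, hb⟩⁆,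
            Subgroup.commutator_mem_commutator (Subgroup.mem_top _) (Subgroup.mem_top _), rfl⟩
      · have : ∀ z ∈ ((g • T₀ : Sylow r G) : Subgroup G), z = 1 := by
          intro z hz
          rw [← orderOf_eq_one_iff]
          obtain ⟨k, hk⟩ := IsPGroup.iff_card.mp (g • T₀).isPGroup'
          have hd := Subgroup.orderOf_dvd_natCard _ hz
          rcases Nat.eq_zero_or_pos k with rfl | hk0
          · rw [hk, pow_zero] at hd; exact Nat.dvd_one.mp hd
          · exact absurd ((hk ▸ dvd_pow_self r hk0.ne').trans (Subgroup.card_subgroup_dvd_card _)) hrd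
        simp [this a ha, this b hb]
    rw [isMulCommutative_subgroup_iff]
    intro a ha b hb
    obtain ⟨a', ha', ea⟩ := hT' ▸ hT (Subgroup.mem_map_of_mem _ ha)
    obtain ⟨b', hb', eb⟩ := hT' ▸ hT (Subgroup.mem_map_of_mem _ hb)
    apply Subtype.ext
    rw [Subgroup.coe_mul, Subgroup.coe_mul]
    rw [← show f a' = (a : G ⧸ D) from ea, ← show f b' = (b : G ⧸ D) from eb]
    exact hcomm a' ha' b' hb'

theorem nilpotent_hall_aux [Finite G] {H : Subgroup G} (hH : Group.IsNilpotent H)
    (hHall : (Nat.card H).Coprime H.index) : ∀ (n : ℕ) (K : Subgroup G), Nat.card K = n →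
      (∀ p : ℕ, p.Prime → p ∣ Nat.card K → p ∣ Nat.card H) → ∃ x : G, K ≤ MulAut.conj x • H := by
  intro n
  induction n using Nat.strong_induction_on with | _ n ih => ?_
  intro K hn hK
  subst hn
  by_cases hbot : K = ⊥
  · exact ⟨1, hbot ▸ bot_le⟩
  haveI : Nontrivial K := (Subgroup.nontrivial_iff_ne_bot K).mpr hbot
  haveI : Group.IsSolvable K := by
    refine isSolvable_of_maximal_nilpotent fun M hM => ?_
    have hcard : Nat.card (M.map K.subtype) = Nat.card M := Subgroup.card_subtype K M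
    obtain ⟨x, hx⟩ := ih _ (hcard ▸ card_subgroup_lt M hM.1) (M.map K.subtype) rfl
      fun p hp hpd => hK p hp (hpd.trans (Subgroup.card_dvd_of_le (Subgroup.map_subtype_le M)))
    haveI := isNilpotent_of_le hx
      ((Group.isNilpotent_congr (Subgroup.equivSMul (MulAut.conj x) H)).mp hH)
    exact (Group.isNilpotent_congr
      (M.equivMapOfInjective K.subtype K.subtype_injective)).mpr inferInstance
  obtain ⟨r, M, hr, hMn, hMi⟩ := exists_normal_prime_index (G := K)
  haveI := hMn
  haveI := Fact.mk hr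
  have hMne : M ≠ ⊤ := fun e => hr.ne_one (hMi ▸ Subgroup.index_eq_one.mpr e)
  set M₀ := M.map K.subtype with hM₀
  have hM₀K : M₀ ≤ K := Subgroup.map_subtype_le M
  have hM₀c : Nat.card M₀ = Nat.card M := Subgroup.card_subtype K M
  obtain ⟨x, hx⟩ := ih _ (hM₀c ▸ card_subgroup_lt M hMne) M₀ rfl
    fun p hp hpd => hK p hp (hpd.trans (Subgroup.card_dvd_of_le hM₀K))
  set H₁ := MulAut.conj x • H with hH₁
  have hH₁n : Group.IsNilpotent H₁ :=
    (Group.isNilpotent_congr (Subgroup.equivSMul (MulAut.conj x) H)).mp hH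
  obtain ⟨S, hSM, hSr, ⟨k, hk⟩, hSn, hSu⟩ :=
    Carter.exists_hall_compl (p := r) hr (isNilpotent_of_le hx hH₁n)
  have hKS : K ≤ Subgroup.normalizer (S : Set G) := by
    intro g hg
    have hgM : MulAut.conj g • M₀ = M₀ := by
      have h := congrArg (Subgroup.map K.subtype)
        (Subgroup.Normal.conj_smul_eq_self (⟨g, hg⟩ : K) M)
      rwa [map_subtype_conj_smul] at h
    have hle : MulAut.conj g • S ≤ S :=
      hSu _ (hgM ▸ conj_smul_mono hSM) (by rwa [card_conj_smul])
    have heq : MulAut.conj g • S = S :=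
      Subgroup.eq_of_le_of_card_ge hle (card_conj_smul g S).ge
    rw [Subgroup.mem_normalizer_iff]
    intro y
    conv_rhs => rw [← heq, mem_conj_smul]
    group
  obtain ⟨Hr⟩ : Nonempty (Sylow r H₁) := inferInstance
  set Hr₀ := (Hr : Subgroup H₁).map H₁.subtype with hHr₀
  have hHrH : Hr₀ ≤ H₁ := Subgroup.map_subtype_le _
  have hrH : r ∣ Nat.card H₁ := by
    rw [hH₁, card_conj_smul]
    exact hK r hr (hMi ▸ Subgroup.index_dvd_card M)
  have hHrN : Hr₀ ≤ Subgroup.normalizer (S : Set G) :=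
    (le_centralizer_of_nilpotent hH₁n hHrH (hSM.trans hx) (Hr.isPGroup'.map _) hSr).trans
      (Subgroup.centralizer_le_normalizer _)
  set J := Subgroup.normalizer (S : Set G)
  have hidx : ¬ r ∣ Hr₀.index := by
    rw [← Subgroup.relIndex_mul_index hHrH]
    intro hd
    rcases hr.dvd_mul.mp hd with hd | hd
    · rw [hHr₀, Subgroup.relIndex, Subgroup.subgroupOf,
        Subgroup.comap_map_eq_self_of_injective H₁.subtype_injective] at hd
      exact Hr.not_dvd_index hd
    · rw [hH₁, index_conj_smul] at hd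
      rw [hH₁, card_conj_smul] at hrH
      exact hr.ne_one (Nat.eq_one_of_dvd_coprimes hHall hrH hd)
  let T : Sylow r J := ((Hr.isPGroup'.map _).comap_subtype (K := J)).toSylow
    fun hd => hidx (hd.trans (Subgroup.relIndex_dvd_index_of_le hHrN))
  obtain ⟨R⟩ : Nonempty (Sylow r K) := inferInstance
  set R₀ := (R : Subgroup K).map K.subtype with hR₀
  have hR₀K : R₀ ≤ K := Subgroup.map_subtype_le _
  obtain ⟨T', hT'⟩ := ((R.isPGroup'.map K.subtype).comap_subtype (K := J)).exists_le_sylow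
  obtain ⟨j, hj⟩ := MulAction.exists_smul_eq J T' T
  have hKeq : S ⊔ R₀ = K := by
    have hSK : S ≤ K := hSM.trans hM₀K
    refine Subgroup.eq_of_le_of_card_ge (sup_le hSK hR₀K) (Nat.le_of_dvd Nat.card_pos ?_)
    obtain ⟨l, hl⟩ := IsPGroup.iff_card.mp R.isPGroup'
    have h3 : Nat.card R₀ = Nat.card (R : Subgroup K) := Subgroup.card_subtype K _
    have hcop : (Nat.card S).Coprime (Nat.card R₀) := by
      rw [h3, hl]; exact hSr.pow_right l
    refine dvd_trans ?_ (hcop.mul_dvd_of_dvd_of_dvd (Subgroup.card_dvd_of_le le_sup_left)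
      (Subgroup.card_dvd_of_le le_sup_right))
    have h4 : Nat.card K = Nat.card S * r ^ (k + 1) := by
      have h5 := Subgroup.relIndex_mul_relIndex (⊥ : Subgroup G) S M₀ bot_le hSM
      rw [Subgroup.relIndex_bot_left, Subgroup.relIndex_bot_left, hk] at h5
      rw [← M.card_mul_index, hMi, ← hM₀c, ← h5, pow_succ, mul_assoc]
    rw [h4, h3]
    refine Nat.mul_dvd_mul_left _ (Nat.Coprime.dvd_of_dvd_mul_right
      (Nat.Coprime.pow_left _ (hr.coprime_iff_not_dvd.mpr R.not_dvd_index)) ?_)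
    rw [Subgroup.card_mul_index, h4]
    exact Dvd.intro_left _ rfl
  refine ⟨(j : G)⁻¹ * x, ?_⟩
  rw [← conj_smul_conj_smul, ← hH₁, map_inv, Subgroup.subset_pointwise_smul_iff, inv_inv, ← hKeq,
    Subgroup.smul_sup]
  refine sup_le ?_ ?_
  · exact (Subgroup.conjAct_pointwise_smul_eq_self j.2).le.trans (hSM.trans hx)
  · intro y hy
    rw [mem_conj_smul] at hy
    have hy2 : (j : G)⁻¹ * y * j ∈ J := hKS (hR₀K hy)
    have hyJ : y ∈ J := by
      simpa [mul_assoc] using J.mul_mem (J.mul_mem j.2 hy2) (J.inv_mem j.2)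
    have hy' : (⟨y, hyJ⟩ : J) ∈ (T : Subgroup J) := by
      rw [← hj, Sylow.coe_subgroup_smul, mem_conj_smul]
      exact hT' hy
    exact hHrH hy'

/-- **Wielandt**: a nilpotent Hall `π`-subgroup contains a conjugate of every `π`-subgroup. -/
theorem nilpotent_hall [Finite G] {H : Subgroup G} (hH : Group.IsNilpotent H)
    (hHall : (Nat.card H).Coprime H.index) (K : Subgroup G)
    (hK : ∀ p : ℕ, p.Prime → p ∣ Nat.card K → p ∣ Nat.card H) : ∃ x : G, K ≤ MulAut.conj x • H :=
  nilpotent_hall_aux hH hHall _ K rfl hK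

end CfsgLib.Solvable.Schmidt
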