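import Cfsg.Agent.Lib.Solvable.ThompsonComplement
import Cfsg.Agent.Lib.Solvable.Schmidt
import Cfsg.Agent.Lib.FrobRealize.FixedPointFree
import Mathlib.GroupTheory.FixedPointFree
import Mathlib.Dynamics.PeriodicPts.Lemmas

/-!
Thompson's theorem: a finite group with a fixed-point-free automorphism of prime order is
nilpotent.
-/

open scoped Pointwise commutatorElement
set_option linter.style.haveILetI false

namespace CfsgLib.Solvable.FPFNilpotent

open CfsgLib.Solvable.Basic

universe u

variable {G : Type u} [Group G]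

/-- `H` is mapped into itself by `φ`. -/
def Invariant (φ : G →* G) (H : Subgroup G) : Prop :=
  ∀ x ∈ H, φ x ∈ H

variable {φ : G →* G}

theorem injective_of_fpf [Finite G] {p : ℕ} (hp0 : 0 < p) (hpow : ∀ x, φ^[p] x = x) :
    Function.Injective φ := by
  intro a b h
  obtain ⟨k, rfl⟩ : ∃ k, p = k + 1 := ⟨p - 1, by omega⟩
  rw [← hpow a, ← hpow b, Function.iterate_succ_apply, Function.iterate_succ_apply, h]

theorem exists_inv_mul_eq [Finite G] (hfpf : ∀ x, φ x = x → x = 1) (z : G) :
    ∃ y, y⁻¹ * φ y = z := by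
  have hinj : Function.Injective fun y : G => y⁻¹ * φ y := by
    intro a b h
    have h' : a⁻¹ * φ a = b⁻¹ * φ b := h
    have : φ (b * a⁻¹) = b * a⁻¹ := by
      calc φ (b * a⁻¹) = b * (b⁻¹ * φ b) * (φ a)⁻¹ := by rw [map_mul, map_inv]; group
        _ = b * (a⁻¹ * φ a) * (φ a)⁻¹ := by rw [h']
        _ = b * a⁻¹ := by group
    exact (mul_inv_eq_one.mp (hfpf _ this)).symm
  exact Finite.injective_iff_surjective.mp hinj z

theorem Invariant.map_eq [Finite G] (hinj : Function.Injective φ) {H : Subgroup G}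
    (h : Invariant φ H) : H.map φ = H :=
  Subgroup.eq_of_le_of_card_ge (Subgroup.map_le_iff_le_comap.mpr h)
    (Subgroup.card_map_of_injective hinj).ge

/-- The restriction of `φ` to an invariant subgroup. -/
def restrict {H : Subgroup G} (h : Invariant φ H) : H →* H :=
  (φ.comp H.subtype).codRestrict H fun x => h x x.2

theorem restrict_iterate {H : Subgroup G} (h : Invariant φ H) (i : ℕ) (x : H) :
    (((restrict h)^[i] x : H) : G) = φ^[i] (x : G) := by
  induction i with
  | zero => rfl
  | succ i ih =>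
    rw [Function.iterate_succ_apply', Function.iterate_succ_apply', ← ih]
    rfl

theorem invariant_centralizer [Finite G] (hinj : Function.Injective φ) {H : Subgroup G}
    (h : Invariant φ H) : Invariant φ (Subgroup.centralizer (H : Set G)) := by
  intro x hx
  rw [Subgroup.mem_centralizer_iff]
  intro y hy
  rw [← h.map_eq hinj] at hy
  obtain ⟨z, hz, rfl⟩ := hy
  rw [← map_mul, ← map_mul, Subgroup.mem_centralizer_iff.mp hx z hz]

theorem invariant_normalizer [Finite G] (hinj : Function.Injective φ) {H : Subgroup G}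
    (h : Invariant φ H) : Invariant φ (Subgroup.normalizer (H : Set G)) := by
  intro x hx
  have := Subgroup.le_normalizer_map (H := H) φ (Subgroup.mem_map_of_mem φ hx)
  rwa [h.map_eq hinj] at this

theorem invariant_characteristic [Finite G] (hinj : Function.Injective φ) (H : Subgroup G)
    [H.Characteristic] : Invariant φ H := by
  intro x hx
  let e : G ≃* G := MulEquiv.ofBijective φ
    ⟨hinj, Finite.injective_iff_surjective.mp hinj⟩
  exact (Subgroup.characteristic_iff_map_eq.mp ‹H.Characteristic› e).le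
    (Subgroup.mem_map_of_mem e.toMonoidHom hx)

/-- An invariant Sylow subgroup exists. -/
theorem exists_invariant_sylow [Finite G] (hinj : Function.Injective φ)
    (hfpf : ∀ x, φ x = x → x = 1) (r : ℕ) [Fact r.Prime] :
    ∃ P : Sylow r G, Invariant φ (P : Subgroup G) := by
  obtain ⟨P⟩ : Nonempty (Sylow r G) := inferInstance
  have hsurj := Finite.injective_iff_surjective.mp hinj
  obtain ⟨g, hg⟩ := MulAction.exists_smul_eq G P (P.mapSurjective (f := φ) hsurj)
  have hgP : MulAut.conj g • (P : Subgroup G) = (P : Subgroup G).map φ := by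
    rw [← Sylow.coe_subgroup_smul, hg, Sylow.coe_mapSurjective]
  obtain ⟨c, hc⟩ := exists_inv_mul_eq hfpf g⁻¹
  refine ⟨c • P, fun x hx => ?_⟩
  rw [Sylow.coe_subgroup_smul, mem_conj_smul] at hx ⊢
  have h1 : φ (c⁻¹ * x * c) ∈ MulAut.conj g • (P : Subgroup G) :=
    hgP ▸ Subgroup.mem_map_of_mem φ hx
  rw [mem_conj_smul] at h1
  have e : φ c = c * g⁻¹ := by rw [← hc, mul_inv_cancel_left]
  rw [map_mul, map_mul, map_inv, e] at h1
  simpa [mul_assoc] using h1

/-- Invariant groups with coprime orders: fixed-point-free action forces centralisation. -/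
theorem le_centralizer_of_coprime [Finite G] {p : ℕ} (hp : p.Prime)
    (hpow : ∀ x, φ^[p] x = x) (hfpf : ∀ x, φ x = x → x = 1) {M R : Subgroup G}
    (hMc : IsMulCommutative M) (hMi : Invariant φ M) (hRi : Invariant φ R)
    (hRM : R ≤ Subgroup.normalizer (M : Set G)) (hcop : (Nat.card M).Coprime (Nat.card R)) :
    R ≤ Subgroup.centralizer (M : Set G) := by
  classical
  letI : CommGroup M := { (inferInstance : Group M) with mul_comm := mul_comm' }
  haveI : Fintype R := Fintype.ofFinite R
  have hiM : ∀ i, ∀ x ∈ M, φ^[i] x ∈ M := fun i x hx => by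
    induction i with
    | zero => exact hx
    | succ i ih => rw [Function.iterate_succ_apply']; exact hMi _ ih
  have hiR : ∀ i, ∀ x ∈ R, φ^[i] x ∈ R := fun i x hx => by
    induction i with
    | zero => exact hx
    | succ i ih => rw [Function.iterate_succ_apply']; exact hRi _ ih
  have hifpf : ∀ i, i % p ≠ 0 → ∀ x, φ^[i] x = x → x = 1 := by
    intro i hi x hx
    refine hfpf x ?_
    have h := Function.IsPeriodicPt.gcd (show Function.IsPeriodicPt φ i x from hx)
      (show Function.IsPeriodicPt φ p x from hpow x)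
    have hg : i.gcd p = 1 := by
      rcases (Nat.dvd_prime hp).mp (Nat.gcd_dvd_right i p) with h' | h'
      · exact h'
      · exact absurd (Nat.mod_eq_zero_of_dvd (h' ▸ Nat.gcd_dvd_left i p)) hi
    rw [hg] at h
    exact h
  let act : R → M →* M := fun x => (Subgroup.normalizerMonoidHom M (Subgroup.inclusion hRM x)).toMonoidHom
  have hact : ∀ (x : R) (v : M), ((act x v : M) : G) = x * v * (x : G)⁻¹ := fun x v => rfl
  let ψ : M →* M := restrict hMi
  have hψ : ∀ (i : ℕ) (v : M), ((ψ^[i] v : M) : G) = φ^[i] (v : G) := restrict_iterate hMi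
  -- the orbit products are trivial
  have horb : ∀ v : M, ∏ i ∈ Finset.range p, ψ^[i] v = 1 := by
    intro v
    set S := ∏ i ∈ Finset.range p, ψ^[i] v with hS
    have hfix : ψ S = S := by
      have h1 : ψ S = ∏ i ∈ Finset.range p, ψ^[i + 1] v := by
        rw [hS, map_prod]
        exact Finset.prod_congr rfl fun i _ => (Function.iterate_succ_apply' ψ i v).symm
      have h2 := Finset.prod_range_succ' (fun i => ψ^[i] v) p
      have h3 : ψ^[p] v = v := Subtype.ext (by rw [hψ, hpow])
      rw [Finset.prod_range_succ, h3] at h2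
      simp only [Function.iterate_zero, id_eq] at h2
      rw [h1, hS]
      exact (mul_right_cancel h2).symm
    exact Subtype.ext (hfpf (S : G) (congrArg Subtype.val hfix))
  intro x hx
  rw [Subgroup.mem_centralizer_iff]
  intro v hv
  set w : M := ⟨v, hv⟩
  -- the twisting bijections
  let tw : ℕ → R → R := fun i y =>
    ⟨(y : G)⁻¹ * φ^[i] (y : G), R.mul_mem (R.inv_mem y.2) (hiR i y y.2)⟩
  have htw : ∀ i, i % p ≠ 0 → Function.Bijective (tw i) := by
    intro i hi
    refine (Finite.injective_iff_bijective).mp fun a b hab => ?_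
    have h' : (a : G)⁻¹ * φ^[i] (a : G) = (b : G)⁻¹ * φ^[i] (b : G) := congrArg Subtype.val hab
    have : φ^[i] ((b : G) * (a : G)⁻¹) = (b : G) * (a : G)⁻¹ := by
      rw [iterate_map_mul, iterate_map_inv]
      calc φ^[i] (b : G) * (φ^[i] (a : G))⁻¹
          = b * ((b : G)⁻¹ * φ^[i] (b : G)) * (φ^[i] (a : G))⁻¹ := by group
        _ = b * ((a : G)⁻¹ * φ^[i] (a : G)) * (φ^[i] (a : G))⁻¹ := by rw [h']
        _ = (b : G) * (a : G)⁻¹ := by group
    exact Subtype.ext (mul_inv_eq_one.mp (hifpf i hi _ this)).symm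
  have hterm : ∀ (i : ℕ) (y : R), act y⁻¹ (ψ^[i] (act y w)) = act (tw i y) (ψ^[i] w) := by
    intro i y
    apply Subtype.ext
    rw [hact, hψ, hact, hact, hψ, iterate_map_mul, iterate_map_mul, iterate_map_inv]
    show ((y : G)⁻¹) * _ * ((y : G)⁻¹)⁻¹ =
      ((y : G)⁻¹ * φ^[i] (y : G)) * φ^[i] (w : G) * ((y : G)⁻¹ * φ^[i] (y : G))⁻¹
    group
  have hzero : ∀ y : R, ∏ i ∈ Finset.range p, act (tw i y) (ψ^[i] w) = 1 := by
    intro y
    rw [← Finset.prod_congr rfl fun i _ => hterm i y, ← map_prod, horb, map_one]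
  have hall : ∏ i ∈ Finset.range p, ∏ y : R, act (tw i y) (ψ^[i] w) = 1 := by
    rw [Finset.prod_comm]
    exact Finset.prod_eq_one fun y _ => hzero y
  obtain ⟨k, rfl⟩ : ∃ k, p = k + 1 := ⟨p - 1, by have := hp.pos; omega⟩
  rw [Finset.prod_range_succ'] at hall
  have h0 : ∏ y : R, act (tw 0 y) (ψ^[0] w) = w ^ Fintype.card R := by
    have : ∀ y : R, act (tw 0 y) (ψ^[0] w) = w := fun y => by
      apply Subtype.ext
      rw [hact]
      show ((y : G)⁻¹ * (y : G)) * (w : G) * ((y : G)⁻¹ * (y : G))⁻¹ = w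
      group
    rw [Finset.prod_congr rfl fun y _ => this y, Finset.prod_const, Finset.card_univ]
  have hi : ∀ i ∈ Finset.range k, ∏ y : R, act (tw (i + 1) y) (ψ^[i + 1] w) =
      ∏ y : R, act y (ψ^[i + 1] w) := by
    intro i hi
    rw [Finset.mem_range] at hi
    have hne : (i + 1) % (k + 1) ≠ 0 := by rw [Nat.mod_eq_of_lt (by omega)]; omega
    exact (htw (i + 1) hne).prod_comp fun y => act y (ψ^[i + 1] w)
  rw [Finset.prod_congr rfl hi, h0, Finset.prod_comm] at hall
  have hsum : ∏ y : R, act y w = w ^ Fintype.card R := by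
    have h1 : ∀ y : R, (∏ i ∈ Finset.range k, act y (ψ^[i + 1] w)) * act y w = 1 := by
      intro y
      rw [← map_prod, ← map_mul]
      have h := horb w
      rw [Finset.prod_range_succ'] at h
      simp only [Function.iterate_zero, id_eq] at h
      rw [h, map_one]
    have h2 : (∏ y : R, ∏ i ∈ Finset.range k, act y (ψ^[i + 1] w)) * ∏ y : R, act y w = 1 := by
      rw [← Finset.prod_mul_distrib]
      exact Finset.prod_eq_one fun y _ => h1 y
    exact mul_left_cancel (h2.trans hall.symm)
  have hinv : act ⟨x, hx⟩ (w ^ Fintype.card R) = w ^ Fintype.card R := by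
    rw [← hsum, map_prod]
    refine Fintype.prod_equiv (Equiv.mulLeft (⟨x, hx⟩ : R)) _ _ fun y => ?_
    apply Subtype.ext
    rw [hact, hact, hact]
    show x * ((y : G) * (w : G) * (y : G)⁻¹) * x⁻¹ = (x * (y : G)) * (w : G) * (x * (y : G))⁻¹
    group
  rw [map_pow] at hinv
  have hc : (Nat.card M).Coprime (Fintype.card R) := by
    rwa [← Nat.card_eq_fintype_card]
  have hfix := (powCoprime hc).injective (by simpa using hinv : powCoprime hc (act ⟨x, hx⟩ w) = powCoprime hc w)
  have := congrArg Subtype.val hfix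
  rw [hact] at this
  exact (mul_inv_eq_iff_eq_mul.mp this).symm

theorem npc_of_nilpotent [Finite G] [Group.IsNilpotent G] (r : ℕ) [Fact r.Prime] :
    Cfsg.HasNormalPComplement r G :=
  Fusion.Alperin.npc_of_frobenius (default : Sylow r G) fun Q hQ g _ ho => by
    rw [Subgroup.mem_centralizer_iff]
    intro y hy
    have h := Schmidt.le_centralizer_of_nilpotent (Group.isNilpotent_top.mpr inferInstance)
      (le_top : Subgroup.zpowers y ≤ ⊤) (le_top : Subgroup.zpowers g ≤ ⊤)
      ((default : Sylow r G).isPGroup'.to_le (Subgroup.zpowers_le.mpr (hQ hy)))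
      (by rwa [Nat.card_zpowers]) (Subgroup.mem_zpowers y)
    exact (Subgroup.mem_centralizer_iff.mp h g (Subgroup.mem_zpowers g)).symm

theorem nilpotent_aux {p : ℕ} (hp : p.Prime) : ∀ (n : ℕ) (G : Type u) [Group G] [Finite G],
    Nat.card G = n → ∀ φ : G →* G, (∀ x, φ^[p] x = x) → (∀ x, φ x = x → x = 1) →
      Group.IsNilpotent G := by
  intro n
  induction n using Nat.strong_induction_on with | _ n ih => ?_
  intro G _ _ hn φ hpow hfpf
  subst hn
  have hinj := injective_of_fpf hp.pos hpow
  have hsub : ∀ H : Subgroup G, H ≠ ⊤ → Invariant φ H → Group.IsNilpotent H := fun H hH hi =>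
    ih _ (card_subgroup_lt H hH) H rfl (restrict hi)
      (fun x => Subtype.ext (by rw [restrict_iterate]; exact hpow x))
      fun x hx => Subtype.ext (hfpf x (congrArg Subtype.val hx))
  by_cases hN : ∃ N : Subgroup G, N.Normal ∧ N ≠ ⊥ ∧ N ≠ ⊤ ∧ Invariant φ N
  · obtain ⟨N, hNn, hNbot, hNtop, hNi⟩ := hN
    haveI := hNn
    haveI := hsub N hNtop hNi
    haveI : Nontrivial N := (Subgroup.nontrivial_iff_ne_bot N).mpr hNbot
    -- an abelian invariant normal `q`-subgroup
    obtain ⟨q, hq, hqd⟩ := Nat.exists_prime_and_dvd (Subgroup.card_eq_one.not.mpr hNbot)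
    haveI := Fact.mk hq
    obtain ⟨T⟩ : Nonempty (Sylow q N) := inferInstance
    haveI hTc : (T : Subgroup N).Characteristic := T.characteristic_of_normal inferInstance
    set T₀ := (T : Subgroup N).map N.subtype with hT₀
    haveI : T₀.Normal := inferInstance
    have hT₀i : Invariant φ T₀ := by
      rintro _ ⟨t, ht, rfl⟩
      exact ⟨restrict hNi t, invariant_characteristic
        (fun a b h => Subtype.ext (hinj (congrArg Subtype.val h))) (T : Subgroup N) t ht, rfl⟩
    set M := T₀ ⊓ Subgroup.centralizer (T₀ : Set G) with hM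
    have hMi : Invariant φ M := fun x hx =>
      ⟨hT₀i x hx.1, invariant_centralizer hinj hT₀i x hx.2⟩
    have hT₀q : IsPGroup q T₀ := T.isPGroup'.map _
    have hT₀bot : T₀ ≠ ⊥ := by
      rw [hT₀, Ne, Subgroup.map_eq_bot_iff_of_injective _ N.subtype_injective]
      intro e
      have := T.not_dvd_index
      rw [e, Subgroup.index_bot] at this
      exact this hqd
    have hMbot : M ≠ ⊥ := ThompsonComplement.centerOf_ne_bot hT₀q hT₀bot
    haveI : M.Normal := inferInstance
    have hMc : IsMulCommutative M := isMulCommutative_subgroup_iff.mpr fun a ha b hb =>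
      Subgroup.mem_centralizer_iff.mp hb.2 a ha.1
    set f := QuotientGroup.mk' M
    let φq : G ⧸ M →* G ⧸ M := QuotientGroup.map M M φ fun x hx => hMi x hx
    have hφq : ∀ (i : ℕ) (x : G), φq^[i] (f x) = f (φ^[i] x) := fun i x => by
      induction i with
      | zero => rfl
      | succ i ih =>
        rw [Function.iterate_succ_apply', ih, Function.iterate_succ_apply']
        rfl
    haveI : Group.IsNilpotent (G ⧸ M) := by
      refine ih _ (card_quotient_lt M hMbot) (G ⧸ M) rfl φq ?_ ?_
      · intro x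
        obtain ⟨x, rfl⟩ := QuotientGroup.mk'_surjective M x
        rw [hφq, hpow]
      · intro x hx
        obtain ⟨x, rfl⟩ := QuotientGroup.mk'_surjective M x
        have h1 : x⁻¹ * φ x ∈ M := QuotientGroup.eq.mp hx.symm
        obtain ⟨m, hm⟩ := exists_inv_mul_eq
          (φ := restrict hMi) (fun y hy => Subtype.ext (hfpf y (congrArg Subtype.val hy))) ⟨_, h1⟩
        have e : ((m : G))⁻¹ * φ m = x⁻¹ * φ x := congrArg Subtype.val hm
        have : φ (x * (m : G)⁻¹) = x * (m : G)⁻¹ := by
          calc φ (x * (m : G)⁻¹) = x * (x⁻¹ * φ x) * (φ m)⁻¹ := by rw [map_mul, map_inv]; group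
            _ = x * ((m : G)⁻¹ * φ m) * (φ m)⁻¹ := by rw [e]
            _ = x * (m : G)⁻¹ := by group
        exact (QuotientGroup.eq_one_iff x).mpr (mul_inv_eq_one.mp (hfpf _ this) ▸ m.2)
    refine (Group.isNilpotent_of_finite_tfae.out 0 3).mpr fun r hr R => ?_
    haveI := hr
    obtain ⟨S, hSi⟩ := exists_invariant_sylow hinj hfpf r
    suffices hSn : (S : Subgroup G).Normal by
      haveI := Sylow.unique_of_normal S hSn
      rwa [Subsingleton.elim R S]
    haveI hSq : ((S : Subgroup G).map f).Normal := by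
      have := Sylow.coe_mapSurjective (QuotientGroup.mk'_surjective M) S
      rw [← this]
      infer_instance
    have hMp : IsPGroup q M := hT₀q.to_le inf_le_left
    have hsup : ((S : Subgroup G) ⊔ M).Normal := by
      have e : (S : Subgroup G) ⊔ M = ((S : Subgroup G).map f).comap f := by
        rw [Subgroup.comap_map_eq, QuotientGroup.ker_mk']
      rw [e]; exact hSq.comap f
    by_cases hrq : r = q
    · subst hrq
      have e : M ≤ (S : Subgroup G) := hMp.le_sylow_of_normal S
      rwa [sup_eq_left.mpr e] at hsup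
    obtain ⟨i, hi⟩ := IsPGroup.iff_card.mp hMp
    obtain ⟨j, hj⟩ := IsPGroup.iff_card.mp S.isPGroup'
    have hcop : (Nat.card M).Coprime (Nat.card (S : Subgroup G)) :=
      hi ▸ hj ▸ ((Nat.coprime_primes hq hr.out).mpr (Ne.symm hrq)).pow i j
    have hcent := le_centralizer_of_coprime hp hpow hfpf hMc hMi hSi
      (by rw [Subgroup.normalizer_eq_top]; exact le_top) hcop
    refine ⟨fun x hx g => ?_⟩
    have hle : (S : Subgroup G) ⊔ M ≤ Subgroup.normalizer ((S : Subgroup G) : Set G) :=
      sup_le Subgroup.le_normalizer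
        ((Subgroup.le_centralizer_iff.mp hcent).trans (Subgroup.centralizer_le_normalizer _))
    have h1 : g * x * g⁻¹ ∈ (S : Subgroup G) ⊔ M := hsup.conj_mem x (Subgroup.mem_sup_left hx) g
    refine Carter.le_of_coprime_relIndex (R := (S : Subgroup G)) (C := (S : Subgroup G) ⊔ M)
      (L := Subgroup.zpowers (g * x * g⁻¹)) hle (Subgroup.zpowers_le.mpr h1) ?_
      (Subgroup.mem_zpowers _)
    rw [Nat.card_zpowers, ← MulAut.conj_apply, MulEquiv.orderOf_eq]
    refine Nat.Coprime.coprime_dvd_left (Subgroup.orderOf_dvd_natCard _ hx)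
      (hcop.symm.coprime_dvd_right ?_)
    have e1 := Subgroup.relIndex_mul_relIndex (⊥ : Subgroup G) (S : Subgroup G)
      ((S : Subgroup G) ⊔ M) bot_le le_sup_left
    rw [Subgroup.relIndex_bot_left, Subgroup.relIndex_bot_left] at e1
    have e2 := card_sup_mul M (S : Subgroup G)
    rw [← e1, mul_assoc] at e2
    exact ⟨_, (Nat.eq_of_mul_eq_mul_left Nat.card_pos e2).symm⟩
  push Not at hN
  by_cases h2 : ∃ r : ℕ, r.Prime ∧ r ≠ 2 ∧ r ∣ Nat.card G
  swap
  · push Not at h2
    haveI := Fact.mk Nat.prime_two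
    have hpg : IsPGroup 2 G := IsPGroup.of_card (n := (Nat.card G).factorization 2) <| by
      refine Nat.eq_of_factorization_eq Nat.card_pos.ne' (pow_ne_zero _ two_ne_zero) fun r => ?_
      rw [Nat.Prime.factorization_pow Nat.prime_two]
      by_cases hr2 : r = 2
      · subst hr2; simp
      · rw [Finsupp.single_eq_of_ne hr2]
        by_cases hr : r.Prime
        · exact Nat.factorization_eq_zero_of_not_dvd fun hd => h2 r hr hr2 hd
        · exact Nat.factorization_eq_zero_of_not_prime _ hr
    exact hpg.isNilpotent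
  obtain ⟨r, hr, hr2, hrd⟩ := h2
  haveI := Fact.mk hr
  obtain ⟨P, hPi⟩ := exists_invariant_sylow hinj hfpf r
  by_cases hPtop : (P : Subgroup G) = ⊤
  · exact ((hPtop ▸ P.isPGroup' : IsPGroup r (⊤ : Subgroup G)).of_equiv
      Subgroup.topEquiv).isNilpotent
  have hPbot : (P : Subgroup G) ≠ ⊥ := fun e => by
    have := P.not_dvd_index
    rw [e, Subgroup.index_bot] at this
    exact this hrd
  have hnpc : ∀ V : Subgroup G, Invariant φ V → V ≠ ⊥ → V ≤ (P : Subgroup G) →
      Cfsg.HasNormalPComplement r (Subgroup.normalizer (V : Set G)) := by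
    intro V hVi hV hVP
    have hne : Subgroup.normalizer (V : Set G) ≠ ⊤ := fun e =>
      hN V (Subgroup.normalizer_eq_top_iff.mp e) hV
        (fun e => hPtop (top_le_iff.mp (e ▸ hVP))) hVi
    haveI := hsub _ hne (invariant_normalizer hinj hVi)
    exact npc_of_nilpotent r
  have hJi : Invariant φ (Cfsg.thompsonSubgroupOf r (P : Subgroup G)) := by
    intro x hx
    have := ThompsonComplement.thompsonSubgroupOf_map (p := r) φ hinj (P : Subgroup G)
    rw [hPi.map_eq hinj] at this
    rw [this]
    exact Subgroup.mem_map_of_mem φ hx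
  have hZi : Invariant φ ((P : Subgroup G) ⊓ Subgroup.centralizer (P : Set G)) := fun x hx =>
    ⟨hPi x hx.1, invariant_centralizer hinj hPi x hx.2⟩
  have hG : Cfsg.HasNormalPComplement r G :=
    ThompsonComplement.npc_of_thompson hr2 P
      (hnpc _ hJi (ThompsonComplement.thompsonSubgroupOf_ne_bot P.isPGroup' hPbot)
        (Fusion.Thompson.thompsonSubgroupOf_le _))
      (by
        simpa using Fusion.Basic.npc_of_le (Subgroup.centralizer_le_normalizer _)
          (hnpc _ hZi (ThompsonComplement.centerOf_ne_bot P.isPGroup' hPbot) inf_le_left))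
  by_cases hO : Cfsg.pResidual r G = ⊥
  · have hpg : IsPGroup r G := by
      intro x
      obtain ⟨k, hk⟩ := Fusion.Basic.isPGroup_quotient_pResidual (G := G) (p := r) (QuotientGroup.mk x)
      refine ⟨k, ?_⟩
      rw [← QuotientGroup.mk_pow, QuotientGroup.eq_one_iff, hO, Subgroup.mem_bot] at hk
      exact hk
    exact hpg.isNilpotent
  · exfalso
    refine hN _ inferInstance hO ?_ (invariant_characteristic hinj _)
    intro e
    have h := Fusion.Basic.npc_iff_coprime.mp hG
    rw [e, Subgroup.card_top] at h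
    exact hr.ne_one (Nat.eq_one_of_dvd_coprimes h hrd dvd_rfl)

/-- **Thompson**: a fixed-point-free automorphism of prime order forces nilpotency. -/
theorem isNilpotent [Finite G] {p : ℕ} (hp : p.Prime) (φ : G →* G) (hpow : ∀ x, φ^[p] x = x)
    (hfpf : ∀ x, φ x = x → x = 1) : Group.IsNilpotent G :=
  nilpotent_aux hp _ G rfl φ hpow hfpf

end CfsgLib.Solvable.FPFNilpotent

namespace CfsgLib.Solvable.FPFNilpotent

theorem isNilpotent_of_mulAut {G : Type*} [Group G] [Finite G] {p : ℕ} (hp : p.Prime)
    (α : MulAut G) (hα : α ^ p = 1) (hfpf : ∀ g : G, α g = g → g = 1) : Group.IsNilpotent G := by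
  refine isNilpotent hp α.toMonoidHom (fun x => ?_) hfpf
  have key : ∀ (i : ℕ) (y : G), (α.toMonoidHom)^[i] y = (α ^ i) y := by
    intro i
    induction i with
    | zero => intro y; rfl
    | succ i ih =>
      intro y
      rw [Function.iterate_succ_apply', ih, pow_succ']
      rfl
  rw [key, hα]
  rfl

/-- The Frobenius kernel is nilpotent. -/
theorem frobenius_kernel_nilpotent {G : Type*} [Group G] [Finite G] {H : Subgroup G}
    (hH : Cfsg.IsFrobeniusComplement H) :
    ∃ N : Subgroup G, (N : Set G) = Cfsg.frobeniusKernel H ∧ N.Normal ∧ Group.IsNilpotent N := by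
  obtain ⟨N, hNn, -, -, hfpf, -, hset⟩ := FrobRealize.FPF.exists_fpf_kernel hH
  haveI := hNn
  refine ⟨N, hset, hNn, ?_⟩
  obtain ⟨p, hp, hpd⟩ := Nat.exists_prime_and_dvd (Subgroup.card_eq_one.not.mpr hH.1)
  haveI := Fact.mk hp
  obtain ⟨z, hz⟩ := exists_prime_orderOf_dvd_card' p hpd
  have hz1 : (z : G) ≠ 1 := fun e => by
    have : z = 1 := Subtype.ext e
    rw [this, orderOf_one] at hz
    exact hp.one_lt.ne hz
  refine isNilpotent_of_mulAut hp (MulAut.conjNormal (H := N) (z : G)) ?_ fun n hn => ?_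
  · rw [← map_pow, ← Subgroup.coe_pow, ← hz, pow_orderOf_eq_one, Subgroup.coe_one, map_one]
  · have h : (n : G) ∈ N ⊓ Subgroup.centralizer {(z : G)} := by
      refine ⟨n.2, Subgroup.mem_centralizer_singleton_iff.mpr ?_⟩
      have e := congrArg Subtype.val hn
      rw [MulAut.conjNormal_apply] at e
      exact (mul_inv_eq_iff_eq_mul.mp e).symm
    rw [hfpf _ z.2 hz1, Subgroup.mem_bot] at h
    exact Subtype.ext h

end CfsgLib.Solvable.FPFNilpotent
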