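import Cfsg.Agent.Lib.Solvable.Basic
import Mathlib.Data.ZMod.Basic

/-!
Gaschütz's theorem for an abelian normal subgroup `K ≤ U` with `|K|` coprime to the index of `U`.
-/

open scoped Pointwise

namespace CfsgLib.Solvable.Gaschutz

open CfsgLib.Solvable.Basic
open scoped IsMulCommutative

variable {G : Type*} [Group G] (K U : Subgroup G) [K.Normal]

/-- Conjugation action on the normal subgroup `K`. -/
def conjK (g : G) : K →* K := (MulAut.conjNormal g).toMonoidHom

theorem conjK_coe (g : G) (k : K) : ((conjK K g k : K) : G) = g * k * g⁻¹ :=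
  MulAut.conjNormal_apply g k

theorem conjK_mul (g h : G) (k : K) : conjK K (g * h) k = conjK K g (conjK K h k) := by
  apply Subtype.ext; simp only [conjK_coe]; group

variable [Finite G] [IsMulCommutative K]

/-- Averaging a crossed homomorphism from `U` to the whole group. -/
theorem exists_extension (hKU : K ≤ U) (hcop : (Nat.card K).Coprime U.index) (f : U → K)
    (hf : ∀ u v : U, f (u * v) = f u * conjK K u (f v))
    (hfK : ∀ u : U, (u : G) ∈ K → ((f u : K) : G) = u) :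
    ∃ F : G → K, (∀ g h : G, F (g * h) = F g * conjK K g (F h)) ∧
      ∀ k : K, F (k : G) = k := by
  classical
  have := Fintype.ofFinite (G ⧸ U)
  have hs : ∀ (g : G) (x : G ⧸ U), (g • x).out⁻¹ * g * x.out ∈ U := by
    intro g x
    rw [mul_assoc, ← QuotientGroup.eq]
    rw [QuotientGroup.out_eq']
    conv_lhs => rw [← QuotientGroup.out_eq' x]
    rfl
  let term : G → G ⧸ U → K := fun g x => conjK K (g • x).out (f ⟨_, hs g x⟩)
  let P : G → K := fun g => ∏ x, term g x
  have hP : ∀ g h : G, P (g * h) = P g * conjK K g (P h) := by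
    intro g h
    have hterm : ∀ x, term (g * h) x = term g (h • x) * conjK K g (term h x) := by
      intro x
      have hu : (⟨_, hs (g * h) x⟩ : U) = ⟨_, hs g (h • x)⟩ * ⟨_, hs h x⟩ := by
        apply Subtype.ext
        simp only [Subgroup.coe_mul, mul_smul]
        group
      show conjK K _ (f ⟨_, hs (g * h) x⟩) = _
      rw [hu, hf, map_mul, ← conjK_mul, ← conjK_mul, mul_smul]
      congr 3
      simp only [mul_smul]
      group
    calc P (g * h) = ∏ x, term g (h • x) * conjK K g (term h x) :=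
          Finset.prod_congr rfl fun x _ => hterm x
      _ = (∏ x, term g (h • x)) * ∏ x, conjK K g (term h x) := Finset.prod_mul_distrib
      _ = P g * conjK K g (P h) := by
          rw [← map_prod]
          congr 1
          exact Fintype.prod_equiv (MulAction.toPerm h) _ _ fun _ => rfl
  have hPK : ∀ k : K, P (k : G) = k ^ U.index := by
    intro k
    have hterm : ∀ x : G ⧸ U, term (k : G) x = k := by
      intro x
      have hx : ((k : G) • x) = x := by
        conv_lhs => rw [← QuotientGroup.out_eq' x]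
        conv_rhs => rw [← QuotientGroup.out_eq' x]
        show ((((k : G) * x.out : G)) : G ⧸ U) = _
        rw [QuotientGroup.eq]
        have : ((k : G) * x.out)⁻¹ * x.out = x.out⁻¹ * (k : G)⁻¹ * x.out := by group
        rw [this]
        exact hKU (by simpa using Subgroup.Normal.conj_mem ‹K.Normal› _ (inv_mem k.2) x.out⁻¹)
      apply Subtype.ext
      have hmem : ((k : G) • x).out⁻¹ * (k : G) * x.out ∈ K := by
        rw [hx]; simpa using Subgroup.Normal.conj_mem ‹K.Normal› _ k.2 x.out⁻¹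
      show ((conjK K _ (f ⟨_, hs (k : G) x⟩) : K) : G) = k
      rw [conjK_coe, hfK ⟨_, hs (k : G) x⟩ hmem]
      simp only [hx]
      group
    show ∏ x, term (k : G) x = _
    rw [Finset.prod_congr rfl fun x _ => hterm x, Finset.prod_const, Finset.card_univ,
      ← Nat.card_eq_fintype_card, Subgroup.index_eq_card]
  refine ⟨fun g => (powCoprime hcop).symm (P g), fun g h => ?_, fun k => ?_⟩
  · rw [Equiv.symm_apply_eq]
    show P (g * h) = ((powCoprime hcop).symm (P g) * conjK K g ((powCoprime hcop).symm (P h))) ^ U.index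
    rw [mul_pow, ← map_pow (conjK K g), hP]
    congr 1
    · exact ((powCoprime hcop).apply_symm_apply _).symm
    · congr 1; exact ((powCoprime hcop).apply_symm_apply _).symm
  · rw [Equiv.symm_apply_eq]
    exact hPK k

omit [Finite G] in
/-- Data of a complement of `K` inside `U`. -/
theorem exists_crossed_of_complement (A : Subgroup G) (hAK : A ⊓ K = ⊥)
    (hKA : K ⊔ A = U) : ∃ f : U → K, (∀ u v : U, f (u * v) = f u * conjK K u (f v)) ∧
      (∀ u : U, (u : G) ∈ K → ((f u : K) : G) = u) ∧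
      ∀ u : U, ((f u : K) : G)⁻¹ * u ∈ A := by
  have hdec : ∀ u : U, ∃ k : K, (k : G)⁻¹ * u ∈ A := by
    intro u
    have hu : (u : G) ∈ ((K ⊔ A : Subgroup G) : Set G) := hKA.symm ▸ u.2
    rw [Subgroup.normal_mul] at hu
    obtain ⟨k, hk, a, ha, e⟩ := hu
    refine ⟨⟨k, hk⟩, ?_⟩
    show k⁻¹ * (u : G) ∈ A
    rw [← e]; simpa using ha
  choose f hf using hdec
  have huniq : ∀ (u : G) (k k' : K), (k : G)⁻¹ * u ∈ A → (k' : G)⁻¹ * u ∈ A → k = k' := by
    intro u k k' h h'
    have h1 : ((k : G)⁻¹ * u) * ((k' : G)⁻¹ * u)⁻¹ ∈ A ⊓ K := by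
      refine ⟨A.mul_mem h (A.inv_mem h'), ?_⟩
      have : ((k : G)⁻¹ * u) * ((k' : G)⁻¹ * u)⁻¹ = (k : G)⁻¹ * k' := by group
      rw [this]; exact K.mul_mem (K.inv_mem k.2) k'.2
    rw [hAK, Subgroup.mem_bot] at h1
    apply Subtype.ext
    have : (k : G)⁻¹ * k' = 1 := by rw [← h1]; group
    exact (inv_mul_eq_one.mp this)
  refine ⟨f, fun u v => ?_, fun u hu => ?_, hf⟩
  · refine huniq ((u * v : U) : G) _ _ (hf _) ?_
    have : ((f u * conjK K u (f v) : K) : G)⁻¹ * ((u * v : U) : G) =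
        (((f u : K) : G)⁻¹ * u) * (((f v : K) : G)⁻¹ * v) := by
      have hc : ∀ a b : K, (b : G) * a = a * b := fun a b => congrArg Subtype.val (mul_comm' b a)
      simp only [Subgroup.coe_mul, conjK_coe]
      have h2 := hc ((f u)⁻¹) (conjK K u ((f v)⁻¹))
      simp only [Subgroup.coe_inv, conjK_coe] at h2
      calc ((f u : G) * ((u : G) * (f v : G) * (u : G)⁻¹))⁻¹ * ((u : G) * v)
          = ((u : G) * ((f v : K) : G)⁻¹ * (u : G)⁻¹) * ((f u : K) : G)⁻¹ * ((u : G) * v) := by group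
        _ = ((f u : K) : G)⁻¹ * ((u : G) * ((f v : K) : G)⁻¹ * (u : G)⁻¹) * ((u : G) * v) := by
            rw [h2]
        _ = _ := by group
    rw [this]
    exact mul_mem (hf u) (hf v)
  · exact congrArg Subtype.val
      (huniq (u : G) (f u) ⟨u, hu⟩ (hf u) (by simp))

theorem exists_complement (hKU : K ≤ U) (hcop : (Nat.card K).Coprime U.index) (A : Subgroup G)
    (hAK : A ⊓ K = ⊥) (hKA : K ⊔ A = U) : ∃ H : Subgroup G, Subgroup.IsComplement' K H := by
  obtain ⟨f, hf, hfK, -⟩ := exists_crossed_of_complement K U A hAK hKA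
  obtain ⟨F, hF, hFK⟩ := exists_extension K U hKU hcop f hf hfK
  have hF1 : F 1 = 1 := by simpa using hFK 1
  let H : Subgroup G :=
    { carrier := {g | F g = 1}
      one_mem' := hF1
      mul_mem' := fun {a b} (ha : F a = 1) (hb : F b = 1) => by
        show F (a * b) = 1
        rw [hF, ha, hb, map_one, mul_one]
      inv_mem' := fun {a} (ha : F a = 1) => by
        show F a⁻¹ = 1
        have h := hF a a⁻¹
        rw [mul_inv_cancel, hF1, ha, one_mul] at h
        exact (MulAut.conjNormal a).injective (h.symm.trans (map_one _).symm) }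
  refine ⟨H, Subgroup.isComplement'_of_disjoint_and_mul_eq_univ ?_ ?_⟩
  · rw [disjoint_iff, eq_bot_iff]
    rintro x ⟨hxK, hxH⟩
    have h1 : F x = ⟨x, hxK⟩ := hFK ⟨x, hxK⟩
    rw [Subgroup.mem_bot]
    exact congrArg Subtype.val (h1.symm.trans hxH)
  · refine Set.eq_univ_of_forall fun g => ?_
    refine ⟨F g, (F g).2, ((F g : K) : G)⁻¹ * g, ?_, mul_inv_cancel_left _ _⟩
    show F (((F g : K) : G)⁻¹ * g) = 1
    have h := hF ((F g)⁻¹ : K) g
    rw [hFK] at h
    simp only [Subgroup.coe_inv] at h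
    rw [h]
    apply Subtype.ext
    simp only [Subgroup.coe_mul, conjK_coe, Subgroup.coe_inv, Subgroup.coe_one]
    group

theorem complement_conj (hKU : K ≤ U) (hcop : (Nat.card K).Coprime U.index) (H₀ H₁ : Subgroup G)
    (h₀ : Subgroup.IsComplement' K H₀) (h₁ : Subgroup.IsComplement' K H₁)
    (hU : H₀ ⊓ U = H₁ ⊓ U) : ∃ g : G, MulAut.conj g • H₀ = H₁ := by
  classical
  have := Fintype.ofFinite (G ⧸ U)
  obtain ⟨f₀, hf₀, hK₀, hA₀⟩ := exists_crossed_of_complement K ⊤ H₀
    (disjoint_iff.mp h₀.disjoint.symm) h₀.sup_eq_top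
  obtain ⟨f₁, hf₁, hK₁, hA₁⟩ := exists_crossed_of_complement K ⊤ H₁
    (disjoint_iff.mp h₁.disjoint.symm) h₁.sup_eq_top
  let d : G → K := fun g => f₁ ⟨g, Subgroup.mem_top g⟩ * (f₀ ⟨g, Subgroup.mem_top g⟩)⁻¹
  have hd : ∀ g h : G, d (g * h) = d g * conjK K g (d h) := by
    intro g h
    show f₁ (⟨g, Subgroup.mem_top g⟩ * ⟨h, Subgroup.mem_top h⟩) *
      (f₀ (⟨g, Subgroup.mem_top g⟩ * ⟨h, Subgroup.mem_top h⟩))⁻¹ = _
    rw [hf₁, hf₀, map_mul, map_inv, mul_inv, mul_mul_mul_comm]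
  have hdU : ∀ u ∈ U, d u = 1 := by
    intro u hu
    show f₁ ⟨u, Subgroup.mem_top u⟩ * (f₀ ⟨u, Subgroup.mem_top u⟩)⁻¹ = 1
    rw [mul_inv_eq_one]
    have h := hA₀ ⟨u, Subgroup.mem_top u⟩
    have h2 : ((f₀ ⟨u, Subgroup.mem_top u⟩ : K) : G)⁻¹ * u ∈ H₀ ⊓ U :=
      ⟨h, U.mul_mem (U.inv_mem (hKU (f₀ _).2)) hu⟩
    rw [hU] at h2
    have h3 := hA₁ ⟨u, Subgroup.mem_top u⟩
    apply Subtype.ext
    have h4 : (((f₁ ⟨u, Subgroup.mem_top u⟩ : K) : G)⁻¹ * u) *
        (((f₀ ⟨u, Subgroup.mem_top u⟩ : K) : G)⁻¹ * u)⁻¹ ∈ H₁ ⊓ K := by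
      refine ⟨H₁.mul_mem h3 (H₁.inv_mem h2.1), ?_⟩
      have e : (((f₁ ⟨u, Subgroup.mem_top u⟩ : K) : G)⁻¹ * u) *
          (((f₀ ⟨u, Subgroup.mem_top u⟩ : K) : G)⁻¹ * u)⁻¹ =
          ((f₁ ⟨u, Subgroup.mem_top u⟩ : K) : G)⁻¹ * (f₀ ⟨u, Subgroup.mem_top u⟩ : K) := by group
      rw [e]; exact K.mul_mem (K.inv_mem (f₁ _).2) (f₀ _).2
    rw [disjoint_iff.mp h₁.disjoint.symm, Subgroup.mem_bot] at h4
    exact inv_mul_eq_one.mp (by rw [← h4]; group)
  have hdg : ∀ (g : G) (x : G ⧸ U), d (g * x.out) = d ((g • x).out) := by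
    intro g x
    have he : ((g * x.out : G) : G ⧸ U) = g • x := by
      conv_rhs => rw [← QuotientGroup.out_eq' x]
      rfl
    obtain ⟨u, hu⟩ := QuotientGroup.mk_out_eq_mul U (g * x.out)
    rw [he] at hu
    rw [hu, hd (g * x.out), hdU u u.2, map_one, mul_one]
  set P : K := ∏ x : G ⧸ U, d x.out with hPdef
  have hPg : ∀ g : G, P = d g ^ U.index * conjK K g P := by
    intro g
    calc P = ∏ x : G ⧸ U, d ((g • x).out) :=
          (Fintype.prod_equiv (MulAction.toPerm g) _ _ fun _ => rfl).symm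
      _ = ∏ x : G ⧸ U, d g * conjK K g (d x.out) :=
          Finset.prod_congr rfl fun x _ => by rw [← hdg, hd]
      _ = _ := by
          rw [Finset.prod_mul_distrib, Finset.prod_const, Finset.card_univ,
            ← Nat.card_eq_fintype_card, ← map_prod, Subgroup.index_eq_card]
  obtain ⟨k, hk⟩ := (powCoprime hcop).surjective P
  have hkP : k ^ U.index = P := hk
  have hdk : ∀ g : G, d g * conjK K g k = k := fun g => (powCoprime hcop).injective (by
    show (d g * conjK K g k) ^ U.index = k ^ U.index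
    rw [mul_pow, ← map_pow, hkP, ← hPg g])
  refine ⟨((k⁻¹ : K) : G), ?_⟩
  refine Subgroup.eq_of_le_of_card_ge ?_ ?_
  · intro x hx
    rw [mem_conj_smul] at hx
    set h := ((k⁻¹ : K) : G)⁻¹ * x * ((k⁻¹ : K) : G) with hh
    have hf0 : f₀ ⟨h, Subgroup.mem_top h⟩ = 1 := by
      have h4 : ((f₀ ⟨h, Subgroup.mem_top h⟩ : K) : G) ∈ H₀ ⊓ K := by
        refine ⟨?_, (f₀ _).2⟩
        simpa using mul_mem hx (inv_mem (hA₀ ⟨h, Subgroup.mem_top h⟩))
      rw [disjoint_iff.mp h₀.disjoint.symm, Subgroup.mem_bot] at h4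
      exact Subtype.ext h4
    have hd1 : f₁ ⟨h, Subgroup.mem_top h⟩ * conjK K h k = k := by
      have h5 := hdk h
      show f₁ ⟨h, Subgroup.mem_top h⟩ * _ = _
      have h6 : d h = f₁ ⟨h, Subgroup.mem_top h⟩ := by
        show f₁ _ * (f₀ _)⁻¹ = _
        rw [hf0, inv_one, mul_one]
      rwa [h6] at h5
    have h7 : ((f₁ ⟨h, Subgroup.mem_top h⟩ : K) : G) = (k : G) * (h * (k : G)⁻¹ * h⁻¹) := by
      have h8 := congrArg Subtype.val hd1
      simp only [Subgroup.coe_mul, conjK_coe] at h8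
      calc ((f₁ ⟨h, Subgroup.mem_top h⟩ : K) : G)
          = (f₁ ⟨h, Subgroup.mem_top h⟩ : G) * (h * k * h⁻¹) * (h * (k : G)⁻¹ * h⁻¹) := by group
        _ = _ := by rw [h8]
    have := hA₁ ⟨h, Subgroup.mem_top h⟩
    rw [h7] at this
    have e : ((k : G) * (h * (k : G)⁻¹ * h⁻¹))⁻¹ * h = h * (k : G) * h⁻¹ * (k : G)⁻¹ * h := by group
    have e2 : x = (k : G)⁻¹ * h * (k : G) := by
      rw [hh, Subgroup.coe_inv]; group
    have hc : (h * (k : G) * h⁻¹) * (k : G)⁻¹ = (k : G)⁻¹ * (h * (k : G) * h⁻¹) := by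
      have := congrArg Subtype.val (mul_comm' (conjK K h k) k⁻¹)
      simpa [conjK_coe] using this
    rw [e, hc] at this
    rw [e2]
    simpa [mul_assoc] using this
  · rw [card_conj_smul]
    have e0 := h₀.card_mul_card
    have e1 := h₁.card_mul_card
    rw [← e0] at e1
    exact (Nat.eq_of_mul_eq_mul_left Nat.card_pos e1).le

end CfsgLib.Solvable.Gaschutz
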