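import Cfsg.Agent.Lib.Fusion.SubnormalJoin
import Cfsg.Agent.Lib.Components.GenFitting
import Cfsg.Agent.Lib.Involution.BaerSuzuki

/-!
# Wielandt's subnormality criteria
-/

set_option autoImplicit false

namespace CfsgLib.Solvable.SubnormalCriteria

open Subgroup CfsgLib
open scoped Pointwise

universe u

variable {G : Type u} [Group G]

theorem smul_eq_map (g : G) (H : Subgroup G) :
    MulAut.conj g • H = H.map (MulAut.conj g).toMonoidHom := rfl

theorem sSup_isSubnormal [Finite G] {S : Set (Subgroup G)} (h : ∀ U ∈ S, U.IsSubnormal) :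
    (sSup S).IsSubnormal := by
  induction S, S.toFinite using Set.Finite.induction_on with
  | empty => rw [sSup_empty]; exact Subgroup.IsSubnormal.bot
  | @insert a s _ _ ih =>
    rw [sSup_insert]
    exact Fusion.SubnormalJoin.sup_isSubnormal (h a (Set.mem_insert _ _))
      (ih fun U hU => h U (Set.mem_insert_of_mem _ hU))

/-- A conjugation closed family of subnormal subgroups and a proper subfamily. -/
theorem exists_normalizing [Finite G] {S S₀ : Set (Subgroup G)} (hS : ∀ U ∈ S, U.IsSubnormal)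
    (hconj : ∀ U ∈ S, ∀ g : G, MulAut.conj g • U ∈ S) (h₀ : S₀ ⊂ S) :
    ∃ X ∈ S, X ∉ S₀ ∧ X ≤ normalizer ((sSup S₀ : Subgroup G) : Set G) := by
  obtain ⟨hsub, hne⟩ := h₀
  obtain ⟨W, hW, hW₀⟩ := Set.not_subset.mp hne
  set T := sSup S₀ with hT
  by_cases hex : ∃ X ∈ S, X ∉ S₀ ∧ X ≤ T
  · obtain ⟨X, hX, hX₀, hXT⟩ := hex
    exact ⟨X, hX, hX₀, hXT.trans le_normalizer⟩
  push Not at hex
  by_cases hn : T.Normal
  · exact ⟨W, hW, hW₀, by rw [normalizer_eq_top_iff.2 hn]; exact le_top⟩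
  obtain ⟨x, hx, hxN⟩ := Frobenius.Zipper.exists_conj_of_not_normal
    (sSup_isSubnormal fun U hU => hS U (hsub hU)) hn
  obtain ⟨U, hU, hUT⟩ : ∃ U ∈ S₀, ¬ MulAut.conj x • U ≤ T := by
    by_contra hno
    push Not at hno
    refine hx (eq_of_le_of_card_ge ?_ (by rw [card_map_of_injective (MulAut.conj x).injective]))
    rw [map_le_iff_le_comap]
    exact sSup_le fun U hU => map_le_iff_le_comap.1 ((smul_eq_map x U).symm.le.trans (hno U hU))
  refine ⟨MulAut.conj x • U, hconj U (hsub hU) x, fun h => hUT (le_sSup h), ?_⟩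
  exact (smul_eq_map x U).le.trans ((map_mono (le_sSup hU)).trans hxN)

theorem isSubnormal_of_conj_join_aux (n : ℕ) : ∀ (G : Type u) [Group G] [Finite G], Nat.card G ≤ n →
    ∀ A : Subgroup G, (∀ g : G, (A.subgroupOf (A ⊔ MulAut.conj g • A)).IsSubnormal) →
      A.IsSubnormal := by
  induction n with
  | zero => intro G _ _ hc; exact absurd (Nat.le_zero.1 hc) Nat.card_pos.ne'
  | succ n ih =>
    intro G _ _ hc A h
    by_contra hns
    have hsub : ∀ K : Subgroup G, A ≤ K → K ≠ ⊤ → (A.subgroupOf K).IsSubnormal := by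
      intro K hAK hK
      refine ih K ?_ (A.subgroupOf K) fun k => ?_
      · have hne : Nat.card K ≠ Nat.card G := fun e => hK (K.eq_top_of_card_eq e)
        have := Subgroup.card_le_card_group K
        omega
      · set J := A.subgroupOf K ⊔ MulAut.conj k • A.subgroupOf K with hJ
        have hmap : J.map K.subtype = A ⊔ MulAut.conj (k : G) • A := by
          rw [hJ, Subgroup.map_sup, map_subgroupOf_eq_of_le hAK, smul_eq_map, smul_eq_map,
            Subgroup.map_map]
          congr 1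
          conv_rhs => rw [← map_subgroupOf_eq_of_le hAK, Subgroup.map_map]
          rfl
        let f : J →* (A ⊔ MulAut.conj (k : G) • A : Subgroup G) :=
          (K.subtype.comp J.subtype).codRestrict _ fun x =>
            hmap ▸ Subgroup.mem_map_of_mem K.subtype x.2
        exact (h k).comap f
    obtain ⟨M, ⟨hM, hAM⟩, huniq⟩ := Frobenius.Zipper.existsUnique_coatom hsub hns
    have hle : ∀ g : G, MulAut.conj g • A ≤ M := by
      intro g
      set J := A ⊔ MulAut.conj g • A with hJ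
      rcases eq_top_or_exists_le_coatom J with h1 | ⟨M', hM', hJM⟩
      · have h2 : ((A.subgroupOf J).map J.subtype).IsSubnormal :=
          (h g).map (f := J.subtype) fun x => ⟨⟨x, by rw [h1]; exact Subgroup.mem_top x⟩, rfl⟩
        rw [map_subgroupOf_eq_of_le (le_sup_left : A ≤ J)] at h2
        exact absurd h2 hns
      · rw [← huniq M' ⟨hM', le_sup_left.trans hJM⟩]
        exact le_sup_right.trans hJM
    set N := normalClosure (A : Set G) with hN
    have hNM : N ≤ M := by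
      rw [hN, normalClosure, closure_le]
      intro x hx
      obtain ⟨a, ha, hax⟩ := Group.mem_conjugatesOfSet_iff.1 hx
      obtain ⟨c, rfl⟩ := isConj_iff.1 hax
      exact hle c ⟨a, ha, rfl⟩
    exact hns (Subgroup.IsSubnormal.trans le_normalClosure
      (hsub N le_normalClosure fun e => hM.1 (top_le_iff.1 (e ▸ hNM)))
      (normalClosure_normal (s := (A : Set G))).isSubnormal)

/-- Wielandt's criterion. -/
theorem isSubnormal_of_conj_join [Finite G] (A : Subgroup G)
    (h : ∀ g : G, (A.subgroupOf (A ⊔ MulAut.conj g • A)).IsSubnormal) : A.IsSubnormal :=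
  isSubnormal_of_conj_join_aux _ G le_rfl A h

theorem isSubnormal_and_le_fitting [Finite G] (A : Subgroup G)
    (h : ∀ g : G, Group.IsNilpotent (A ⊔ MulAut.conj g • A : Subgroup G)) :
    A.IsSubnormal ∧ A ≤ Cfsg.fittingSubgroup G := by
  have hs : A.IsSubnormal := isSubnormal_of_conj_join A fun g => by
    haveI := h g
    exact Frobenius.Zipper.isSubnormal_of_isNilpotent _
  refine ⟨hs, Components.le_fittingSubgroup_of_subnormal hs ?_⟩
  have h1 := h 1
  rwa [map_one, one_smul, sup_idem] at h1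

/-- The uniqueness lemma of zipper type. -/
theorem exists_greatest [Finite G] (A : Subgroup G) (U : Set (Subgroup G)) (hU : U.Nonempty)
    (S : Subgroup G → Set (Subgroup G))
    (hS : ∀ V B : Subgroup G, B ∈ S V ↔ (∃ g : G, B = MulAut.conj g • A) ∧ B ≤ V ∧
      (B.subgroupOf V).IsSubnormal)
    (h2 : ∀ V ∈ U, ∀ W ∈ U, ∀ B ∈ S W, B ≤ V → B ∈ S V)
    (h3 : ∀ V ∈ U, ∀ W ∈ U, ∃ X ∈ U, normalizer ((sSup (S V ∩ S W) : Subgroup G) : Set G) ≤ X) :
    ∃ M ∈ U, ∀ V ∈ U, V ≤ M := by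
  classical
  let MX : Set (Subgroup G) := {V | V ∈ U ∧ ∀ W ∈ U, V ≤ W → W = V}
  have hex : ∀ V ∈ U, ∃ M ∈ MX, V ≤ M := by
    intro V hV
    obtain ⟨M, hVM, hM⟩ := Finite.exists_le_maximal (p := fun X : Subgroup G => X ∈ U) hV
    exact ⟨M, ⟨hM.1, fun W hW hMW => le_antisymm (hM.2 hW hMW) hMW⟩, hVM⟩
  obtain ⟨V₀, hV₀⟩ := hU
  obtain ⟨M, hM, -⟩ := hex V₀ hV₀
  suffices huniq : ∀ V ∈ MX, ∀ W ∈ MX, V = W by
    refine ⟨M, hM.1, fun V hV => ?_⟩
    obtain ⟨M', hM', hVM'⟩ := hex V hV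
    exact hVM'.trans (huniq M' hM' M hM).le
  by_contra hno
  push Not at hno
  obtain ⟨V', hV', W', hW', hne'⟩ := hno
  obtain ⟨⟨V, W⟩, ⟨hV, hW, hne⟩, hmax⟩ := Set.Finite.exists_maximalFor
    (fun q : Subgroup G × Subgroup G => (S q.1 ∩ S q.2).ncard)
    {q : Subgroup G × Subgroup G | q.1 ∈ MX ∧ q.2 ∈ MX ∧ q.1 ≠ q.2}
    (Set.toFinite _) ⟨(V', W'), hV', hW', hne'⟩
  dsimp only at hV hW hne
  obtain ⟨X₀, hX₀, hNX₀⟩ := h3 V hV.1 W hW.1
  obtain ⟨X, hX, hX₀X⟩ := hex X₀ hX₀
  set T := sSup (S V ∩ S W) with hT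
  have hNX : normalizer (T : Set G) ≤ X := hNX₀.trans hX₀X
  have hI : S V ∩ S W ⊆ S X := fun B hB =>
    h2 X hX.1 V hV.1 B hB.1 (((le_sSup hB).trans le_normalizer).trans hNX)
  have key : ∀ Y ∈ MX, S V ∩ S W ⊆ S Y →
      (X ≠ Y → (S Y ∩ S X).ncard ≤ (S V ∩ S W).ncard) → X = Y := by
    intro Y hY hsubY hmaxY
    by_contra hXY
    have hle : (S Y ∩ S X).ncard ≤ (S V ∩ S W).ncard := hmaxY hXY
    rcases (hsubY).lt_or_eq with hlt | heq
    · -- a further member normalises the join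
      let S' : Set (Subgroup Y) := (fun B => B.subgroupOf Y) '' S Y
      let S₀' : Set (Subgroup Y) := (fun B => B.subgroupOf Y) '' (S V ∩ S W)
      have hinj : Set.InjOn (fun B : Subgroup G => B.subgroupOf Y) (S Y) := by
        intro B hB B' hB' e
        have := congrArg (Subgroup.map Y.subtype) e
        rwa [map_subgroupOf_eq_of_le ((hS Y B).1 hB).2.1,
          map_subgroupOf_eq_of_le ((hS Y B').1 hB').2.1] at this
      have hS' : ∀ B' ∈ S', B'.IsSubnormal := by
        rintro _ ⟨B, hB, rfl⟩; exact ((hS Y B).1 hB).2.2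
      have hconj' : ∀ B' ∈ S', ∀ y : Y, MulAut.conj y • B' ∈ S' := by
        rintro _ ⟨B, hB, rfl⟩ y
        obtain ⟨⟨g, hg⟩, hBY, hBsn⟩ := (hS Y B).1 hB
        have hle' : MulAut.conj (y : G) • B ≤ Y := by
          rintro _ ⟨b, hb, rfl⟩
          exact mul_mem (mul_mem y.2 (hBY hb)) (inv_mem y.2)
        have e : MulAut.conj y • B.subgroupOf Y = (MulAut.conj (y : G) • B).subgroupOf Y := by
          refine Subgroup.map_injective Y.subtype_injective ?_
          rw [map_subgroupOf_eq_of_le hle', smul_eq_map, smul_eq_map, Subgroup.map_map]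
          conv_rhs => rw [← map_subgroupOf_eq_of_le hBY, Subgroup.map_map]
          rfl
        refine ⟨MulAut.conj (y : G) • B, (hS Y _).2 ⟨⟨y * g, by rw [hg, map_mul, mul_smul]⟩, hle', ?_⟩,
          e.symm⟩
        rw [← e]
        exact hBsn.smul _
      have hss : S₀' ⊂ S' := by
        refine ⟨Set.image_mono hsubY, fun hrev => hlt.2 fun B hB => ?_⟩
        obtain ⟨B', hB', e⟩ := hrev ⟨B, hB, rfl⟩
        exact hinj (hsubY hB') hB e ▸ hB'
      obtain ⟨_, ⟨B, hB, rfl⟩, hB₀, hBN⟩ := exists_normalizing hS' hconj' hss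
      have hBY := ((hS Y B).1 hB).2.1
      have hB₀' : B ∉ S V ∩ S W := fun h => hB₀ ⟨B, h, rfl⟩
      have hTY : (sSup S₀').map Y.subtype = T := by
        rw [(Subgroup.gc_map_comap Y.subtype).l_sSup, hT, sSup_eq_iSup]
        refine le_antisymm ?_ ?_
        · refine iSup₂_le fun B' hB' => ?_
          obtain ⟨C, hC, rfl⟩ := hB'
          rw [map_subgroupOf_eq_of_le ((hS Y C).1 (hsubY hC)).2.1]
          exact le_iSup₂_of_le C hC le_rfl
        · refine iSup₂_le fun C hC => le_iSup₂_of_le (C.subgroupOf Y) ⟨C, hC, rfl⟩ ?_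
          rw [map_subgroupOf_eq_of_le ((hS Y C).1 (hsubY hC)).2.1]
      have hBX : B ≤ X := by
        refine le_trans ?_ hNX
        rw [← map_subgroupOf_eq_of_le hBY, ← hTY]
        exact (Subgroup.map_mono hBN).trans (Subgroup.le_normalizer_map _)
      have hBSX : B ∈ S X := h2 X hX.1 Y hY.1 B hB hBX
      have : (S V ∩ S W).ncard < (S Y ∩ S X).ncard := by
        refine Set.ncard_lt_ncard ⟨fun C hC => ⟨hsubY hC, hI hC⟩, fun h => hB₀' ?_⟩ (Set.toFinite _)
        exact h ⟨hB, hBSX⟩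
      omega
    · refine hXY (hY.2 X hX.1 ?_)
      refine le_trans ?_ hNX
      intro y hy
      rw [hT, heq]
      refine Subgroup.mem_normalizer_iff_map_conj_eq.2 (eq_of_le_of_card_ge ?_
        (by rw [card_map_of_injective (MulAut.conj y).injective]))
      rw [map_le_iff_le_comap]
      refine sSup_le fun B hB => map_le_iff_le_comap.1 (le_trans ?_ (le_sSup (show
        B.map (MulAut.conj y).toMonoidHom ∈ S Y from ?_)))
      · exact le_rfl
      · obtain ⟨⟨g, hg⟩, hBY, hBsn⟩ := (hS Y B).1 hB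
        have hle' : MulAut.conj y • B ≤ Y := by
          rintro _ ⟨b, hb, rfl⟩
          exact mul_mem (mul_mem hy (hBY hb)) (inv_mem hy)
        refine (hS Y _).2 ⟨⟨y * g, by rw [← smul_eq_map, hg, map_mul, mul_smul]⟩, hle', ?_⟩
        have e : MulAut.conj (⟨y, hy⟩ : Y) • B.subgroupOf Y = (MulAut.conj y • B).subgroupOf Y := by
          refine Subgroup.map_injective Y.subtype_injective ?_
          rw [map_subgroupOf_eq_of_le hle', smul_eq_map, smul_eq_map, Subgroup.map_map]
          conv_rhs => rw [← map_subgroupOf_eq_of_le hBY, Subgroup.map_map]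
          rfl
        rw [← smul_eq_map, ← e]
        exact hBsn.smul _
  have hXV : X = V := key V hV Set.inter_subset_left fun h => by
    have := hmax (j := (V, X)) ⟨hV, hX, Ne.symm h⟩
    dsimp only at this
    omega
  have hXW : X = W := key W hW Set.inter_subset_right fun h => by
    have := hmax (j := (W, X)) ⟨hW, hX, Ne.symm h⟩
    dsimp only at this
    omega
  exact hne (hXV.symm.trans hXW)

/-- Wielandt's lemma: `Y` normalises the weakly closed subgroup of some Sylow subgroup. -/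
theorem exists_sylow_normalized [Finite G] (p : ℕ) [Fact p.Prime] (Z Y : Subgroup G)
    (h : ∀ g : G, IsPGroup p ↥(⨆ y ∈ Y, MulAut.conj (y * g) • Z)) :
    ∃ P : Sylow p G, Y ≤ normalizer
      ((⨆ g ∈ {g : G | MulAut.conj g • Z ≤ (P : Subgroup G)}, MulAut.conj g • Z : Subgroup G) : Set G) := by
  classical
  let c : G → Subgroup G := fun g => MulAut.conj g • Z
  have hinvgen : ∀ F : Set G, (∀ y ∈ Y, ∀ g ∈ F, y * g ∈ F) →
      Y ≤ normalizer ((⨆ g ∈ F, c g : Subgroup G) : Set G) := by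
    intro F hF y hy
    refine Subgroup.mem_normalizer_iff_map_conj_eq.2 (eq_of_le_of_card_ge ?_
      (by rw [card_map_of_injective (MulAut.conj y).injective]))
    rw [Subgroup.map_iSup]
    refine iSup_le fun g => ?_
    rw [Subgroup.map_iSup]
    refine iSup_le fun hg => ?_
    refine le_iSup₂_of_le (y * g) (hF y hy g hg) (le_of_eq ?_)
    show (MulAut.conj g • Z).map _ = MulAut.conj (y * g) • Z
    rw [map_mul, mul_smul]
    rfl
  obtain ⟨F, ⟨hFinv, hFp⟩, hFmax⟩ := Set.Finite.exists_maximal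
    (s := {F : Set G | (∀ y ∈ Y, ∀ g ∈ F, y * g ∈ F) ∧ IsPGroup p ↥(⨆ g ∈ F, c g)})
    (Set.toFinite _) ⟨∅, by simp, by rw [iSup_emptyset]; exact IsPGroup.of_bot⟩
  obtain ⟨P, hP⟩ := hFp.exists_le_sylow
  set F' := {g : G | MulAut.conj g • Z ≤ (P : Subgroup G)} with hF'
  suffices heq : ∀ g ∈ F', g ∈ F by
    refine ⟨P, ?_⟩
    have : (⨆ g ∈ F', MulAut.conj g • Z : Subgroup G) = ⨆ g ∈ F, c g :=
      le_antisymm (iSup₂_le fun g hg => le_iSup₂_of_le g (heq g hg) le_rfl)
        (iSup₂_le fun g hg => le_iSup₂_of_le g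
          (show g ∈ F' from (le_iSup₂ (f := fun g (_ : g ∈ F) => c g) g hg).trans hP) le_rfl)
    rw [this]
    exact hinvgen F hFinv
  intro g₀ hg₀
  by_contra hg₀F
  -- the confined conjugates of `Z` in `P` outside the family
  set I : Set (Subgroup G) := c '' F with hI
  have hIc : I ⊆ Involution.BaerSuzuki.confined Z (P : Subgroup G) := by
    rintro _ ⟨g, hg, rfl⟩
    exact ⟨⟨g, rfl⟩, (le_iSup₂ (f := fun g (_ : g ∈ F) => c g) g hg).trans hP⟩
  have hsat : ∀ g, c g ∈ I → g ∈ F := by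
    intro g hg
    refine (hFmax ⟨?_, ?_⟩ (Set.subset_union_left (t := {x | ∃ y ∈ Y, x = y * g}))).trans' subset_rfl
      (Or.inr ⟨1, Y.one_mem, (one_mul g).symm⟩)
    · rintro y hy x (hx | ⟨y', hy', rfl⟩)
      · exact Or.inl (hFinv y hy x hx)
      · exact Or.inr ⟨y * y', mul_mem hy hy', (mul_assoc _ _ _).symm⟩
    · obtain ⟨g', hg', e⟩ := hg
      refine hFp.to_le (iSup₂_le ?_)
      rintro x (hx | ⟨y, hy, rfl⟩)
      · exact le_iSup₂_of_le x hx le_rfl
      · refine le_iSup₂_of_le (y * g') (hFinv y hy g' hg') (le_of_eq ?_)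
        show MulAut.conj (y * g) • Z = MulAut.conj (y * g') • Z
        rw [map_mul, mul_smul, map_mul, mul_smul]
        exact congrArg (MulAut.conj y • ·) e.symm
  have hne : Involution.BaerSuzuki.confined Z (P : Subgroup G) ≠ I := fun e =>
    hg₀F (hsat g₀ (e ▸ ⟨⟨g₀, rfl⟩, hg₀⟩))
  obtain ⟨C, ⟨⟨g, hg⟩, -⟩, hCI, hCN⟩ :=
    Involution.BaerSuzuki.exists_normalizing Z (P : Subgroup G) P.2 I hIc hne
  have hT : (⨆ g ∈ F, c g : Subgroup G) = sSup I := by rw [hI, sSup_image]
  set T : Subgroup G := ⨆ g ∈ F, c g with hTdef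
  refine hCI ?_
  rw [hg]
  refine ⟨g, ?_, rfl⟩
  refine (hFmax ⟨?_, ?_⟩ (Set.subset_union_left (t := {x | ∃ y ∈ Y, x = y * g}))).trans' subset_rfl
    (Or.inr ⟨1, Y.one_mem, (one_mul g).symm⟩)
  · rintro y hy x (hx | ⟨y', hy', rfl⟩)
    · exact Or.inl (hFinv y hy x hx)
    · exact Or.inr ⟨y * y', mul_mem hy hy', (mul_assoc _ _ _).symm⟩
  · set D : Subgroup G := ⨆ y ∈ Y, MulAut.conj (y * g) • Z with hD
    have hDN : D ≤ normalizer (T : Set G) := by
      refine iSup₂_le fun y hy => ?_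
      rw [map_mul, mul_smul]
      rintro _ ⟨z, hz, rfl⟩
      have hz' : z ∈ normalizer (T : Set G) := by rw [hT]; exact hCN (hg ▸ hz)
      exact (normalizer (T : Set G)).mul_mem ((normalizer (T : Set G)).mul_mem (hinvgen F hFinv hy) hz')
        ((normalizer (T : Set G)).inv_mem (hinvgen F hFinv hy))
    have hp : IsPGroup p ↥(D ⊔ T) := IsPGroup.to_sup_of_normal_right' (h g) hFp hDN
    refine hp.to_le (iSup₂_le ?_)
    rintro x (hx | ⟨y, hy, rfl⟩)
    · exact (le_iSup₂ (f := fun g (_ : g ∈ F) => c g) x hx).trans le_sup_right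
    · exact (le_iSup₂ (f := fun y (_ : y ∈ Y) => MulAut.conj (y * g) • Z) y hy).trans le_sup_left

end CfsgLib.Solvable.SubnormalCriteria
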