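import Cfsg.Agent.Lib.Solvable.KegelPermutable
import Cfsg.Agent.Lib.Solvable.SubnormalCriteria
import Cfsg.Agent.Lib.OddOrder.Basic
import Cfsg.Agent.Lib.Fusion.Alperin
import Cfsg.Agent.S0143
import Cfsg.Agent.S0560
import Cfsg.Agent.S0561
import Cfsg.Agent.S0562

/-!
# Products of two nilpotent groups (Kegel, Wielandt)
-/

set_option autoImplicit false

namespace CfsgLib.Solvable.KegelWielandt

open Subgroup CfsgLib CfsgLib.Solvable.Basic
open scoped Pointwise

universe u

variable {G : Type u} [Group G]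

/-- The `p`-component of a subgroup. -/
def comp (A : Subgroup G) (p : ℕ) : Subgroup G := (Cfsg.pCore p A).map A.subtype

theorem conj_normalizer {X : Subgroup G} {g : G} (hg : g ∈ normalizer (X : Set G)) :
    MulAut.conj g • X = X :=
  Subgroup.conjAct_pointwise_smul_eq_self hg

theorem comp_le (A : Subgroup G) (p : ℕ) : comp A p ≤ A := map_subtype_le _

theorem comp_isPGroup (A : Subgroup G) (p : ℕ) : IsPGroup p ↥(comp A p) :=
  (Cores.isPGroup_pCore p).map _

theorem le_normalizer_comp (A : Subgroup G) (p : ℕ) : A ≤ normalizer (comp A p : Set G) := by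
  intro a ha
  refine mem_normalizer_iff_map_conj_eq.2 ?_
  ext x
  constructor
  · rintro ⟨_, ⟨y, hy, rfl⟩, rfl⟩
    exact ⟨⟨a, ha⟩ * y * ⟨a, ha⟩⁻¹, (Cores.pCore_normal p).conj_mem y hy _, rfl⟩
  · rintro ⟨y, hy, rfl⟩
    refine ⟨_, ⟨⟨a, ha⟩⁻¹ * y * (⟨a, ha⟩⁻¹)⁻¹, (Cores.pCore_normal p).conj_mem y hy _, rfl⟩, ?_⟩
    show a * (a⁻¹ * y * a⁻¹⁻¹) * a⁻¹ = y
    group

theorem normal_comp (A : Subgroup G) (p : ℕ) : ((comp A p).subgroupOf A).Normal :=
  (normal_subgroupOf_iff_le_normalizer (comp_le A p)).2 (le_normalizer_comp A p)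

theorem conj_comp {A : Subgroup G} {a : G} (ha : a ∈ A) (p : ℕ) :
    MulAut.conj a • comp A p = comp A p :=
  conj_normalizer (le_normalizer_comp A p ha)

variable [Finite G]

theorem sylow_eq_pCore {A : Subgroup G} (hA : Group.IsNilpotent A) {p : ℕ} [Fact p.Prime]
    (P : Sylow p A) : (P : Subgroup A) = Cfsg.pCore p A := by
  haveI := hA
  haveI : (P : Subgroup A).Normal := inferInstance
  exact le_antisymm (Cores.le_pCore P.isPGroup') (Cores.pCore_le_sylow P)

theorem card_comp {A : Subgroup G} (hA : Group.IsNilpotent A) (p : ℕ) [Fact p.Prime] :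
    Nat.card ↥(comp A p) = p ^ (Nat.card A).factorization p := by
  obtain ⟨P⟩ : Nonempty (Sylow p A) := inferInstance
  rw [comp, card_map_of_injective A.subtype_injective, ← sylow_eq_pCore hA P, P.card_eq_multiplicity]

theorem le_comp {A X : Subgroup G} (hA : Group.IsNilpotent A) {p : ℕ} [Fact p.Prime]
    (hX : X ≤ A) (hp : IsPGroup p X) : X ≤ comp A p := by
  obtain ⟨P, hP⟩ := (hp.comap_of_injective A.subtype A.subtype_injective).exists_le_sylow
  intro x hx
  refine ⟨⟨x, hX hx⟩, ?_, rfl⟩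
  have : (⟨x, hX hx⟩ : A) ∈ (P : Subgroup A) := hP hx
  rwa [sylow_eq_pCore hA P] at this

theorem orderOf_pgroup {p : ℕ} [Fact p.Prime] {P : Subgroup G} (hP : IsPGroup p P) {x : G}
    (hx : x ∈ P) : ∃ k, orderOf x = p ^ k := by
  obtain ⟨k, hk⟩ := hP.exists_card_eq
  obtain ⟨l, -, hl⟩ := (Nat.dvd_prime_pow Fact.out).1
    (hk ▸ (Subgroup.orderOf_coe (⟨x, hx⟩ : P) ▸ orderOf_dvd_natCard (⟨x, hx⟩ : P)))
  exact ⟨l, hl⟩

theorem commute_pgroups {A X Y : Subgroup G} (hA : Group.IsNilpotent A) {p q : ℕ} [Fact p.Prime]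
    [Fact q.Prime] (hpq : p ≠ q) (hX : IsPGroup p X) (hXA : X ≤ A) (hY : IsPGroup q Y) (hYA : Y ≤ A)
    {x y : G} (hx : x ∈ X) (hy : y ∈ Y) : x * y = y * x := by
  haveI := hA
  obtain ⟨k, hk⟩ := orderOf_pgroup hX hx
  obtain ⟨l, hl⟩ := orderOf_pgroup hY hy
  exact OddOrder.Basic.commute_of_mem_nilpotent (hXA hx) (hYA hy) (by
    rw [hk, hl]; exact Nat.coprime_pow_primes _ _ Fact.out Fact.out hpq)

theorem le_of_comps {A K : Subgroup G} (hA : Group.IsNilpotent A)
    (h : ∀ p : ℕ, [Fact p.Prime] → p ∣ Nat.card A → comp A p ≤ K) : A ≤ K := by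
  have hd : Nat.card A ∣ Nat.card ↥(A ⊓ K) := by
    refine (Nat.dvd_iff_prime_pow_dvd_dvd _ _).2 fun p k hp hd => ?_
    rcases Nat.eq_zero_or_pos k with rfl | hk
    · rw [pow_zero]; exact one_dvd _
    haveI := Fact.mk hp
    have h1 : p ∣ Nat.card A := (dvd_pow_self p hk.ne').trans hd
    refine ((pow_dvd_pow p ((hp.pow_dvd_iff_le_factorization Nat.card_pos.ne').1 hd)).trans ?_)
    rw [← card_comp hA p]
    exact card_dvd_of_le (le_inf (comp_le A p) (h p h1))
  exact (eq_of_le_of_card_ge inf_le_left (Nat.le_of_dvd Nat.card_pos hd)).ge.trans inf_le_right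

theorem exists_central {A : Subgroup G} (hA : Group.IsNilpotent A) {p : ℕ} [Fact p.Prime]
    (hd : p ∣ Nat.card A) : ∃ z ∈ A, orderOf z = p ∧ ∀ a ∈ A, a * z = z * a := by
  have hc : Nontrivial ↥(comp A p) := by
    rw [← Finite.one_lt_card_iff_nontrivial, card_comp hA p]
    exact Nat.one_lt_pow ((Fact.out : p.Prime).factorization_pos_of_dvd Nat.card_pos.ne' hd).ne'
      (Fact.out : p.Prime).one_lt
  haveI := hc
  obtain ⟨k, hk, hk'⟩ : ∃ k, 0 < k ∧ Nat.card (center ↥(comp A p)) = p ^ k := by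
    haveI := (comp_isPGroup A p).center_nontrivial
    obtain ⟨k, hk⟩ := ((comp_isPGroup A p).to_subgroup (center ↥(comp A p))).exists_card_eq
    refine ⟨k, Nat.pos_of_ne_zero fun h => ?_, hk⟩
    rw [h, pow_zero] at hk
    exact (Finite.one_lt_card (α := center ↥(comp A p))).ne' hk
  obtain ⟨z, hz⟩ := exists_prime_orderOf_dvd_card' (G := center ↥(comp A p)) p
    (hk' ▸ dvd_pow_self p hk.ne')
  set y : G := ((z : ↥(comp A p)) : G)
  have hy : y ∈ comp A p := (z : ↥(comp A p)).2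
  refine ⟨y, comp_le A p hy, by rw [Subgroup.orderOf_coe, Subgroup.orderOf_coe]; exact hz, ?_⟩
  have key : A ≤ centralizer ({y} : Set G) := by
    refine le_of_comps hA fun q _ _ x hx => mem_centralizer_singleton_iff.2 ?_
    by_cases hq : q = p
    · subst hq
      exact congrArg Subtype.val (mem_center_iff.1 z.2 ⟨x, hx⟩)
    · exact commute_pgroups hA hq (comp_isPGroup A q) (comp_le A q) (comp_isPGroup A p) (comp_le A p)
        hx hy
  exact fun a ha => mem_centralizer_singleton_iff.1 (key ha)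

omit [Finite G] in
theorem nilpotent_subgroupOf {A : Subgroup G} (hA : Group.IsNilpotent A) (L : Subgroup G) :
    Group.IsNilpotent ↥((L ⊓ A).subgroupOf L) := by
  haveI := hA
  haveI : Group.IsNilpotent ↥((L ⊓ A).subgroupOf A) := Subgroup.isNilpotent _
  haveI : Group.IsNilpotent ↥(L ⊓ A) :=
    Group.nilpotent_of_mulEquiv (subgroupOfEquivOfLe inf_le_right)
  exact Group.nilpotent_of_mulEquiv (subgroupOfEquivOfLe (inf_le_left : L ⊓ A ≤ L)).symm

omit [Finite G] in
theorem le_normalizer_map_subtype {L : Subgroup G} (X : Subgroup L) [X.Normal] :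
    L ≤ normalizer ((X.map L.subtype : Subgroup G) : Set G) := fun x hx =>
  le_normalizer_map L.subtype ⟨⟨x, hx⟩, by rw [normalizer_eq_top_iff.2 ‹X.Normal›]; trivial, rfl⟩

omit [Finite G] in
theorem le_normalizer_map_of_mem {L : Subgroup G} {X : Subgroup L} {g : L}
    (hg : g ∈ normalizer (X : Set L)) : (g : G) ∈ normalizer ((X.map L.subtype : Subgroup G) : Set G) :=
  le_normalizer_map L.subtype ⟨g, hg, rfl⟩

theorem card_sup_dvd {X Y : Subgroup G} (h : Y ≤ normalizer (X : Set G)) :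
    Nat.card ↥(X ⊔ Y) ∣ Nat.card X * Nat.card Y :=
  ⟨_, (LocalEvenB.CentrallyLarge.card_of_set_mul
    (Subgroup.coe_mul_of_right_le_normalizer_left X Y h)).symm⟩

theorem not_normal_conj [IsSimpleGroup G] {K : Subgroup G} (hK : K ≠ ⊥) (hK' : K ≠ ⊤) :
    normalizer (K : Set G) ≠ ⊤ := fun h =>
  ((normalizer_eq_top_iff.1 h).eq_bot_or_eq_top).elim hK hK'

/-- A simple group factorised by two nilpotent subgroups of coprime orders, all whose proper
factorised subgroups are solvable. -/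
structure Pair (A B : Subgroup G) : Prop where
  nilA : Group.IsNilpotent A
  nilB : Group.IsNilpotent B
  cop : (Nat.card A).Coprime (Nat.card B)
  mul : ∀ g : G, ∃ a ∈ A, ∃ b ∈ B, g = a * b
  simple : IsSimpleGroup G
  nonprime : ¬ (Nat.card G).Prime
  sol : ∀ L : Subgroup G, L ≠ ⊤ → (∀ g ∈ L, ∃ a ∈ L ⊓ A, ∃ b ∈ L ⊓ B, g = a * b) →
    Group.IsSolvable L

variable {A B : Subgroup G}

omit [Finite G] in
theorem Pair.swap (h : Pair A B) : Pair B A := by
  refine ⟨h.nilB, h.nilA, h.cop.symm, fun g => ?_, h.simple, h.nonprime, fun L hL hf => h.sol L hL fun g hg => ?_⟩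
  · obtain ⟨a, ha, b, hb, e⟩ := h.mul g⁻¹
    exact ⟨b⁻¹, inv_mem hb, a⁻¹, inv_mem ha, by rw [← mul_inv_rev, ← e, inv_inv]⟩
  · obtain ⟨a, ha, b, hb, e⟩ := hf g⁻¹ (inv_mem hg)
    exact ⟨b⁻¹, inv_mem hb, a⁻¹, inv_mem ha, by rw [← mul_inv_rev, ← e, inv_inv]⟩

theorem Pair.inf_bot (h : Pair A B) : A ⊓ B = ⊥ :=
  inf_eq_bot_of_coprime h.cop

theorem Pair.card_eq (h : Pair A B) : Nat.card G = Nat.card A * Nat.card B := by
  have hs : ((A ⊔ B : Subgroup G) : Set G) = (A : Set G) * (B : Set G) := by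
    refine Set.Subset.antisymm (fun g _ => ?_) ?_
    · obtain ⟨a, ha, b, hb, e⟩ := h.mul g
      exact ⟨a, ha, b, hb, e.symm⟩
    · rintro _ ⟨a, ha, b, hb, rfl⟩
      exact mul_mem_sup ha hb
  have h1 := LocalEvenB.CentrallyLarge.card_of_set_mul hs
  rw [h.inf_bot, card_bot, mul_one, show A ⊔ B = ⊤ from eq_top_iff.2 fun g _ => by
    obtain ⟨a, ha, b, hb, e⟩ := h.mul g
    exact e ▸ mul_mem_sup ha hb, card_top] at h1
  exact h1

theorem Pair.center_eq_bot (h : Pair A B) : center G = ⊥ := by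
  haveI := h.simple
  refine (inferInstance : (center G).Normal).eq_bot_or_eq_top.resolve_right fun hz => ?_
  letI : CommGroup G := { (inferInstance : Group G) with
    mul_comm := fun a b => (mem_center_iff.1 (hz ▸ mem_top b : b ∈ center G) a) }
  exact h.nonprime IsSimpleGroup.prime_card

theorem Pair.not_nilpotent (h : Pair A B) : ¬ Group.IsNilpotent G := by
  intro hn
  haveI := h.simple
  haveI := IsSimpleGroup.toNontrivial (G := G)
  exact Group.IsNilpotent.center_ne_bot G h.center_eq_bot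

theorem Pair.centralizer_ne_top (h : Pair A B) {x : G} (hx : x ≠ 1) :
    centralizer ({x} : Set G) ≠ ⊤ := fun e => by
  refine hx (mem_bot.1 (h.center_eq_bot ▸ mem_center_iff.2 fun g => ?_))
  exact mem_centralizer_singleton_iff.1 (e ▸ mem_top g)

theorem Pair.ne_top (h : Pair A B) {K : Subgroup G} (hK : Group.IsNilpotent K) : K ≠ ⊤ := fun e =>
  h.not_nilpotent (Group.isNilpotent_top.1 (e ▸ hK))

theorem Pair.ne_bot (h : Pair A B) : A ≠ ⊥ := fun e => by
  refine h.ne_top h.nilB (eq_top_iff.2 fun g _ => ?_)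
  obtain ⟨a, ha, b, hb, rfl⟩ := h.mul g
  rw [e, mem_bot] at ha
  rwa [ha, one_mul]

theorem Pair.exists_other_prime (h : Pair A B) (p : ℕ) :
    ∃ s : ℕ, s.Prime ∧ s ∣ Nat.card A ∧ s ≠ p := by
  by_contra hno
  push Not at hno
  haveI := h.simple
  have hA1 : Nat.card A ≠ 1 := fun e => h.ne_bot (card_eq_one.1 e)
  obtain ⟨q, hq, hqd⟩ := Nat.exists_prime_and_dvd hA1
  obtain rfl := hno q hq hqd
  obtain ⟨k, hk⟩ : ∃ k, Nat.card A = q ^ k :=
    ⟨_, Nat.eq_prime_pow_of_unique_prime_dvd Nat.card_pos.ne' fun {d} hd hdd => hno d hd hdd⟩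
  have hB1 : Nat.card B ≠ 1 := fun e => h.swap.ne_bot (card_eq_one.1 e)
  obtain ⟨w, hw, hwd⟩ := Nat.exists_prime_and_dvd hB1
  haveI := Fact.mk hw
  obtain ⟨y, hy, hyo, hyc⟩ := exists_central h.nilB hwd
  have hy1 : y ≠ 1 := fun e => hw.one_lt.ne' (by rw [← hyo, e, orderOf_one])
  set C := centralizer ({y} : Set G)
  have hBC : B ≤ C := fun b hb => mem_centralizer_singleton_iff.2 (hyc b hb)
  have hdvd : C.index ∣ Nat.card A := by
    refine (index_dvd_of_le hBC).trans (dvd_of_eq ?_)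
    have := B.index_mul_card
    rw [h.card_eq] at this
    exact Nat.eq_of_mul_eq_mul_right Nat.card_pos this
  obtain ⟨i, -, hi⟩ := (Nat.dvd_prime_pow hq).1 (hk ▸ hdvd)
  exact h.nonprime (Cfsg.Agent.S0143.result q i hq y hy1 hi)

theorem Pair.factorization_eq (h : Pair A B) {p : ℕ} (hp : p.Prime) (hd : p ∣ Nat.card A) :
    (Nat.card G).factorization p = (Nat.card A).factorization p := by
  rw [h.card_eq, Nat.factorization_mul_apply_of_coprime h.cop,
    Nat.factorization_eq_zero_of_not_dvd (n := Nat.card B), add_zero]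
  exact fun hB => hp.one_lt.ne' (Nat.eq_one_of_dvd_coprimes h.cop hd hB)

theorem Pair.exists_sylow (h : Pair A B) {p : ℕ} [Fact p.Prime] (hd : p ∣ Nat.card A) :
    ∃ P : Sylow p G, (P : Subgroup G) = comp A p :=
  ⟨Sylow.ofCard (comp A p) (by rw [card_comp h.nilA, h.factorization_eq Fact.out hd]), rfl⟩

theorem Pair.exists_conj_sylow (h : Pair A B) {p : ℕ} [Fact p.Prime] (hd : p ∣ Nat.card B)
    (P : Sylow p G) : ∃ a ∈ A, (P : Subgroup G) = MulAut.conj a • comp B p := by
  obtain ⟨P₀, hP₀⟩ := h.swap.exists_sylow hd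
  obtain ⟨x, hx⟩ := MulAction.exists_smul_eq G P₀ P
  obtain ⟨a, ha, b, hb, rfl⟩ := h.mul x
  exact ⟨a, ha, by rw [← hx, Sylow.coe_subgroup_smul, hP₀, ← conj_smul_conj_smul, conj_comp hb]⟩

theorem Pair.comp_ne_bot (h : Pair A B) {p : ℕ} [Fact p.Prime] (hd : p ∣ Nat.card A) :
    comp A p ≠ ⊥ := fun e => by
  have := card_comp h.nilA p
  rw [e, card_bot] at this
  exact (Nat.one_lt_pow ((Fact.out : p.Prime).factorization_pos_of_dvd Nat.card_pos.ne' hd).ne'
    (Fact.out : p.Prime).one_lt).ne this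

theorem Pair.pgroup_ne_top (h : Pair A B) {p : ℕ} [Fact p.Prime] {K : Subgroup G}
    (hK : IsPGroup p K) : K ≠ ⊤ := h.ne_top hK.isNilpotent

/-- The normaliser of the join of normal subgroups of the factors is solvable and factorised. -/
theorem Pair.normalizer_sol (h : Pair A B) (A' B' : Subgroup G) (hA : A' ≤ A)
    (hAn : (A'.subgroupOf A).Normal) (hB : B' ≤ B) (hBn : (B'.subgroupOf B).Normal)
    (hne : A' ⊔ B' ≠ ⊥) (hne' : A' ⊔ B' ≠ ⊤) :
    normalizer ((A' ⊔ B' : Subgroup G) : Set G) ≠ ⊤ ∧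
    (∀ g ∈ normalizer ((A' ⊔ B' : Subgroup G) : Set G),
      ∃ a ∈ normalizer ((A' ⊔ B' : Subgroup G) : Set G) ⊓ A,
      ∃ b ∈ normalizer ((A' ⊔ B' : Subgroup G) : Set G) ⊓ B, g = a * b) ∧
    Group.IsSolvable ↥(normalizer ((A' ⊔ B' : Subgroup G) : Set G)) := by
  haveI := h.simple
  have h1 := not_normal_conj hne hne'
  have h2 := Cfsg.Agent.S0562.result A B A' B' h.mul hA hAn hB hBn
  exact ⟨h1, h2, h.sol _ h1 h2⟩

theorem Pair.sup_comps (h : Pair A B) {s w : ℕ} [Fact s.Prime] [Fact w.Prime]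
    (hs : s ∣ Nat.card A) (hw : w ∣ Nat.card B) : comp A s ⊔ comp B w = ⊤ := by
  haveI := h.simple
  by_contra hne
  set J := comp A s ⊔ comp B w with hJ
  have hJb : J ≠ ⊥ := fun e => h.comp_ne_bot hs (le_bot_iff.1 (le_sup_left.trans e.le))
  obtain ⟨-, hfac, hsol⟩ := h.normalizer_sol (comp A s) (comp B w) (comp_le _ _) (normal_comp _ _)
    (comp_le _ _) (normal_comp _ _) hJb hne
  set L := normalizer (J : Set G) with hL
  haveI := hsol
  have hAL : comp A s ≤ L := le_sup_left.trans le_normalizer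
  have hBL : comp B w ≤ L := le_sup_right.trans le_normalizer
  have hnA : ((comp A s).subgroupOf L).Normal → True := fun _ => trivial
  obtain ⟨P, hP⟩ := h.exists_sylow hs
  obtain ⟨Q, hQ⟩ := h.swap.exists_sylow hw
  have hcopA : (Nat.card ↥((comp A s).subgroupOf L)).Coprime ((comp A s).subgroupOf L).index := by
    rw [Nat.card_congr (subgroupOfEquivOfLe hAL).toEquiv]
    refine Nat.Coprime.coprime_dvd_right (relIndex_dvd_index_of_le hAL) ?_
    rw [← hP]; exact P.card_coprime_index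
  have hcopB : (Nat.card ↥((comp B w).subgroupOf L)).Coprime ((comp B w).subgroupOf L).index := by
    rw [Nat.card_congr (subgroupOfEquivOfLe hBL).toEquiv]
    refine Nat.Coprime.coprime_dvd_right (relIndex_dvd_index_of_le hBL) ?_
    rw [← hQ]; exact Q.card_coprime_index
  have hnorm : ∀ (C : Subgroup G) (r : ℕ),
      (((comp C r).subgroupOf L).subgroupOf ((L ⊓ C).subgroupOf L)).Normal := by
    intro C r
    refine ⟨fun x hx g => ?_⟩
    exact (mem_normalizer_iff.1 (le_normalizer_comp C r g.2.2) _).1 hx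
  obtain ⟨S, hS⟩ := Cfsg.Agent.S0561.result (G := L) ((L ⊓ A).subgroupOf L) ((L ⊓ B).subgroupOf L)
    ((comp A s).subgroupOf L) ((comp B w).subgroupOf L)
    (fun g => by
      obtain ⟨a, ha, b, hb, e⟩ := hfac g g.2
      exact ⟨⟨a, ha.1⟩, ha, ⟨b, hb.1⟩, hb, Subtype.ext e⟩)
    (fun x hx => ⟨x.2, comp_le _ _ hx⟩) (hnorm A s) (fun x hx => ⟨x.2, comp_le _ _ hx⟩) (hnorm B w)
    hcopA hcopB 1 1
  simp only [map_one, one_smul] at hS
  have hperm : KegelPermutable.Perm (comp A s) (comp B w) := by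
    refine ⟨S.map L.subtype, Set.ext fun x => ⟨?_, ?_⟩⟩
    · rintro ⟨y, hy, rfl⟩
      obtain ⟨a, ha, b, hb, rfl⟩ := hS.le hy
      exact ⟨a, ha, b, hb, rfl⟩
    · rintro ⟨a, ha, b, hb, rfl⟩
      exact ⟨⟨a, hAL ha⟩ * ⟨b, hBL hb⟩,
        hS.ge ⟨⟨a, hAL ha⟩, ha, ⟨b, hBL hb⟩, hb, rfl⟩, rfl⟩
  have hall : ∀ x : G, KegelPermutable.Perm (comp A s) (MulAut.conj x • comp B w) ∧
      comp A s ⊔ MulAut.conj x • comp B w ≠ ⊤ := by
    intro x
    obtain ⟨a, ha, b, hb, rfl⟩ := h.mul x
    have e : MulAut.conj (a * b) • comp B w = MulAut.conj a • comp B w := by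
      rw [← conj_smul_conj_smul, conj_comp hb]
    rw [e]
    refine ⟨?_, fun ht => hne ?_⟩
    · have := hperm.conj a
      rwa [conj_comp ha] at this
    · have h3 : MulAut.conj a • J = ⊤ := by rw [hJ, Subgroup.smul_sup, conj_comp ha]; exact ht
      refine eq_top_of_card_eq _ ?_
      rw [← card_conj_smul a J, h3, card_top]
  obtain ⟨N, hN, hNt, hor⟩ := KegelPermutable.exists_proper_normal (comp A s) hall
  refine hNt (hN.eq_bot_or_eq_top.resolve_left fun hb => ?_)
  rcases hor with hle | hle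
  · exact h.comp_ne_bot hs (le_bot_iff.1 (hle.trans hb.le))
  · exact h.swap.comp_ne_bot hw (le_bot_iff.1 (hle.trans hb.le))

/-- A subgroup of order prime to the second factor, normalised by (or normalising) a part of the
first factor. -/
theorem Pair.le_left (h : Pair A B) {L X : Subgroup G}
    (hfac : ∀ g ∈ L, ∃ a ∈ L ⊓ A, ∃ b ∈ L ⊓ B, g = a * b) (hXL : X ≤ L)
    (hcop : (Nat.card X).Coprime (Nat.card B))
    (hdvd : Nat.card ↥(X ⊔ L ⊓ A) ∣ Nat.card X * Nat.card ↥(L ⊓ A)) : X ≤ A := by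
  set K := X ⊔ L ⊓ A
  have hKL : K ≤ L := sup_le hXL inf_le_left
  have h1 : (Nat.card K).Coprime (Nat.card ↥(L ⊓ B)) :=
    ((hcop.mul_left (h.cop.coprime_dvd_left (card_dvd_of_le inf_le_right))).coprime_dvd_left
      hdvd).coprime_dvd_right (card_dvd_of_le inf_le_right)
  have h2 : Nat.card L = Nat.card ↥(L ⊓ A) * Nat.card ↥(L ⊓ B) := by
    have hs : (((L ⊓ A) ⊔ (L ⊓ B) : Subgroup G) : Set G) =
        ((L ⊓ A : Subgroup G) : Set G) * ((L ⊓ B : Subgroup G) : Set G) := by
      refine Set.Subset.antisymm (fun g hg => ?_) ?_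
      · obtain ⟨a, ha, b, hb, e⟩ := hfac g
          ((sup_le inf_le_left inf_le_left : (L ⊓ A) ⊔ (L ⊓ B) ≤ L) hg)
        exact ⟨a, ha, b, hb, e.symm⟩
      · rintro _ ⟨a, ha, b, hb, rfl⟩
        exact mul_mem_sup ha hb
    have h3 := LocalEvenB.CentrallyLarge.card_of_set_mul hs
    rw [show (L ⊓ A) ⊓ (L ⊓ B) = ⊥ from le_bot_iff.1 ((inf_le_inf inf_le_right inf_le_right).trans
        h.inf_bot.le), card_bot, mul_one,
      show (L ⊓ A) ⊔ (L ⊓ B) = L from le_antisymm (sup_le inf_le_left inf_le_left) fun g hg => by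
        obtain ⟨a, ha, b, hb, e⟩ := hfac g hg
        exact e ▸ mul_mem_sup ha hb] at h3
    exact h3
  have h4 : Nat.card K ∣ Nat.card ↥(L ⊓ A) :=
    h1.dvd_of_dvd_mul_right (h2 ▸ card_dvd_of_le hKL)
  exact le_sup_left.trans ((eq_of_le_of_card_ge le_sup_right (Nat.le_of_dvd Nat.card_pos h4)).ge.trans
    inf_le_right)

theorem Pair.fac_top (h : Pair A B) :
    ∀ g ∈ (⊤ : Subgroup G), ∃ a ∈ ⊤ ⊓ A, ∃ b ∈ ⊤ ⊓ B, g = a * b := fun g _ => by
  obtain ⟨a, ha, b, hb, e⟩ := h.mul g
  exact ⟨a, ⟨mem_top a, ha⟩, b, ⟨mem_top b, hb⟩, e⟩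

/-- Normal subgroups of a factorised subgroup. -/
theorem Pair.normal_le_left (h : Pair A B) {L : Subgroup G}
    (hfac : ∀ g ∈ L, ∃ a ∈ L ⊓ A, ∃ b ∈ L ⊓ B, g = a * b) (X : Subgroup L) [X.Normal]
    (hcop : (Nat.card X).Coprime (Nat.card B)) : X.map L.subtype ≤ A := by
  refine h.le_left hfac (map_subtype_le _) ?_ (card_sup_dvd ?_)
  · rwa [card_map_of_injective L.subtype_injective]
  · exact inf_le_left.trans (le_normalizer_map_subtype X)

theorem coprime_fitting {L : Type u} [Group L] [Finite L] (n : ℕ)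
    (hbot : ∀ r : ℕ, [Fact r.Prime] → r ∣ n → Cfsg.pCore r L = ⊥) :
    (Nat.card ↥(Cfsg.fittingSubgroup L)).Coprime n := by
  rw [Cores.fittingSubgroup_eq_iSup_pCore, iSup]
  refine Cores.coprime_card_sSup n _ ?_ ?_
  · rintro _ ⟨q, rfl⟩; exact Cores.pCore_normal _
  · rintro _ ⟨⟨q, hq⟩, rfl⟩
    haveI := Fact.mk hq
    by_cases hd : q ∣ n
    · show (Nat.card ↥(Cfsg.pCore q L)).Coprime n
      rw [hbot q hd, card_bot]
      exact Nat.coprime_one_left n
    · obtain ⟨k, hk⟩ := Cores.card_pow_of_pCore (G := L) q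
      show (Nat.card ↥(Cfsg.pCore q L)).Coprime n
      rw [hk]
      exact ((hq.coprime_iff_not_dvd).2 hd).pow_left k

omit [Finite G] in
/-- An element centralising the Fitting subgroup. -/
theorem mem_fitting_of_commute {L : Subgroup G} [Finite L] [Group.IsSolvable L] {y : G} (hy : y ∈ L)
    (hc : ∀ x ∈ (Cfsg.fittingSubgroup L).map L.subtype, x * y = y * x) :
    y ∈ (Cfsg.fittingSubgroup L).map L.subtype :=
  ⟨⟨y, hy⟩, Cores.centralizer_fittingSubgroup_le (mem_centralizer_iff.2 fun x hx =>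
    Subtype.ext (hc x ⟨x, hx, rfl⟩)), rfl⟩

theorem Pair.sup_central (h : Pair A B) {z : G} {p w : ℕ} [Fact p.Prime] [Fact w.Prime] (hz : z ∈ A)
    (hzo : orderOf z = p) (hzc : ∀ a ∈ A, a * z = z * a) (hw : w ∣ Nat.card B) :
    zpowers z ⊔ comp B w = ⊤ := by
  haveI := h.simple
  by_contra hne
  have hz1 : z ≠ 1 := fun e => (Fact.out : p.Prime).one_lt.ne' (by rw [← hzo, e, orderOf_one])
  set J := zpowers z ⊔ comp B w with hJ
  have hJb : J ≠ ⊥ := fun e => hz1 (mem_bot.1 (e ▸ mem_sup_left (mem_zpowers z)))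
  have hzn : ((zpowers z).subgroupOf A).Normal := ⟨fun x hx g => by
    show (g : G) * x * (g : G)⁻¹ ∈ zpowers z
    obtain ⟨i, hi⟩ := mem_zpowers_iff.1 (mem_subgroupOf.1 hx)
    rw [← hi, (Commute.zpow_right (hzc g g.2) i).eq, mul_inv_cancel_right]
    exact zpow_mem (mem_zpowers z) i⟩
  obtain ⟨-, hfac, hsol⟩ := h.normalizer_sol (zpowers z) (comp B w) (zpowers_le.2 hz) hzn
    (comp_le _ _) (normal_comp _ _) hJb hne
  set L := normalizer (J : Set G) with hL
  haveI := hsol
  have hzL : z ∈ L := le_normalizer (mem_sup_left (mem_zpowers z))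
  have hBL : comp B w ≤ L := le_sup_right.trans le_normalizer
  have hbot : ∀ r : ℕ, [Fact r.Prime] → r ∣ Nat.card A → Cfsg.pCore r L = ⊥ := by
    intro r _ hr
    by_contra hR
    set R := (Cfsg.pCore r L).map L.subtype with hRdef
    have hRp : IsPGroup r R := (Cores.isPGroup_pCore r).map _
    have hRA : R ≤ A := by
      refine h.normal_le_left hfac _ ?_
      obtain ⟨k, hk⟩ := Cores.card_pow_of_pCore (G := L) r
      rw [hk]
      exact ((Fact.out : r.Prime).coprime_iff_not_dvd.2 fun hB =>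
        (Fact.out : r.Prime).one_lt.ne' (Nat.eq_one_of_dvd_coprimes h.cop hr hB)).pow_left k
    obtain ⟨s, hs, hsd, hsr⟩ := h.exists_other_prime r
    haveI := Fact.mk hs
    have h1 : comp A s ⊔ comp B w ≤ normalizer (R : Set G) := by
      refine sup_le (fun x hx => centralizer_le_normalizer _ (mem_centralizer_iff.2 fun y hy =>
        commute_pgroups h.nilA hsr.symm hRp hRA (comp_isPGroup A s) (comp_le A s) hy hx)) ?_
      exact hBL.trans (le_normalizer_map_subtype _)
    rw [h.sup_comps hsd hw] at h1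
    refine not_normal_conj (fun e => hR ?_) (h.pgroup_ne_top hRp) (top_le_iff.1 h1)
    exact (map_eq_bot_iff_of_injective _ L.subtype_injective).1 e
  set F := (Cfsg.fittingSubgroup L).map L.subtype with hF
  have hFB : F ≤ B := h.swap.normal_le_left (L := L) (fun g hg => by
    obtain ⟨a, ha, b, hb, e⟩ := hfac g⁻¹ (inv_mem hg)
    exact ⟨b⁻¹, inv_mem hb, a⁻¹, inv_mem ha, by rw [← mul_inv_rev, ← e, inv_inv]⟩) _
    (coprime_fitting _ hbot)
  obtain ⟨y, hy, hyo, hyc⟩ := exists_central h.nilB hw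
  have hy1 : y ≠ 1 := fun e => (Fact.out : w.Prime).one_lt.ne' (by rw [← hyo, e, orderOf_one])
  have hyp : IsPGroup w (zpowers y) := IsPGroup.of_card (n := 1) (by rw [Nat.card_zpowers, hyo, pow_one])
  have hyW : y ∈ comp B w := le_comp h.nilB (zpowers_le.2 hy) hyp (mem_zpowers y)
  have hyF : y ∈ F := mem_fitting_of_commute (hBL hyW) fun x hx => hyc x (hFB hx)
  set Q := F ⊓ comp B w with hQ
  have hQp : IsPGroup w Q := (comp_isPGroup B w).to_le inf_le_right
  have hzQ : ∀ x ∈ Q, ∀ u ∈ zpowers z, u * x * u⁻¹ ∈ Q := by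
    intro x hx u hu
    have huL : u ∈ L := zpowers_le.2 hzL hu
    have h1 : u * x * u⁻¹ ∈ F := by
      obtain ⟨x', hx', e⟩ := hx.1
      exact ⟨⟨u, huL⟩ * x' * ⟨u, huL⟩⁻¹, (Cores.fittingSubgroup_normal).conj_mem x' hx' _, by
        rw [← e]; rfl⟩
    refine ⟨h1, le_comp h.nilB (zpowers_le.2 (hFB h1)) ?_ (mem_zpowers _)⟩
    obtain ⟨k, hk⟩ := (comp_isPGroup B w).exists_card_eq
    refine IsPGroup.of_card_dvd_pow (n := k) ?_
    rw [Nat.card_zpowers, ← MulAut.conj_apply, MulEquiv.orderOf_eq]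
    exact hk ▸ (Subgroup.orderOf_dvd_natCard _ hx.2)
  obtain ⟨P, hP⟩ := SubnormalCriteria.exists_sylow_normalized w (zpowers y) (zpowers z) (fun g => by
    obtain ⟨a, ha, b, hb, rfl⟩ := h.mul g
    refine (hQp.map (MulAut.conj a).toMonoidHom).to_le (iSup₂_le fun u hu => ?_)
    intro x hx
    obtain ⟨t, ht, rfl⟩ := (mem_map (f := (MulAut.conj (u * (a * b))).toMonoidHom)).1 hx
    obtain ⟨i, rfl⟩ := mem_zpowers_iff.1 ht
    have hua : u * a = a * u := by
      obtain ⟨j, hj⟩ := mem_zpowers_iff.1 hu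
      rw [← hj]
      exact (Commute.zpow_right (hzc a ha) j).eq.symm
    refine ⟨u * y ^ i * u⁻¹, hzQ _ (zpow_mem (show y ∈ Q from ⟨hyF, hyW⟩) i) u hu, ?_⟩
    show a * (u * y ^ i * u⁻¹) * a⁻¹ = u * (a * b) * y ^ i * (u * (a * b))⁻¹
    have hb' : b * y ^ i * b⁻¹ = y ^ i := by
      rw [(Commute.zpow_right (hyc b hb) i).eq, mul_inv_cancel_right]
    calc a * (u * y ^ i * u⁻¹) * a⁻¹ = (a * u) * y ^ i * (a * u)⁻¹ := by group
      _ = (u * a) * (b * y ^ i * b⁻¹) * (u * a)⁻¹ := by rw [hua, hb']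
      _ = u * (a * b) * y ^ i * (u * (a * b))⁻¹ := by group)
  set W : Subgroup G := ⨆ g ∈ {g : G | MulAut.conj g • zpowers y ≤ (P : Subgroup G)},
    MulAut.conj g • zpowers y with hW
  obtain ⟨a, ha, hPa⟩ := h.exists_conj_sylow hw P
  have hWne : W ≠ ⊥ := by
    have h1 : MulAut.conj a • zpowers y ≤ W := le_iSup₂_of_le a
      (show MulAut.conj a • zpowers y ≤ (P : Subgroup G) from
        hPa ▸ conj_smul_mono (zpowers_le.2 hyW)) le_rfl
    intro e
    have h2 := h1 (conj_mem_conj_smul (mem_zpowers y))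
    rw [e, mem_bot, conj_eq_one_iff] at h2
    exact hy1 h2
  have hWP : W ≤ (P : Subgroup G) := iSup₂_le fun g hg => hg
  have hBN : MulAut.conj a • B ≤ normalizer (W : Set G) := by
    intro n hn
    have hnP : MulAut.conj n • (P : Subgroup G) = P := by
      rw [hPa, conj_smul_conj_smul]
      obtain ⟨b, hb, rfl⟩ := hn
      show MulAut.conj (a * b * a⁻¹ * a) • comp B w = _
      rw [inv_mul_cancel_right, ← conj_smul_conj_smul, conj_comp hb]
    refine mem_normalizer_iff_map_conj_eq.2 ?_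
    refine eq_of_le_of_card_ge ?_ (by rw [card_map_of_injective (MulAut.conj n).injective])
    show W.map (MulAut.conj n).toMonoidHom ≤ W
    rw [hW, Subgroup.map_iSup]
    refine iSup_le fun g => ?_
    rw [Subgroup.map_iSup]
    refine iSup_le fun hg => le_iSup₂_of_le (n * g) ?_ ?_
    · show MulAut.conj (n * g) • zpowers y ≤ (P : Subgroup G)
      rw [← conj_smul_conj_smul, ← hnP]
      exact conj_smul_mono hg
    · rw [← conj_smul_conj_smul]
      exact le_rfl
  have htop : normalizer (W : Set G) ≠ ⊤ :=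
    not_normal_conj hWne (h.pgroup_ne_top (P.isPGroup'.to_le hWP))
  have hclos : normalClosure ({z} : Set G) ≤ MulAut.conj a⁻¹ • normalizer (W : Set G) := by
    rw [normalClosure, closure_le]
    intro v hv
    obtain ⟨z', hz', hv'⟩ := Group.mem_conjugatesOfSet_iff.1 hv
    obtain ⟨g, rfl⟩ := isConj_iff.1 hv'
    rw [Set.mem_singleton_iff] at hz'
    subst hz'
    obtain ⟨b, hb, a', ha', rfl⟩ := h.swap.mul g
    rw [SetLike.mem_coe, mem_conj_smul, inv_inv]
    have e1 : a * (b * a' * z' * (b * a')⁻¹) * a⁻¹ = (a * b * a⁻¹) * z' * (a * b * a⁻¹)⁻¹ := by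
      calc a * (b * a' * z' * (b * a')⁻¹) * a⁻¹ = a * b * (a' * z') * a'⁻¹ * b⁻¹ * a⁻¹ := by group
        _ = a * b * (z' * a') * a'⁻¹ * b⁻¹ * a⁻¹ := by rw [hzc a' ha']
        _ = a * b * z' * (a⁻¹ * a) * b⁻¹ * a⁻¹ := by group
        _ = a * b * (a⁻¹ * (a * z') * 1) * b⁻¹ * a⁻¹ := by group
        _ = a * b * (a⁻¹ * (z' * a) * 1) * b⁻¹ * a⁻¹ := by rw [hzc a ha]
        _ = _ := by group
    rw [e1]
    have hbN := hBN (conj_mem_conj_smul (g := a) hb)
    exact mul_mem (mul_mem hbN (hP (mem_zpowers _))) (inv_mem hbN)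
  rcases (normalClosure_normal : (normalClosure ({z} : Set G)).Normal).eq_bot_or_eq_top with e | e
  · exact hz1 (mem_bot.1 (e ▸ subset_normalClosure rfl))
  · refine htop (eq_top_of_card_eq _ ?_)
    rw [← card_conj_smul a⁻¹, top_le_iff.1 (e.ge.trans hclos), card_top]

theorem Pair.commute_trivial (h : Pair A B) {z : G} {p : ℕ} [Fact p.Prime] (hz : z ∈ A)
    (hzo : orderOf z = p) (hzc : ∀ a ∈ A, a * z = z * a) {u : G} (hu : u ∈ B)
    (huz : u * z = z * u) : u = 1 := by
  by_contra hu1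
  have ho : orderOf u ≠ 1 := fun e => hu1 (orderOf_eq_one_iff.1 e)
  obtain ⟨w, hw, hwd⟩ := Nat.exists_prime_and_dvd ho
  haveI := Fact.mk hw
  set v := u ^ (orderOf u / w) with hv
  have hvo : orderOf v = w := orderOf_pow_orderOf_div (orderOf_pos u).ne' hwd
  have hvB : v ∈ B := pow_mem hu _
  have hwB : w ∣ Nat.card B := hvo ▸ Subgroup.orderOf_dvd_natCard _ hvB
  obtain ⟨w2, hw2, hw2d, hne⟩ := h.swap.exists_other_prime w
  haveI := Fact.mk hw2
  have hvp : IsPGroup w (zpowers v) := IsPGroup.of_card (n := 1) (by rw [Nat.card_zpowers, hvo, pow_one])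
  refine h.centralizer_ne_top (x := v) (fun e => hw.one_lt.ne' (by rw [← hvo, e, orderOf_one]))
    (top_le_iff.1 ?_)
  rw [← h.sup_central hz hzo hzc hw2d]
  refine sup_le (zpowers_le.2 (mem_centralizer_singleton_iff.2 ?_)) fun x hx =>
    mem_centralizer_singleton_iff.2 ?_
  · exact (Commute.pow_left (show Commute u z from huz) _).eq.symm
  · exact commute_pgroups h.nilB hne (comp_isPGroup B w2) (comp_le B w2) hvp (zpowers_le.2 hvB) hx
      (mem_zpowers v)

theorem Pair.centralizer_central (h : Pair A B) {z : G} {p : ℕ} [Fact p.Prime] (hz : z ∈ A)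
    (hzo : orderOf z = p) (hzc : ∀ a ∈ A, a * z = z * a) {g : G} (hg : g * z = z * g) : g ∈ A := by
  obtain ⟨b, hb, a, ha, rfl⟩ := h.swap.mul g
  have : b * z = z * b := by
    rw [mul_assoc, hzc a ha, ← mul_assoc, ← mul_assoc] at hg
    exact mul_right_cancel hg
  rw [h.commute_trivial hz hzo hzc hb this, one_mul]
  exact ha

theorem Pair.normalised_trivial (h : Pair A B) {z : G} {p w : ℕ} [Fact p.Prime] [Fact w.Prime]
    (hz : z ∈ A) (hzo : orderOf z = p) (hzc : ∀ a ∈ A, a * z = z * a) (hw : w ∣ Nat.card B)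
    {X : Subgroup G} (hX : IsPGroup w X) (hzX : z ∈ normalizer (X : Set G)) : X = ⊥ := by
  haveI := h.simple
  obtain ⟨P, hP⟩ := hX.exists_le_sylow
  obtain ⟨a, ha, hPa⟩ := h.exists_conj_sylow hw P
  set X' := MulAut.conj a⁻¹ • X with hX'
  have hX'w : X' ≤ comp B w := by
    have := conj_smul_mono (g := a⁻¹) (hP.trans hPa.le)
    rwa [conj_smul_conj_smul, inv_mul_cancel, map_one, one_smul] at this
  have hzX' : z ∈ normalizer (X' : Set G) := by
    refine mem_normalizer_iff_map_conj_eq.2 ?_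
    show MulAut.conj z • X' = X'
    rw [hX', conj_smul_conj_smul, ← hzc a⁻¹ (inv_mem ha), ← conj_smul_conj_smul,
      conj_normalizer hzX]
  obtain ⟨w2, hw2, hw2d, hne⟩ := h.swap.exists_other_prime w
  haveI := Fact.mk hw2
  have htop : normalizer (X' : Set G) = ⊤ := by
    rw [eq_top_iff, ← h.sup_central hz hzo hzc hw2d]
    refine sup_le (zpowers_le.2 hzX') fun x hx => centralizer_le_normalizer _
      (mem_centralizer_iff.2 fun y hy => ?_)
    exact commute_pgroups h.nilB hne.symm ((comp_isPGroup B w).to_le hX'w) (hX'w.trans (comp_le _ _))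
      (comp_isPGroup B w2) (comp_le _ _) hy hx
  by_contra hne0
  refine not_normal_conj (fun e => hne0 ?_) (h.pgroup_ne_top ((comp_isPGroup B w).to_le hX'w)) htop
  rw [← card_eq_one] at e ⊢
  rwa [hX', card_conj_smul] at e

theorem Pair.conj_mem_of_fac (h : Pair A B) {L : Subgroup G} (hL : L ≠ ⊤)
    (hfac : ∀ g ∈ L, ∃ a ∈ L ⊓ A, ∃ b ∈ L ⊓ B, g = a * b) (hAL : A ≤ L) {z : G} {p : ℕ}
    [Fact p.Prime] (hz : z ∈ A) (hzo : orderOf z = p) (hzc : ∀ a ∈ A, a * z = z * a) {m : G}
    (hm : m ∈ L) : m * z * m⁻¹ ∈ A := by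
  haveI := h.sol L hL hfac
  set F := (Cfsg.fittingSubgroup L).map L.subtype with hF
  have hFA : F ≤ A := h.normal_le_left hfac _ (coprime_fitting _ fun w _ hw =>
    (map_eq_bot_iff_of_injective _ L.subtype_injective).1
      (h.normalised_trivial hz hzo hzc hw ((Cores.isPGroup_pCore w).map _)
        (le_normalizer_map_subtype _ (hAL hz))))
  obtain ⟨z', hz', e⟩ := mem_fitting_of_commute (hAL hz) fun x hx => hzc x (hFA hx)
  refine hFA ⟨⟨m, hm⟩ * z' * ⟨m, hm⟩⁻¹, Cores.fittingSubgroup_normal.conj_mem z' hz' _, ?_⟩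
  rw [← e]
  rfl

theorem Pair.mem_normalizer_comp (h : Pair A B) {z g : G} {p s : ℕ} [Fact p.Prime] [Fact s.Prime]
    (hz : z ∈ A) (hzo : orderOf z = p) (hzc : ∀ a ∈ A, a * z = z * a) (hsp : s ≠ p)
    (hg : g * z * g⁻¹ ∈ A) : g ∈ normalizer (comp A s : Set G) := by
  have hzp : IsPGroup p (zpowers (g * z * g⁻¹)) := IsPGroup.of_card (n := 1) (by
    rw [Nat.card_zpowers, ← MulAut.conj_apply, MulEquiv.orderOf_eq, hzo, pow_one])
  have h1 : comp A s ≤ MulAut.conj g • comp A s := by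
    intro x hx
    have h2 := commute_pgroups h.nilA hsp (comp_isPGroup A s) (comp_le A s) hzp (zpowers_le.2 hg) hx
      (mem_zpowers _)
    have h3 : g⁻¹ * x * g ∈ A := by
      refine h.centralizer_central hz hzo hzc ?_
      calc g⁻¹ * x * g * z = g⁻¹ * (x * (g * z * g⁻¹)) * g := by group
        _ = g⁻¹ * ((g * z * g⁻¹) * x) * g := by rw [h2]
        _ = z * (g⁻¹ * x * g) := by group
    refine mem_conj_smul.2 (le_comp h.nilA (zpowers_le.2 h3) ?_ (mem_zpowers _))
    obtain ⟨k, hk⟩ := orderOf_pgroup (comp_isPGroup A s) hx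
    refine IsPGroup.of_card (n := k) ?_
    rw [Nat.card_zpowers, show g⁻¹ * x * g = MulAut.conj g⁻¹ x by simp, MulEquiv.orderOf_eq, hk]
  refine mem_normalizer_iff_map_conj_eq.2 ?_
  exact (eq_of_le_of_card_ge h1 (card_conj_smul g _).le).symm

theorem Pair.le_normalizer_left (h : Pair A B) {L : Subgroup G} (hL : L ≠ ⊤)
    (hfac : ∀ g ∈ L, ∃ a ∈ L ⊓ A, ∃ b ∈ L ⊓ B, g = a * b) (hAL : A ≤ L) :
    L ≤ normalizer (A : Set G) := by
  intro m hm
  refine mem_normalizer_iff_map_conj_eq.2 ?_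
  show MulAut.conj m • A = A
  refine (eq_of_le_of_card_ge (le_of_comps h.nilA fun s _ hs => ?_) (card_conj_smul m A).le).symm
  obtain ⟨p, hp, hpd, hps⟩ := h.exists_other_prime s
  haveI := Fact.mk hp
  obtain ⟨z, hz, hzo, hzc⟩ := exists_central h.nilA hpd
  have := h.mem_normalizer_comp (s := s) hz hzo hzc hps.symm (h.conj_mem_of_fac hL hfac hAL hz hzo hzc hm)
  rw [← conj_normalizer this]
  exact conj_smul_mono (comp_le A s)

theorem Pair.normalizer_comp_le (h : Pair A B) {s : ℕ} [Fact s.Prime] (hs : s ∣ Nat.card A) :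
    normalizer (comp A s : Set G) ≤ normalizer (A : Set G) := by
  have hb : comp A s ⊔ (⊥ : Subgroup G) = comp A s := sup_bot_eq _
  obtain ⟨h1, h2, -⟩ := h.normalizer_sol (comp A s) ⊥ (comp_le _ _) (normal_comp _ _) bot_le
    (by rw [bot_subgroupOf]; infer_instance) (by rw [hb]; exact h.comp_ne_bot hs)
    (by rw [hb]; exact h.pgroup_ne_top (comp_isPGroup A s))
  rw [hb] at h1 h2
  exact h.le_normalizer_left h1 h2 (le_normalizer_comp A s)

theorem Pair.mem_normalizer_of_conj (h : Pair A B) {z g : G} {p : ℕ} [Fact p.Prime]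
    (hz : z ∈ A) (hzo : orderOf z = p) (hzc : ∀ a ∈ A, a * z = z * a) (hg : g * z * g⁻¹ ∈ A) :
    g ∈ normalizer (A : Set G) := by
  obtain ⟨s, hs, hsd, hsp⟩ := h.exists_other_prime p
  haveI := Fact.mk hs
  exact h.normalizer_comp_le hsd (h.mem_normalizer_comp hz hzo hzc hsp hg)

theorem Pair.centralizer_le_swap (h : Pair A B) {t : G} (htB : t ∈ B)
    (htA : t ∈ normalizer (A : Set G)) (ht : t ≠ 1) :
    centralizer ({t} : Set G) ≤ normalizer (B : Set G) := by
  set H := centralizer ({t} : Set G) with hH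
  have hfac : ∀ g ∈ H, ∃ b ∈ H ⊓ B, ∃ a ∈ H ⊓ A, g = b * a := by
    intro g hg
    obtain ⟨b, hb, a, ha, rfl⟩ := h.swap.mul g
    have hgt := mem_centralizer_singleton_iff.1 hg
    have h1 : a * t * a⁻¹ * t⁻¹ ∈ B := by
      have e : a * t * a⁻¹ = b⁻¹ * t * b := by
        calc a * t * a⁻¹ = b⁻¹ * ((b * a) * t) * (b * a)⁻¹ * b := by group
          _ = b⁻¹ * (t * (b * a)) * (b * a)⁻¹ * b := by rw [hgt]
          _ = b⁻¹ * t * b := by group
      rw [e]
      exact mul_mem (mul_mem (mul_mem (inv_mem hb) htB) hb) (inv_mem htB)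
    have h2 : a * t * a⁻¹ * t⁻¹ ∈ A := by
      rw [mul_assoc, mul_assoc, ← mul_assoc t]
      exact mul_mem ha ((mem_normalizer_iff.1 htA _).1 (inv_mem ha))
    have h3 : a * t * a⁻¹ * t⁻¹ ∈ A ⊓ B := ⟨h2, h1⟩
    rw [h.inf_bot, mem_bot, mul_inv_eq_one, mul_inv_eq_iff_eq_mul] at h3
    have haH : a ∈ H := mem_centralizer_singleton_iff.2 h3
    refine ⟨b, ⟨?_, hb⟩, a, ⟨haH, ha⟩, rfl⟩
    simpa using mul_mem hg (inv_mem haH)
  have hH' : H ≠ ⊤ := h.centralizer_ne_top ht
  haveI := h.swap.sol H hH' hfac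
  obtain ⟨w, hw, hwd⟩ := Nat.exists_prime_and_dvd (fun e => h.swap.ne_bot (card_eq_one.1 e) :
    Nat.card B ≠ 1)
  haveI := Fact.mk hw
  obtain ⟨y, hy, hyo, hyc⟩ := exists_central h.nilB hwd
  have hyH : y ∈ H := mem_centralizer_singleton_iff.2 (hyc t htB).symm
  set F := (Cfsg.fittingSubgroup H).map H.subtype with hF
  have hFB : F ≤ B := h.swap.normal_le_left hfac _ (coprime_fitting _ fun r _ hr =>
    (map_eq_bot_iff_of_injective _ H.subtype_injective).1
      (h.swap.normalised_trivial hy hyo hyc hr ((Cores.isPGroup_pCore r).map _)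
        (le_normalizer_map_subtype _ hyH)))
  obtain ⟨y', hy', e⟩ := mem_fitting_of_commute hyH fun x hx => hyc x (hFB hx)
  intro g hg
  refine h.swap.mem_normalizer_of_conj hy hyo hyc
    (hFB ⟨⟨g, hg⟩ * y' * ⟨g, hg⟩⁻¹, Cores.fittingSubgroup_normal.conj_mem y' hy' _, ?_⟩)
  rw [← e]
  rfl

/-- Two prime powers. -/
theorem mem_centralizer_of_eq {R : Subgroup G} {p e : ℕ} {g n : G} (hg : g ∈ normalizer (R : Set G))
    (hn : n ∈ normalizer (R : Set G)) (hgn : n⁻¹ * g ∈ centralizer (R : Set G))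
    (hgp : (orderOf g).Coprime p) (hnp : n ^ p ^ e ∈ centralizer (R : Set G)) :
    g ∈ centralizer (R : Set G) := by
  let f := R.normalizerMonoidHom
  have hker : ∀ x : normalizer (R : Set G), f x = 1 ↔ (x : G) ∈ centralizer (R : Set G) := by
    intro x
    rw [← MonoidHom.mem_ker, normalizerMonoidHom_ker, mem_subgroupOf]
  have h1 : f ⟨g, hg⟩ = f ⟨n, hn⟩ := by
    have : f (⟨n, hn⟩⁻¹ * ⟨g, hg⟩) = 1 := (hker _).2 hgn
    rw [map_mul, map_inv, inv_mul_eq_one] at this
    exact this.symm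
  have h2 : f ⟨g, hg⟩ ^ p ^ e = 1 := by rw [h1, ← map_pow]; exact (hker _).2 hnp
  have h3 : f ⟨g, hg⟩ ^ orderOf g = 1 := by
    rw [← map_pow, show (⟨g, hg⟩ : normalizer (R : Set G)) ^ orderOf g = 1 from
      Subtype.ext (pow_orderOf_eq_one g), map_one]
  have h4 := pow_gcd_eq_one.2 ⟨h2, h3⟩
  rw [((hgp.pow_right e).symm).gcd_eq_one, pow_one] at h4
  exact (hker _).1 h4

theorem Pair.centralizer_le (h : Pair A B) {d : G} {r : ℕ} [Fact r.Prime] (hd : d ∈ A)
    (hdo : orderOf d = r) : centralizer ({d} : Set G) ≤ normalizer (A : Set G) := by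
  haveI := h.simple
  have hd1 : d ≠ 1 := fun e => (Fact.out : r.Prime).one_lt.ne' (by rw [← hdo, e, orderOf_one])
  set M := normalizer (A : Set G) with hM
  set H := centralizer ({d} : Set G) with hH
  have hr : r ∣ Nat.card A := hdo ▸ Subgroup.orderOf_dvd_natCard _ hd
  by_cases hK : H ⊓ M ≤ A
  swap
  · obtain ⟨v, ⟨hvH, hvM⟩, hvA⟩ := SetLike.not_le_iff_exists.1 hK
    obtain ⟨w, hw, hwB, hwv⟩ : ∃ w : ℕ, w.Prime ∧ w ∣ Nat.card B ∧ w ∣ orderOf v := by
      by_contra hno
      push Not at hno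
      refine hvA (h.le_left h.fac_top le_top ?_ ?_ (mem_zpowers v))
      · rw [Nat.card_zpowers]
        exact Nat.coprime_of_dvd fun k hk hk1 hk2 => hno k hk hk2 hk1
      · rw [sup_comm, mul_comm]
        exact card_sup_dvd ((zpowers_le.2 hvM).trans (by rw [top_inf_eq]))
    haveI := Fact.mk hw
    set v' := v ^ (orderOf v / w) with hv'
    have hv'o : orderOf v' = w := orderOf_pow_orderOf_div (orderOf_pos v).ne' hwv
    obtain ⟨P, hP⟩ := (IsPGroup.of_card (p := w) (n := 1)
      (by rw [Nat.card_zpowers, hv'o, pow_one]) : IsPGroup w (zpowers v')).exists_le_sylow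
    obtain ⟨a, ha, hPa⟩ := h.exists_conj_sylow hwB P
    set t := a⁻¹ * v' * a with ht
    have htB : t ∈ B := comp_le B w (mem_conj_smul.1 (hPa ▸ hP (mem_zpowers v')))
    have htM : t ∈ M := mul_mem (mul_mem (inv_mem (le_normalizer ha)) (pow_mem hvM _))
      (le_normalizer ha)
    have ht1 : t ≠ 1 := fun e => hw.one_lt.ne' (by
      rw [← hv'o, show v' = a * t * a⁻¹ by rw [ht]; group, e, mul_one, mul_inv_cancel, orderOf_one])
    set d' := a⁻¹ * d * a with hd'
    have hd'A : d' ∈ A := mul_mem (mul_mem (inv_mem ha) hd) ha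
    have hd't : d' ∈ centralizer ({t} : Set G) := mem_centralizer_singleton_iff.2 (by
      have h5 := (Commute.pow_left (show Commute v d from mem_centralizer_singleton_iff.1 hvH)
        (orderOf v / w)).eq
      calc d' * t = a⁻¹ * (d * v') * a := by rw [hd', ht]; group
        _ = a⁻¹ * (v' * d) * a := by rw [hv', h5]
        _ = t * d' := by rw [hd', ht]; group)
    have hd'1 : d' ≠ 1 := fun e => hd1 (by
      rw [show d = a * d' * a⁻¹ by rw [hd']; group, e, mul_one, mul_inv_cancel])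
    have hle := h.swap.centralizer_le_swap hd'A (h.centralizer_le_swap htB htM ht1 hd't) hd'1
    intro g hg
    have h6 : a⁻¹ * g * a ∈ M := hle (mem_centralizer_singleton_iff.2 (by
      have h7 := mem_centralizer_singleton_iff.1 hg
      calc a⁻¹ * g * a * d' = a⁻¹ * (g * d) * a := by rw [hd']; group
        _ = a⁻¹ * (d * g) * a := by rw [h7]
        _ = d' * (a⁻¹ * g * a) := by rw [hd']; group))
    have := mul_mem (mul_mem (le_normalizer ha : a ∈ M) h6) (inv_mem (le_normalizer ha : a ∈ M))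
    rwa [show a * (a⁻¹ * g * a) * a⁻¹ = g by group] at this
  -- the centraliser meets the normaliser inside the first factor
  suffices hHA : H ≤ A from hHA.trans le_normalizer
  haveI := h.nilA
  obtain ⟨z, hz, hzo, hzc⟩ := exists_central h.nilA hr
  have hzH : z ∈ H := mem_centralizer_singleton_iff.2 (hzc d hd).symm
  have hzr : IsPGroup r (zpowers z) := IsPGroup.of_card (n := 1) (by rw [Nat.card_zpowers, hzo, pow_one])
  have hdr : IsPGroup r (zpowers d) := IsPGroup.of_card (n := 1) (by rw [Nat.card_zpowers, hdo, pow_one])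
  have hAs : ∀ s : ℕ, [Fact s.Prime] → s ≠ r → comp A s ≤ H := fun s _ hs x hx =>
    mem_centralizer_singleton_iff.2 (commute_pgroups h.nilA hs (comp_isPGroup A s) (comp_le A s) hdr
      (zpowers_le.2 hd) hx (mem_zpowers d))
  set Kr := H ⊓ comp A r with hKr
  have hKrp : IsPGroup r Kr := (comp_isPGroup A r).to_le inf_le_right
  have hzKr : z ∈ Kr := ⟨hzH, le_comp h.nilA (zpowers_le.2 hz) hzr (mem_zpowers z)⟩
  obtain ⟨P, hP⟩ : ∃ P : Sylow r H, (P : Subgroup H) = Kr.subgroupOf H := by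
    obtain ⟨P, hP⟩ := (hKrp.comap_of_injective H.subtype H.subtype_injective).exists_le_sylow
    refine ⟨P, le_antisymm ?_ hP⟩
    by_contra hne
    haveI : Group.IsNilpotent ↥(P : Subgroup H) := P.isPGroup'.isNilpotent
    have hlt : (Kr.subgroupOf H).subgroupOf (P : Subgroup H) < ⊤ := lt_top_iff_ne_top.2 fun e =>
      hne (Subgroup.subgroupOf_eq_top.1 e)
    obtain ⟨x, hx, hxn⟩ := SetLike.exists_of_lt (Group.normalizerCondition_of_isNilpotent _ hlt)
    have hxz : ((x : H) : G) * z * ((x : H) : G)⁻¹ ∈ A :=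
      comp_le A r ((mem_normalizer_iff.1 hx ⟨⟨z, hzH⟩, hP hzKr⟩).1 hzKr).2
    have hxA : ((x : H) : G) ∈ A := hK ⟨(x : H).2, h.mem_normalizer_of_conj hz hzo hzc hxz⟩
    refine hxn ⟨(x : H).2, le_comp h.nilA (zpowers_le.2 hxA) ?_ (mem_zpowers _)⟩
    exact (P.isPGroup'.map H.subtype).to_le (zpowers_le.2 (mem_map_of_mem H.subtype x.2))
  have hPA : ∀ x : H, x ∈ (P : Subgroup H) → (x : G) ∈ comp A r := fun x hx => (hP.le hx).2
  obtain ⟨P', N, hN, hNc⟩ := Fusion.Alperin.npc_of_frobenius P fun Q hQ g hg hgp => by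
    obtain ⟨s, hs, hsd, hsr⟩ := h.exists_other_prime r
    haveI := Fact.mk hs
    obtain ⟨T, hT⟩ := h.exists_sylow hsd
    set C := H ⊓ centralizer ((Q.map H.subtype : Subgroup G) : Set G) with hC
    have hgn : (g : G) ∈ normalizer ((Q.map H.subtype : Subgroup G) : Set G) :=
      le_normalizer_map_of_mem hg
    have hTC : (T : Subgroup G) ≤ C := hT ▸ le_inf (hAs s hsr) fun x hx => mem_centralizer_iff.2 (by
      rintro _ ⟨q, hq, rfl⟩
      exact commute_pgroups h.nilA hsr.symm (comp_isPGroup A r) (comp_le A r) (comp_isPGroup A s)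
        (comp_le A s) (hPA q (hQ hq)) hx)
    have hgC : MulAut.conj (g : G) • (T : Subgroup G) ≤ C := by
      intro y hy
      have hy' := hTC (mem_conj_smul.1 hy)
      refine Subgroup.mem_inf.2 ⟨?_, mem_centralizer_iff.2 fun q hq => ?_⟩
      · simpa [mul_assoc] using mul_mem (mul_mem g.2 hy'.1) (inv_mem g.2)
      · have hq' : (g : G)⁻¹ * q * g ∈ Q.map H.subtype := by
          have := (mem_normalizer_iff.1 (inv_mem hgn) q).1 hq
          rwa [inv_inv] at this
        have h5 := mem_centralizer_iff.1 hy'.2 _ hq'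
        calc q * y = g * (((g : G)⁻¹ * q * g) * ((g : G)⁻¹ * y * g)) * (g : G)⁻¹ := by group
          _ = g * (((g : G)⁻¹ * y * g) * ((g : G)⁻¹ * q * g)) * (g : G)⁻¹ := by rw [h5]
          _ = y * q := by group
    obtain ⟨c, hc⟩ := MulAction.exists_smul_eq C (T.subtype hTC)
      (((g : G) • T).subtype (by rw [Sylow.coe_subgroup_smul]; exact hgC))
    have hc' := congrArg (fun T : Sylow s C => (T : Subgroup C).map C.subtype) hc
    simp only [Sylow.coe_subgroup_smul, Sylow.coe_subtype, map_subtype_conj_smul] at hc'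
    rw [map_subgroupOf_eq_of_le hTC, map_subgroupOf_eq_of_le hgC, hT] at hc'
    set n := (c : G)⁻¹ * g with hn
    have hnA : n ∈ A := by
      refine hK (Subgroup.mem_inf.2 ⟨mul_mem (inv_mem c.2.1) g.2, h.normalizer_comp_le hsd ?_⟩)
      refine mem_normalizer_iff_map_conj_eq.2 ?_
      show MulAut.conj n • comp A s = comp A s
      rw [hn, ← conj_smul_conj_smul, ← hc', conj_smul_conj_smul, inv_mul_cancel, map_one, one_smul]
    have hcC : (c : G) ∈ centralizer ((Q.map H.subtype : Subgroup G) : Set G) := c.2.2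
    have hnQ : n ∈ normalizer ((Q.map H.subtype : Subgroup G) : Set G) :=
      mul_mem (inv_mem (centralizer_le_normalizer _ hcC)) hgn
    obtain ⟨e, u, hu, hou⟩ := Nat.exists_eq_pow_mul_and_not_dvd (orderOf_pos n).ne' r
      (Fact.out : r.Prime).ne_one
    have hnpe : n ^ r ^ e ∈ centralizer ((Q.map H.subtype : Subgroup G) : Set G) := by
      refine mem_centralizer_iff.2 ?_
      rintro _ ⟨q, hq, rfl⟩
      refine OddOrder.Basic.commute_of_mem_nilpotent (K := A) (comp_le A r (hPA q (hQ hq)))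
        (pow_mem hnA _) ?_
      obtain ⟨k, hk⟩ := orderOf_pgroup (comp_isPGroup A r) (hPA q (hQ hq))
      rw [show orderOf (H.subtype q) = r ^ k from hk,
        orderOf_pow_of_dvd (pow_ne_zero e (Fact.out : r.Prime).ne_zero) (hou ▸ dvd_mul_right _ _),
        hou, Nat.mul_div_cancel_left _ (pow_pos (Fact.out : r.Prime).pos e)]
      exact ((Fact.out : r.Prime).coprime_iff_not_dvd.2 hu).pow_left k
    have hres : (g : G) ∈ centralizer ((Q.map H.subtype : Subgroup G) : Set G) := by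
      refine mem_centralizer_of_eq hgn hnQ ?_ (by rwa [Subgroup.orderOf_coe]) hnpe
      -- the quotient is a conjugate of `c`
      refine mem_centralizer_iff.2 fun q hq => ?_
      have hq' : (g : G) * q * (g : G)⁻¹ ∈ Q.map H.subtype := (mem_normalizer_iff.1 hgn q).1 hq
      have h5 := mem_centralizer_iff.1 hcC _ hq'
      calc q * (n⁻¹ * g) = (g : G)⁻¹ * (((g : G) * q * (g : G)⁻¹) * c) * g := by rw [hn]; group
        _ = (g : G)⁻¹ * (c * ((g : G) * q * (g : G)⁻¹)) * g := by rw [h5]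
        _ = n⁻¹ * g * q := by rw [hn]; group
    exact mem_centralizer_iff.2 fun q hq =>
      Subtype.ext (mem_centralizer_iff.1 hres _ (mem_map_of_mem H.subtype hq))
  -- no prime of the second factor divides the order of the centraliser
  have hHB : ∀ w : ℕ, w.Prime → w ∣ Nat.card H → ¬ w ∣ Nat.card B := by
    intro w hw hwH hwB
    haveI := Fact.mk hw
    have hwr : w ≠ r := fun e =>
      hw.one_lt.ne' (Nat.eq_one_of_dvd_coprimes h.cop (e ▸ hr) hwB)
    have hN2 : Nat.card H = Nat.card N * Nat.card (P' : Subgroup H) := hNc.card_mul_card.symm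
    have hwN : w ∣ Nat.card N := by
      rcases (Nat.Prime.dvd_mul hw).1 (hN2 ▸ hwH) with h5 | h5
      · exact h5
      · obtain ⟨k, hk⟩ := P'.isPGroup'.exists_card_eq
        exact absurd ((Nat.prime_dvd_prime_iff_eq hw Fact.out).1 (hw.dvd_of_dvd_pow (hk ▸ h5))) hwr
    obtain ⟨W⟩ : Nonempty (Sylow w N) := inferInstance
    have hsup := Sylow.normalizer_sup_eq_top W
    set W' := (W : Subgroup N).map N.subtype with hW'
    set L := normalizer (W' : Set H) with hL'
    obtain ⟨P1⟩ : Nonempty (Sylow r L) := inferInstance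
    have hidx : ¬ r ∣ L.index := by
      intro hd'
      have h5 : L.index ∣ Nat.card N := by
        have h8 := card_sup_mul N L
        rw [show L ⊔ N = ⊤ from hsup, card_top, ← L.index_mul_card,
          mul_comm L.index, mul_assoc] at h8
        exact ⟨_, (Nat.eq_of_mul_eq_mul_left Nat.card_pos h8).symm⟩
      have h6 : ¬ r ∣ Nat.card N := by
        rw [← hNc.index_eq_card]
        exact P'.not_dvd_index
      exact h6 (hd'.trans h5)
    have hP1 : ¬ r ∣ ((P1 : Subgroup L).map L.subtype).index := by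
      rw [index_map_subtype]
      exact fun hd' => ((Nat.Prime.dvd_mul Fact.out).1 hd').elim P1.not_dvd_index hidx
    obtain ⟨x, hx⟩ := MulAction.exists_smul_eq H ((P1.isPGroup'.map L.subtype).toSylow hP1) P
    set X : Subgroup H := MulAut.conj x • W' with hX
    have hzP : (⟨z, hzH⟩ : H) ∈ (P : Subgroup H) := hP.ge hzKr
    have hzX : z ∈ normalizer ((X.map H.subtype : Subgroup G) : Set G) := by
      refine le_normalizer_map_of_mem (g := (⟨z, hzH⟩ : H)) ?_
      rw [← hx, Sylow.coe_subgroup_smul] at hzP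
      have h5 := map_subtype_le _ (mem_conj_smul.1 hzP)
      refine mem_normalizer_iff_map_conj_eq.2 ?_
      show MulAut.conj (⟨z, hzH⟩ : H) • X = X
      rw [hX, conj_smul_conj_smul, show (⟨z, hzH⟩ : H) * x = x * (x⁻¹ * ⟨z, hzH⟩ * x) by group,
        ← conj_smul_conj_smul, conj_normalizer h5]
    have hXp : IsPGroup w ↥(X.map H.subtype) :=
      (((W.isPGroup'.map N.subtype).map (MulAut.conj x).toMonoidHom)).map _
    have h7 := h.normalised_trivial hz hzo hzc hwB hXp hzX
    rw [← card_eq_one, card_map_of_injective H.subtype_injective, hX, card_conj_smul,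
      card_map_of_injective N.subtype_injective, W.card_eq_multiplicity] at h7
    exact (Nat.one_lt_pow (hw.factorization_pos_of_dvd Nat.card_pos.ne' hwN).ne' hw.one_lt).ne' h7
  have hcardH : Nat.card H ∣ Nat.card ↥(H ⊓ A) := by
    refine (Nat.dvd_iff_prime_pow_dvd_dvd _ _).2 fun s k hs hd' => ?_
    rcases Nat.eq_zero_or_pos k with rfl | hk
    · rw [pow_zero]; exact one_dvd _
    haveI := Fact.mk hs
    have hsA : s ∣ Nat.card A := by
      have h5 : s ∣ Nat.card G := ((dvd_pow_self s hk.ne').trans hd').trans (card_subgroup_dvd_card H)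
      rw [h.card_eq] at h5
      exact ((Nat.Prime.dvd_mul hs).1 h5).resolve_right (hHB s hs ((dvd_pow_self s hk.ne').trans hd'))
    by_cases hsr : s = r
    · subst hsr
      refine ((pow_dvd_pow s ((hs.pow_dvd_iff_le_factorization Nat.card_pos.ne').1 hd')).trans ?_)
      rw [← P.card_eq_multiplicity, hP, Nat.card_congr (subgroupOfEquivOfLe inf_le_left).toEquiv]
      exact card_dvd_of_le (inf_le_inf_left _ (comp_le A _))
    · have h5 : s ^ k ∣ Nat.card A := by
        have h6 := hd'.trans (card_subgroup_dvd_card H)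
        rw [h.card_eq] at h6
        exact ((hs.coprime_iff_not_dvd.2 fun hB =>
          hs.one_lt.ne' (Nat.eq_one_of_dvd_coprimes h.cop hsA hB)).pow_left k).dvd_of_dvd_mul_right h6
      refine ((pow_dvd_pow s ((hs.pow_dvd_iff_le_factorization Nat.card_pos.ne').1 h5)).trans ?_)
      rw [← card_comp h.nilA s]
      exact card_dvd_of_le (le_inf (hAs s hsr) (comp_le A s))
  exact (eq_of_le_of_card_ge inf_le_left (Nat.le_of_dvd Nat.card_pos hcardH)).ge.trans inf_le_right

theorem Pair.card_left_le (h : Pair A B) : Nat.card A ≤ Nat.card B := by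
  haveI := h.simple
  set M := normalizer (A : Set G) with hM
  obtain ⟨g, hg⟩ : ∃ g : G, g ∉ M := by
    by_contra hno
    push Not at hno
    exact not_normal_conj h.ne_bot (h.ne_top h.nilA) (eq_top_iff.2 fun g _ => hno g)
  have hinf : A ⊓ MulAut.conj g • A = ⊥ := by
    by_contra hne
    obtain ⟨r, hr, hrd⟩ := Nat.exists_prime_and_dvd (fun e => hne (card_eq_one.1 e) :
      Nat.card ↥(A ⊓ MulAut.conj g • A) ≠ 1)
    haveI := Fact.mk hr
    obtain ⟨d', hd'⟩ := exists_prime_orderOf_dvd_card' r hrd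
    set d : G := d'.1
    have hdo : orderOf d = r := by rw [← hd', Subgroup.orderOf_coe]
    have hdg : g⁻¹ * d * g ∈ A := mem_conj_smul.1 d'.2.2
    obtain ⟨s, hs, hsd, hsr⟩ := h.exists_other_prime r
    haveI := Fact.mk hs
    have hcen : ∀ e : G, e ∈ A → orderOf e = r → ∀ x ∈ comp A s, x * e = e * x := fun e he heo x hx =>
      commute_pgroups h.nilA hsr (comp_isPGroup A s) (comp_le A s)
        (IsPGroup.of_card (n := 1) (by rw [Nat.card_zpowers, heo, pow_one]) :
          IsPGroup r (zpowers e)) (zpowers_le.2 he) hx (mem_zpowers e)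
    have hCM : MulAut.conj g • comp A s ≤ normalizer (comp A s : Set G) := by
      intro x hx
      have h1 := hcen _ hdg (by
        rw [show g⁻¹ * d * g = MulAut.conj g⁻¹ d by simp, MulEquiv.orderOf_eq, hdo]) _
        (mem_conj_smul.1 hx)
      have hxM : x ∈ M := h.centralizer_le d'.2.1 hdo (mem_centralizer_singleton_iff.2 (by
        calc x * d = g * ((g⁻¹ * x * g) * (g⁻¹ * d * g)) * g⁻¹ := by group
          _ = g * ((g⁻¹ * d * g) * (g⁻¹ * x * g)) * g⁻¹ := by rw [h1]
          _ = d * x := by group))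
      -- the normaliser of the factor normalises each of its components
      refine mem_normalizer_iff_map_conj_eq.2 (eq_of_le_of_card_ge ?_
        (by rw [card_map_of_injective (MulAut.conj x).injective]))
      refine le_comp h.nilA ?_ ((comp_isPGroup A s).map _)
      rintro _ ⟨y, hy, rfl⟩
      exact (mem_normalizer_iff.1 hxM y).1 (comp_le A s hy)
    obtain ⟨T, hT⟩ := h.exists_sylow hsd
    have h2 := T.3 (Q := MulAut.conj g • comp A s ⊔ (T : Subgroup G))
      (IsPGroup.to_sup_of_normal_right' ((comp_isPGroup A s).map _) T.isPGroup' (by rwa [hT]))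
      le_sup_right
    have h3 : MulAut.conj g • comp A s = comp A s := by
      refine eq_of_le_of_card_ge (le_sup_left.trans (h2.le.trans hT.le)) ?_
      rw [card_conj_smul]
    exact hg (h.normalizer_comp_le hsd (mem_normalizer_iff_map_conj_eq.2 h3))
  have h1 := LocalEvenB.CDMeasure.card_mul_card_le A (MulAut.conj g • A)
  rw [hinf, card_bot, mul_one, card_conj_smul] at h1
  have h2 := h1.trans ((card_le_card_group (A ⊔ MulAut.conj g • A)).trans h.card_eq.le)
  exact Nat.le_of_mul_le_mul_left h2 Nat.card_pos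

theorem Pair.false (h : Pair A B) : False := by
  have e := le_antisymm h.card_left_le h.swap.card_left_le
  have h1 := h.cop
  rw [← e, Nat.coprime_self] at h1
  exact h.ne_bot (card_eq_one.1 h1)

/-- The theorem of Kegel and Wielandt. -/
theorem isSolvable_aux (n : ℕ) : ∀ (G : Type u) [Group G] [Finite G], Nat.card G ≤ n →
    ∀ A B : Subgroup G, Group.IsNilpotent A → Group.IsNilpotent B →
      (∀ g : G, ∃ a ∈ A, ∃ b ∈ B, g = a * b) → Group.IsSolvable G := by
  induction n using Nat.strong_induction_on with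
  | _ n ih =>
  intro G _ _ hn A B hA hB hAB
  have hquot : ∀ (N : Subgroup G) [N.Normal], N ≠ ⊥ → Group.IsSolvable (G ⧸ N) := by
    intro N _ hN
    refine ih (Nat.card (G ⧸ N)) ((card_quotient_lt N hN).trans_le hn) (G ⧸ N) le_rfl
      (A.map (QuotientGroup.mk' N)) (B.map (QuotientGroup.mk' N))
      (Group.nilpotent_of_surjective _ (MonoidHom.subgroupMap_surjective _ A))
      (Group.nilpotent_of_surjective _ (MonoidHom.subgroupMap_surjective _ B)) fun x => ?_
    obtain ⟨g, rfl⟩ := QuotientGroup.mk'_surjective N x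
    obtain ⟨a, ha, b, hb, rfl⟩ := hAB g
    exact ⟨_, mem_map_of_mem _ ha, _, mem_map_of_mem _ hb, map_mul _ _ _⟩
  by_cases hS : ∀ N : Subgroup G, N.Normal → Group.IsSolvable N → N = ⊥
  swap
  · push Not at hS
    obtain ⟨N, hN, hNs, hNne⟩ := hS
    haveI := hquot N hNne
    exact Group.isSolvable_of_ker_le_range N.subtype (QuotientGroup.mk' N)
      (by rw [QuotientGroup.ker_mk', range_subtype])
  by_cases hcop : (Nat.card A).Coprime (Nat.card B)
  swap
  · obtain ⟨p, hp, hpA, hpB⟩ := Nat.Prime.not_coprime_iff_dvd.1 hcop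
    haveI := Fact.mk hp
    obtain ⟨P, Q, R, hR⟩ := Cfsg.Agent.S0560.result A B hAB p
    rw [sylow_eq_pCore hA P, sylow_eq_pCore hB Q] at hR
    have hperm : KegelPermutable.Perm (comp A p) (comp B p) := ⟨R, hR⟩
    have hpsup : IsPGroup p ↥(comp A p ⊔ comp B p) := by
      have e : comp A p ⊔ comp B p = (R : Subgroup G) :=
        SetLike.coe_injective (hperm.coe_sup.trans hR.symm)
      rw [e]; exact R.isPGroup'
    have hall : ∀ x : G, KegelPermutable.Perm (comp A p) (MulAut.conj x • comp B p) ∧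
        IsPGroup p ↥(comp A p ⊔ MulAut.conj x • comp B p) := by
      intro x
      obtain ⟨a, ha, b, hb, rfl⟩ := hAB x
      rw [← conj_smul_conj_smul, conj_comp hb]
      refine ⟨?_, ?_⟩
      · have := hperm.conj a
        rwa [conj_comp ha] at this
      · have := hpsup.map (MulAut.conj a).toMonoidHom
        rwa [← conj_smul_eq_map, Subgroup.smul_sup, conj_comp ha] at this
    have hO : Cfsg.pCore p G = ⊥ := by
      haveI := Cores.pCore_isNilpotent (G := G) p
      exact hS _ inferInstance inferInstance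
    set D := normalClosure (comp A p : Set G) with hD
    set E := normalClosure (comp B p : Set G) with hE
    have hDE := KegelPermutable.commute_closures hO (comp A p) hall
    have hne : ∀ {C : Subgroup G}, Group.IsNilpotent C → p ∣ Nat.card C →
        normalClosure (comp C p : Set G) ≠ ⊥ := by
      intro C hC hd e
      have h1 : comp C p = ⊥ := le_bot_iff.1 ((le_normalClosure).trans e.le)
      have h2 := card_comp hC p
      rw [h1, card_bot] at h2
      exact (Nat.one_lt_pow (hp.factorization_pos_of_dvd Nat.card_pos.ne' hd).ne' hp.one_lt).ne h2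
    have hinf : D ⊓ E = ⊥ := by
      refine hS _ inferInstance (Group.isSolvable_of_comm fun a b => Subtype.ext ?_)
      exact (mem_centralizer_iff.1 (hDE a.2.1) b b.2.2).symm
    haveI := hquot D (hne hA hpA)
    haveI := hquot E (hne hB hpB)
    refine Group.isSolvable_of_isSolvable_injective
      (f := (QuotientGroup.mk' D).prod (QuotientGroup.mk' E)) ?_
    rw [← MonoidHom.ker_eq_bot_iff, MonoidHom.ker_prod, QuotientGroup.ker_mk',
      QuotientGroup.ker_mk', hinf]
  by_cases hnorm : ∃ N : Subgroup G, N.Normal ∧ N ≠ ⊥ ∧ N ≠ ⊤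
  · obtain ⟨N, hN, hNb, hNt⟩ := hnorm
    have hfac : ∀ g ∈ N, ∃ a ∈ N ⊓ A, ∃ b ∈ N ⊓ B, g = a * b := by
      intro g hg
      obtain ⟨a, ha, b, hb, rfl⟩ := hAB g
      have haN : a ∈ N := by
        have h1 : (QuotientGroup.mk' N a) * (QuotientGroup.mk' N b) = 1 := by
          rw [← map_mul]; exact (QuotientGroup.eq_one_iff _).2 hg
        refine (QuotientGroup.eq_one_iff a).1 (orderOf_eq_one_iff.1 (Nat.eq_one_of_dvd_coprimes hcop
          ((orderOf_map_dvd (QuotientGroup.mk' N) a).trans (Subgroup.orderOf_dvd_natCard _ ha)) ?_))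
        rw [show ((a : G ⧸ N)) = (QuotientGroup.mk' N b)⁻¹ from eq_inv_of_mul_eq_one_left h1,
          orderOf_inv]
        exact (orderOf_map_dvd (QuotientGroup.mk' N) b).trans (Subgroup.orderOf_dvd_natCard _ hb)
      exact ⟨a, ⟨haN, ha⟩, b, ⟨by simpa using mul_mem (inv_mem haN) hg, hb⟩, rfl⟩
    haveI := ih (Nat.card N) ((card_subgroup_lt N hNt).trans_le hn) N le_rfl
      ((N ⊓ A).subgroupOf N) ((N ⊓ B).subgroupOf N) (nilpotent_subgroupOf hA N)
      (nilpotent_subgroupOf hB N) fun g => by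
        obtain ⟨a, ha, b, hb, e⟩ := hfac g g.2
        exact ⟨⟨a, ha.1⟩, ha, ⟨b, hb.1⟩, hb, Subtype.ext e⟩
    exact absurd (hS N hN inferInstance) hNb
  push Not at hnorm
  rcases subsingleton_or_nontrivial G with hsub | hnt
  · exact Group.isSolvable_of_comm fun a b => Subsingleton.elim _ _
  haveI : IsSimpleGroup G := ⟨fun N hN => or_iff_not_imp_left.2 fun hb => hnorm N hN hb⟩
  by_cases hprime : (Nat.card G).Prime
  · haveI := Fact.mk hprime
    haveI := isCyclic_of_prime_card (α := G) rfl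
    haveI : IsMulCommutative G := IsCyclic.commutative
    exact Group.isSolvable_of_comm fun a b => mul_comm' a b
  refine (Pair.false (A := A) (B := B) ⟨hA, hB, hcop, hAB, inferInstance, hprime, fun L hL hfac => ?_⟩).elim
  exact ih (Nat.card L) ((card_subgroup_lt L hL).trans_le hn) L le_rfl
    ((L ⊓ A).subgroupOf L) ((L ⊓ B).subgroupOf L) (nilpotent_subgroupOf hA L)
    (nilpotent_subgroupOf hB L) fun g => by
      obtain ⟨a, ha, b, hb, e⟩ := hfac g g.2
      exact ⟨⟨a, ha.1⟩, ha, ⟨b, hb.1⟩, hb, Subtype.ext e⟩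

theorem isSolvable (A B : Subgroup G) (hA : Group.IsNilpotent A) (hB : Group.IsNilpotent B)
    (hAB : ∀ g : G, ∃ a ∈ A, ∃ b ∈ B, g = a * b) : Group.IsSolvable G :=
  isSolvable_aux (Nat.card G) G le_rfl A B hA hB hAB

end CfsgLib.Solvable.KegelWielandt
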