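import Cfsg.Prelude.Def_Transfer
import Cfsg.Agent.Lib.Fusion.Thompson
import Cfsg.Agent.Lib.Solvable.FrattiniFitting
import Mathlib.Tactic.NoncommRing

/-!
Thompson's replacement lemma and the effect of quadratic elements on abelian groups of operators.
-/

open scoped Pointwise commutatorElement
set_option linter.style.haveILetI false

namespace CfsgLib.Solvable.ThompsonReplacement

open CfsgLib.Solvable.Basic

variable {G : Type*} [Group G] {p : ℕ}

theorem isEA_sup [Finite G] {A B : Subgroup G} (hA : Cfsg.IsElementaryAbelian p A)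
    (hB : Cfsg.IsElementaryAbelian p B) (h : ∀ a ∈ A, ∀ b ∈ B, a * b = b * a) :
    Cfsg.IsElementaryAbelian p (A ⊔ B : Subgroup G) := by
  have hA' := isMulCommutative_subgroup_iff.mp hA.1
  have hB' := isMulCommutative_subgroup_iff.mp hB.1
  have hnorm : B ≤ Subgroup.normalizer (A : Set G) := by
    refine le_trans ?_ (Subgroup.centralizer_le_normalizer _)
    exact fun b hb => Subgroup.mem_centralizer_iff.mpr fun a ha => h a ha b hb
  have hmem : ∀ x ∈ A ⊔ B, ∃ a ∈ A, ∃ b ∈ B, x = a * b := by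
    intro x hx
    rw [← SetLike.mem_coe, Subgroup.coe_mul_of_right_le_normalizer_left _ _ hnorm] at hx
    obtain ⟨a, ha, b, hb, rfl⟩ := hx
    exact ⟨a, ha, b, hb, rfl⟩
  refine ⟨isMulCommutative_subgroup_iff.mpr fun x hx y hy => ?_, fun x hx => ?_⟩
  · obtain ⟨a, ha, b, hb, rfl⟩ := hmem x hx
    obtain ⟨c, hc, d, hd, rfl⟩ := hmem y hy
    calc a * b * (c * d) = a * (b * c) * d := by group
      _ = a * (c * b) * d := by rw [h c hc b hb]
      _ = (a * c) * (b * d) := by group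
      _ = (c * a) * (d * b) := by rw [hA' a ha c hc, hB' b hb d hd]
      _ = c * (a * d) * b := by group
      _ = c * (d * a) * b := by rw [h a ha d hd]
      _ = c * d * (a * b) := by group
  · obtain ⟨a, ha, b, hb, rfl⟩ := hmem x hx
    rw [(show Commute a b from h a ha b hb).mul_pow, hA.2 a ha, hB.2 b hb, one_mul]

/-- The symmetry used in Thompson's replacement. -/
theorem conj_commutator_symm {W : Subgroup G} (hc : ∀ x ∈ W, ∀ y ∈ W, x * y = y * x)
    {a b w x y : G} (hab : a * b = b * a) (hxdef : x = w * a * w⁻¹ * a⁻¹)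
    (hydef : y = w * b * w⁻¹ * b⁻¹) (hx : x ∈ W) (hy : y ∈ W) (hay : a * y * a⁻¹ ∈ W) :
    b * x * b⁻¹ * x⁻¹ = a * y * a⁻¹ * y⁻¹ := by
  have e : b * x * b⁻¹ = y⁻¹ * x * (a * y * a⁻¹) := by
    have hr : y⁻¹ * x * (a * y * a⁻¹) =
        b * w * b⁻¹ * (a * b) * w⁻¹ * (a * b)⁻¹ := by rw [hxdef, hydef]; group
    rw [hr, hxdef]
    calc b * (w * a * w⁻¹ * a⁻¹) * b⁻¹ = b * w * b⁻¹ * (b * a) * w⁻¹ * (b * a)⁻¹ := by group
      _ = _ := by rw [hab]
  have h2 : y⁻¹ * x * (a * y * a⁻¹) = x * (a * y * a⁻¹ * y⁻¹) := by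
    calc y⁻¹ * x * (a * y * a⁻¹) = y⁻¹ * (x * (a * y * a⁻¹)) := by group
      _ = x * (a * y * a⁻¹) * y⁻¹ := hc _ (inv_mem hy) _ (mul_mem hx hay)
      _ = _ := by group
  rw [e, h2]
  rw [hc x hx _ (mul_mem hay (inv_mem hy)), mul_inv_cancel_right]

/-- **Thompson's replacement lemma** for elementary abelian subgroups of maximal order. -/
theorem replacement [Finite G] [Fact p.Prime] {A W : Subgroup G}
    (hA : A ∈ Cfsg.maxElementaryAbelianSubgroups p G) (hW : Cfsg.IsElementaryAbelian p W)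
    (hAW : A ≤ Subgroup.normalizer (W : Set G)) (hn : ¬ W ≤ Subgroup.normalizer (A : Set G)) :
    ∃ A' ∈ Cfsg.maxElementaryAbelianSubgroups p G, A' ≤ A ⊔ W ∧
      Nat.card (A ⊓ W : Subgroup G) < Nat.card (A' ⊓ W : Subgroup G) ∧
      A' ≤ Subgroup.normalizer (A : Set G) := by
  have hWc := isMulCommutative_subgroup_iff.mp hW.1
  have hAc := isMulCommutative_subgroup_iff.mp hA.1.1
  set X := A ⊔ W with hX
  set N := W ⊓ Subgroup.normalizer (A : Set G) with hN
  have hconjW : ∀ a ∈ A, ∀ y ∈ W, a * y * a⁻¹ ∈ W := fun a ha y hy =>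
    (Subgroup.mem_normalizer_iff.mp (hAW ha) y).mp hy
  have hXp : IsPGroup p X := (Fusion.Thompson.isPGroup_isEA hA.1).to_sup_of_normal_right'
    (Fusion.Thompson.isPGroup_isEA hW) hAW
  have hNX : X ≤ Subgroup.normalizer (N : Set G) := by
    refine sup_le ?_ ?_
    · exact le_trans (le_inf hAW (Subgroup.le_normalizer.trans Subgroup.le_normalizer))
        (Subgroup.inf_normalizer_le_normalizer_inf (H := W) (K := Subgroup.normalizer (A : Set G)))
    · refine le_trans (fun y hy => Subgroup.mem_centralizer_iff.mpr fun z hz => ?_)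
        (Subgroup.centralizer_le_normalizer _)
      exact hWc z hz.1 y hy
  haveI : (N.subgroupOf X).Normal := Subgroup.normal_subgroupOf_of_le_normalizer hNX
  haveI : (W.subgroupOf X).Normal :=
    Subgroup.normal_subgroupOf_of_le_normalizer (sup_le hAW Subgroup.le_normalizer)
  haveI := hXp.isNilpotent
  set q := QuotientGroup.mk' (N.subgroupOf X)
  haveI : ((W.subgroupOf X).map q).Normal :=
    Subgroup.Normal.map inferInstance q (QuotientGroup.mk'_surjective _)
  haveI : Group.IsNilpotent (X ⧸ N.subgroupOf X) := inferInstance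
  have hWne : (W.subgroupOf X).map q ≠ ⊥ := by
    rw [Ne, Subgroup.map_eq_bot_iff, QuotientGroup.ker_mk']
    exact fun h => hn fun y hy => (h (show (⟨y, Subgroup.mem_sup_right hy⟩ : X) ∈ _ from hy) :
      (⟨y, Subgroup.mem_sup_right hy⟩ : X) ∈ N.subgroupOf X).2
  obtain ⟨z, hz, hz1⟩ := (Subgroup.bot_or_exists_ne_one _).resolve_left
    (FrattiniFitting.inf_center_ne_bot _ hWne)
  obtain ⟨⟨w₀, hw₀, rfl⟩, hzc⟩ := hz
  set w : G := (w₀ : G) with hw
  have hwW : w ∈ W := hw₀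
  have hwN : w ∉ N := fun h => hz1 ((QuotientGroup.eq_one_iff w₀).mpr h)
  have hcomm : ∀ a ∈ A, w * a * w⁻¹ * a⁻¹ ∈ N := by
    intro a ha
    have h := Subgroup.mem_center_iff.mp hzc (q ⟨a, Subgroup.mem_sup_left ha⟩)
    have h2 : q ⁅w₀, ⟨a, Subgroup.mem_sup_left ha⟩⁆ = 1 := by
      rw [map_commutatorElement, commutatorElement_eq_one_iff_mul_comm]; exact h.symm
    have h3 : ⁅w₀, (⟨a, Subgroup.mem_sup_left ha⟩ : X)⁆ ∈ N.subgroupOf X :=
      (QuotientGroup.eq_one_iff _).mp h2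
    exact h3
  set S : Set G := (fun a => w * a * w⁻¹ * a⁻¹) '' (A : Set G)
  set M := Subgroup.closure S with hM
  have hMN : M ≤ N := (Subgroup.closure_le N).mpr (by rintro _ ⟨a, ha, rfl⟩; exact hcomm a ha)
  have hMW : M ≤ W := hMN.trans inf_le_left
  set C := A ⊓ Subgroup.centralizer (M : Set G) with hC
  have hMC : ∀ m ∈ M, ∀ c ∈ C, m * c = c * m := fun m hm c hc =>
    Subgroup.mem_centralizer_iff.mp hc.2 m hm
  have hEA : Cfsg.IsElementaryAbelian p (M ⊔ C : Subgroup G) :=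
    isEA_sup (Fusion.Thompson.isEA_le hW hMW) (Fusion.Thompson.isEA_le hA.1 inf_le_left) hMC
  have hAWC : A ⊓ W ≤ C := le_inf inf_le_left fun y hy =>
    Subgroup.mem_centralizer_iff.mpr fun m hm => hWc m (hMW hm) y hy.2
  -- the counting
  have hkey : C.relIndex A ≤ A.relIndex M := by
    let f : A ⧸ C.subgroupOf A → M ⧸ A.subgroupOf M := fun t =>
      QuotientGroup.mk ⟨_, Subgroup.subset_closure ⟨(t.out : A), (t.out : A).2, rfl⟩⟩
    refine Nat.card_le_card_of_injective f fun s t hst => ?_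
    rw [← QuotientGroup.out_eq' s, ← QuotientGroup.out_eq' t, QuotientGroup.eq,
      Subgroup.mem_subgroupOf]
    set a : G := ((s.out : A) : G) with ha
    set a' : G := ((t.out : A) : G) with ha'
    have haA : a ∈ A := (s.out : A).2
    have ha'A : a' ∈ A := (t.out : A).2
    refine ⟨((s.out)⁻¹ * t.out : A).2, Subgroup.mem_centralizer_iff.mpr ?_⟩
    show ∀ m ∈ M, m * (a⁻¹ * a') = (a⁻¹ * a') * m
    have hmk : QuotientGroup.mk (s := A.subgroupOf M)
          (⟨_, Subgroup.subset_closure ⟨a, haA, rfl⟩⟩ : M) =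
        QuotientGroup.mk ⟨_, Subgroup.subset_closure ⟨a', ha'A, rfl⟩⟩ := hst
    have hα' := QuotientGroup.eq.mp hmk
    have hα : (w * a * w⁻¹ * a⁻¹)⁻¹ * (w * a' * w⁻¹ * a'⁻¹) ∈ A := hα'
    have hle : M ≤ Subgroup.centralizer {a⁻¹ * a'} := by
      rw [hM, Subgroup.closure_le]
      rintro _ ⟨b, hb, rfl⟩
      rw [SetLike.mem_coe, Subgroup.mem_centralizer_singleton_iff]
      set x := w * a * w⁻¹ * a⁻¹ with hxdef
      set x' := w * a' * w⁻¹ * a'⁻¹ with hx'def
      set y := w * b * w⁻¹ * b⁻¹ with hydef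
      have hx : x ∈ W := (hcomm a haA).1
      have hx' : x' ∈ W := (hcomm a' ha'A).1
      have hy : y ∈ W := (hcomm b hb).1
      have e1 := conj_commutator_symm hWc (hAc a haA b hb) hxdef hydef hx hy (hconjW a haA y hy)
      have e2 := conj_commutator_symm hWc (hAc a' ha'A b hb) hx'def hydef hx' hy
        (hconjW a' ha'A y hy)
      have e3 : b * x * b⁻¹ * x⁻¹ = b * x' * b⁻¹ * x'⁻¹ := by
        have hbα : b * (x⁻¹ * x') = (x⁻¹ * x') * b := hAc b hb _ hα
        calc b * x * b⁻¹ * x⁻¹ = b * x * b⁻¹ * (x⁻¹ * x') * x'⁻¹ := by group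
          _ = b * x * b⁻¹ * ((x⁻¹ * x') * b) * b⁻¹ * x'⁻¹ := by group
          _ = b * x * b⁻¹ * (b * (x⁻¹ * x')) * b⁻¹ * x'⁻¹ := by rw [hbα]
          _ = b * x' * b⁻¹ * x'⁻¹ := by group
      rw [e1, e2, mul_left_inj] at e3
      calc y * (a⁻¹ * a') = a⁻¹ * (a * y * a⁻¹) * a' := by group
        _ = a⁻¹ * (a' * y * a'⁻¹) * a' := by rw [e3]
        _ = a⁻¹ * a' * y := by group
    exact fun m hm => Subgroup.mem_centralizer_singleton_iff.mp (hle hm)
  have hmax : Nat.card A ≤ Nat.card (M ⊔ C : Subgroup G) := by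
    have h1 := Fusion.Thompson.card_sup_mul_card_inf (N := M) (K := C)
      (inf_le_right.trans (Subgroup.centralizer_le_normalizer _))
    have h2 := Subgroup.relIndex_mul_relIndex (⊥ : Subgroup G) C A bot_le inf_le_left
    have h3 := Subgroup.relIndex_mul_relIndex (⊥ : Subgroup G) (M ⊓ A) M bot_le inf_le_left
    rw [Subgroup.relIndex_bot_left, Subgroup.relIndex_bot_left] at h2 h3
    rw [Subgroup.inf_relIndex_left] at h3
    refine Nat.le_of_mul_le_mul_right ?_ (Nat.card_pos (α := (M ⊓ A : Subgroup G)))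
    calc Nat.card A * Nat.card (M ⊓ A : Subgroup G)
        = Nat.card C * Nat.card (M ⊓ A : Subgroup G) * C.relIndex A := by rw [← h2]; ring
      _ ≤ Nat.card C * Nat.card (M ⊓ A : Subgroup G) * A.relIndex M := Nat.mul_le_mul_left _ hkey
      _ = Nat.card M * Nat.card C := by rw [← h3]; ring
      _ = Nat.card (M ⊔ C : Subgroup G) * Nat.card (M ⊓ C : Subgroup G) := h1.symm
      _ ≤ _ := Nat.mul_le_mul_left _ (Nat.le_of_dvd Nat.card_pos
          (Subgroup.card_dvd_of_le (inf_le_inf_left M inf_le_left)))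
  refine ⟨M ⊔ C, ⟨hEA, fun B hB => (hA.2 B hB).trans hmax⟩,
    sup_le (hMW.trans le_sup_right) (inf_le_left.trans le_sup_left), ?_,
    sup_le (hMN.trans inf_le_right) (inf_le_left.trans Subgroup.le_normalizer)⟩
  have hle : A ⊓ W ≤ (M ⊔ C) ⊓ W := le_inf (hAWC.trans le_sup_right) inf_le_right
  refine lt_of_le_of_ne (Nat.le_of_dvd Nat.card_pos (Subgroup.card_dvd_of_le hle)) fun e => ?_
  have heq := Subgroup.eq_of_le_of_card_ge hle e.ge
  refine hwN ⟨hwW, Subgroup.mem_normalizer_iff.mpr ?_⟩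
  have key : ∀ a ∈ A, w * a * w⁻¹ ∈ A := by
    intro a ha
    have hm : w * a * w⁻¹ * a⁻¹ ∈ M := Subgroup.subset_closure ⟨a, ha, rfl⟩
    have : w * a * w⁻¹ * a⁻¹ ∈ A ⊓ W := heq.ge ⟨Subgroup.mem_sup_left hm, hMW hm⟩
    simpa using A.mul_mem this.1 ha
  intro a
  refine ⟨key a, fun h => ?_⟩
  have hsm : MulAut.conj w • A = A := Subgroup.eq_of_le_of_card_ge (fun y hy => by
    rw [mem_conj_smul] at hy
    simpa [mul_assoc] using key _ hy) (card_conj_smul w A).ge
  rw [← hsm, mem_conj_smul] at h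
  simpa [mul_assoc] using h

/-- A quadratic element centralises an abelian group of `p'`-operators which it normalises. -/
theorem quadratic_commutator {R : Type*} [Ring R] [Fact p.Prime] (hp : p ≠ 2)
    (hR : (p : R) = 0) (ρ : G →* R) {K : Subgroup G} {a g : G}
    (ha : (ρ a - 1) * (ρ a - 1) = 0) (haK : a ∈ Subgroup.normalizer (K : Set G)) (hg : g ∈ K)
    (hc : ∀ x ∈ K, ∀ y ∈ K, Commute (ρ x) (ρ y))
    (ho : ∀ x ∈ K, ∃ n : ℕ, n.Coprime p ∧ ρ x ^ n = 1) : ρ (g * a * g⁻¹ * a⁻¹) = 1 := by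
  set A := ρ a with hAdef
  have hconj : ∀ x ∈ K, a * x * a⁻¹ ∈ K := fun x hx => (Subgroup.mem_normalizer_iff.mp haK x).mp hx
  set γ := g * a * g⁻¹ * a⁻¹ with hγ
  have hγK : γ ∈ K := by
    have := K.mul_mem hg (hconj g⁻¹ (K.inv_mem hg))
    simpa [hγ, mul_assoc] using this
  have htwo : ∀ x : R, x + x = 0 → x = 0 := by
    intro x hx
    obtain ⟨j, hj⟩ := (Fact.out (p := p.Prime)).odd_of_ne_two hp
    have e : (p : R) * x = x := by
      rw [hj, Nat.cast_add, Nat.cast_mul, Nat.cast_ofNat, Nat.cast_one, add_mul, one_mul,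
        mul_assoc, two_mul, ← mul_add, hx, mul_zero, zero_add]
    rw [← e, hR, zero_mul]
  have hρinv : ∀ x : G, ρ x * ρ x⁻¹ = 1 := fun x => by rw [← map_mul, mul_inv_cancel, map_one]
  have hρinv' : ∀ x : G, ρ x⁻¹ * ρ x = 1 := fun x => by rw [← map_mul, inv_mul_cancel, map_one]
  set c := ρ γ with hcdef
  set c' := ρ (a * γ * a⁻¹) with hc'def
  have hswap : ∀ x : G, A * ρ x = ρ (a * x * a⁻¹) * A := fun x => by
    rw [hAdef, ← map_mul, ← map_mul, inv_mul_cancel_right]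
  have hcA : c * A = ρ g * A * ρ g⁻¹ := by
    rw [hcdef, hAdef, ← map_mul, ← map_mul, ← map_mul, hγ]
    congr 1
    group
  have hquad : (c * A - 1) * (c * A - 1) = 0 := by
    have h1 : c * A - 1 = ρ g * (A - 1) * ρ g⁻¹ := by
      rw [hcA, mul_sub, mul_one, sub_mul, hρinv]
    rw [h1, show ρ g * (A - 1) * ρ g⁻¹ * (ρ g * (A - 1) * ρ g⁻¹) =
        ρ g * (A - 1) * (ρ g⁻¹ * ρ g) * (A - 1) * ρ g⁻¹ by noncomm_ring,
      hρinv', mul_one, mul_assoc (ρ g), ha, mul_zero, zero_mul]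
  set F := c * c' - c with hF
  set E := c * c' - 1 with hE
  have hFA : (F + F) * A = E := by
    have hAA : A * A = A + A - 1 := by
      have h0 : A * A - (A + A - 1) = (A - 1) * (A - 1) := by noncomm_ring
      rwa [ha, sub_eq_zero] at h0
    have h1 : c * A * (c * A) = c * c' * (A + A - 1) := by
      calc c * A * (c * A) = c * (A * c) * A := by noncomm_ring
        _ = c * (c' * A) * A := by rw [hcdef, hswap]
        _ = c * c' * (A * A) := by noncomm_ring
        _ = _ := by rw [hAA]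
    have h2 : (F + F) * A - E = (c * A - 1) * (c * A - 1) -
        (c * A * (c * A) - c * c' * (A + A - 1)) := by
      rw [hF, hE]; noncomm_ring
    rw [hquad, h1, sub_self, sub_zero, sub_eq_zero] at h2
    exact h2
  have hγ'K : a * γ * a⁻¹ ∈ K := hconj γ hγK
  have hkey : ∀ k ∈ K, F * (ρ (a * k * a⁻¹) - ρ k) = 0 := by
    intro k hk
    have hFk : Commute F (ρ k) :=
      ((hc _ hγK k hk).mul_left (hc _ hγ'K k hk)).sub_left (hc _ hγK k hk)
    have hEk : Commute E (ρ k) :=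
      ((hc _ hγK k hk).mul_left (hc _ hγ'K k hk)).sub_left (Commute.one_left _)
    refine htwo _ ?_
    have h1 : (F + F) * (ρ (a * k * a⁻¹) - ρ k) * A = 0 := by
      calc (F + F) * (ρ (a * k * a⁻¹) - ρ k) * A
          = (F + F) * (ρ (a * k * a⁻¹) * A) - (F + F) * ρ k * A := by noncomm_ring
        _ = (F + F) * A * ρ k - ρ k * ((F + F) * A) := by
            rw [← hswap, (hFk.add_left hFk).eq]; noncomm_ring
        _ = 0 := by rw [hFA, hEk.eq, sub_self]
    have h2 := congrArg (· * ρ a⁻¹) h1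
    simp only [zero_mul] at h2
    rw [mul_assoc, hAdef, hρinv, mul_one, add_mul] at h2
    exact h2
  set k := a * g * a⁻¹ with hkdef
  have hk : k ∈ K := hconj g hg
  have e1 : ρ (a * k * a⁻¹) * ρ k⁻¹ = ρ (a * γ * a⁻¹)⁻¹ := by
    rw [← map_mul, hkdef, hγ]
    congr 1
    simp only [mul_inv_rev, inv_inv, mul_assoc, inv_mul_cancel_left, mul_inv_cancel_left]
  have h3 : (c' - 1) * (ρ (a * γ * a⁻¹)⁻¹ - 1) = 0 := by
    have h := congrArg (fun t => ρ γ⁻¹ * t * ρ k⁻¹) (hkey k hk)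
    simp only [mul_zero, zero_mul] at h
    rw [show ρ γ⁻¹ * (F * (ρ (a * k * a⁻¹) - ρ k)) * ρ k⁻¹ =
      (ρ γ⁻¹ * F) * ((ρ (a * k * a⁻¹) - ρ k) * ρ k⁻¹) by noncomm_ring] at h
    have h' : ρ γ⁻¹ * F = c' - 1 := by
      rw [hF, mul_sub, ← mul_assoc, hcdef, hρinv', one_mul]
    rw [h', sub_mul (ρ (a * k * a⁻¹)), e1, hρinv] at h
    exact h
  have h4 : (c' - 1) * (c' - 1) = 0 := by
    have h := congrArg (· * ρ (a * γ * a⁻¹)) h3
    simp only [zero_mul] at h
    have h5 : (ρ (a * γ * a⁻¹)⁻¹ - 1) * ρ (a * γ * a⁻¹) = 1 - c' := by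
      rw [sub_mul, hρinv', one_mul]
    rw [mul_assoc, h5] at h
    rw [← neg_sub 1 c', neg_mul, neg_sub]
    calc -((1 - c') * (c' - 1)) = (c' - 1) * (c' - 1) := by noncomm_ring
      _ = -((c' - 1) * (1 - c')) := by noncomm_ring
      _ = 0 := by rw [h, neg_zero]
  have hpow : ∀ n : ℕ, c' ^ n = 1 + (n : R) * (c' - 1) := by
    intro n
    induction n with
    | zero => simp
    | succ n ih =>
      rw [pow_succ, ih]
      calc (1 + (n : R) * (c' - 1)) * c' =
          1 + ((n : R) + 1) * (c' - 1) + (n : R) * ((c' - 1) * (c' - 1)) := by noncomm_ring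
        _ = _ := by rw [h4, mul_zero, add_zero, Nat.cast_succ]
  have hcp : c' ^ p = 1 := by rw [hpow, hR, zero_mul, add_zero]
  obtain ⟨n, hn, hcn⟩ := ho _ hγ'K
  have hc1 : c' = 1 := by
    have := pow_gcd_eq_one.mpr ⟨hcn, hcp⟩
    rwa [hn, pow_one] at this
  calc c = ρ a⁻¹ * (c' * A) := by rw [hcdef, hc'def, ← hswap, ← mul_assoc, hAdef, hρinv', one_mul]
    _ = 1 := by rw [hc1, one_mul, hAdef, hρinv']

end CfsgLib.Solvable.ThompsonReplacement
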