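import Cfsg.Agent.Lib.Solvable.HallSystem
import Cfsg.Agent.Lib.Components.Constrained

/-!
Pairwise permuting Sylow subgroups give solvability; abelian Sylow subgroups and `p`-length.
-/

open scoped Pointwise
set_option linter.style.haveILetI false

namespace CfsgLib.Solvable.SylowSystem

open CfsgLib.Solvable.Basic

variable {G : Type*} [Group G]

/-- The subgroup with underlying set `A * B`, for permuting `A` and `B`. -/
def prodSubgroup (A B : Subgroup G) (h : (A : Set G) * B = (B : Set G) * A) : Subgroup G where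
  carrier := (A : Set G) * B
  one_mem' := ⟨1, A.one_mem, 1, B.one_mem, mul_one 1⟩
  mul_mem' := by
    intro x y hx hy
    have h2 : x * y ∈ ((A : Set G) * B) * ((A : Set G) * B) := Set.mul_mem_mul hx hy
    rwa [mul_assoc, ← mul_assoc (B : Set G), ← h, mul_assoc, coe_mul_coe, ← mul_assoc,
      coe_mul_coe] at h2
  inv_mem' := by
    intro x hx
    obtain ⟨a, ha, b, hb, rfl⟩ := hx
    show (a * b)⁻¹ ∈ (A : Set G) * B
    rw [h, mul_inv_rev]
    exact Set.mul_mem_mul (B.inv_mem hb) (A.inv_mem ha)

theorem coe_prodSubgroup (A B : Subgroup G) (h : (A : Set G) * B = (B : Set G) * A) :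
    (prodSubgroup A B h : Set G) = (A : Set G) * B := rfl

theorem exists_partial_product [Finite G] (S : (p : Nat.Primes) → Sylow (p : ℕ) G)
    (hS : ∀ p q : Nat.Primes, (S p : Set G) * (S q : Set G) = (S q : Set G) * (S p : Set G))
    (T : Finset Nat.Primes) :
    ∃ W : Subgroup G, Nat.card W = ∏ q ∈ T, (q : ℕ) ^ (Nat.card G).factorization q ∧
      ∀ r : Nat.Primes, (W : Set G) * (S r : Set G) = (S r : Set G) * (W : Set G) := by
  classical
  have hS' : ∀ p : Nat.Primes, Nat.card (S p : Subgroup G) =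
      (p : ℕ) ^ (Nat.card G).factorization p := fun p => by
    haveI := Fact.mk p.2
    exact (S p).card_eq_multiplicity
  induction T using Finset.induction_on with
  | empty => exact ⟨⊥, by simp, fun r => by simp⟩
  | @insert a T ha ih =>
    obtain ⟨W, hW, hp⟩ := ih
    have h : (W : Set G) * ((S a : Subgroup G) : Set G) =
        ((S a : Subgroup G) : Set G) * (W : Set G) := hp a
    set V := prodSubgroup W (S a : Subgroup G) h with hV
    refine ⟨V, ?_, fun r => ?_⟩
    · rw [Finset.prod_insert ha, mul_comm, ← hW, ← hS' a]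
      have hcop : (Nat.card W).Coprime (Nat.card (S a : Subgroup G)) := by
        rw [hW, hS' a]
        exact Nat.Coprime.prod_left fun q hq =>
          HallSystem.ppart_coprime fun e => ha (e ▸ hq)
      refine Nat.dvd_antisymm ?_ (hcop.mul_dvd_of_dvd_of_dvd
        (Subgroup.card_dvd_of_le fun x hx => ⟨x, hx, 1, Subgroup.one_mem _, mul_one x⟩)
        (Subgroup.card_dvd_of_le fun x hx => ⟨1, W.one_mem, x, hx, one_mul x⟩))
      let f : W × (S a : Subgroup G) → V :=
        fun wb => ⟨wb.1 * wb.2, Set.mul_mem_mul wb.1.2 wb.2.2⟩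
      have hf : Function.Bijective f := by
        constructor
        · rintro ⟨w, b⟩ ⟨w', b'⟩ hh
          have he : (w : G) * b = w' * b' := congrArg Subtype.val hh
          have hx : (w' : G)⁻¹ * w = b' * (b : G)⁻¹ := by
            rw [eq_mul_inv_iff_mul_eq, mul_assoc, he, inv_mul_cancel_left]
          have h1 : orderOf ((w' : G)⁻¹ * w) = 1 := Nat.eq_one_of_dvd_coprimes hcop
            (Subgroup.orderOf_dvd_natCard _ (W.mul_mem (W.inv_mem w'.2) w.2))
            (Subgroup.orderOf_dvd_natCard _ (by rw [hx]; exact mul_mem b'.2 (inv_mem b.2)))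
          rw [orderOf_eq_one_iff, inv_mul_eq_one] at h1
          rw [← h1] at he
          exact Prod.ext (Subtype.ext h1.symm) (Subtype.ext (mul_left_cancel he))
        · rintro ⟨x, w, hw, b, hb, rfl⟩
          exact ⟨⟨⟨w, hw⟩, ⟨b, hb⟩⟩, rfl⟩
      rw [← Nat.card_eq_of_bijective f hf, Nat.card_prod]
    · rw [hV, coe_prodSubgroup]
      show (W : Set G) * (S a : Set G) * (S r : Set G) = _
      rw [mul_assoc, hS a r, ← mul_assoc, hp r, mul_assoc]
      rfl

/-- Pairwise permuting Sylow subgroups give a solvable group. -/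
theorem isSolvable [Finite G] (S : (p : Nat.Primes) → Sylow (p : ℕ) G)
    (hS : ∀ p q : Nat.Primes, (S p : Set G) * (S q : Set G) = (S q : Set G) * (S p : Set G)) :
    Group.IsSolvable G := by
  classical
  suffices ∀ pp : Nat.Primes, ∃ H : Subgroup G,
      H.index = (pp : ℕ) ^ (Nat.card G).factorization pp from
    SolvabilityCriteria.hall_converse fun p hp => this ⟨p, hp⟩
  intro pp
  obtain ⟨W, hW, -⟩ := exists_partial_product S hS ((HallSystem.primesOf G).erase pp)
  refine ⟨W, Nat.eq_of_mul_eq_mul_left (Nat.card_pos (α := W)) ?_⟩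
  rw [W.card_mul_index, hW]
  conv_lhs => rw [← HallSystem.prod_primesOf (G := G)]
  by_cases hm : pp ∈ HallSystem.primesOf G
  · rw [← Finset.prod_erase_mul _ _ hm]
  · rw [Finset.erase_eq_of_notMem hm,
      Nat.factorization_eq_zero_of_not_dvd (mt HallSystem.mem_primesOf.mpr hm), pow_zero, mul_one]

/-- Abelian Sylow subgroups of solvable groups: `p`-length at most one. -/
theorem abelian_sylow_normal [Finite G] [Group.IsSolvable G] (p : ℕ) [Fact p.Prime]
    (P : Sylow p G) (hP : IsMulCommutative P) :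
    ((P : Subgroup G) ⊔ Cfsg.pPrimeCore p G).Normal := by
  set q := QuotientGroup.mk' (Cfsg.pPrimeCore p G) with hq
  have hqs := QuotientGroup.mk'_surjective (Cfsg.pPrimeCore p G)
  have hO : Cfsg.pPrimeCore p (G ⧸ Cfsg.pPrimeCore p G) = ⊥ :=
    CfsgLib.Components.pPrimeCore_quotient_eq_bot
  let Q := P.mapSurjective hqs
  have hle : (Q : Subgroup (G ⧸ Cfsg.pPrimeCore p G)) ≤
      Cfsg.pCore p (G ⧸ Cfsg.pPrimeCore p G) := by
    have h := Cores.centralizer_fittingSubgroup_le (G := G ⧸ Cfsg.pPrimeCore p G)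
    rw [Cores.fittingSubgroup_eq_pCore p hO] at h
    refine le_trans ?_ h
    intro x hx
    rw [Subgroup.mem_centralizer_iff]
    intro y hy
    have hy' := Cores.pCore_le_sylow Q hy
    rw [Sylow.coe_mapSurjective] at hx hy'
    obtain ⟨a, ha, rfl⟩ := hx
    obtain ⟨b, hb, rfl⟩ := hy'
    rw [← map_mul, ← map_mul,
      (isMulCommutative_subgroup_iff (H := (P : Subgroup G))).mp hP b hb a ha]
  have heq := le_antisymm hle (Cores.pCore_le_sylow Q)
  have h : (P : Subgroup G) ⊔ Cfsg.pPrimeCore p G =
      (Q : Subgroup (G ⧸ Cfsg.pPrimeCore p G)).comap q := by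
    rw [Sylow.coe_mapSurjective, Subgroup.comap_map_eq, hq, QuotientGroup.ker_mk']
  rw [h, heq]
  haveI : (Cfsg.pCore p (G ⧸ Cfsg.pPrimeCore p G)).Normal :=
    Subgroup.sSup_normal _ fun _ hN => hN.1
  infer_instance

end CfsgLib.Solvable.SylowSystem
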