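import Cfsg.Agent.Lib.Solvable.Supersolvable
import Cfsg.Agent.Lib.Solvable.FrattiniFitting
import Cfsg.Agent.Lib.Solvable.Gaschutz
import Cfsg.Agent.Lib.Solvable.Hall
import Cfsg.Agent.Lib.Coprime.Action
import Mathlib.FieldTheory.Finite.Basic
import Mathlib.Algebra.Module.ZMod
import Mathlib.GroupTheory.IndexNormal
import Mathlib.Algebra.Module.LinearMap.End
import Mathlib.LinearAlgebra.Eigenspace.Minpoly

/-!
Criteria for supersolvability: Huppert's theorem, the converse of Lagrange in every subgroup,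
products of two cyclic groups, groups of order twice a prime power, Sylow towers.
-/

open scoped Pointwise commutatorElement
set_option linter.style.haveILetI false

namespace CfsgLib.Solvable.SupersolvableCriteria

open CfsgLib.Solvable.Basic CfsgLib.Solvable.Supersolvable

universe u

variable {G : Type u} [Group G]

/-- An endomorphism `T` of a nontrivial `ZMod p`-space with `T ^ p = T` has an eigenvector. -/
theorem exists_eigenvector {p : ℕ} [Fact p.Prime] {V : Type*} [AddCommGroup V] [Module (ZMod p) V]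
    [Nontrivial V] (T : Module.End (ZMod p) V) (hT : T ^ p = T) :
    ∃ (k : ZMod p) (v : V), v ≠ 0 ∧ T v = k • v := by
  classical
  have hp : 1 < p := (Fact.out : p.Prime).one_lt
  have hroots : (Polynomial.X ^ p - Polynomial.X : Polynomial (ZMod p)).roots =
      (Finset.univ : Finset (ZMod p)).val := by
    have := FiniteField.roots_X_pow_card_sub_X (ZMod p)
    rwa [ZMod.card p] at this
  have hmonic : (Polynomial.X ^ p - Polynomial.X : Polynomial (ZMod p)).Monic :=
    Polynomial.monic_X_pow_sub (lt_of_le_of_lt Polynomial.degree_X_le (by exact_mod_cast hp))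
  have hprod := Polynomial.prod_multiset_X_sub_C_of_monic_of_roots_card_eq hmonic (by
    rw [hroots, FiniteField.X_pow_card_sub_X_natDegree_eq (ZMod p) hp, Finset.card_val,
      Finset.card_univ, ZMod.card])
  have h0 : Polynomial.aeval T (Polynomial.X ^ p - Polynomial.X : Polynomial (ZMod p)) = 0 := by
    rw [map_sub, map_pow, Polynomial.aeval_X, hT, sub_self]
  rw [← hprod, hroots, ← Finset.coe_toList, Multiset.map_coe, Multiset.prod_coe,
    map_list_prod, List.map_map] at h0
  generalize (Finset.univ : Finset (ZMod p)).toList = L at h0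
  induction L with
  | nil =>
    obtain ⟨v, hv⟩ := exists_ne (0 : V)
    exact absurd (by simpa using congrArg (fun F : Module.End (ZMod p) V => F v) h0) hv
  | cons a L ih =>
    rw [List.map_cons, List.prod_cons] at h0
    by_cases hL : (L.map ((Polynomial.aeval T) ∘ fun k => Polynomial.X - Polynomial.C k)).prod = 0
    · exact ih hL
    · obtain ⟨w, hw⟩ : ∃ w, (L.map ((Polynomial.aeval T) ∘
          fun k => Polynomial.X - Polynomial.C k)).prod w ≠ 0 := by
        by_contra hno
        push Not at hno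
        exact hL (LinearMap.ext hno)
      refine ⟨a, _, hw, ?_⟩
      have h1 := congrArg (fun F : Module.End (ZMod p) V => F w) h0
      simp only [Function.comp_apply, map_sub, Polynomial.aeval_X, Polynomial.aeval_C,
        Module.End.mul_apply, LinearMap.sub_apply, LinearMap.zero_apply,
        Module.algebraMap_end_apply] at h1
      exact sub_eq_zero.mp h1

theorem exists_pow_eigen_module {p : ℕ} [Fact p.Prime] {V : Type*} [CommGroup V] [Nontrivial V]
    [Module (ZMod p) (Additive V)] (ψ : V →* V) (hψ : ∀ x, ψ^[p] x = ψ x) :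
    ∃ (k : ℕ) (v : V), v ≠ 1 ∧ ψ v = v ^ k := by
  let T : Module.End (ZMod p) (Additive V) := (MonoidHom.toAdditive ψ).toZModLinearMap p
  have hT : ∀ (k : ℕ) (x : V), (T ^ k) (Additive.ofMul x) = Additive.ofMul (ψ^[k] x) := by
    intro k
    induction k with
    | zero => intro x; simp
    | succ k ih =>
      intro x
      rw [pow_succ', Module.End.mul_apply, ih, Function.iterate_succ_apply']
      rfl
  obtain ⟨k, v, hv, hkv⟩ := exists_eigenvector T (LinearMap.ext fun x => by
    obtain ⟨x, rfl⟩ := Additive.ofMul.surjective x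
    rw [hT, hψ]
    rfl)
  obtain ⟨v, rfl⟩ := Additive.ofMul.surjective v
  refine ⟨k.val, v, fun e => hv (by rw [e]; rfl), ?_⟩
  rw [← ZMod.natCast_zmod_val k, Nat.cast_smul_eq_nsmul, ← ofMul_pow] at hkv
  exact Additive.ofMul.injective hkv

theorem exists_pow_eigen {p : ℕ} [Fact p.Prime] {V : Type*} [CommGroup V] [Nontrivial V]
    (hexp : ∀ x : V, x ^ p = 1) (ψ : V →* V) (hψ : ∀ x, ψ^[p] x = ψ x) :
    ∃ (k : ℕ) (v : V), v ≠ 1 ∧ ψ v = v ^ k :=
  letI : Module (ZMod p) (Additive V) :=
    AddCommGroup.zmodModule fun x => congrArg Additive.ofMul (hexp (Additive.toMul x))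
  exists_pow_eigen_module ψ hψ

open scoped IsMulCommutative in
/-- A minimal normal subgroup of exponent `p` on which the group acts as an abelian group of
exponent dividing `p - 1` has order `p`. -/
theorem card_prime_of_minimal_normal [Finite G] {p : ℕ} [Fact p.Prime] (N : Subgroup G) [N.Normal]
    [IsMulCommutative N] (hN : N ≠ ⊥)
    (hmin : ∀ M : Subgroup G, M.Normal → M ≤ N → M = ⊥ ∨ M = N)
    (hexp : ∀ x ∈ N, x ^ p = 1)
    (hcomm : ∀ (g h : G), ∀ x ∈ N, g * (h * x * h⁻¹) * g⁻¹ = h * (g * x * g⁻¹) * h⁻¹)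
    (hfix : ∀ (g : G), ∀ x ∈ N, g ^ (p - 1) * x * (g ^ (p - 1))⁻¹ = x) :
    (Nat.card N).Prime := by
  have hc := isMulCommutative_subgroup_iff.mp (inferInstance : IsMulCommutative N)
  haveI : Nontrivial N := (Subgroup.nontrivial_iff_ne_bot N).mpr hN
  have hscalar : ∀ (g : G) , ∃ k : ℕ, ∀ x ∈ N, g * x * g⁻¹ = x ^ k := by
    intro g
    let ψ : N →* N := (MulAut.conjNormal g).toMonoidHom
    have hiter : ∀ (k : ℕ) (x : N), ((ψ^[k] x : N) : G) = g ^ k * x * (g ^ k)⁻¹ := by
      intro k
      induction k with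
      | zero => intro x; simp
      | succ k ih =>
        intro x
        rw [Function.iterate_succ_apply', pow_succ']
        show ((MulAut.conjNormal g (ψ^[k] x) : N) : G) = _
        rw [MulAut.conjNormal_apply, ih]
        group
    obtain ⟨k, v, hv, hv'⟩ := exists_pow_eigen (p := p) (fun x => Subtype.ext (hexp _ x.2)) ψ
      (fun x => by
        apply Subtype.ext
        rw [hiter]
        show g ^ p * (x : G) * (g ^ p)⁻¹ = ((MulAut.conjNormal g x : N) : G)
        rw [MulAut.conjNormal_apply]
        have e : g ^ p = g * g ^ (p - 1) := by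
          rw [← pow_succ', Nat.sub_add_cancel (Fact.out : p.Prime).one_le]
        rw [e, show g * g ^ (p - 1) * (x : G) * (g * g ^ (p - 1))⁻¹ =
          g * (g ^ (p - 1) * (x : G) * (g ^ (p - 1))⁻¹) * g⁻¹ by group, hfix g x x.2])
    refine ⟨k, ?_⟩
    let W : Subgroup G :=
      { carrier := {x | x ∈ N ∧ g * x * g⁻¹ = x ^ k}
        one_mem' := ⟨one_mem N, by simp⟩
        mul_mem' := fun {a b} ha hb => ⟨mul_mem ha.1 hb.1, by
          rw [(show Commute a b from hc a ha.1 b hb.1).mul_pow, ← ha.2, ← hb.2]; group⟩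
        inv_mem' := fun {a} ha => ⟨inv_mem ha.1, by
          rw [inv_pow, ← ha.2]; group⟩ }
    have hWn : W.Normal := ⟨fun x hx h => ⟨Subgroup.Normal.conj_mem ‹N.Normal› x hx.1 h, by
      rw [hcomm g h x hx.1, hx.2, conj_pow]⟩⟩
    have hW : W = N := by
      refine (hmin W hWn (fun x hx => hx.1)).resolve_left fun h => hv ?_
      have hvW : (v : G) ∈ W := ⟨v.2, by
        rw [← MulAut.conjNormal_apply]; exact congrArg Subtype.val hv'⟩
      rw [h, Subgroup.mem_bot] at hvW
      exact Subtype.ext hvW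
    intro x hx
    exact (hW.symm ▸ hx : x ∈ W).2
  obtain ⟨x, hx, hx1⟩ := (Subgroup.bot_or_exists_ne_one N).resolve_left hN
  have hZn : (Subgroup.zpowers x).Normal := by
    refine ⟨fun y hy g => ?_⟩
    obtain ⟨k, hk⟩ := hscalar g
    rw [hk y ((Subgroup.zpowers_le.mpr hx) hy)]
    exact pow_mem hy k
  have hZ : Subgroup.zpowers x = N :=
    (hmin _ hZn (Subgroup.zpowers_le.mpr hx)).resolve_left fun h =>
      hx1 (Subgroup.zpowers_eq_bot.mp h)
  rw [← hZ, Nat.card_zpowers, orderOf_eq_prime (hexp x hx) hx1]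
  exact Fact.out

theorem pgroup_aux (p : ℕ) [Fact p.Prime] : ∀ (N : ℕ) (G : Type u) [Group G] [Finite G],
    Nat.card G = N → IsPGroup p G → Cfsg.IsSupersolvable G := by
  intro N
  induction N using Nat.strong_induction_on with
  | _ N ih =>
    intro G _ _ hN hG
    rcases subsingleton_or_nontrivial G with hs | hs
    · exact of_subsingleton
    haveI := hG.center_nontrivial
    obtain ⟨x, hx⟩ := exists_prime_orderOf_dvd_card' (G := Subgroup.center G) p
      ((hG.to_subgroup _).card_eq_or_dvd.resolve_left Finite.one_lt_card.ne')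
    set Z := Subgroup.zpowers (x : G)
    have hZc : Z ≤ Subgroup.center G := Subgroup.zpowers_le.mpr x.2
    haveI : Z.Normal := ⟨fun y hy g => by
      rw [Subgroup.mem_center_iff.mp (hZc hy) g, mul_inv_cancel_right]; exact hy⟩
    have hne : Z ≠ ⊥ := by
      rw [Ne, Subgroup.zpowers_eq_bot, ← orderOf_eq_one_iff, Subgroup.orderOf_coe, hx]
      exact (Fact.out : p.Prime).ne_one
    exact of_isCyclic_normal Z (ih _ (hN ▸ card_quotient_lt Z hne) (G ⧸ Z) rfl (hG.to_quotient Z))

theorem of_isPGroup [Finite G] {p : ℕ} [Fact p.Prime] (hG : IsPGroup p G) : Cfsg.IsSupersolvable G :=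
  pgroup_aux p _ G rfl hG

theorem order_two_mul_pow_aux (p : ℕ) [Fact p.Prime] : ∀ (n : ℕ) (G : Type u) [Group G] [Finite G],
    Nat.card G = 2 * p ^ n → Cfsg.IsSupersolvable G := by
  intro n
  induction n with
  | zero =>
    intro G _ _ hG
    haveI := Fact.mk Nat.prime_two
    exact of_isPGroup (p := 2) (IsPGroup.of_card (n := 1) (by simpa using hG))
  | succ n ih =>
    intro G _ _ hG
    by_cases hp2 : p = 2
    · subst hp2
      exact of_isPGroup (p := 2) (IsPGroup.of_card (n := n + 2) (by rw [hG]; ring))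
    obtain ⟨P⟩ : Nonempty (Sylow p G) := inferInstance
    have hPc : Nat.card (P : Subgroup G) = p ^ (n + 1) := by
      rw [P.card_eq_multiplicity, hG, Nat.factorization_mul two_ne_zero
        (pow_ne_zero _ (Fact.out : p.Prime).ne_zero)]
      simp [Nat.prime_two.factorization, (Fact.out : p.Prime).factorization_self,
        Finsupp.single_eq_of_ne (Ne.symm hp2), hp2]
    have hPi : (P : Subgroup G).index = 2 := by
      have := (P : Subgroup G).index_mul_card
      rw [hPc, hG] at this
      exact Nat.eq_of_mul_eq_mul_right (pow_pos (Fact.out : p.Prime).pos _) this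
    haveI : (P : Subgroup G).Normal := Subgroup.normal_of_index_eq_two hPi
    haveI : Nontrivial (P : Subgroup G) := Finite.one_lt_card_iff_nontrivial.mp
      (by rw [hPc]; exact Nat.one_lt_pow (Nat.succ_ne_zero n) (Fact.out : p.Prime).one_lt)
    obtain ⟨t, ht⟩ : ∃ t, t ∉ (P : Subgroup G) := by
      by_contra hno
      push Not at hno
      have : (P : Subgroup G) = ⊤ := eq_top_iff.mpr fun x _ => hno x
      rw [this, Subgroup.index_top] at hPi
      exact absurd hPi (by decide)
    haveI := P.isPGroup'.center_nontrivial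
    obtain ⟨v, hv⟩ := exists_prime_orderOf_dvd_card' (G := Subgroup.center (P : Subgroup G)) p
      ((P.isPGroup'.to_subgroup _).card_eq_or_dvd.resolve_left Finite.one_lt_card.ne')
    set C := (Subgroup.center (P : Subgroup G)).map (P : Subgroup G).subtype
    have hCn : C.Normal := inferInstance
    have hvC : ((v : (P : Subgroup G)) : G) ∈ C := Subgroup.mem_map_of_mem _ v.2
    have hCP : ∀ x ∈ (P : Subgroup G), ∀ c ∈ C, x * c * x⁻¹ = c := by
      rintro x hx _ ⟨c, hc, rfl⟩
      have := congrArg Subtype.val (Subgroup.mem_center_iff.mp hc ⟨x, hx⟩)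
      simp only [Subgroup.coe_mul] at this
      rw [Subgroup.coe_subtype, this, mul_inv_cancel_right]
    set v' : G := ((v : (P : Subgroup G)) : G)
    have hv1 : v' ^ p = 1 := by
      rw [← hv, show orderOf v = orderOf v' by rw [Subgroup.orderOf_coe, Subgroup.orderOf_coe],
        pow_orderOf_eq_one]
    have ht2 : t * t ∈ (P : Subgroup G) := Subgroup.mul_self_mem_of_index_two hPi t
    set u := t * v' * t⁻¹
    have huC : u ∈ C := hCn.conj_mem _ hvC t
    have hcomm : v' * u = u * v' := by
      have hu' : u ∈ (P : Subgroup G) := (Subgroup.map_subtype_le _) huC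
      exact (mul_inv_eq_iff_eq_mul.mp (hCP u hu' v' hvC)).symm
    -- either `v * u` is fixed by `t` or `t` inverts `v`
    obtain ⟨w, hwC, hw1, hwp, k, hwt⟩ :
        ∃ w ∈ C, w ≠ 1 ∧ w ^ p = 1 ∧ ∃ k : ℤ, t * w * t⁻¹ = w ^ k := by
      by_cases h : v' * u = 1
      · refine ⟨v', hvC, fun e => ?_, hv1, -1, ?_⟩
        · have : orderOf v = orderOf v' := by rw [Subgroup.orderOf_coe, Subgroup.orderOf_coe]
          rw [e, orderOf_one, hv] at this
          exact (Fact.out : p.Prime).ne_one this
        · rw [zpow_neg_one]; exact (eq_inv_of_mul_eq_one_right h)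
      · refine ⟨v' * u, mul_mem hvC huC, h, ?_, 1, ?_⟩
        · rw [(show Commute v' u from hcomm).mul_pow, hv1, one_mul, conj_pow, hv1]; group
        · rw [zpow_one, hcomm]
          have e : t * (u * v') * t⁻¹ = (t * t) * v' * (t * t)⁻¹ * (t * v' * t⁻¹) := by
            simp only [u]; group
          rw [e, hCP _ ht2 v' hvC]
          exact hcomm
    set Z := Subgroup.zpowers w
    haveI hZn : Z.Normal := by
      refine ⟨fun y hy g => ?_⟩
      obtain ⟨i, rfl⟩ := Subgroup.mem_zpowers_iff.mp hy
      by_cases hg : g ∈ (P : Subgroup G)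
      · rw [← conj_zpow, hCP g hg w hwC]; exact hy
      · have hgt : g * t⁻¹ ∈ (P : Subgroup G) := by
          rw [Subgroup.mul_mem_iff_of_index_two hPi]
          simp [hg, ht]
        have : g * w ^ i * g⁻¹ = w ^ (k * i) := by
          have e : g * w * g⁻¹ = (g * t⁻¹) * (t * w * t⁻¹) * (g * t⁻¹)⁻¹ := by group
          rw [← conj_zpow, e, hwt, ← conj_zpow, hCP _ hgt w hwC, ← zpow_mul]
        rw [this]
        exact zpow_mem (Subgroup.mem_zpowers w) _
    have hZc : Nat.card Z = p := by rw [Nat.card_zpowers, orderOf_eq_prime hwp hw1]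
    refine of_isCyclic_normal Z (ih (G ⧸ Z) ?_)
    have := Z.index_mul_card
    rw [hZc, hG, pow_succ, ← mul_assoc] at this
    rw [← Subgroup.index_eq_card]
    exact Nat.eq_of_mul_eq_mul_right (Fact.out : p.Prime).pos this

/-- The converse of Lagrange in every subgroup makes the Sylow subgroup of the largest prime
normal. -/
theorem sylow_normal_aux : ∀ (N : ℕ) (G : Type u) [Group G] [Finite G], Nat.card G = N →
    (∀ H : Subgroup G, Cfsg.HasSubgroupOfEveryOrder H) → ∀ (p : ℕ) [Fact p.Prime],
    (∀ q : ℕ, q.Prime → q ∣ Nat.card G → q ≤ p) → ∀ P : Sylow p G, (P : Subgroup G).Normal := by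
  intro N
  induction N using Nat.strong_induction_on with
  | _ N ih =>
    intro G _ _ hN h p _ hmax P
    by_cases hG1 : Nat.card G = 1
    · haveI : Subsingleton G := (Nat.card_eq_one_iff_unique.mp hG1).1
      rw [Subsingleton.elim (P : Subgroup G) ⊥]
      infer_instance
    set q := (Nat.card G).minFac
    have hq : q.Prime := Nat.minFac_prime hG1
    have hqd : q ∣ Nat.card G := Nat.minFac_dvd _
    haveI := Fact.mk hq
    by_cases hqp : q = p
    · have hpg : IsPGroup p G := by
        refine IsPGroup.of_card (n := (Nat.card G).primeFactorsList.length)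
          (Nat.eq_prime_pow_of_unique_prime_dvd Nat.card_pos.ne' fun {r} hr hd => ?_)
        exact le_antisymm (hmax r hr hd) (hqp ▸ Nat.minFac_le_of_dvd hr.two_le hd)
      have : (P : Subgroup G) = ⊤ :=
        (P.3 (hpg.to_subgroup ⊤) le_top).symm
      rw [this]; infer_instance
    obtain ⟨M₀, hM₀⟩ := h ⊤ (Nat.card G / q)
      (by rw [Subgroup.card_top]; exact Nat.div_dvd_of_dvd hqd)
    set M := M₀.map (⊤ : Subgroup G).subtype
    have hMc : Nat.card M = Nat.card G / q := by
      rw [Subgroup.card_map_of_injective (Subgroup.subtype_injective _), hM₀]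
    have hMi : M.index = q := by
      have := M.index_mul_card
      rw [hMc] at this
      have h2 : q * (Nat.card G / q) = Nat.card G := Nat.mul_div_cancel' hqd
      exact Nat.eq_of_mul_eq_mul_right (Nat.div_pos (Nat.le_of_dvd Nat.card_pos hqd) hq.pos)
        (this.trans h2.symm)
    haveI : M.Normal := Subgroup.normal_of_index_eq_minFac_card hMi
    have hPM : (P : Subgroup G) ≤ M := by
      intro x hx
      rw [← QuotientGroup.eq_one_iff, ← orderOf_eq_one_iff]
      obtain ⟨k, hk⟩ := IsPGroup.iff_orderOf.mp P.isPGroup' ⟨x, hx⟩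
      rw [← Subgroup.orderOf_coe] at hk
      have h1 := (orderOf_map_dvd (QuotientGroup.mk' M) x).trans hk.dvd
      have h2 : orderOf (x : G ⧸ M) ∣ q := hMi ▸ M.index_eq_card ▸ orderOf_dvd_natCard _
      exact Nat.eq_one_of_dvd_coprimes
        (((Nat.coprime_primes hq Fact.out).mpr hqp).pow_right k) h2 h1
    have hlt : Nat.card M < N := by
      rw [← hN, hMc]; exact Nat.div_lt_self Nat.card_pos hq.one_lt
    have hsub : ∀ H : Subgroup M, Cfsg.HasSubgroupOfEveryOrder H := by
      intro H d hd
      have e := H.equivMapOfInjective M.subtype M.subtype_injective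
      obtain ⟨K, hK⟩ := h (H.map M.subtype) d (Nat.card_congr e.toEquiv ▸ hd)
      exact ⟨K.map e.symm.toMonoidHom, by rw [Subgroup.card_map_of_injective e.symm.injective, hK]⟩
    haveI hn := ih _ hlt M rfl hsub p
      (fun r hr hd => hmax r hr (hd.trans M.card_subgroup_dvd_card)) (P.subtype hPM)
    haveI := (P.subtype hPM).characteristic_of_normal hn
    rw [← Subgroup.map_subgroupOf_eq_of_le hPM, ← P.coe_subtype (h := hPM)]
    infer_instance

theorem hasSubgroup_subgroup [Finite G] (hG : Cfsg.IsSupersolvable G) (H : Subgroup G) :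
    Cfsg.HasSubgroupOfEveryOrder H :=
  Supersolvable.hasSubgroup_aux _ H rfl (Supersolvable.subgroup H hG)

theorem sylow_normal [Finite G] (hG : Cfsg.IsSupersolvable G) {p : ℕ} [Fact p.Prime]
    (hmax : ∀ q : ℕ, q.Prime → q ∣ Nat.card G → q ≤ p) (P : Sylow p G) :
    (P : Subgroup G).Normal :=
  sylow_normal_aux _ G rfl (hasSubgroup_subgroup hG) p hmax P

theorem exists_largest_prime (n : ℕ) (h : 1 < n) :
    ∃ p, p.Prime ∧ p ∣ n ∧ ∀ q : ℕ, q.Prime → q ∣ n → q ≤ p := by
  have hne : n.primeFactors.Nonempty := Nat.nonempty_primeFactors.mpr h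
  refine ⟨n.primeFactors.max' hne, Nat.prime_of_mem_primeFactors (Finset.max'_mem _ _),
    Nat.dvd_of_mem_primeFactors (Finset.max'_mem _ _), fun q hq hd => Finset.le_max' _ _ ?_⟩
  exact Nat.mem_primeFactors.mpr ⟨hq, hd, by omega⟩

theorem ordered_series_aux : ∀ (N : ℕ) (G : Type u) [Group G] [Finite G], Nat.card G = N →
    Cfsg.IsSupersolvable G → ∃ (n : ℕ) (H : Fin (n + 1) → Subgroup G), H 0 = ⊥ ∧
      H (Fin.last n) = ⊤ ∧ (∀ i, (H i).Normal) ∧
      (∀ i : Fin n, H i.castSucc ≤ H i.succ ∧ ((H i.castSucc).relIndex (H i.succ)).Prime) ∧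
      ∀ i j : Fin n, i ≤ j →
        (H j.castSucc).relIndex (H j.succ) ≤ (H i.castSucc).relIndex (H i.succ) := by
  intro N
  induction N using Nat.strong_induction_on with
  | _ N ih =>
    intro G _ _ hN hG
    rcases subsingleton_or_nontrivial G with hs | hs
    · exact ⟨0, fun _ => ⊥, rfl, Subsingleton.elim _ _, fun _ => inferInstance, fun i => i.elim0,
        fun i => i.elim0⟩
    obtain ⟨p, hp, hpd, hmax⟩ := exists_largest_prime (Nat.card G) Finite.one_lt_card
    haveI := Fact.mk hp
    obtain ⟨P⟩ : Nonempty (Sylow p G) := inferInstance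
    haveI := sylow_normal hG hmax P
    obtain ⟨Z, hZn, hZP, hZp⟩ := exists_prime_normal_le hG (P.ne_bot_of_dvd_card hpd)
    haveI := hZn
    have hZc : Nat.card Z = p := by
      obtain ⟨k, hk⟩ := IsPGroup.iff_card.mp (P.isPGroup'.to_le hZP)
      have := (Nat.prime_dvd_prime_iff_eq hp hZp).mp ?_
      · exact this.symm
      · rcases Nat.eq_zero_or_pos k with h0 | h0
        · rw [hk, h0, pow_zero] at hZp; exact absurd hZp Nat.not_prime_one
        · rw [hk]; exact dvd_pow_self p h0.ne'
    obtain ⟨n, C, h0, hn, hCn, hstep, hord⟩ :=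
      ih _ (hN ▸ card_quotient_lt Z (ne_bot_of_prime_card hZp)) (G ⧸ Z) rfl (quotient Z hG)
    set q := QuotientGroup.mk' Z
    have hrel : ∀ i : Fin n, ((C i.castSucc).comap q).relIndex ((C i.succ).comap q) =
        (C i.castSucc).relIndex (C i.succ) := by
      intro i
      rw [Subgroup.relIndex_comap, Subgroup.map_comap_eq_self_of_surjective
        (QuotientGroup.mk'_surjective Z)]
    have hle : ∀ i : Fin n, (C i.castSucc).relIndex (C i.succ) ≤ p := by
      intro i
      refine hmax _ (hstep i).2 ?_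
      exact ((Subgroup.relIndex_dvd_card _ _).trans (C i.succ).card_subgroup_dvd_card).trans
        (Z.index_eq_card ▸ Z.index_dvd_card)
    have hbot : (⊥ : Subgroup G).relIndex ((C 0).comap q) = p := by
      rw [Subgroup.relIndex_bot_left, h0, MonoidHom.comap_bot, QuotientGroup.ker_mk', hZc]
    refine ⟨n + 1, Fin.cons ⊥ (fun i => (C i).comap q), Fin.cons_zero _ _, ?_, ?_, ?_, ?_⟩
    · rw [← Fin.succ_last, Fin.cons_succ, hn, Subgroup.comap_top]
    · intro i
      induction i using Fin.cases with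
      | zero => rw [Fin.cons_zero]; infer_instance
      | succ i => rw [Fin.cons_succ]; exact (hCn i).comap q
    · intro i
      induction i using Fin.cases with
      | zero =>
        rw [Fin.castSucc_zero, Fin.cons_zero, Fin.cons_succ, hbot]
        exact ⟨bot_le, hp⟩
      | succ i =>
        rw [← Fin.succ_castSucc, Fin.cons_succ, Fin.cons_succ, hrel]
        exact ⟨Subgroup.comap_mono (hstep i).1, (hstep i).2⟩
    · intro i j hij
      induction j using Fin.cases with
      | zero => rw [Fin.le_zero_iff.mp hij]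
      | succ j =>
        rw [← Fin.succ_castSucc, Fin.cons_succ, Fin.cons_succ, hrel]
        induction i using Fin.cases with
        | zero => rw [Fin.castSucc_zero, Fin.cons_zero, Fin.cons_succ, hbot]; exact hle j
        | succ i =>
          rw [← Fin.succ_castSucc, Fin.cons_succ, Fin.cons_succ, hrel]
          exact hord i j (Fin.succ_le_succ_iff.mp hij)

/-- Subgroups of a finite cyclic subgroup are determined by their order. -/
theorem eq_of_card_eq_of_le_cyclic [Finite G] {A : Subgroup G} [IsCyclic A] {K L : Subgroup G}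
    (hK : K ≤ A) (hL : L ≤ A) (h : Nat.card K = Nat.card L) : K = L := by
  classical
  letI : CommGroup A := IsCyclic.commGroup
  haveI := Fintype.ofFinite A
  set d := Nat.card K with hd
  have hsub : ∀ M : Subgroup G, Nat.card M = d → ∀ a : A, (a : G) ∈ M → a ^ d = 1 := by
    intro M hM a ha
    apply Subtype.ext
    rw [Subgroup.coe_pow, Subgroup.coe_one, ← orderOf_dvd_iff_pow_eq_one]
    exact hM ▸ Subgroup.orderOf_dvd_natCard M ha
  have hle : (Finset.univ.filter fun a : A => a ^ d = 1).card ≤ d :=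
    IsCyclic.card_pow_eq_one_le Nat.card_pos
  have key : ∀ M : Subgroup G, M ≤ A → Nat.card M = d →
      (Finset.univ.filter fun a : A => (a : G) ∈ M) = Finset.univ.filter fun a : A => a ^ d = 1 := by
    intro M hMA hM
    refine Finset.eq_of_subset_of_card_le (fun a ha => ?_) (hle.trans ?_)
    · simp only [Finset.mem_filter, Finset.mem_univ, true_and] at ha ⊢
      exact hsub M hM a ha
    · rw [← hM, ← Nat.card_congr (Subgroup.subgroupOfEquivOfLe hMA).toEquiv,
        Nat.card_eq_fintype_card, Fintype.card_subtype]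
      exact le_rfl
  ext x
  constructor <;> intro hx
  · have h1 : (⟨x, hK hx⟩ : A) ∈ Finset.univ.filter fun a : A => (a : G) ∈ K := by simpa using hx
    rw [key K hK rfl, ← key L hL h.symm] at h1
    simpa using h1
  · have h1 : (⟨x, hL hx⟩ : A) ∈ Finset.univ.filter fun a : A => (a : G) ∈ L := by simpa using hx
    rw [key L hL h.symm, ← key K hK rfl] at h1
    simpa using h1

/-- A nontrivial product of two cyclic subgroups has a nontrivial cyclic normal subgroup. -/
theorem exists_cyclic_normal [Finite G] [Nontrivial G] (A B : Subgroup G) [IsCyclic A] [IsCyclic B]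
    (hAB : ∀ g : G, ∃ a ∈ A, ∃ b ∈ B, g = a * b) (hle : Nat.card B ≤ Nat.card A) :
    ∃ C : Subgroup G, C.Normal ∧ C ≠ ⊥ ∧ IsCyclic C := by
  have cA : ∀ x ∈ A, ∀ y ∈ A, x * y = y * x := fun x hx y hy => by
    letI : CommGroup A := IsCyclic.commGroup
    exact congrArg Subtype.val (mul_comm (⟨x, hx⟩ : A) ⟨y, hy⟩)
  have cB : ∀ x ∈ B, ∀ y ∈ B, x * y = y * x := fun x hx y hy => by
    letI : CommGroup B := IsCyclic.commGroup
    exact congrArg Subtype.val (mul_comm (⟨x, hx⟩ : B) ⟨y, hy⟩)
  by_cases hAT : A = ⊤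
  · subst hAT
    exact ⟨⊤, inferInstance, top_ne_bot, inferInstance⟩
  have cyc : ∀ C : Subgroup G, C ≤ A → IsCyclic C := fun C hC =>
    isCyclic_of_injective _ (Subgroup.inclusion_injective hC)
  by_cases hAB0 : A ⊓ B ≠ ⊥
  · refine ⟨A ⊓ B, ⟨fun x hx g => ?_⟩, hAB0, cyc _ inf_le_left⟩
    obtain ⟨a, ha, b, hb, rfl⟩ := hAB g
    have : a * b * x * (a * b)⁻¹ = x := by
      rw [show a * b * x * (a * b)⁻¹ = a * (b * x * b⁻¹) * a⁻¹ by group, cB b hb x hx.2,
        mul_inv_cancel_right, cA a ha x hx.1, mul_inv_cancel_right]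
    rw [this]; exact hx
  rw [not_not] at hAB0
  obtain ⟨b, hbgen⟩ := (Subgroup.isCyclic_iff_exists_zpowers_eq_top B).mp inferInstance
  have hb : b ∈ B := hbgen ▸ Subgroup.mem_zpowers b
  set A' := MulAut.conj b • A with hA'
  set C := A ⊓ A' with hC
  have hC0 : C ≠ ⊥ := by
    intro h0
    have hbA : b ∉ A := by
      intro hbA
      apply hAT
      have hB : B ≤ A := hbgen ▸ Subgroup.zpowers_le.mpr hbA
      rw [eq_top_iff]
      intro g _
      obtain ⟨x, hx, y, hy, rfl⟩ := hAB g
      exact mul_mem hx (hB hy)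
    -- the product map on `A × A'` is injective, hence surjective
    let f : A × A' → G := fun x => (x.1 : G) * x.2
    have hf : Function.Injective f := by
      rintro ⟨x, y⟩ ⟨x', y'⟩ h
      have h' : (x' : G)⁻¹ * x = (y' : G) * (y : G)⁻¹ := by
        have : (x : G) * y = x' * y' := h
        calc (x' : G)⁻¹ * x = (x' : G)⁻¹ * ((x : G) * y) * (y : G)⁻¹ := by group
          _ = (y' : G) * (y : G)⁻¹ := by rw [this]; group
      have h1 : (x' : G)⁻¹ * x ∈ C :=
        ⟨A.mul_mem (A.inv_mem x'.2) x.2, h' ▸ A'.mul_mem y'.2 (A'.inv_mem y.2)⟩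
      rw [h0, Subgroup.mem_bot] at h1
      have h2 : (y' : G) * (y : G)⁻¹ = 1 := h' ▸ h1
      exact Prod.ext (Subtype.ext (inv_mul_eq_one.mp h1).symm)
        (Subtype.ext (mul_inv_eq_one.mp h2).symm)
    let f' : A × B → G := fun x => (x.1 : G) * x.2
    have hcG : Nat.card G ≤ Nat.card A * Nat.card B := by
      rw [← Nat.card_prod]
      exact Nat.card_le_card_of_surjective f' fun g => by
        obtain ⟨x, hx, y, hy, rfl⟩ := hAB g
        exact ⟨(⟨x, hx⟩, ⟨y, hy⟩), rfl⟩
    have hbij := hf.bijective_of_nat_card_le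
      (hcG.trans (by rw [Nat.card_prod, hA', card_conj_smul]; exact Nat.mul_le_mul_left _ hle))
    obtain ⟨⟨x, y⟩, hxy⟩ := hbij.2 b⁻¹
    have hy : b⁻¹ * (y : G) * b ∈ A := mem_conj_smul.mp (hA' ▸ y.2)
    have hxy' : (x : G) * y = b⁻¹ := hxy
    apply hbA
    have : b = (x : G)⁻¹ * (b⁻¹ * (y : G) * b)⁻¹ := by
      have e : (y : G) = (x : G)⁻¹ * b⁻¹ := by rw [← hxy']; group
      rw [e]; group
    rw [this]
    exact mul_mem (inv_mem x.2) (inv_mem hy)
  have hCb : MulAut.conj b⁻¹ • C = C := by
    refine eq_of_card_eq_of_le_cyclic (A := A) ?_ inf_le_left (card_conj_smul _ _)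
    refine (conj_smul_mono inf_le_right).trans (le_of_eq ?_)
    rw [hA', conj_smul_conj_smul, inv_mul_cancel, map_one, one_smul]
  have hbN : b ∈ Subgroup.normalizer (C : Set G) := by
    rw [← inv_inv b]
    refine Subgroup.inv_mem _ ?_
    rw [Subgroup.mem_normalizer_iff]
    intro y
    conv_rhs => rw [← hCb]
    rw [mem_conj_smul]
    simp [mul_assoc]
  refine ⟨C, ?_, hC0, cyc _ inf_le_left⟩
  rw [← Subgroup.normalizer_eq_top_iff, eq_top_iff]
  intro g _
  obtain ⟨x, hx, y, hy, rfl⟩ := hAB g
  refine Subgroup.mul_mem _ ?_ ?_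
  · rw [Subgroup.mem_normalizer_iff]
    intro z
    have key : ∀ z ∈ C, x * z * x⁻¹ = z := fun z hz => by
      rw [cA x hx z hz.1, mul_inv_cancel_right]
    constructor
    · intro hz; rwa [key z hz]
    · intro hz
      have hzA : z ∈ A := by simpa [mul_assoc] using A.mul_mem (A.mul_mem (A.inv_mem hx) hz.1) hx
      rwa [cA x hx z hzA, mul_inv_cancel_right] at hz
  · exact (hbgen ▸ (Subgroup.zpowers_le.mpr hbN) : B ≤ _) hy

theorem cyclic_product_aux : ∀ (N : ℕ) (G : Type u) [Group G] [Finite G], Nat.card G = N →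
    ∀ A B : Subgroup G, IsCyclic A → IsCyclic B → (∀ g : G, ∃ a ∈ A, ∃ b ∈ B, g = a * b) →
      Cfsg.IsSupersolvable G := by
  intro N
  induction N using Nat.strong_induction_on with
  | _ N ih =>
    intro G _ _ hN A B _ _ hAB
    rcases subsingleton_or_nontrivial G with hs | hs
    · exact of_subsingleton
    obtain ⟨C, hCn, hC0, hCc⟩ : ∃ C : Subgroup G, C.Normal ∧ C ≠ ⊥ ∧ IsCyclic C := by
      rcases le_total (Nat.card B) (Nat.card A) with h | h
      · exact exists_cyclic_normal A B hAB h
      · refine exists_cyclic_normal B A (fun g => ?_) h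
        obtain ⟨a, ha, b, hb, hg⟩ := hAB g⁻¹
        exact ⟨b⁻¹, inv_mem hb, a⁻¹, inv_mem ha, by rw [← mul_inv_rev, ← hg, inv_inv]⟩
    haveI := hCn
    haveI := hCc
    set q := QuotientGroup.mk' C
    refine of_isCyclic_normal C (ih _ (hN ▸ card_quotient_lt C hC0) (G ⧸ C) rfl (A.map q) (B.map q)
      (isCyclic_of_surjective _ (q.subgroupMap_surjective A))
      (isCyclic_of_surjective _ (q.subgroupMap_surjective B)) fun g => ?_)
    obtain ⟨g, rfl⟩ := QuotientGroup.mk'_surjective C g
    obtain ⟨a, ha, b, hb, rfl⟩ := hAB g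
    exact ⟨q a, Subgroup.mem_map_of_mem _ ha, q b, Subgroup.mem_map_of_mem _ hb, map_mul _ _ _⟩

theorem max_index_quotient [Finite G] (h : ∀ M : Subgroup G, IsCoatom M → M.index.Prime)
    (N : Subgroup G) [N.Normal] :
    ∀ M : Subgroup (G ⧸ N), IsCoatom M → M.index.Prime := by
  intro M hM
  rw [← M.index_comap_of_surjective (QuotientGroup.mk'_surjective N)]
  exact h _ (Subgroup.isCoatom_comap_of_surjective (QuotientGroup.mk'_surjective N) hM)

theorem sylow_normal_of_max_index [Finite G] (h : ∀ M : Subgroup G, IsCoatom M → M.index.Prime)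
    {p : ℕ} [hp : Fact p.Prime] (hmax : ∀ q : ℕ, q.Prime → q ∣ Nat.card G → q ≤ p)
    (P : Sylow p G) : (P : Subgroup G).Normal := by
  rw [← Subgroup.normalizer_eq_top_iff]
  by_contra hne
  obtain ⟨M, hM, hNM⟩ := (eq_top_or_exists_le_coatom _).resolve_left hne
  have hPM : (P : Subgroup G) ≤ M := Subgroup.le_normalizer.trans hNM
  have hq := h M hM
  have h1 : (Subgroup.normalizer ((P : Subgroup G) : Set G)).index ≡ 1 [MOD p] :=
    P.card_eq_index_normalizer ▸ card_sylow_modEq_one p G
  have h2 := card_sylow_modEq_one p M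
  rw [(P.subtype hPM).card_eq_index_normalizer] at h2
  have h3 : (Subgroup.normalizer (((P.subtype hPM : Sylow p M) : Subgroup M) : Set M)) =
      (Subgroup.normalizer ((P : Subgroup G) : Set G)).subgroupOf M := by
    rw [P.coe_subtype (h := hPM), Subgroup.subgroupOf_normalizer_eq hPM]
  have h2' : (Subgroup.normalizer ((P : Subgroup G) : Set G)).relIndex M ≡ 1 [MOD p] := by
    rw [Subgroup.relIndex, ← h3]; exact h2
  have h4 := Subgroup.relIndex_mul_index hNM
  have h5 : M.index ≡ 1 [MOD p] := by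
    have := (h2'.mul_right M.index).symm
    rw [one_mul, h4] at this
    exact this.trans h1
  have h6 : M.index ≤ p := hmax _ hq M.index_dvd_card
  rcases eq_or_lt_of_le h6 with h7 | h7
  · rw [h7] at h5
    exact hp.out.ne_one (Nat.dvd_one.mp (Nat.modEq_zero_iff_dvd.mp
      (h5.symm.trans (Nat.modEq_zero_iff_dvd.mpr dvd_rfl))))
  · have := Nat.ModEq.eq_of_lt_of_lt h5 h7 hp.out.one_lt
    exact hq.ne_one this

theorem solvable_of_max_index_aux : ∀ (N : ℕ) (G : Type u) [Group G] [Finite G], Nat.card G = N →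
    (∀ M : Subgroup G, IsCoatom M → M.index.Prime) → Group.IsSolvable G := by
  intro N
  induction N using Nat.strong_induction_on with
  | _ N ih =>
    intro G _ _ hN h
    rcases subsingleton_or_nontrivial G with hs | hs
    · infer_instance
    obtain ⟨p, hp, hpd, hmax⟩ := exists_largest_prime (Nat.card G) Finite.one_lt_card
    haveI := Fact.mk hp
    obtain ⟨P⟩ : Nonempty (Sylow p G) := inferInstance
    haveI := sylow_normal_of_max_index h hmax P
    haveI := P.isPGroup'.isNilpotent
    haveI := ih _ (hN ▸ card_quotient_lt _ (P.ne_bot_of_dvd_card hpd)) (G ⧸ (P : Subgroup G)) rfl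
      (max_index_quotient h _)
    refine Group.isSolvable_of_ker_le_range (P : Subgroup G).subtype
      (QuotientGroup.mk' (P : Subgroup G)) (le_of_eq ?_)
    rw [Subgroup.range_subtype, QuotientGroup.ker_mk']

/-- In a supersolvable group `a ^ (p - 1)` centralizes a normal `p`-subgroup if `a` has order prime
to `p`. -/
theorem pow_commute_aux (p : ℕ) [Fact p.Prime] : ∀ (N : ℕ) (G : Type u) [Group G] [Finite G],
    Nat.card G = N → Cfsg.IsSupersolvable G → ∀ (P : Subgroup G), P.Normal → IsPGroup p P →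
    ∀ a : G, (orderOf a).Coprime p → ∀ x ∈ P, Commute (a ^ (p - 1)) x := by
  intro N
  induction N using Nat.strong_induction_on with
  | _ N ih =>
    intro G _ _ hN hG P hPn hPp a ha x hx
    by_cases hP0 : P = ⊥
    · rw [hP0, Subgroup.mem_bot] at hx
      subst hx
      exact Commute.one_right _
    haveI := hPn
    obtain ⟨Z, hZn, hZP, hZp⟩ := exists_prime_normal_le hG hP0
    haveI := hZn
    have hZc : Nat.card Z = p := by
      obtain ⟨k, hk⟩ := IsPGroup.iff_card.mp (hPp.to_le hZP)
      have hk0 : k ≠ 0 := by rintro rfl; rw [pow_zero] at hk; exact hZp.ne_one hk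
      exact ((Nat.prime_dvd_prime_iff_eq Fact.out hZp).mp (hk ▸ dvd_pow_self p hk0)).symm
    set q := QuotientGroup.mk' Z
    have hq := ih _ (hN ▸ card_quotient_lt Z (ne_bot_of_prime_card hZp)) (G ⧸ Z) rfl
      (quotient Z hG) (P.map q) (hPn.map q (QuotientGroup.mk'_surjective Z)) (hPp.map q) (q a)
      (ha.coprime_dvd_left (orderOf_map_dvd q a)) (q x) (Subgroup.mem_map_of_mem q hx)
    set b := a ^ (p - 1)
    have hbx : ⁅b, x⁆ ∈ Z := by
      rw [← QuotientGroup.eq_one_iff]
      show q ⁅b, x⁆ = 1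
      rw [map_commutatorElement, commutatorElement_eq_one_iff_mul_comm, map_pow]
      exact hq
    have hob : (orderOf b).Coprime (Nat.card Z) := by
      rw [hZc]; exact ha.coprime_dvd_left (orderOf_pow_dvd _)
    refine CfsgLib.Coprime.commute_of_stabilizes hob (Subgroup.mem_centralizer_iff.mpr fun z hz => ?_)
      hbx
    haveI := Supersolvable.isCyclic_of_prime_card_subgroup hZp
    obtain ⟨g, hg⟩ := (Subgroup.isCyclic_iff_exists_zpowers_eq_top Z).mp inferInstance
    have hgZ : g ∈ Z := hg ▸ Subgroup.mem_zpowers g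
    obtain ⟨k, hk⟩ := Subgroup.mem_zpowers_iff.mp (hg.symm ▸ hZn.conj_mem g hgZ a :
      a * g * a⁻¹ ∈ Subgroup.zpowers g)
    have hgo : orderOf g = p := by rw [← hZc, ← hg, Nat.card_zpowers]
    have hj : ∀ j : ℕ, a ^ j * g * (a ^ j)⁻¹ = g ^ (k ^ j) := by
      intro j
      induction j with
      | zero => simp
      | succ j ihj =>
        calc a ^ (j + 1) * g * (a ^ (j + 1))⁻¹ = a * (a ^ j * g * (a ^ j)⁻¹) * a⁻¹ := by
              rw [pow_succ']; group
          _ = g ^ (k ^ (j + 1)) := by
              rw [ihj, ← conj_zpow, ← hk, ← zpow_mul, pow_succ']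
    have hk0 : ((k : ℤ) : ZMod p) ≠ 0 := by
      intro h0
      rw [ZMod.intCast_zmod_eq_zero_iff_dvd] at h0
      have h1 : g ^ k = 1 := by
        rw [← orderOf_dvd_iff_zpow_eq_one, hgo]; exact h0
      rw [h1] at hk
      have h2 : g = 1 := by
        calc g = a⁻¹ * (a * g * a⁻¹) * a := by group
          _ = 1 := by rw [← hk]; group
      rw [h2, orderOf_one] at hgo
      exact (Fact.out : p.Prime).ne_one hgo.symm
    have hfermat : g ^ (k ^ (p - 1)) = g := by
      have h1 : ((k ^ (p - 1) - 1 : ℤ) : ZMod p) = 0 := by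
        push_cast
        rw [ZMod.pow_card_sub_one_eq_one hk0, sub_self]
      rw [ZMod.intCast_zmod_eq_zero_iff_dvd] at h1
      have h2 : g ^ (k ^ (p - 1) - 1) = 1 := by
        rw [← orderOf_dvd_iff_zpow_eq_one, hgo]; exact h1
      rw [zpow_sub, zpow_one, mul_inv_eq_one] at h2
      exact h2
    have hbg : b * g = g * b :=
      mul_inv_eq_iff_eq_mul.mp ((hj (p - 1)).trans hfermat)
    obtain ⟨i, rfl⟩ := Subgroup.mem_zpowers_iff.mp (hg.symm ▸ hz : z ∈ Subgroup.zpowers g)
    exact ((show Commute g b from hbg.symm).zpow_left i).eq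

end CfsgLib.Solvable.SupersolvableCriteria
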