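import Cfsg.Agent.Lib.Solvable.Basic

/-!
Itô's theorem on products of two abelian subgroups.
-/

open scoped Pointwise commutatorElement

namespace CfsgLib.Solvable.Ito

variable {G : Type*} [Group G]

open CfsgLib.Solvable.Basic

theorem derivedSeries_two_eq_bot (A B : Subgroup G) (hA : IsMulCommutative A)
    (hB : IsMulCommutative B) (hAB : ∀ g : G, ∃ a ∈ A, ∃ b ∈ B, g = a * b) :
    derivedSeries G 2 = ⊥ := by
  have cA := isMulCommutative_subgroup_iff.mp hA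
  have cB := isMulCommutative_subgroup_iff.mp hB
  have hBA : ∀ g : G, ∃ b ∈ B, ∃ a ∈ A, g = b * a := fun g => by
    obtain ⟨a, ha, b, hb, h⟩ := hAB g⁻¹
    exact ⟨b⁻¹, inv_mem hb, a⁻¹, inv_mem ha, by rw [← mul_inv_rev, ← h, inv_inv]⟩
  set T : Set G := {x | ∃ a ∈ A, ∃ b ∈ B, x = ⁅a, b⁆} with hT
  -- conjugation by `A` and by `B` permutes the set of commutators `⁅a, b⁆`
  have actA : ∀ a₁ ∈ A, ∀ a ∈ A, ∀ b ∈ B, ∀ b₂ ∈ B, ∀ a₂ ∈ A, a₁ * b * a₁⁻¹ = b₂ * a₂ →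
      a₁ * ⁅a, b⁆ * a₁⁻¹ = ⁅a, b₂⁆ := by
    intro a₁ ha₁ a ha b hb b₂ _ a₂ ha₂ h
    have e : a₁ * ⁅a, b⁆ * a₁⁻¹ = ⁅a₁ * a * a₁⁻¹, a₁ * b * a₁⁻¹⁆ := by
      simp only [commutatorElement_def]; group
    rw [e, cA a₁ ha₁ a ha, mul_inv_cancel_right, h, commutatorElement_def, commutatorElement_def,
      mul_inv_rev]
    have hc : a₂ * a⁻¹ * a₂⁻¹ = a⁻¹ := by
      rw [cA a₂ ha₂ a⁻¹ (inv_mem ha), mul_inv_cancel_right]
    calc a * (b₂ * a₂) * a⁻¹ * (a₂⁻¹ * b₂⁻¹) = a * b₂ * (a₂ * a⁻¹ * a₂⁻¹) * b₂⁻¹ := by group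
      _ = a * b₂ * a⁻¹ * b₂⁻¹ := by rw [hc]
  have actB : ∀ b₁ ∈ B, ∀ a ∈ A, ∀ b ∈ B, ∀ a₃ ∈ A, ∀ b₃ ∈ B, b₁ * a * b₁⁻¹ = a₃ * b₃ →
      b₁ * ⁅a, b⁆ * b₁⁻¹ = ⁅a₃, b⁆ := by
    intro b₁ hb₁ a ha b hb a₃ _ b₃ hb₃ h
    have e : b₁ * ⁅a, b⁆ * b₁⁻¹ = ⁅b₁ * a * b₁⁻¹, b₁ * b * b₁⁻¹⁆ := by
      simp only [commutatorElement_def]; group
    rw [e, cB b₁ hb₁ b hb, mul_inv_cancel_right, h, commutatorElement_def, commutatorElement_def,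
      mul_inv_rev]
    have hc : b₃ * b * b₃⁻¹ = b := by rw [cB b₃ hb₃ b hb, mul_inv_cancel_right]
    calc a₃ * b₃ * b * (b₃⁻¹ * a₃⁻¹) * b⁻¹ = a₃ * (b₃ * b * b₃⁻¹) * a₃⁻¹ * b⁻¹ := by group
      _ = a₃ * b * a₃⁻¹ * b⁻¹ := by rw [hc]
  have stA : ∀ a₁ ∈ A, ∀ x ∈ T, a₁ * x * a₁⁻¹ ∈ T := by
    rintro a₁ ha₁ _ ⟨a, ha, b, hb, rfl⟩
    obtain ⟨b₂, hb₂, a₂, ha₂, h⟩ := hBA (a₁ * b * a₁⁻¹)
    exact ⟨a, ha, b₂, hb₂, actA a₁ ha₁ a ha b hb b₂ hb₂ a₂ ha₂ h⟩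
  have stB : ∀ b₁ ∈ B, ∀ x ∈ T, b₁ * x * b₁⁻¹ ∈ T := by
    rintro b₁ hb₁ _ ⟨a, ha, b, hb, rfl⟩
    obtain ⟨a₃, ha₃, b₃, hb₃, h⟩ := hAB (b₁ * a * b₁⁻¹)
    exact ⟨a₃, ha₃, b, hb, actB b₁ hb₁ a ha b hb a₃ ha₃ b₃ hb₃ h⟩
  set D := Subgroup.closure T with hD
  have hnorm : D.Normal := by
    refine ⟨fun x hx g => ?_⟩
    obtain ⟨a₁, ha₁, b₁, hb₁, rfl⟩ := hAB g
    have key : ∀ y : G, (∀ z ∈ T, y * z * y⁻¹ ∈ T) → ∀ z ∈ D, y * z * y⁻¹ ∈ D := by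
      intro y hy z hz
      have h : D ≤ D.comap (MulAut.conj y).toMonoidHom :=
        Subgroup.closure_le _ |>.mpr fun w hw => Subgroup.subset_closure (hy w hw)
      exact h hz
    have h1 := key a₁ (stA a₁ ha₁) _ (key b₁ (stB b₁ hb₁) x hx)
    simpa [mul_assoc] using h1
  haveI := hnorm
  -- two such commutators commute
  have hTcomm : ∀ x ∈ T, ∀ y ∈ T, x * y = y * x := by
    rintro _ ⟨a, ha, b, hb, rfl⟩ _ ⟨a', ha', b', hb', rfl⟩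
    have ha₁ := inv_mem ha'
    have hb₁ := inv_mem hb'
    obtain ⟨b₂, hb₂, a₂, ha₂, h2⟩ := hBA (a'⁻¹ * b * a'⁻¹⁻¹)
    obtain ⟨a₃, ha₃, b₃, hb₃, h3⟩ := hAB (b'⁻¹ * a * b'⁻¹⁻¹)
    have hL : b'⁻¹ * (a'⁻¹ * ⁅a, b⁆ * a'⁻¹⁻¹) * b'⁻¹⁻¹ = ⁅a₃, b₂⁆ := by
      rw [actA _ ha₁ a ha b hb b₂ hb₂ a₂ ha₂ h2]
      exact actB _ hb₁ a ha b₂ hb₂ a₃ ha₃ b₃ hb₃ h3
    have hR : a'⁻¹ * (b'⁻¹ * ⁅a, b⁆ * b'⁻¹⁻¹) * a'⁻¹⁻¹ = ⁅a₃, b₂⁆ := by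
      rw [actB _ hb₁ a ha b hb a₃ ha₃ b₃ hb₃ h3]
      exact actA _ ha₁ a₃ ha₃ b hb b₂ hb₂ a₂ ha₂ h2
    generalize ⁅a, b⁆ = z at hL hR ⊢
    simp only [inv_inv] at hL hR
    have e := hL.trans hR.symm
    calc z * ⁅a', b'⁆ = a' * b' * (b'⁻¹ * (a'⁻¹ * z * a') * b') * a'⁻¹ * b'⁻¹ := by
          rw [commutatorElement_def]; group
      _ = a' * b' * (a'⁻¹ * (b'⁻¹ * z * b') * a') * a'⁻¹ * b'⁻¹ := by rw [e]
      _ = ⁅a', b'⁆ * z := by rw [commutatorElement_def]; group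
  have hDc : ∀ x ∈ D, ∀ y ∈ D, x * y = y * x := by
    have h1 : D ≤ Subgroup.centralizer T := (Subgroup.closure_le _).mpr fun x hx =>
      Subgroup.mem_centralizer_iff.mpr fun y hy => hTcomm y hy x hx
    have h2 : D ≤ Subgroup.centralizer (D : Set G) := (Subgroup.closure_le _).mpr fun x hx =>
      Subgroup.mem_centralizer_iff.mpr fun y hy =>
        (Subgroup.mem_centralizer_iff.mp (h1 hy) x hx).symm
    intro x hx y hy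
    exact (Subgroup.mem_centralizer_iff.mp (h2 hx) y hy).symm
  have hcomm : derivedSeries G 1 ≤ D := by
    rw [derivedSeries_one, commutator_def, Subgroup.commutator_le]
    intro x _ y _
    rw [← QuotientGroup.eq_one_iff]
    show (QuotientGroup.mk' D) ⁅x, y⁆ = 1
    rw [map_commutatorElement, commutatorElement_eq_one_iff_mul_comm]
    set q := QuotientGroup.mk' D
    have hab : ∀ a ∈ A, ∀ b ∈ B, Commute (q a) (q b) := by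
      intro a ha b hb
      rw [Commute, SemiconjBy, ← commutatorElement_eq_one_iff_mul_comm, ← map_commutatorElement]
      exact (QuotientGroup.eq_one_iff _).mpr (Subgroup.subset_closure ⟨a, ha, b, hb, rfl⟩)
    have haa : ∀ a ∈ A, ∀ a' ∈ A, Commute (q a) (q a') := fun a ha a' ha' =>
      (show Commute a a' from cA a ha a' ha').map q
    have hbb : ∀ b ∈ B, ∀ b' ∈ B, Commute (q b) (q b') := fun b hb b' hb' =>
      (show Commute b b' from cB b hb b' hb').map q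
    obtain ⟨a, ha, b, hb, rfl⟩ := hAB x
    obtain ⟨a', ha', b', hb', rfl⟩ := hAB y
    rw [map_mul, map_mul]
    exact (((haa a ha a' ha').mul_right (hab a ha b' hb')).mul_left
      ((hab a' ha' b hb).symm.mul_right (hbb b hb b' hb'))).eq
  rw [derivedSeries_succ, eq_bot_iff, Subgroup.commutator_le]
  intro x hx y hy
  rw [Subgroup.mem_bot, commutatorElement_eq_one_iff_mul_comm]
  exact hDc x (hcomm hx) y (hcomm hy)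

end CfsgLib.Solvable.Ito
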