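import Cfsg.Agent.Lib.OddOrder.RankTwoGlobal
import Cfsg.Agent.Lib.OddOrder.NarrowAction
import Cfsg.Agent.Lib.OddOrder.NarrowMaximal

set_option autoImplicit false

/-!
Solvable groups of odd order whose Fitting cores are narrow: the derived group lies in the Fitting subgroup.
-/

namespace CfsgLib.Solvable.NarrowFitting

open CfsgLib CfsgLib.OddOrder

variable {G : Type*} [Group G] [Finite G]

/-- An elementary abelian subgroup with centraliser of rank at most two makes a `p`-group narrow. -/
theorem isNarrow_of_centralizer {R : Type*} [Group R] [Finite R] {p : ℕ} [hp : Fact p.Prime] (hp2 : p ≠ 2)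
    (hR : IsPGroup p R) {E : Subgroup R} (hE : Cfsg.IsElementaryAbelian p E)
    (hr : Cfsg.PRankLE p 2 ↥(Subgroup.centralizer (E : Set R))) : Cfsg.IsNarrow p R := by
  by_cases hR2 : Cfsg.PRankLE p 2 R
  · exact Or.inl hR2
  haveI : Nontrivial R := by
    by_contra h
    haveI := not_nontrivial_iff_subsingleton.mp h
    exact hR2 fun A _ _ => by
      rw [Nat.card_of_subsingleton (1 : A)]
      exact Nat.one_le_pow _ _ hp.out.pos
  haveI := hR.center_nontrivial
  obtain ⟨z, hz⟩ : ∃ z : Subgroup.center R, orderOf z = p := by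
    obtain ⟨n, hn⟩ := (hR.to_subgroup (Subgroup.center R)).exists_card_eq
    refine exists_prime_orderOf_dvd_card' (G := Subgroup.center R) p (hn ▸ dvd_pow_self p ?_)
    rintro rfl
    exact absurd (hn.trans (pow_zero p)) (Finite.one_lt_card).ne'
  have hzp : ((z : R)) ^ p = 1 := by
    have := congrArg Subtype.val (hz ▸ pow_orderOf_eq_one z : z ^ p = 1)
    simpa using this
  obtain ⟨B, hEB, hBmax⟩ := Finite.exists_le_maximal
    (p := fun B : Subgroup R => E ≤ B ∧ Cfsg.IsElementaryAbelian p B) (a := E) ⟨le_rfl, hE⟩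
  obtain ⟨⟨-, hB⟩, hBm⟩ := hBmax
  haveI := hB.1
  have hcomm : ∀ a ∈ B, ∀ b ∈ B, a * b = b * a := fun a ha b hb =>
    congrArg Subtype.val (mul_comm' (⟨a, ha⟩ : B) ⟨b, hb⟩)
  -- a central element of order p belongs to the maximal subgroup
  have hzB : (z : R) ∈ B := by
    refine hBm (y := B ⊔ Subgroup.zpowers (z : R)) ⟨hEB.trans le_sup_left, ?_⟩ le_sup_left
      (Subgroup.mem_sup_right (Subgroup.mem_zpowers _))
    have hcl : B ⊔ Subgroup.zpowers (z : R) = Subgroup.closure ((B : Set R) ∪ {(z : R)}) := by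
      rw [Subgroup.closure_union, Subgroup.closure_eq, Subgroup.zpowers_eq_closure]
    have hcom : ∀ a ∈ (B : Set R) ∪ {(z : R)}, ∀ b ∈ (B : Set R) ∪ {(z : R)}, a * b = b * a := by
      rintro a (ha | ha) b (hb | hb)
      · exact hcomm a ha b hb
      · rw [Set.mem_singleton_iff.mp hb]; exact Subgroup.mem_center_iff.mp z.2 a
      · rw [Set.mem_singleton_iff.mp ha]; exact (Subgroup.mem_center_iff.mp z.2 b).symm
      · rw [Set.mem_singleton_iff.mp ha, Set.mem_singleton_iff.mp hb]
    haveI : IsMulCommutative (B ⊔ Subgroup.zpowers (z : R) : Subgroup R) := by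
      rw [hcl]; exact Subgroup.isMulCommutative_closure hcom
    refine ⟨inferInstance, fun a ha => ?_⟩
    rw [hcl] at ha
    refine Subgroup.closure_induction (p := fun a _ => a ^ p = 1) ?_ (one_pow p) ?_ ?_ ha
    · rintro x (hx | hx)
      · exact hB.2 x hx
      · rw [Set.mem_singleton_iff.mp hx]; exact hzp
    · intro x y hx hy hx' hy'
      have hxy : Commute x y := congrArg Subtype.val (mul_comm'
        (⟨x, hcl.ge hx⟩ : (B ⊔ Subgroup.zpowers (z : R) : Subgroup R)) ⟨y, hcl.ge hy⟩)
      rw [hxy.mul_pow, hx', hy', one_mul]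
    · intro x _ hx'
      rw [inv_pow, hx', inv_one]
  have hBC : B ≤ Subgroup.centralizer (E : Set R) := fun b hb =>
    Subgroup.mem_centralizer_iff.mpr fun e he => hcomm e (hEB he) b hb
  have hle := RankTwo.card_le_sq hr hB hBC
  obtain ⟨n, hn⟩ := (hR.to_subgroup B).exists_card_eq
  rw [hn] at hle
  have hn2 : n ≤ 2 := (Nat.pow_le_pow_iff_right hp.out.one_lt).mp hle
  rcases (show n ≤ 1 ∨ n = 2 by omega) with hn1 | rfl
  · -- then the subgroup is central
    exfalso
    have hzB' : Subgroup.zpowers (z : R) = B := by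
      refine Subgroup.eq_of_le_of_card_ge (Subgroup.zpowers_le.mpr hzB) ?_
      rw [Nat.card_zpowers, Subgroup.orderOf_coe, hz, hn]
      calc p ^ n ≤ p ^ 1 := Nat.pow_le_pow_right hp.out.pos hn1
        _ = p := pow_one p
    have hEZ : E ≤ Subgroup.center R := hEB.trans (hzB'.ge.trans (Subgroup.zpowers_le.mpr z.2))
    refine hR2 fun A hAc hAe => RankTwo.card_le_sq hr ⟨hAc, hAe⟩ fun a _ => ?_
    exact Subgroup.mem_centralizer_iff.mpr fun e he => (Subgroup.mem_center_iff.mp (hEZ he) a).symm
  · exact NarrowMaximal.isNarrow_of_maximal hp2 hR hB hn fun B' hB' hBB' =>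
      le_antisymm (hBm ⟨hEB.trans hBB', hB'⟩ hBB') hBB'

/-- Elements of `G'` of order prime to `p` centralise a narrow normal `p`-subgroup. -/
theorem coreAct [Group.IsSolvable G] {p : ℕ} [hp : Fact p.Prime] (hodd : Odd (Nat.card G)) (hp2 : p ≠ 2)
    (T : Subgroup G) [hTn : T.Normal] (hT : IsPGroup p T) (hnar : Cfsg.IsNarrow p T) {g : G}
    (hg : g ∈ commutator G) (hcop : (orderOf g).Coprime p) : g ∈ Subgroup.centralizer (T : Set G) := by
  by_cases hr : Cfsg.PRankLE p 2 T
  · exact (RankTwo.coreAct hodd hp2 T hT hr).1 g hg hcop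
  obtain ⟨L, N, hN, hanti, hLc, hidx, hdet⟩ := NarrowAction.exists_series hp2 hT hnar hr
  haveI := hLc 0
  have hAS : (⊤ : Subgroup G) ≤ Subgroup.normalizer (T : Set G) :=
    le_of_eq (Subgroup.normalizer_eq_top_iff.mpr hTn).symm
  set a : (⊤ : Subgroup G) := ⟨g, Subgroup.mem_top g⟩ with hadef
  have ha : a ∈ commutator (⊤ : Subgroup G) := by
    have h : (commutator (⊤ : Subgroup G)).map (Subgroup.topEquiv (G := G)).toMonoidHom = commutator G := by
      rw [commutator_def, Subgroup.map_commutator, Subgroup.map_top_of_surjective _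
        (Subgroup.topEquiv (G := G)).surjective, ← commutator_def]
    obtain ⟨b, hb, hbg⟩ := h.ge hg
    have : b = a := Subtype.ext hbg
    exact this ▸ hb
  have hcop' : (orderOf a).Coprime p := by rw [← Subgroup.orderOf_coe]; exact hcop
  exact NarrowAction.centralizes_of_fix hp2 hT hAS (L 0) hdet a hcop'
    (NarrowAction.fix_of_series hT (Coprime.conjHom hAS a) (hcop'.coprime_dvd_left (orderOf_map_dvd _ a)) L N hN
      hanti fun i => by
        haveI := hLc i
        haveI := hLc (i + 1)
        exact (NarrowAction.trivial_on_layer (hanti i) (hidx i) (Coprime.conjHom hAS)).1 a ha)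

/-- A normal subgroup whose prime power elements centralise the cores for the other primes lies in `F(G)`. -/
theorem le_fitting_of_centralizes [Group.IsSolvable G] {D : Subgroup G} [D.Normal]
    (hc : ∀ p q : ℕ, p.Prime → q.Prime → p ≠ q → ∀ x ∈ D, (∃ k, orderOf x = p ^ k) →
      x ∈ Subgroup.centralizer (Cfsg.pCore q G : Set G)) :
    D ≤ Cfsg.fittingSubgroup G := by
  refine CN.le_of_primary fun p hp x hx hxp => ?_
  haveI := Fact.mk hp
  set C : Subgroup G := D ⊓
    ⨅ s : {s : Nat.Primes // (s : ℕ) ≠ p}, Subgroup.centralizer (Cfsg.pCore ((s : Nat.Primes) : ℕ) G : Set G) with hC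
  haveI hCn : C.Normal := by
    haveI : ((⨅ s : {s : Nat.Primes // (s : ℕ) ≠ p},
      Subgroup.centralizer (Cfsg.pCore ((s : Nat.Primes) : ℕ) G : Set G))).Normal :=
      Subgroup.normal_iInf_normal fun s => inferInstance
    exact Subgroup.normal_inf_normal _ _
  have hxC : x ∈ C := Subgroup.mem_inf.mpr ⟨hx, Subgroup.mem_iInf.mpr fun s =>
    hc p _ hp (s : Nat.Primes).2 (Ne.symm s.2) x hx hxp⟩
  -- elements of other prime power orders are central
  have hZ : ∀ q : ℕ, q.Prime → q ≠ p → ∀ y ∈ C, (∃ k, orderOf y = q ^ k) → ∀ c ∈ C, c * y = y * c := by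
    intro q hq hne y hy hyq c hcC
    haveI := Fact.mk hq
    have hyF : y ∈ Cfsg.fittingSubgroup G := by
      refine Solvable.Cores.centralizer_fittingSubgroup_le (RankTwoGlobal.mem_centralizer_fitting fun s hs => ?_)
      rcases eq_or_ne s p with rfl | hsp
      · exact hc q s hq hs hne y (Subgroup.mem_inf.mp hy).1 hyq
      · exact Subgroup.mem_iInf.mp (Subgroup.mem_inf.mp hy).2 ⟨⟨s, hs⟩, hsp⟩
    haveI := Solvable.Cores.fittingSubgroup_isNilpotent (G := G)
    exact (Subgroup.mem_centralizer_iff.mp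
      (Subgroup.mem_iInf.mp (Subgroup.mem_inf.mp hcC).2 ⟨⟨q, hq⟩, hne⟩) y
      (RankTwoGlobal.mem_pCore_of_mem hyF hyq)).symm
  have hnil : Group.IsNilpotent C := by
    suffices hQ : Group.IsNilpotent (C ⧸ Subgroup.center C) from
      Subgroup.isNilpotent_of_ker_le_center (QuotientGroup.mk' (Subgroup.center C))
        (by rw [QuotientGroup.ker_mk'])
    refine IsPGroup.isNilpotent (p := p) (fun u => ?_)
    obtain ⟨v, rfl⟩ := QuotientGroup.mk'_surjective (Subgroup.center C) u
    obtain ⟨k, m, hm, hkm⟩ := Nat.exists_eq_pow_mul_and_not_dvd (orderOf_pos v).ne' p hp.ne_one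
    refine ⟨k, ?_⟩
    rw [← map_pow]
    refine (QuotientGroup.eq_one_iff _).mpr ?_
    have hle : Subgroup.zpowers (v ^ p ^ k) ≤ Subgroup.center C := by
      refine CN.le_of_primary fun q hq d hd hdq => ?_
      rcases eq_or_ne q p with rfl | hne
      · obtain ⟨j, hj⟩ := hdq
        have h1 : orderOf d ∣ orderOf (v ^ q ^ k) := by
          exact (Subgroup.orderOf_dvd_natCard _ hd).trans (Nat.card_zpowers _).dvd
        rw [orderOf_pow_of_dvd (pow_ne_zero _ hp.ne_zero) (hkm ▸ Dvd.intro _ rfl), hkm,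
          Nat.mul_div_cancel_left _ (pow_pos hp.pos _)] at h1
        rcases Nat.eq_zero_or_pos j with rfl | hj0
        · rw [pow_zero, orderOf_eq_one_iff] at hj
          exact hj ▸ one_mem _
        · exact absurd ((dvd_pow_self q hj0.ne').trans (hj ▸ h1)) hm
      · refine Subgroup.mem_center_iff.mpr fun c => Subtype.ext ?_
        exact hZ q hq hne (d : G) d.2 (by rw [Subgroup.orderOf_coe]; exact hdq) (c : G) c.2
    exact hle (Subgroup.mem_zpowers _)
  exact Solvable.Cores.le_fittingSubgroup hnil hxC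

/-- If prime power elements of `G'` centralise the cores for the other primes, then `G' ≤ F(G)`. -/
theorem derived_le_fitting [Group.IsSolvable G]
    (hc : ∀ p q : ℕ, p.Prime → q.Prime → p ≠ q → ∀ x ∈ commutator G, (∃ k, orderOf x = p ^ k) →
      x ∈ Subgroup.centralizer (Cfsg.pCore q G : Set G)) :
    commutator G ≤ Cfsg.fittingSubgroup G :=
  le_fitting_of_centralizes hc

end CfsgLib.Solvable.NarrowFitting
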