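import Cfsg.Prelude.Def_Transfer
import Cfsg.Agent.Lib.Solvable.Cores
import Cfsg.Agent.S3742
import Mathlib

/-!
Group-theoretic steps for the quotient by the `p`-core of a solvable group with a two-class
character: a normal `p`-complement and commutative Sylow subgroups, from the structure of the
Fitting subgroup.
-/

set_option autoImplicit false

open scoped commutatorElement

namespace CfsgLib.Solvable.TwoClassQuotient

open Subgroup

variable {H : Type*} [Group H]

/-- An element acting on `r` as multiplication by a fixed element `c` of coprime order fixes `r`. -/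
theorem eq_one_of_conj_mul {y r c : H} (h1 : y * r * y⁻¹ = r * c) (h2 : y * c * y⁻¹ = c)
    {m n : ℕ} (hy : y ^ m = 1) (hc : c ^ n = 1) (hmn : m.Coprime n) : c = 1 := by
  have key : ∀ i : ℕ, y ^ i * r * (y ^ i)⁻¹ = r * c ^ i := by
    intro i
    induction i with
    | zero => simp
    | succ i ih =>
      calc y ^ (i + 1) * r * (y ^ (i + 1))⁻¹
          = y * (y ^ i * r * (y ^ i)⁻¹) * y⁻¹ := by rw [pow_succ']; group
        _ = (y * r * y⁻¹) * (y * c * y⁻¹) ^ i := by rw [ih, conj_pow]; group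
        _ = r * c ^ (i + 1) := by rw [h1, h2, pow_succ' c i, mul_assoc]
  have h := key m
  rw [hy, one_mul, inv_one, mul_one, left_eq_mul] at h
  have := pow_gcd_eq_one.mpr ⟨h, hc⟩
  rwa [hmn.gcd_eq_one, pow_one] at this

/-- Commutators centralize every cyclic normal subgroup. -/
theorem commutator_mem_centralizer (A : Subgroup H) [A.Normal] [IsCyclic A] (g h : H) :
    ⁅g, h⁆ ∈ centralizer (A : Set H) := by
  have hcomm : Commute (MulAut.conjNormal g : MulAut A) (MulAut.conjNormal h) :=
    (IsCyclic.mulAutMulEquiv A).injective (by rw [map_mul, map_mul, mul_comm])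
  have hker : (MulAut.conjNormal ⁅g, h⁆ : MulAut A) = 1 := by
    rw [map_commutatorElement]; exact commutatorElement_eq_one_iff_commute.mpr hcomm
  rw [mem_centralizer_iff]
  intro a ha
  have h1 : ⁅g, h⁆ * a * ⁅g, h⁆⁻¹ = a := by
    have := congrArg Subtype.val (DFunLike.congr_fun hker ⟨a, ha⟩)
    simpa only [MulAut.conjNormal_apply, MulAut.one_apply] using this
  exact (mul_inv_eq_iff_eq_mul.mp h1).symm

variable [Finite H]

/-- A normal subgroup with abelian quotient and no nontrivial `p`-elements gives a normal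
`p`-complement and commutative Sylow `p`-subgroups. -/
theorem npc_of_abelian_quotient (p : ℕ) [Fact p.Prime] (X : Subgroup H) [X.Normal]
    (hab : ∀ a b : H, ⁅a, b⁆ ∈ X) (hX : ∀ x ∈ X, ∀ k : ℕ, x ^ p ^ k = 1 → x = 1) :
    Cfsg.HasNormalPComplement p H ∧ ∀ Q : Sylow p H, IsMulCommutative (Q : Subgroup H) := by
  classical
  have hp : p.Prime := Fact.out
  constructor
  · have hcomm : ∀ a b : H ⧸ X, a * b = b * a := by
      intro a b
      obtain ⟨a, rfl⟩ := QuotientGroup.mk'_surjective X a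
      obtain ⟨b, rfl⟩ := QuotientGroup.mk'_surjective X b
      rw [← commutatorElement_eq_one_iff_mul_comm, ← map_commutatorElement]
      exact (QuotientGroup.eq_one_iff _).mpr (hab a b)
    set c := Nat.card (H ⧸ X) with hc
    have hc0 : c ≠ 0 := Nat.card_pos.ne'
    obtain ⟨v, m, hm, hcm⟩ := Nat.exists_eq_pow_mul_and_not_dvd hc0 p hp.ne_one
    let ψ : H →* H ⧸ X := MonoidHom.mk' (fun h => (QuotientGroup.mk' X h) ^ m) fun a b => by
      rw [map_mul]; exact (show Commute _ _ from hcomm _ _).mul_pow m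
    obtain ⟨P⟩ : Nonempty (Sylow p H) := inferInstance
    refine ⟨P, ψ.ker, inferInstance, ?_⟩
    have hMp : ∀ y ∈ ψ.ker, ∀ k : ℕ, y ^ p ^ k = 1 → y = 1 := by
      intro y hy k hk
      refine hX y ?_ k hk
      have h1 : (QuotientGroup.mk' X y) ^ m = 1 := hy
      have h2 : (QuotientGroup.mk' X y) ^ p ^ k = 1 := by rw [← map_pow, hk, map_one]
      have h3 := pow_gcd_eq_one.mpr ⟨h1, h2⟩
      rw [((hp.coprime_iff_not_dvd.mpr hm).symm.pow_right k).gcd_eq_one, pow_one] at h3
      exact (QuotientGroup.eq_one_iff y).mp h3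
    have hdisj : Disjoint ψ.ker (P : Subgroup H) := by
      rw [Subgroup.disjoint_def]
      intro y hyM hyP
      obtain ⟨k, hk⟩ := P.isPGroup' ⟨y, hyP⟩
      exact hMp y hyM k (congrArg Subtype.val hk)
    have hran : IsPGroup p ψ.range := by
      rintro ⟨_, h, rfl⟩
      refine ⟨v, Subtype.ext ?_⟩
      show ((QuotientGroup.mk' X h) ^ m) ^ p ^ v = 1
      rw [← pow_mul, mul_comm, ← hcm, hc, pow_card_eq_one']
    have hsup : ψ.ker ⊔ (P : Subgroup H) = ⊤ := by
      rw [← Subgroup.index_eq_one]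
      obtain ⟨i, hi⟩ := IsPGroup.iff_card.mp hran
      have h1 : (ψ.ker ⊔ (P : Subgroup H)).index ∣ p ^ i := by
        rw [← hi, ← Subgroup.index_ker]
        exact Subgroup.index_dvd_of_le le_sup_left
      obtain ⟨j, -, hj⟩ := (Nat.dvd_prime_pow hp).mp h1
      rcases Nat.eq_zero_or_pos j with hj0 | hj0
      · rw [hj, hj0, pow_zero]
      · exfalso
        refine P.not_dvd_index ((dvd_pow_self p hj0.ne').trans ?_)
        rw [← hj]
        exact Subgroup.index_dvd_of_le le_sup_right
    exact Subgroup.isComplement'_of_disjoint_and_mul_eq_univ hdisj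
      (by rw [← Subgroup.normal_mul ψ.ker (P : Subgroup H), hsup, Subgroup.coe_top])
  · intro Q
    refine ⟨⟨fun a b => Subtype.ext ?_⟩⟩
    obtain ⟨k, hk⟩ := Q.isPGroup' ⁅a, b⁆
    have h1 : ⁅(a : H), (b : H)⁆ ^ p ^ k = 1 := by
      have := congrArg Subtype.val hk
      simpa [commutatorElement_def] using this
    exact commutatorElement_eq_one_iff_mul_comm.mp (hX _ (hab _ _) k h1)

/-- In a quaternion group of order at least `16`, automorphisms preserve the cyclic subgroup
generated by `a 1`, and the other elements differ from each other by elements of it. -/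
theorem quaternion_big {n : ℕ} (hn : 3 ≤ n) (σ : MulAut (QuaternionGroup n)) :
    σ (QuaternionGroup.a 1) ∈ zpowers (QuaternionGroup.a 1 : QuaternionGroup n) := by
  haveI : NeZero n := ⟨by omega⟩
  rcases hσ : σ (QuaternionGroup.a 1) with i | i
  · exact ⟨(i.val : ℤ), by
      show _ ^ (i.val : ℤ) = _
      rw [zpow_natCast, QuaternionGroup.a_one_pow, ZMod.natCast_zmod_val]⟩
  · have h1 := σ.orderOf_eq (QuaternionGroup.a 1)
    rw [hσ, QuaternionGroup.orderOf_xa, QuaternionGroup.orderOf_a_one] at h1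
    omega

theorem quaternion_coset {n : ℕ} [NeZero n] {x y : QuaternionGroup n}
    (hx : x ∉ zpowers (QuaternionGroup.a 1 : QuaternionGroup n))
    (hy : y ∉ zpowers (QuaternionGroup.a 1 : QuaternionGroup n)) :
    x⁻¹ * y ∈ zpowers (QuaternionGroup.a 1 : QuaternionGroup n) := by
  have ha : ∀ i, QuaternionGroup.a i ∈ zpowers (QuaternionGroup.a 1 : QuaternionGroup n) :=
    fun i => ⟨(i.val : ℤ), by
      show _ ^ (i.val : ℤ) = _
      rw [zpow_natCast, QuaternionGroup.a_one_pow, ZMod.natCast_zmod_val]⟩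
  rcases x with i | i
  · exact absurd (ha i) hx
  rcases y with j | j
  · exact absurd (ha j) hy
  have h : QuaternionGroup.xa i * QuaternionGroup.a (j - i) = QuaternionGroup.xa j := by
    rw [QuaternionGroup.xa_mul_a, add_sub_cancel]
  rw [← h, inv_mul_cancel_left]
  exact ha _

/-- A `p`-element acting trivially on the cyclic subgroup of index two of a quaternion group of
order at least `16` acts trivially, and this subgroup is normal. -/
theorem exists_cyclic_of_quaternion_big (p : ℕ) (R : Subgroup H) [R.Normal] {j : ℕ}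
    (hj : 2 ≤ j) (e : R ≃* QuaternionGroup (2 ^ j)) (hp : p.Coprime 2) :
    ∃ A : Subgroup H, A ≤ R ∧ A.Normal ∧ IsCyclic A ∧ ∀ (y : H) (k : ℕ), y ^ p ^ k = 1 →
      y ∈ centralizer (A : Set H) → y ∈ centralizer (R : Set H) := by
  have hn : 3 ≤ 2 ^ j := le_trans (by norm_num) (Nat.pow_le_pow_right two_pos hj)
  haveI : NeZero (2 ^ j) := ⟨by positivity⟩
  set u : R := e.symm (QuaternionGroup.a 1) with hu
  have hmem : ∀ r : R, r ∈ zpowers u ↔ e r ∈ zpowers (QuaternionGroup.a 1) := by
    intro r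
    constructor
    · rintro ⟨i, rfl⟩
      exact ⟨i, by simp [hu, map_zpow]⟩
    · rintro ⟨i, hi⟩
      refine ⟨i, e.injective ?_⟩
      simpa [hu, map_zpow] using hi
  have hconj : ∀ (h : H) (r : R), r ∈ zpowers u → MulAut.conjNormal h r ∈ zpowers u := by
    rintro h r ⟨i, rfl⟩
    simp only [map_zpow]
    refine zpow_mem ?_ i
    rw [hmem]
    exact quaternion_big hn (MulAut.congr e (MulAut.conjNormal h))
  refine ⟨(zpowers u).map R.subtype, Subgroup.map_subtype_le _, ⟨?_⟩, ?_, ?_⟩
  · rintro _ ⟨r, hr, rfl⟩ h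
    exact ⟨MulAut.conjNormal h r, hconj h r hr, by simp⟩
  · exact isCyclic_of_surjective _ (R.subtype.subgroupMap_surjective (zpowers u))
  intro y k hyk hy
  rw [mem_centralizer_iff]
  intro r hr
  by_cases hru : (⟨r, hr⟩ : R) ∈ zpowers u
  · exact mem_centralizer_iff.mp hy r ⟨_, hru, rfl⟩
  set r' : R := MulAut.conjNormal y ⟨r, hr⟩ with hr'
  have hru' : r' ∉ zpowers u := fun hcon => hru (by
    simpa [hr', ← MulAut.mul_apply, ← map_mul] using hconj y⁻¹ r' hcon)
  have hc : (⟨r, hr⟩ : R)⁻¹ * r' ∈ zpowers u := by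
    rw [hmem, map_mul, map_inv]
    exact quaternion_coset (fun h => hru ((hmem _).mpr h)) (fun h => hru' ((hmem _).mpr h))
  set c : R := (⟨r, hr⟩ : R)⁻¹ * r' with hcdef
  have h1 : y * r * y⁻¹ = r * (c : H) := by simp [hcdef, hr']
  have h2 : y * (c : H) * y⁻¹ = c := by
    rw [mul_inv_eq_iff_eq_mul]
    exact (mem_centralizer_iff.mp hy (c : H) ⟨c, hc, rfl⟩).symm
  have hcard : Nat.card R = 2 ^ (j + 2) := by
    rw [Nat.card_congr e.toEquiv, Nat.card_eq_fintype_card, QuaternionGroup.card]; ring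
  have hcpow : (c : H) ^ (2 ^ (j + 2)) = 1 := by
    rw [← hcard]; exact congrArg Subtype.val (pow_card_eq_one' (x := c))
  have hc1 := eq_one_of_conj_mul h1 h2 hyk hcpow ((hp.pow_left k).pow_right _)
  rw [hc1, mul_one, mul_inv_eq_iff_eq_mul] at h1
  exact h1.symm

theorem card_mulAut_quaternion_eight {R : Type*} [Group R] (e : R ≃* QuaternionGroup 2) :
    Nat.card (MulAut R) = 24 := by
  obtain ⟨f⟩ := Cfsg.Agent.S3742.result
  rw [Nat.card_congr (MulAut.congr e).toEquiv, Nat.card_congr f.toEquiv, Nat.card_perm,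
    Nat.card_fin]
  rfl

/-- The structure of a solvable group with trivial `p`-core whose Fitting subgroup lies in a
Hall `p'`-subgroup and has cyclic or quaternion Sylow subgroups. -/
theorem npc_of_fitting [Group.IsSolvable H] (p : ℕ) [Fact p.Prime] (hH : Cfsg.pCore p H = ⊥)
    (Lb : Subgroup H) (hLp : (Nat.card Lb).Coprime p) (hLi : ∃ i, Lb.index = p ^ i)
    (hKL : Cfsg.fittingSubgroup H ≤ Lb)
    (hR : ∀ q : Nat.Primes, IsCyclic (Cfsg.pCore (q : ℕ) H) ∨ ((q : ℕ) = 2 ∧
      ∃ n : ℕ, Nonempty (Cfsg.pCore (q : ℕ) H ≃* QuaternionGroup (2 ^ n))))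
    (h8 : p = 3 → Nonempty (Cfsg.pCore 2 H ≃* QuaternionGroup 2) → Nat.card Lb = 8) :
    Cfsg.HasNormalPComplement p H ∧ ∀ Q : Sylow p H, IsMulCommutative (Q : Subgroup H) := by
  classical
  have hp : p.Prime := Fact.out
  set K := Cfsg.fittingSubgroup H with hK
  have hKK : centralizer (K : Set H) ≤ K := Cores.centralizer_fittingSubgroup_le
  have hKel : ∀ y ∈ Lb, ∀ k : ℕ, y ^ p ^ k = 1 → y = 1 := by
    intro y hy k hk
    have h1 : y ^ Nat.card Lb = 1 :=
      orderOf_dvd_iff_pow_eq_one.mp (Subgroup.orderOf_dvd_natCard Lb hy)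
    have := pow_gcd_eq_one.mpr ⟨h1, hk⟩
    rwa [(hLp.pow_right k).gcd_eq_one, pow_one] at this
  have hcent : ∀ y : H, (∀ q : Nat.Primes, y ∈ centralizer (Cfsg.pCore (q : ℕ) H : Set H)) →
      y ∈ K := by
    intro y hy
    refine hKK ?_
    have hle : K ≤ centralizer ({y} : Set H) := by
      rw [hK, Cores.fittingSubgroup_eq_iSup_pCore]
      refine iSup_le fun q z hz => ?_
      rw [mem_centralizer_singleton_iff]
      exact mem_centralizer_iff.mp (hy q) z hz
    rw [mem_centralizer_iff]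
    exact fun z hz => mem_centralizer_singleton_iff.mp (hle hz)
  by_cases hexc : ∃ (y : H) (k : ℕ), y ^ p ^ k = 1 ∧ Nonempty (Cfsg.pCore 2 H ≃* QuaternionGroup 2)
      ∧ y ∉ centralizer (Cfsg.pCore 2 H : Set H)
  · obtain ⟨y, k, hyk, ⟨e⟩, hyR⟩ := hexc
    set R := Cfsg.pCore 2 H with hRdef
    have hR8 : Nat.card R = 8 := by
      rw [Nat.card_congr e.toEquiv, Nat.card_eq_fintype_card, QuaternionGroup.card]
    have hne : R ≠ ⊥ := fun h => by rw [h, Subgroup.card_bot] at hR8; omega
    have hp2 : p ≠ 2 := fun h => hne (by rw [hRdef, ← h]; exact hH)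
    set ψ : H →* MulAut R := MulAut.conjNormal with hψ
    have hran : Nat.card ψ.range ∣ 24 :=
      card_mulAut_quaternion_eight e ▸ Subgroup.card_subgroup_dvd_card _
    have hker : ψ.ker ≤ centralizer (R : Set H) := by
      intro h hh
      rw [mem_centralizer_iff]
      intro r hr
      have := congrArg Subtype.val (DFunLike.congr_fun (show ψ h = 1 from hh) ⟨r, hr⟩)
      simp only [hψ, MulAut.conjNormal_apply, MulAut.one_apply] at this
      exact (mul_inv_eq_iff_eq_mul.mp this).symm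
    have hp3 : p = 3 := by
      have hy1 : ψ y ≠ 1 := fun h => hyR (hker h)
      have hd : orderOf (ψ y) ∣ p ^ k := orderOf_dvd_of_pow_eq_one (by rw [← map_pow, hyk, map_one])
      obtain ⟨i, -, hi⟩ := (Nat.dvd_prime_pow hp).mp hd
      have hi0 : i ≠ 0 := fun h0 => hy1 (orderOf_eq_one_iff.mp (by rw [hi, h0, pow_zero]))
      have h24 : p ∣ 2 ^ 3 * 3 := by
        refine (dvd_pow_self p hi0).trans ?_
        rw [← hi]
        have := orderOf_dvd_natCard (ψ y)
        rwa [card_mulAut_quaternion_eight e] at this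
      rcases hp.dvd_mul.mp h24 with h | h
      · exact absurd ((Nat.prime_dvd_prime_iff_eq hp Nat.prime_two).mp (hp.dvd_of_dvd_pow h)) hp2
      · exact (Nat.prime_dvd_prime_iff_eq hp Nat.prime_three).mp h
    have hRK : R ≤ K := Cores.pCore_le_fittingSubgroup 2
    have hRL : R = Lb :=
      Subgroup.eq_of_le_of_card_ge (hRK.trans hKL) (by rw [h8 hp3 ⟨e⟩, hR8])
    have hKR : K = R := le_antisymm (hRL ▸ hKL) hRK
    have hidx : R.index ∣ p := by
      obtain ⟨i, hi⟩ := hLi
      rw [← hRL] at hi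
      have h1 : R.index ∣ 24 := by
        refine (dvd_trans ?_ hran)
        rw [← Subgroup.index_ker]
        exact Subgroup.index_dvd_of_le fun h hh => by
          have hc := hker hh
          rw [← hKR] at hc
          exact hKR ▸ hKK hc
      rw [hi] at h1 ⊢
      subst hp3
      have : (3 : ℕ) ^ i ∣ 3 := (Nat.Coprime.pow_left i (by norm_num : Nat.Coprime 3 8)).dvd_of_dvd_mul_left
        (show 3 ^ i ∣ 8 * 3 from h1)
      exact this
    refine npc_of_abelian_quotient p R (fun a b => ?_) fun x hx => hKel x (hRL ▸ hx)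
    have hcyc : IsCyclic (H ⧸ R) := by
      rcases (Nat.dvd_prime hp).mp hidx with h | h
      · haveI : Subsingleton (H ⧸ R) :=
          (Nat.card_eq_one_iff_unique.mp h).1
        exact isCyclic_of_subsingleton
      · exact isCyclic_of_prime_card h
    rw [← QuotientGroup.eq_one_iff]
    letI := hcyc.commGroup
    change QuotientGroup.mk' R ⁅a, b⁆ = 1
    rw [map_commutatorElement]
    exact commutatorElement_eq_one_iff_mul_comm.mpr (mul_comm _ _)
  push Not at hexc
  have key : ∀ q : Nat.Primes, ∃ A : Subgroup H, A.Normal ∧ IsCyclic A ∧ ∀ (y : H) (k : ℕ),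
      y ^ p ^ k = 1 → y ∈ centralizer (A : Set H) →
        y ∈ centralizer (Cfsg.pCore (q : ℕ) H : Set H) := by
    intro q
    rcases hR q with hc | ⟨hq, n, ⟨e⟩⟩
    · exact ⟨_, inferInstance, hc, fun _ _ _ h => h⟩
    obtain ⟨q, hqp⟩ := q
    simp only at hq
    subst hq
    by_cases hp2 : p = 2
    · subst hp2
      refine ⟨⊥, inferInstance, inferInstance, fun _ _ _ _ => ?_⟩
      simp only [hH]
      rw [mem_centralizer_iff]
      intro z hz
      rw [Subgroup.mem_bot.mp hz, one_mul, mul_one]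
    match n, e with
    | 0, e =>
      haveI : IsCyclic (QuaternionGroup (2 ^ 0)) := QuaternionGroup.quaternionGroup_one_isCyclic
      exact ⟨_, inferInstance, isCyclic_of_surjective e.symm e.symm.surjective, fun _ _ _ h => h⟩
    | 1, e =>
      exact ⟨⊥, inferInstance, inferInstance, fun y k hy _ => hexc y k hy ⟨e⟩⟩
    | m + 2, e =>
      obtain ⟨A, -, hAn, hAc, hA⟩ := exists_cyclic_of_quaternion_big p _ (by omega) e
        ((Nat.coprime_primes hp Nat.prime_two).mpr hp2)
      exact ⟨A, hAn, hAc, hA⟩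
  choose A hAn hAc hA using key
  haveI : ∀ q, (A q).Normal := hAn
  haveI : (⨅ q, centralizer (A q : Set H)).Normal :=
    Subgroup.normal_iInf_normal fun q => inferInstance
  refine npc_of_abelian_quotient p (⨅ q, centralizer (A q : Set H))
    (fun a b => Subgroup.mem_iInf.mpr fun q => ?_) fun x hx k hk => ?_
  · haveI := hAc q
    exact commutator_mem_centralizer (A q) a b
  · exact hKel x (hKL (hcent x fun q => hA q x k hk (Subgroup.mem_iInf.mp hx q))) k hk

/-- The fixed-point-free bound behind the exceptional case: commuting-or-anticommuting square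
roots `A`, `B` of inversion on a group of exponent three split it into two halves. -/
theorem exists_half.{u, w} {N : Type u} [CommGroup N] [Finite N] [Nontrivial N]
    (hexp : ∀ n : N, n ^ 3 = 1) (A B : MulAut N) (hA : ∀ n, A (A n) = n⁻¹)
    (hB : ∀ n, B (B n) = n⁻¹) (hAB : ∀ n, B (A n) = (A (B n))⁻¹) :
    ∃ s : ℕ, 1 < s ∧ s ∣ Nat.card N ∧ Nat.card N = s * s ∧
      ∀ (M : Type w) [Finite M] (act : M → MulAut N),
        (∀ m n, act m (A n) = A (act m n)) → (∀ m n, act m (B n) = B (act m n)) →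
        (∀ m m' n, n ≠ 1 → act m n = act m' n → m = m') → Nat.card M < s := by
  classical
  let T : N →* N := A.toMonoidHom * B.toMonoidHom
  have hT : ∀ n, T n = A n * B n := fun n => rfl
  let Wp : Subgroup N := MonoidHom.eqLocus T (MonoidHom.id N)
  let Wm : Subgroup N := MonoidHom.eqLocus T (MonoidHom.id N)⁻¹
  have hp : ∀ n, n ∈ Wp ↔ T n = n := fun n => Iff.rfl
  have hm : ∀ n, n ∈ Wm ↔ T n = n⁻¹ := fun n => Iff.rfl
  have hinv2 : ∀ n : N, n⁻¹ * n⁻¹ = n := fun n => by
    rw [← mul_inv_rev, inv_eq_iff_mul_eq_one, ← pow_two, ← pow_succ]; exact hexp n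
  have hTT : ∀ n, T (T n) = n := fun n => by
    simp only [hT, map_mul, hA, hB, hAB]
    rw [show n⁻¹ * A (B n) * ((A (B n))⁻¹ * n⁻¹) = n⁻¹ * n⁻¹ by group, hinv2]
  have hsplit : Nat.card N = Nat.card Wp * Nat.card Wm := by
    rw [← Nat.card_prod]
    refine (Nat.card_congr (Equiv.ofBijective (fun w : Wp × Wm => (w.1 : N) * w.2) ⟨?_, ?_⟩)).symm
    · rintro ⟨⟨w, hw⟩, ⟨v, hv⟩⟩ ⟨⟨w', hw'⟩, ⟨v', hv'⟩⟩ h
      simp only at h
      have h2 := congrArg T h
      rw [map_mul, map_mul, (hp w).mp hw, (hp w').mp hw', (hm v).mp hv, (hm v').mp hv'] at h2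
      have h3 : w * w = w' * w' := by
        have := congrArg₂ (· * ·) h h2
        simpa [mul_assoc, mul_comm, mul_left_comm] using this
      have h4 : w = w' := by
        rw [← hinv2 w, ← hinv2 w', ← mul_inv_rev, ← mul_inv_rev, h3]
      subst h4
      have h5 := mul_left_cancel h
      subst h5
      rfl
    · intro n
      refine ⟨(⟨n⁻¹ * (T n)⁻¹, (hp _).mpr ?_⟩, ⟨n⁻¹ * T n, (hm _).mpr ?_⟩), ?_⟩
      · rw [map_mul, map_inv, map_inv, hTT, mul_comm]
      · rw [map_mul, map_inv, hTT, mul_inv_rev, inv_inv, mul_comm]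
      · show n⁻¹ * (T n)⁻¹ * (n⁻¹ * T n) = n
        rw [mul_mul_mul_comm, inv_mul_cancel, mul_one, hinv2]
  have hk : ∀ n, T (A (B n)) = (A (B (T n)))⁻¹ := by
    intro n
    simp only [hT, map_mul, map_inv, hA, hB, hAB]
    simp [mul_comm]
  have hswap : Nat.card Wp = Nat.card Wm := by
    refine Nat.card_congr (Equiv.ofBijective (fun w : Wp => (⟨A (B (w : N)), (hm _).mpr (by
      rw [hk, (hp _).mp w.2])⟩ : Wm)) ⟨fun a b h => Subtype.ext
        (B.injective (A.injective (congrArg Subtype.val h))), fun v => ?_⟩)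
    refine ⟨⟨B.symm (A.symm v), (hp _).mpr ?_⟩, Subtype.ext (by simp)⟩
    refine B.injective (A.injective (inv_injective ?_))
    rw [← hk]
    simp [(hm _).mp v.2]
  refine ⟨Nat.card Wp, ?_, Subgroup.card_subgroup_dvd_card Wp, by rw [hsplit, ← hswap], ?_⟩
  · by_contra hs
    have h1 : Nat.card Wp = 1 := le_antisymm (not_lt.mp hs) Nat.card_pos
    have h2 := Finite.one_lt_card (α := N)
    rw [hsplit, ← hswap, h1] at h2
    omega
  intro M _ act hMA hMB hfree
  obtain ⟨w₀, hw₀, hw₀1⟩ : ∃ w ∈ Wp, w ≠ 1 := by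
    refine Wp.ne_bot_iff_exists_ne_one.mp (fun h => ?_) |>.elim fun w hw =>
      ⟨w, w.2, fun e => hw (Subtype.ext e)⟩
    have h2 := Finite.one_lt_card (α := N)
    rw [hsplit, ← hswap, h, Subgroup.card_bot] at h2
    omega
  let f : M → Wp := fun m => ⟨act m w₀, (hp _).mpr (by
    rw [hT, ← hMA, ← hMB, ← map_mul, ← hT, (hp _).mp hw₀])⟩
  have hf : Function.Injective f := fun m m' h => hfree m m' w₀ hw₀1 (congrArg Subtype.val h)
  letI := Fintype.ofFinite M
  letI := Fintype.ofFinite Wp
  rw [Nat.card_eq_fintype_card, Nat.card_eq_fintype_card]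
  refine Fintype.card_lt_of_injective_of_notMem f hf (b := 1) ?_
  rintro ⟨m, hm⟩
  exact hw₀1 ((act m).injective (by rw [map_one]; exact congrArg Subtype.val hm))

end CfsgLib.Solvable.TwoClassQuotient
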