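import Cfsg.Agent.Lib.Coprime.FixedPointFreeOnModule
import Cfsg.Agent.Lib.Coprime.Sylow
import Cfsg.Agent.Lib.Solvable.NarrowFitting

set_option autoImplicit false

/-!
A coprime operator of prime order without fixed points on the Fitting subgroup, in odd order:
the commutator with it lies in the Fitting subgroup.
-/

namespace CfsgLib.Solvable.FittingFPF

open Subgroup CfsgLib CfsgLib.OddOrder
open scoped commutatorElement

theorem normalizes_of_normal {X : Type*} [Group X] (A N : Subgroup X) [N.Normal] :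
    A ≤ normalizer (N : Set X) := by rw [Subgroup.normalizer_eq_top]; exact le_top

universe u

variable {G : Type u} [Group G] [Finite G]

/-- Fixed-point-free action on a minimal normal subgroup. -/
theorem minimal_normal {s r : ℕ} [hs : Fact s.Prime] [hr : Fact r.Prime] [Group.IsSolvable G]
    {K V : Subgroup G} [hKn : K.Normal] [hVn : V.Normal] {x : G} (hK : Odd (Nat.card K)) (hr2 : r ≠ 2)
    (hKr : (Nat.card K).Coprime r) (hxr : x ^ r = 1) (hVK : V ≤ K) (hV1 : V ≠ ⊥)
    (hVe : Cfsg.IsElementaryAbelian s V)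
    (hmin : ∀ M : Subgroup G, M.Normal → M ≤ V → M = ⊥ ∨ M = V)
    (hVx : V ⊓ centralizer ({x} : Set G) = ⊥) : ⁅K, zpowers x⁆ ≤ centralizer (V : Set G) := by
  have hVs : IsPGroup s V := fun v => ⟨1, Subtype.ext (by simpa using hVe.2 v v.2)⟩
  have hs2 : s ≠ r ∧ s ≠ 2 := by
    obtain ⟨n, hn⟩ := hVs.exists_card_eq
    have hn0 : n ≠ 0 := by
      rintro rfl
      exact hV1 (Subgroup.eq_bot_of_card_eq _ (hn.trans (pow_zero s)))
    have hd : s ∣ Nat.card K := (dvd_pow_self s hn0).trans (hn ▸ card_dvd_of_le hVK)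
    exact ⟨fun e => (hr.out.coprime_iff_not_dvd.mp hKr.symm) (e ▸ hd),
      fun e => Nat.not_even_iff_odd.mpr hK (even_iff_two_dvd.mpr (e ▸ hd))⟩
  set X := zpowers x with hX
  have hxo : orderOf x ∣ r := orderOf_dvd_of_pow_eq_one hxr
  have hcX : (Nat.card X).Coprime (Nat.card K) := by
    rw [hX, Nat.card_zpowers]; exact hKr.symm.coprime_dvd_left hxo
  set C := K ⊓ centralizer (V : Set G) with hC
  haveI : C.Normal := by haveI : (centralizer (V : Set G)).Normal := inferInstance; exact normal_inf_normal _ _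
  set f := QuotientGroup.mk' C with hf
  have hfs : Function.Surjective f := QuotientGroup.mk'_surjective C
  haveI hKbn : (K.map f).Normal := hKn.map f hfs
  have hKc : (K.map f).comap f = K := comap_map_eq_self (by rw [hf, QuotientGroup.ker_mk']; exact inf_le_left)
  -- the cores of the image are centralised
  have hcore : ∀ q : ℕ, q.Prime → ∀ L : Subgroup (G ⧸ C), L.Normal → L ≤ K.map f → IsPGroup q L →
      X.map f ≤ centralizer (L : Set (G ⧸ C)) := by
    intro q hq L hLn hLK hLq
    haveI := Fact.mk hq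
    set U := L.comap f with hU
    haveI hUn : U.Normal := hLn.comap f
    have hUK : U ≤ K := (comap_mono hLK).trans hKc.le
    have hCU : C ≤ U := fun c hc => by
      rw [hU, mem_comap, show f c = 1 from (QuotientGroup.eq_one_iff c).mpr hc]; exact one_mem L
    obtain ⟨P, hPX⟩ := Coprime.exists_invariant_sylow (A := X) (K := U) (normalizes_of_normal _ _)
      (hcX.coprime_dvd_right (card_dvd_of_le hUK)) (.inl (Coprime.isSolvable_zpowers x)) q
    set Q := (P : Subgroup U).map U.subtype with hQ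
    have hQU : Q ≤ U := map_subtype_le _
    have hQq : IsPGroup q Q := P.isPGroup'.map _
    -- the Sylow subgroup covers the core
    have hcov : ∀ u ∈ U, ∃ b ∈ Q, b⁻¹ * u ∈ C := by
      intro u hu
      have hL : L ≤ Q.map f := by
        let g : U →* L := (f.comp U.subtype).codRestrict L (fun u => u.2)
        have hg : Function.Surjective g := fun ⟨l, hl⟩ => by
          obtain ⟨v, hv⟩ := hfs l
          exact ⟨⟨v, show f v ∈ L from hv ▸ hl⟩, Subtype.ext hv⟩
        have htop : ((P.mapSurjective hg : Sylow q L) : Subgroup L) = ⊤ :=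
          ((P.mapSurjective hg).is_maximal' (hLq.to_subgroup ⊤) le_top).symm
        intro l hl
        have hm : (⟨l, hl⟩ : L) ∈ ((P.mapSurjective hg : Sylow q L) : Subgroup L) := htop ▸ mem_top _
        obtain ⟨v, hv, hvl⟩ := hm
        exact ⟨v, ⟨v, hv, rfl⟩, congrArg Subtype.val hvl⟩
      obtain ⟨b, hb, hbu⟩ := hL hu
      exact ⟨b, hb, (QuotientGroup.eq_one_iff _).mp (by
        show f (b⁻¹ * u) = 1
        rw [map_mul, map_inv, hbu, inv_mul_cancel])⟩
    rcases eq_or_ne q s with rfl | hqs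
    · have h1 : ⁅V, U⁆ ≤ ⁅V, Q⁆ := by
        refine commutator_le.mpr fun v hv u hu => ?_
        obtain ⟨b, hb, hbu⟩ := hcov u hu
        have hc := mem_centralizer_iff.mp hbu.2 v hv
        have : ⁅v, u⁆ = ⁅v, b⁆ := by
          calc ⁅v, u⁆ = v * b * (b⁻¹ * u) * v⁻¹ * (b⁻¹ * u)⁻¹ * b⁻¹ := by
                rw [commutatorElement_def]; group
            _ = v * b * ((b⁻¹ * u) * v⁻¹) * (b⁻¹ * u)⁻¹ * b⁻¹ := by group
            _ = v * b * (v⁻¹ * (b⁻¹ * u)) * (b⁻¹ * u)⁻¹ * b⁻¹ := by
                rw [(show Commute (b⁻¹ * u) v from hc.symm).inv_right.eq]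
            _ = _ := by rw [commutatorElement_def]; group
        exact this ▸ commutator_mem_commutator hv hb
      have h2 := Coprime.commutator_lt_of_isPGroup hQq hVs (normalizes_of_normal _ _) hV1
      have h3 : ⁅V, U⁆ = ⊥ := (hmin _ (commutator_normal V U) (commutator_le_left V U)).resolve_right
        fun e => (lt_of_le_of_lt h1 h2).ne e
      have hUC : U ≤ C := fun u hu => ⟨hUK hu, (commutator_eq_bot_iff_le_centralizer.mp
        ((commutator_comm U V).trans h3)) hu⟩
      intro y _
      refine mem_centralizer_iff.mpr fun l hl => ?_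
      obtain ⟨v, rfl⟩ := hfs l
      rw [show f v = 1 from (QuotientGroup.eq_one_iff v).mpr (hUC hl), one_mul, mul_one]
    · by_cases hQ1 : Nat.card Q = 1
      · intro y _
        refine mem_centralizer_iff.mpr fun l hl => ?_
        obtain ⟨v, rfl⟩ := hfs l
        obtain ⟨b, hb, hbv⟩ := hcov v hl
        rw [Subgroup.eq_bot_of_card_eq _ hQ1, mem_bot] at hb
        rw [show f v = 1 from (QuotientGroup.eq_one_iff v).mpr (by simpa [hb] using hbv), one_mul, mul_one]
      obtain ⟨n, hn⟩ := hQq.exists_card_eq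
      have hn0 : n ≠ 0 := by rintro rfl; exact hQ1 (hn.trans (pow_zero q))
      have hqd : q ∣ Nat.card K := (dvd_pow_self q hn0).trans (hn ▸ card_dvd_of_le (hQU.trans hUK))
      have hmain := Coprime.FixedPointFreeOnModule.main _ G q r s V Q x rfl
        (fun e => Nat.not_even_iff_odd.mpr hK (even_iff_two_dvd.mpr (e ▸ hqd))) hr2 hqs.symm hs2.1
        (fun e => (hr.out.coprime_iff_not_dvd.mp hKr.symm) (e ▸ hqd)) hVe hQq (normalizes_of_normal _ _)
        (normalizes_of_normal X V (mem_zpowers x)) (hPX (mem_zpowers x)) hxr hVx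
      rintro _ ⟨y, hy, rfl⟩
      refine mem_centralizer_iff.mpr fun l hl => ?_
      obtain ⟨v, rfl⟩ := hfs l
      obtain ⟨b, hb, hbv⟩ := hcov v hl
      have hvb : f v = f b := by
        refine (inv_mul_eq_one.mp ?_).symm
        rw [← map_inv, ← map_mul]
        exact (QuotientGroup.eq_one_iff _).mpr hbv
      have hby : ⁅b, y⁆ ∈ C := ⟨(le_normalizer_iff_commutator_le_left.1 (normalizes_of_normal X K))
        (commutator_mem_commutator (hUK (hQU hb)) hy), hmain (commutator_mem_commutator hb hy)⟩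
      rw [hvb]
      exact (commutatorElement_eq_one_iff_commute.mp
        ((map_commutatorElement f b y).symm.trans ((QuotientGroup.eq_one_iff _).mpr hby))).eq
  -- hence the Fitting subgroup of the image
  set Kb := K.map f with hKb
  set F := Cfsg.fittingOf Kb with hF
  have hXF : X.map f ≤ centralizer (F : Set (G ⧸ C)) := by
    refine le_centralizer_iff.mp ?_
    rw [hF, Cfsg.fittingOf, Solvable.Cores.fittingSubgroup_eq_iSup_pCore, Subgroup.map_iSup]
    refine iSup_le fun q => le_centralizer_iff.mp (hcore q q.2 _ inferInstance (map_subtype_le _) ?_)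
    haveI := Fact.mk q.2
    exact (Solvable.Cores.isPGroup_pCore _).map _
  haveI hFn : F.Normal := by rw [hF, Cfsg.fittingOf]; infer_instance
  have h0 : ⁅F, X.map f⁆ = ⊥ := commutator_eq_bot_iff_le_centralizer.mpr (le_centralizer_iff.mp hXF)
  have h1 : ⁅⁅Kb, X.map f⁆, F⁆ = ⊥ := by
    refine commutator_commutator_eq_bot_of_rotate ?_ ?_
    · rw [commutator_comm (X.map f) F, h0, commutator_bot_left]
    · refine le_bot_iff.mp (le_trans (commutator_mono (commutator_le_left F Kb) le_rfl) h0.le)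
  have hle : ⁅Kb, X.map f⁆ ≤ Kb := le_normalizer_iff_commutator_le_left.1 (normalizes_of_normal _ _)
  have h2 : ⁅Kb, X.map f⁆ ≤ F := by
    intro y hy
    have hy' := commutator_eq_bot_iff_le_centralizer.mp h1 hy
    have hm : (⟨y, hle hy⟩ : Kb) ∈ Cfsg.fittingSubgroup Kb := by
      refine Solvable.Cores.centralizer_fittingSubgroup_le (mem_centralizer_iff.mpr fun z hz => ?_)
      exact Subtype.ext (mem_centralizer_iff.mp hy' z ⟨z, hz, rfl⟩)
    exact ⟨_, hm, rfl⟩
  have h3 : ⁅Kb, X.map f⁆ = ⊥ := by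
    refine Coprime.commutator_eq_bot_of_commutator_commutator ?_
      (le_bot_iff.mp ((commutator_mono h2 le_rfl).trans h0.le))
    exact (hcX.coprime_dvd_left (card_map_dvd X f)).coprime_dvd_right
      ((card_dvd_of_le hle).trans (card_map_dvd K f))
  intro y hy
  have hy' : f y ∈ (⊥ : Subgroup (G ⧸ C)) := h3 ▸ (map_commutator K X f ▸ mem_map_of_mem f hy)
  exact ((QuotientGroup.eq_one_iff y).mp (mem_bot.mp hy')).2

/-- Elements of `[K, x]` of order prime to `s` centralise the normal `s`-subgroups of `K`. -/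
theorem centralizes [Group.IsSolvable G] {s r : ℕ} [hs : Fact s.Prime] [hr : Fact r.Prime] {K : Subgroup G}
    [hKn : K.Normal] {x : G} (hK : Odd (Nat.card K)) (hr2 : r ≠ 2) (hKr : (Nat.card K).Coprime r)
    (hxr : x ^ r = 1) (hF : Cfsg.fittingOf K ⊓ centralizer ({x} : Set G) = ⊥)
    {y : G} (hy : y ∈ ⁅K, zpowers x⁆) (hys : (orderOf y).Coprime s) :
    ∀ (n : ℕ) (N : Subgroup G), Nat.card N = n → N.Normal → N ≤ K → IsPGroup s N →
      y ∈ centralizer (N : Set G) := by
  intro n
  induction n using Nat.strong_induction_on with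
  | _ n ih =>
  intro N hn hNn hNK hNs
  rcases eq_or_ne N ⊥ with hNb | hNb
  · refine mem_centralizer_iff.mpr fun z hz => ?_
    rw [hNb, SetLike.mem_coe, mem_bot] at hz
    rw [hz, one_mul, mul_one]
  obtain ⟨M, -, ⟨hMn, hMN⟩, hMmax⟩ := Finite.exists_le_maximal
    (p := fun M : Subgroup G => M.Normal ∧ M < N) (a := ⊥) ⟨inferInstance, bot_lt_iff_ne_bot.mpr hNb⟩
  have hMy : y ∈ centralizer (M : Set G) :=
    ih _ (hn ▸ Set.ncard_lt_ncard (SetLike.coe_ssubset_coe.mpr hMN) (Set.toFinite _)) M rfl hMn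
      (hMN.le.trans hNK) (hNs.to_le hMN.le)
  haveI := hMn
  haveI := hNn
  set f := QuotientGroup.mk' M with hf
  have hfs : Function.Surjective f := QuotientGroup.mk'_surjective M
  set V := N.map f with hV
  haveI hVn : V.Normal := hNn.map f hfs
  haveI : (K.map f).Normal := hKn.map f hfs
  have hVc : V.comap f = N := comap_map_eq_self (by rw [hf, QuotientGroup.ker_mk']; exact hMN.le)
  have hVs : IsPGroup s V := hNs.map f
  have hV1 : V ≠ ⊥ := fun e => hMN.not_ge fun z hz =>
    (QuotientGroup.eq_one_iff z).mp (mem_bot.mp (e ▸ mem_map_of_mem f hz : f z ∈ (⊥ : Subgroup _)))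
  have hmin : ∀ W : Subgroup (G ⧸ M), W.Normal → W ≤ V → W = ⊥ ∨ W = V := by
    intro W hW hWV
    rcases (hVc ▸ comap_mono hWV : W.comap f ≤ N).lt_or_eq with h | h
    · left
      have h' : W.comap f ≤ M := hMmax ⟨hW.comap f, h⟩ (fun z hz => by
        rw [mem_comap, show f z = 1 from (QuotientGroup.eq_one_iff z).mpr hz]; exact one_mem W)
      refine eq_bot_iff.mpr fun w hw => ?_
      obtain ⟨z, rfl⟩ := hfs w
      exact mem_bot.mpr ((QuotientGroup.eq_one_iff z).mpr (h' hw))
    · right
      rw [← map_comap_eq_self_of_surjective hfs W, h]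
  have hVab : IsMulCommutative V := by
    have h := Coprime.commutator_lt_of_isPGroup hVs hVs le_normalizer hV1
    exact commutator_self_eq_bot_iff.mp ((hmin _ (commutator_normal V V) h.le).resolve_right h.ne)
  have hVe : Cfsg.IsElementaryAbelian s V := by
    refine ⟨hVab, ?_⟩
    haveI := hVab
    let W : Subgroup (G ⧸ M) :=
      { carrier := {w | w ∈ V ∧ w ^ s = 1}
        one_mem' := ⟨one_mem _, one_pow _⟩
        mul_mem' := fun {a b} ha hb => ⟨mul_mem ha.1 hb.1, by
          have hab : Commute a b := congrArg Subtype.val (mul_comm' (⟨a, ha.1⟩ : V) ⟨b, hb.1⟩)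
          rw [hab.mul_pow, ha.2, hb.2, one_mul]⟩
        inv_mem' := fun {a} ha => ⟨inv_mem ha.1, by rw [inv_pow, ha.2, inv_one]⟩ }
    have hWn : W.Normal := ⟨fun w hw g => ⟨hVn.conj_mem w hw.1 g, by
      rw [conj_pow, hw.2, mul_one, mul_inv_cancel]⟩⟩
    obtain ⟨k, hk⟩ := hVs.exists_card_eq
    have hk0 : k ≠ 0 := by rintro rfl; exact hV1 (Subgroup.eq_bot_of_card_eq _ (hk.trans (pow_zero s)))
    obtain ⟨v, hv⟩ := exists_prime_orderOf_dvd_card' (G := V) s (hk ▸ dvd_pow_self s hk0)
    have hWb : W ≠ ⊥ := fun e => by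
      have h : (v : G ⧸ M) ∈ W := ⟨v.2, by simpa using congrArg Subtype.val (hv ▸ pow_orderOf_eq_one v : v ^ s = 1)⟩
      rw [e, mem_bot] at h
      rw [show v = 1 from Subtype.ext h, orderOf_one] at hv
      exact hs.out.ne_one hv.symm
    have hWV := (hmin W hWn fun w hw => hw.1).resolve_left hWb
    exact fun w hw => (hWV.ge hw).2
  have hNF : N ≤ Cfsg.fittingOf K := fun z hz => by
    haveI : (N.subgroupOf K).Normal := normal_subgroupOf
    haveI := (hNs.comap_of_injective K.subtype K.subtype_injective).isNilpotent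
    exact ⟨⟨z, hNK hz⟩, Solvable.Cores.le_fittingSubgroup (N := N.subgroupOf K)
      (by assumption) (show (⟨z, hNK hz⟩ : K) ∈ N.subgroupOf K from hz), rfl⟩
  have hcN : (Nat.card (zpowers x)).Coprime (Nat.card M) := by
    rw [Nat.card_zpowers]
    exact (hKr.symm.coprime_dvd_left (orderOf_dvd_of_pow_eq_one hxr)).coprime_dvd_right
      (card_dvd_of_le (hMN.le.trans hNK))
  have hVx : V ⊓ centralizer ({f x} : Set (G ⧸ M)) = ⊥ := by
    refine eq_bot_iff.mpr ?_
    rintro _ ⟨⟨z, hz, rfl⟩, hc⟩
    have hc' : Commute (f x) (f z) := (mem_centralizer_singleton_iff.mp hc).symm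
    obtain ⟨m, hm, hmz⟩ := Coprime.exists_mul_mem_centralizer (A := zpowers x) (N := M)
      (normalizes_of_normal _ _) hcN (.inl (Coprime.isSolvable_zpowers x)) (k := z) (fun a ha => by
        obtain ⟨i, rfl⟩ := mem_zpowers_iff.mp ha
        refine (QuotientGroup.eq_one_iff _).mp ?_
        show f ⁅x ^ i, z⁆ = 1
        rw [map_commutatorElement, map_zpow]
        exact commutatorElement_eq_one_iff_commute.mpr (hc'.zpow_left i))
    have h1 : m * z ∈ Cfsg.fittingOf K ⊓ centralizer ({x} : Set G) :=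
      ⟨hNF (mul_mem (hMN.le hm) hz), mem_centralizer_singleton_iff.mpr
        (mem_centralizer_iff.mp hmz x (mem_zpowers x)).symm⟩
    rw [hF, mem_bot] at h1
    have hm1 : f m = 1 := (QuotientGroup.eq_one_iff m).mpr hm
    rw [mem_bot]
    calc f z = f m * f z := by rw [hm1, one_mul]
      _ = 1 := by rw [← map_mul, h1, map_one]
  have hmn := minimal_normal (K := K.map f) (x := f x) (hK.of_dvd_nat (card_map_dvd K f)) hr2
    (hKr.coprime_dvd_left (card_map_dvd K f)) (by rw [← map_pow, hxr, map_one]) (map_mono hNK) hV1 hVe hmin hVx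
  have hfy : f y ∈ centralizer (V : Set (G ⧸ M)) :=
    hmn (by rw [← MonoidHom.map_zpowers, ← map_commutator]; exact mem_map_of_mem f hy)
  refine mem_centralizer_iff.mpr fun z hz => ?_
  have h1 : ⁅y, z⁆ ∈ M := by
    refine (QuotientGroup.eq_one_iff _).mp ?_
    show f ⁅y, z⁆ = 1
    rw [map_commutatorElement]
    exact commutatorElement_eq_one_iff_commute.mpr
      (mem_centralizer_iff.mp hfy (f z) (mem_map_of_mem f hz)).symm
  refine (Coprime.commute_of_stabilizes ?_ hMy h1).symm.eq
  obtain ⟨k, hk⟩ := (hNs.to_le hMN.le).exists_card_eq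
  rw [hk]
  exact hys.pow_right k

/-- A coprime prime operator fixed-point-free on `F(K)`: `[K, x] ≤ F(K)`. -/
theorem commutator_le_fitting [Group.IsSolvable G] {r : ℕ} [hr : Fact r.Prime] {K : Subgroup G}
    [hKn : K.Normal] {x : G} (hK : Odd (Nat.card K)) (hr2 : r ≠ 2) (hKr : (Nat.card K).Coprime r)
    (hxr : x ^ r = 1) (hF : Cfsg.fittingOf K ⊓ centralizer ({x} : Set G) = ⊥) :
    ⁅K, zpowers x⁆ ≤ Cfsg.fittingOf K := by
  have hle : ⁅K, zpowers x⁆ ≤ K := le_normalizer_iff_commutator_le_left.1 (normalizes_of_normal _ _)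
  set D := ⁅K, zpowers x⁆.subgroupOf K with hD
  haveI : D.Normal := (normal_subgroupOf_iff_le_normalizer hle).mpr (normalizer_commutator_ge_left K (zpowers x))
  have h : D ≤ Cfsg.fittingSubgroup K := by
    refine NarrowFitting.le_fitting_of_centralizes fun p q hp hq hne y hy hyp => ?_
    haveI := Fact.mk hq
    have hcop : (orderOf (y : G)).Coprime q := by
      obtain ⟨k, hk⟩ := hyp
      rw [Subgroup.orderOf_coe, hk]
      exact ((Nat.coprime_primes hp hq).mpr hne).pow_left k
    have h := centralizes hK hr2 hKr hxr hF (show (y : G) ∈ ⁅K, zpowers x⁆ from hy) hcop _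
      ((Cfsg.pCore q K).map K.subtype) rfl inferInstance (map_subtype_le _)
      ((Solvable.Cores.isPGroup_pCore q).map _)
    exact mem_centralizer_iff.mpr fun z hz => Subtype.ext (mem_centralizer_iff.mp h z ⟨z, hz, rfl⟩)
  exact fun y hy => ⟨⟨y, hle hy⟩, h (show (⟨y, hle hy⟩ : K) ∈ D from hy), rfl⟩

end CfsgLib.Solvable.FittingFPF
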