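import Cfsg.Prelude.Def_SolvableStructure
import Cfsg.Agent.Lib.Solvable.Basic
import Mathlib.GroupTheory.SpecificGroups.Cyclic
import Mathlib.GroupTheory.SchurZassenhaus

/-!
Supersolvable finite groups: closure properties and prime order normal subgroups.
-/

open scoped Pointwise commutatorElement
set_option linter.style.haveILetI false

namespace CfsgLib.Solvable.Supersolvable

open CfsgLib.Solvable.Basic

universe u v

variable {G : Type u} [Group G] {H : Type v} [Group H]

theorem of_surjective (f : G →* H) (hf : Function.Surjective f) (hG : Cfsg.IsSupersolvable G) :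
    Cfsg.IsSupersolvable H := by
  obtain ⟨n, C, h0, hn, hN, hs⟩ := hG
  refine ⟨n, fun i => (C i).map f, by simp only [h0, Subgroup.map_bot],
    by simp only [hn, Subgroup.map_top_of_surjective f hf], fun i => (hN i).map f hf, fun i => ?_⟩
  obtain ⟨g, hg⟩ := hs i
  exact ⟨f g, by simp only [hg, Subgroup.map_sup, MonoidHom.map_zpowers]⟩

theorem of_mulEquiv (e : G ≃* H) (hG : Cfsg.IsSupersolvable G) : Cfsg.IsSupersolvable H :=
  of_surjective e.toMonoidHom e.surjective hG

theorem quotient (N : Subgroup G) [N.Normal] (hG : Cfsg.IsSupersolvable G) :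
    Cfsg.IsSupersolvable (G ⧸ N) :=
  of_surjective (QuotientGroup.mk' N) (QuotientGroup.mk'_surjective N) hG

theorem of_subsingleton [Subsingleton G] : Cfsg.IsSupersolvable G :=
  ⟨0, fun _ => ⊥, rfl, Subsingleton.elim _ _, fun _ => inferInstance, fun i => i.elim0⟩

/-- An extension of a cyclic kernel by a supersolvable group is supersolvable. -/
theorem of_isCyclic_ker (f : G →* H) (hf : Function.Surjective f) [hc : IsCyclic f.ker]
    (hH : Cfsg.IsSupersolvable H) : Cfsg.IsSupersolvable G := by
  obtain ⟨n, C, h0, hn, hN, hs⟩ := hH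
  obtain ⟨g₀, hg₀⟩ := (Subgroup.isCyclic_iff_exists_zpowers_eq_top f.ker).mp hc
  refine ⟨n + 1, Fin.cons ⊥ (fun i => (C i).comap f), Fin.cons_zero _ _, ?_, ?_, ?_⟩
  · rw [← Fin.succ_last, Fin.cons_succ, hn, Subgroup.comap_top]
  · intro i
    induction i using Fin.cases with
    | zero => rw [Fin.cons_zero]; infer_instance
    | succ i => rw [Fin.cons_succ]; exact (hN i).comap f
  · intro i
    induction i using Fin.cases with
    | zero =>
      refine ⟨g₀, ?_⟩
      rw [Fin.cons_succ, h0, MonoidHom.comap_bot, ← hg₀, Fin.castSucc_zero, Fin.cons_zero,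
        bot_sup_eq]
    | succ i =>
      obtain ⟨y, hy⟩ := hs i
      obtain ⟨x, rfl⟩ := hf y
      refine ⟨x, ?_⟩
      rw [← Fin.succ_castSucc, Fin.cons_succ, Fin.cons_succ, hy, ← MonoidHom.map_zpowers]
      have hle : f.ker ≤ (C i.castSucc).comap f := Subgroup.ker_le_comap _ _
      conv_rhs => rw [← sup_eq_left.mpr hle, sup_assoc, sup_comm f.ker, ← sup_assoc]
      rw [← Subgroup.comap_map_eq, Subgroup.map_sup, Subgroup.map_comap_eq_self_of_surjective hf]

theorem of_isCyclic_normal (N : Subgroup G) [N.Normal] [IsCyclic N]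
    (h : Cfsg.IsSupersolvable (G ⧸ N)) : Cfsg.IsSupersolvable G := by
  haveI : IsCyclic (QuotientGroup.mk' N).ker := by rw [QuotientGroup.ker_mk']; infer_instance
  exact of_isCyclic_ker _ (QuotientGroup.mk'_surjective N) h

theorem subgroup (S : Subgroup G) (hG : Cfsg.IsSupersolvable G) : Cfsg.IsSupersolvable S := by
  obtain ⟨n, C, h0, hn, hN, hs⟩ := hG
  refine ⟨n, fun i => (C i).subgroupOf S, by simp only [h0, Subgroup.bot_subgroupOf],
    by simp only [hn, Subgroup.top_subgroupOf], fun i => (hN i).comap _, fun i => ?_⟩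
  haveI := hN i.castSucc
  obtain ⟨g, hg⟩ := hs i
  set q := QuotientGroup.mk' (C i.castSucc)
  have hle : ((C i.succ).subgroupOf S).map (q.comp S.subtype) ≤ Subgroup.zpowers (q g) := by
    rintro _ ⟨x, hx, rfl⟩
    have hx' : (x : G) ∈ C i.castSucc ⊔ Subgroup.zpowers g := hg ▸ hx
    have : q (x : G) ∈ (C i.castSucc ⊔ Subgroup.zpowers g).map q := Subgroup.mem_map_of_mem q hx'
    rwa [Subgroup.map_sup, MonoidHom.map_zpowers,
      (Subgroup.map_eq_bot_iff _).mpr (QuotientGroup.ker_mk' _).ge, bot_sup_eq] at this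
  haveI := isCyclic_of_injective _
    (Subgroup.inclusion_injective hle)
  obtain ⟨y, hy⟩ := (Subgroup.isCyclic_iff_exists_zpowers_eq_top _).mp
    (inferInstance : IsCyclic (((C i.succ).subgroupOf S).map (q.comp S.subtype)))
  obtain ⟨s, hs1, rfl⟩ : y ∈ ((C i.succ).subgroupOf S).map (q.comp S.subtype) :=
    hy ▸ Subgroup.mem_zpowers y
  refine ⟨s, le_antisymm (fun x hx => ?_) (sup_le ?_ (Subgroup.zpowers_le.mpr hs1))⟩
  · obtain ⟨k, hk⟩ := Subgroup.mem_zpowers_iff.mp
      (show (q.comp S.subtype) x ∈ Subgroup.zpowers _ from hy.symm ▸ Subgroup.mem_map_of_mem _ hx)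
    have h1 : x * (s ^ k)⁻¹ ∈ (C i.castSucc).subgroupOf S := by
      rw [Subgroup.mem_subgroupOf, ← QuotientGroup.eq_one_iff]
      show (q.comp S.subtype) (x * (s ^ k)⁻¹) = 1
      rw [map_mul, map_inv, map_zpow, hk, mul_inv_cancel]
    have := Subgroup.mul_mem_sup h1 (Subgroup.zpow_mem _ (Subgroup.mem_zpowers s) k)
    rwa [inv_mul_cancel_right] at this
  · exact Subgroup.comap_mono (hg ▸ le_sup_left)

theorem isSolvable (hG : Cfsg.IsSupersolvable G) : Group.IsSolvable G := by
  obtain ⟨n, C, h0, hn, hN, hs⟩ := hG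
  have key : ∀ i : Fin (n + 1), Group.IsSolvable (C i) := by
    intro i
    induction i using Fin.induction with
    | zero => rw [h0]; infer_instance
    | succ i ih =>
      haveI := ih
      haveI := hN i.castSucc
      obtain ⟨g, hg⟩ := hs i
      set q := QuotientGroup.mk' (C i.castSucc)
      have hle : (C i.succ).map q ≤ Subgroup.zpowers (q g) := by
        rw [hg, Subgroup.map_sup, MonoidHom.map_zpowers,
          (Subgroup.map_eq_bot_iff _).mpr (QuotientGroup.ker_mk' _).ge, bot_sup_eq]
      haveI := isCyclic_of_injective _ (Subgroup.inclusion_injective hle)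
      letI : CommGroup ((C i.succ).map q) := IsCyclic.commGroup
      refine Group.isSolvable_of_ker_le_range
        (Subgroup.inclusion (show C i.castSucc ≤ C i.succ from hg ▸ le_sup_left))
        (q.subgroupMap (C i.succ)) fun x hx => ?_
      have : (x : G) ∈ C i.castSucc := by
        rw [← QuotientGroup.eq_one_iff]
        exact congrArg Subtype.val (MonoidHom.mem_ker.mp hx)
      exact ⟨⟨_, this⟩, rfl⟩
  haveI := key (Fin.last n)
  exact Group.isSolvable_of_surjective
    (f := (C (Fin.last n)).subtype)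
    (MonoidHom.range_eq_top.mp (by rw [Subgroup.range_subtype, hn]))

/-- Conjugation on a normal cyclic subgroup is a power map, so its subgroups are normal. -/
theorem normal_of_le_cyclic (N : Subgroup G) [N.Normal] [IsCyclic N] {K : Subgroup G} (hK : K ≤ N) :
    K.Normal := by
  refine ⟨fun x hx g => ?_⟩
  obtain ⟨z, hz⟩ := IsCyclic.exists_generator (α := N)
  obtain ⟨j, hj⟩ := Subgroup.mem_zpowers_iff.mp (hz ⟨x, hK hx⟩)
  obtain ⟨k, hk⟩ := Subgroup.mem_zpowers_iff.mp
    (hz ⟨g * z * g⁻¹, Subgroup.Normal.conj_mem ‹_› _ z.2 g⟩)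
  have hj' : (z : G) ^ j = x := by simpa using congrArg Subtype.val hj
  have hk' : (z : G) ^ k = g * z * g⁻¹ := by simpa using congrArg Subtype.val hk
  have : g * x * g⁻¹ = x ^ k := by
    rw [← hj', ← conj_zpow, ← hk', ← zpow_mul, ← zpow_mul, mul_comm]
  rw [this]
  exact zpow_mem hx k

theorem exists_prime_normal_le [Finite G] (hG : Cfsg.IsSupersolvable G) {K : Subgroup G}
    [K.Normal] (hK : K ≠ ⊥) :
    ∃ Z : Subgroup G, Z.Normal ∧ Z ≤ K ∧ (Nat.card Z).Prime := by
  classical
  obtain ⟨n, C, h0, hn, hN, hs⟩ := hG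
  have hex : ∃ i : Fin n, C i.castSucc ⊓ K = ⊥ ∧ C i.succ ⊓ K ≠ ⊥ := by
    by_contra hno
    push Not at hno
    have key : ∀ i : Fin (n + 1), C i ⊓ K = ⊥ := by
      intro i
      induction i using Fin.induction with
      | zero => rw [h0, bot_inf_eq]
      | succ i ih => exact hno i ih
    exact hK (by simpa [hn] using key (Fin.last n))
  obtain ⟨i, hi, hi'⟩ := hex
  haveI := hN i.castSucc
  haveI := hN i.succ
  obtain ⟨g, hg⟩ := hs i
  set q := QuotientGroup.mk' (C i.castSucc)
  set M := C i.succ ⊓ K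
  have hle : M.map q ≤ Subgroup.zpowers (q g) := by
    refine (Subgroup.map_mono inf_le_left).trans ?_
    rw [hg, Subgroup.map_sup, MonoidHom.map_zpowers,
      (Subgroup.map_eq_bot_iff _).mpr (QuotientGroup.ker_mk' _).ge, bot_sup_eq]
  haveI hc := isCyclic_of_injective _ (Subgroup.inclusion_injective hle)
  haveI : IsCyclic M := by
    refine isCyclic_of_injective (q.subgroupMap M) ?_
    rw [← MonoidHom.ker_eq_bot_iff, eq_bot_iff]
    intro x hx
    have : (x : G) ∈ C i.castSucc ⊓ K := by
      refine ⟨?_, x.2.2⟩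
      show (x : G) ∈ C i.castSucc
      rw [← QuotientGroup.eq_one_iff]
      exact congrArg Subtype.val (MonoidHom.mem_ker.mp hx)
    rw [hi, Subgroup.mem_bot] at this
    exact Subtype.ext this
  obtain ⟨p, hp, hd⟩ := Nat.exists_prime_and_dvd (mt Subgroup.card_eq_one.mp hi')
  haveI := Fact.mk hp
  obtain ⟨x, hx⟩ := exists_prime_orderOf_dvd_card' p hd
  have hZ : Subgroup.zpowers (x : G) ≤ M := Subgroup.zpowers_le.mpr x.2
  refine ⟨_, normal_of_le_cyclic M hZ, hZ.trans inf_le_right, ?_⟩
  rwa [Nat.card_zpowers, Subgroup.orderOf_coe, hx]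

theorem isCyclic_of_prime_card_subgroup {Z : Subgroup G} (hZ : (Nat.card Z).Prime) : IsCyclic Z :=
  haveI := Fact.mk hZ
  isCyclic_of_prime_card rfl

theorem ne_bot_of_prime_card {Z : Subgroup G} (hZ : (Nat.card Z).Prime) : Z ≠ ⊥ := fun h => by
  rw [h, Subgroup.card_bot] at hZ; exact Nat.not_prime_one hZ

theorem exists_prime_normal [Finite G] [Nontrivial G] (hG : Cfsg.IsSupersolvable G) :
    ∃ Z : Subgroup G, Z.Normal ∧ (Nat.card Z).Prime := by
  obtain ⟨Z, hn, -, hp⟩ := exists_prime_normal_le hG (K := ⊤) top_ne_bot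
  exact ⟨Z, hn, hp⟩

/-- A direct product of supersolvable groups is supersolvable. -/
theorem prod_aux : ∀ (N : ℕ) (G : Type u) [Group G] [Finite G], Nat.card G = N →
    Cfsg.IsSupersolvable G → ∀ (H : Type v) [Group H], Cfsg.IsSupersolvable H →
      Cfsg.IsSupersolvable (G × H) := by
  intro N
  induction N using Nat.strong_induction_on with
  | _ N ih =>
    intro G _ _ hN hG H _ hH
    rcases subsingleton_or_nontrivial G with hs | hs
    · haveI : IsCyclic (MonoidHom.snd G H).ker :=
        @isCyclic_of_subsingleton _ _ ⟨fun a b => Subtype.ext (Prod.ext (Subsingleton.elim _ _)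
          ((MonoidHom.mem_ker.mp a.2).trans (MonoidHom.mem_ker.mp b.2).symm))⟩
      exact of_isCyclic_ker (MonoidHom.snd G H) Prod.snd_surjective hH
    obtain ⟨Z, hZn, hZ⟩ := exists_prime_normal hG
    haveI := hZn
    haveI := isCyclic_of_prime_card_subgroup hZ
    have hq := ih _ (hN ▸ card_quotient_lt Z (ne_bot_of_prime_card hZ)) (G ⧸ Z) rfl
      (quotient Z hG) H hH
    let f := MonoidHom.prodMap (QuotientGroup.mk' Z) (MonoidHom.id H)
    haveI : IsCyclic f.ker := by
      let e : f.ker →* Z :=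
        { toFun := fun x => ⟨x.1.1, (QuotientGroup.eq_one_iff _).mp
            (congrArg Prod.fst (MonoidHom.mem_ker.mp x.2))⟩
          map_one' := rfl
          map_mul' := fun _ _ => rfl }
      refine isCyclic_of_injective e fun a b hab => ?_
      have h1 : (a.1).1 = (b.1).1 := congrArg Subtype.val hab
      have ha : (a.1).2 = 1 := congrArg Prod.snd (MonoidHom.mem_ker.mp a.2)
      have hb : (b.1).2 = 1 := congrArg Prod.snd (MonoidHom.mem_ker.mp b.2)
      exact Subtype.ext (Prod.ext h1 (ha.trans hb.symm))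
    exact of_isCyclic_ker f
      ((QuotientGroup.mk'_surjective Z).prodMap Function.surjective_id) hq

theorem prod [Finite G] (hG : Cfsg.IsSupersolvable G) (hH : Cfsg.IsSupersolvable H) :
    Cfsg.IsSupersolvable (G × H) :=
  prod_aux _ G rfl hG H hH

/-- The derived subgroup of a supersolvable group is nilpotent. -/
theorem commutator_isNilpotent_aux : ∀ (N : ℕ) (G : Type u) [Group G] [Finite G], Nat.card G = N →
    Cfsg.IsSupersolvable G → Group.IsNilpotent (commutator G) := by
  intro N
  induction N using Nat.strong_induction_on with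
  | _ N ih =>
    intro G _ _ hN hG
    rcases subsingleton_or_nontrivial G with hs | hs
    · infer_instance
    obtain ⟨Z, hZn, hZ⟩ := exists_prime_normal hG
    haveI := hZn
    haveI := isCyclic_of_prime_card_subgroup hZ
    haveI := ih _ (hN ▸ card_quotient_lt Z (ne_bot_of_prime_card hZ)) (G ⧸ Z) rfl (quotient Z hG)
    set q := QuotientGroup.mk' Z
    have hmap : (commutator G).map q ≤ commutator (G ⧸ Z) := by
      rw [commutator_def, commutator_def, Subgroup.map_commutator]
      exact Subgroup.commutator_mono le_top le_top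
    let f : commutator G →* commutator (G ⧸ Z) :=
      (Subgroup.inclusion hmap).comp (q.subgroupMap (commutator G))
    refine Subgroup.isNilpotent_of_ker_le_center f fun x hx => ?_
    have hxZ : (x : G) ∈ Z := by
      rw [← QuotientGroup.eq_one_iff]
      exact congrArg Subtype.val (MonoidHom.mem_ker.mp hx)
    rw [Subgroup.mem_center_iff]
    intro y
    apply Subtype.ext
    obtain ⟨z, hz⟩ := IsCyclic.exists_generator (α := Z)
    have hz' : ∀ w ∈ Z, ∃ k : ℤ, w = (z : G) ^ k := fun w hw => by
      obtain ⟨k, hk⟩ := Subgroup.mem_zpowers_iff.mp (hz ⟨w, hw⟩)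
      exact ⟨k, by simpa using (congrArg Subtype.val hk).symm⟩
    have hc : commutator G ≤ Subgroup.centralizer {(z : G)} := by
      rw [commutator_def, Subgroup.commutator_le]
      intro a _ b _
      rw [Subgroup.mem_centralizer_singleton_iff]
      obtain ⟨i, hi⟩ := hz' _ (Subgroup.Normal.conj_mem ‹Z.Normal› _ z.2 a⁻¹)
      obtain ⟨j, hj⟩ := hz' _ (Subgroup.Normal.conj_mem ‹Z.Normal› _ z.2 b⁻¹)
      rw [inv_inv] at hi hj
      set w : G := (z : G)
      have hab : a⁻¹ * b⁻¹ * w * b * a = w ^ (i * j) := by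
        rw [show a⁻¹ * b⁻¹ * w * b * a = a⁻¹ * (b⁻¹ * w * b) * a by group, hj,
          show a⁻¹ * w ^ j * a = a⁻¹ * w ^ j * a⁻¹⁻¹ by rw [inv_inv], ← conj_zpow, inv_inv, hi,
          ← zpow_mul]
      have hba : b⁻¹ * a⁻¹ * w * a * b = w ^ (i * j) := by
        rw [show b⁻¹ * a⁻¹ * w * a * b = b⁻¹ * (a⁻¹ * w * a) * b by group, hi,
          show b⁻¹ * w ^ i * b = b⁻¹ * w ^ i * b⁻¹⁻¹ by rw [inv_inv], ← conj_zpow, inv_inv, hj,
          ← zpow_mul, mul_comm]
      calc ⁅a, b⁆ * w = a * b * (a⁻¹ * b⁻¹ * w * b * a) * a⁻¹ * b⁻¹ := by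
            rw [commutatorElement_def]; group
        _ = a * b * (b⁻¹ * a⁻¹ * w * a * b) * a⁻¹ * b⁻¹ := by rw [hab, hba]
        _ = w * ⁅a, b⁆ := by rw [commutatorElement_def]; group
    obtain ⟨k, hk⟩ := hz' _ hxZ
    show (y : G) * x = x * y
    rw [hk]
    exact ((show Commute (y : G) z from
      Subgroup.mem_centralizer_singleton_iff.mp (hc y.2)).zpow_right k).eq

/-- Maximal subgroups of a supersolvable group have prime index. -/
theorem index_prime_aux : ∀ (N : ℕ) (G : Type u) [Group G] [Finite G], Nat.card G = N →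
    Cfsg.IsSupersolvable G → ∀ M : Subgroup G, IsCoatom M → M.index.Prime := by
  intro N
  induction N using Nat.strong_induction_on with
  | _ N ih =>
    intro G _ _ hN hG M hM
    haveI : Nontrivial G := by
      rcases subsingleton_or_nontrivial G with hs | hs
      · exact absurd (Subsingleton.elim M ⊤) hM.1
      · exact hs
    obtain ⟨Z, hZn, hZ⟩ := exists_prime_normal hG
    haveI := hZn
    by_cases hle : Z ≤ M
    · have hker : (QuotientGroup.mk' Z).ker ≤ M := by rwa [QuotientGroup.ker_mk']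
      have hc : IsCoatom (M.map (QuotientGroup.mk' Z)) := by
        refine ⟨fun h => hM.1 ?_, fun L hL => ?_⟩
        · rw [← Subgroup.comap_map_eq_self hker, h, Subgroup.comap_top]
        · have h1 : M < L.comap (QuotientGroup.mk' Z) := by
            rw [← Subgroup.comap_map_eq_self hker]
            exact (Subgroup.comap_lt_comap_of_surjective (QuotientGroup.mk'_surjective Z)).mpr hL
          rw [← Subgroup.map_comap_eq_self_of_surjective (QuotientGroup.mk'_surjective Z) L,
            hM.2 _ h1, Subgroup.map_top_of_surjective _ (QuotientGroup.mk'_surjective Z)]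
      have := ih _ (hN ▸ card_quotient_lt Z (ne_bot_of_prime_card hZ)) (G ⧸ Z) rfl
        (quotient Z hG) _ hc
      rwa [Subgroup.index_map_eq _ (QuotientGroup.mk'_surjective Z) hker] at this
    · have hbot : Z ⊓ M = ⊥ := by
        rcases (Nat.dvd_prime hZ).mp (Subgroup.card_dvd_of_le (inf_le_left : Z ⊓ M ≤ Z)) with h | h
        · exact Subgroup.card_eq_one.mp h
        · exact absurd (Subgroup.eq_of_le_of_card_ge inf_le_left h.ge ▸ inf_le_right) hle
      have hsup : M ⊔ Z = ⊤ := hM.2 _ (left_lt_sup.mpr hle)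
      have h1 := card_sup_of_disjoint Z M hbot
      rw [hsup, Subgroup.card_top, ← M.card_mul_index] at h1
      rwa [Nat.eq_of_mul_eq_mul_left Nat.card_pos h1]

/-- Supersolvable groups have subgroups of every order dividing the group order. -/
theorem hasSubgroup_aux : ∀ (N : ℕ) (G : Type u) [Group G] [Finite G], Nat.card G = N →
    Cfsg.IsSupersolvable G → Cfsg.HasSubgroupOfEveryOrder G := by
  intro N
  induction N using Nat.strong_induction_on with
  | _ N ih =>
    intro G _ _ hN hG d hd
    rcases subsingleton_or_nontrivial G with hs | hs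
    · refine ⟨⊥, ?_⟩
      rw [Nat.card_unique] at hd
      rw [Subgroup.card_bot, Nat.dvd_one.mp hd]
    obtain ⟨Z, hZn, hZ⟩ := exists_prime_normal hG
    haveI := hZn
    have ihq := ih _ (hN ▸ card_quotient_lt Z (ne_bot_of_prime_card hZ)) (G ⧸ Z) rfl (quotient Z hG)
    have hmul : Nat.card (G ⧸ Z) * Nat.card Z = Nat.card G := by
      rw [← Subgroup.index_eq_card, Subgroup.index_mul_card]
    by_cases hp : Nat.card Z ∣ d
    · obtain ⟨e, rfl⟩ := hp
      obtain ⟨K, hK⟩ := ihq e (Nat.dvd_of_mul_dvd_mul_left hZ.pos (by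
        rw [mul_comm (Nat.card Z) (Nat.card (G ⧸ Z)), hmul]; exact hd))
      exact ⟨K.comap (QuotientGroup.mk' Z), by rw [card_comap_mk, hK, mul_comm]⟩
    · have hcop : d.Coprime (Nat.card Z) := (hZ.coprime_iff_not_dvd.mpr hp).symm
      obtain ⟨K, hK⟩ := ihq d (hcop.dvd_of_dvd_mul_right (hmul.symm ▸ hd))
      set K₀ := K.comap (QuotientGroup.mk' Z)
      have hc : Nat.card K₀ = d * Nat.card Z := by rw [card_comap_mk, hK]
      have hle : Z ≤ K₀ := QuotientGroup.le_comap_mk' Z K
      set Z₀ := Z.subgroupOf K₀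
      have hcZ : Nat.card Z₀ = Nat.card Z :=
        Nat.card_congr (Subgroup.subgroupOfEquivOfLe hle).toEquiv
      have hiZ : Z₀.index = d := by
        have := Z₀.index_mul_card
        rw [hcZ, hc] at this
        exact Nat.eq_of_mul_eq_mul_right hZ.pos this
      obtain ⟨L, hL⟩ := Subgroup.exists_right_complement'_of_coprime (N := Z₀)
        (by rw [hcZ, hiZ]; exact hcop.symm)
      refine ⟨L.map K₀.subtype, ?_⟩
      rw [Subgroup.card_map_of_injective K₀.subtype_injective, ← hL.symm.index_eq_card, hiZ]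

end CfsgLib.Solvable.Supersolvable
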