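import Cfsg.Agent.Lib.Solvable.ThompsonReplacement
import Cfsg.Agent.Lib.Solvable.Carter
import Cfsg.Agent.Lib.Fusion.Alperin
import Cfsg.Agent.Lib.Fusion.Quotient
import Cfsg.Agent.Lib.Fusion.PSolvable
import Cfsg.Agent.Lib.Coprime.Sylow
import Cfsg.Agent.Lib.OddOrder.OmegaLemma

/-!
Thompson's normal `p`-complement theorem for odd primes.
-/

open scoped Pointwise commutatorElement
set_option linter.style.haveILetI false

namespace CfsgLib.Solvable.ThompsonComplement

open CfsgLib.Solvable.Basic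

universe u

variable {G : Type u} [Group G] {p : ℕ}

theorem npc_of_le' [Finite G] [Fact p.Prime] {L : Type*} [Group L] (f : L →* G)
    (hf : Function.Injective f) {U : Subgroup L} {V : Subgroup G} (hle : U.map f ≤ V)
    (h : Cfsg.HasNormalPComplement p V) : Cfsg.HasNormalPComplement p U := by
  haveI : Finite L := Finite.of_injective f hf
  exact (Fusion.Basic.npc_congr (U.equivMapOfInjective f hf)).mpr (Fusion.Basic.npc_of_le hle h)

theorem thompsonSubgroupOf_map {L : Type*} [Group L] (f : L →* G) (hf : Function.Injective f)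
    (U : Subgroup L) :
    Cfsg.thompsonSubgroupOf p (U.map f) = (Cfsg.thompsonSubgroupOf p U).map f := by
  simp only [Cfsg.thompsonSubgroupOf]
  rw [← Fusion.Thompson.map_thompson_equiv (p := p) (U.equivMapOfInjective f hf), Subgroup.map_map,
    Subgroup.map_map]
  congr 1

theorem map_conj_le_of_normalizer {U : Subgroup G} {g : G}
    (hg : g ∈ Subgroup.normalizer (U : Set G)) {y : G} (hy : y ∈ U) : g * y * g⁻¹ ∈ U :=
  (Subgroup.mem_normalizer_iff.mp hg y).mp hy

theorem normalizer_le_centerOf (U : Subgroup G) :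
    Subgroup.normalizer (U : Set G) ≤
      Subgroup.normalizer ((U ⊓ Subgroup.centralizer (U : Set G) : Subgroup G) : Set G) := by
  intro g hg
  have key : ∀ h ∈ Subgroup.normalizer (U : Set G), ∀ y ∈ U ⊓ Subgroup.centralizer (U : Set G),
      h * y * h⁻¹ ∈ U ⊓ Subgroup.centralizer (U : Set G) := by
    intro h hh y hy
    refine ⟨map_conj_le_of_normalizer hh hy.1, Subgroup.mem_centralizer_iff.mpr fun u hu => ?_⟩
    have hu' : h⁻¹ * u * h ∈ U := by
      simpa using map_conj_le_of_normalizer (inv_mem hh) hu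
    have e := Subgroup.mem_centralizer_iff.mp hy.2 _ hu'
    calc u * (h * y * h⁻¹) = h * ((h⁻¹ * u * h) * y) * h⁻¹ := by group
      _ = h * (y * (h⁻¹ * u * h)) * h⁻¹ := by rw [e]
      _ = h * y * h⁻¹ * u := by group
  rw [Subgroup.mem_normalizer_iff]
  intro y
  refine ⟨key g hg y, fun h => ?_⟩
  simpa [mul_assoc] using key g⁻¹ (inv_mem hg) _ h

theorem centerOf_ne_bot [Finite G] [Fact p.Prime] {U : Subgroup G} (hU : IsPGroup p U)
    (h : U ≠ ⊥) : U ⊓ Subgroup.centralizer (U : Set G) ≠ ⊥ := by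
  haveI : Nontrivial U := (Subgroup.nontrivial_iff_ne_bot U).mpr h
  haveI := hU.center_nontrivial
  obtain ⟨z, hz⟩ := exists_ne (1 : Subgroup.center U)
  intro e
  refine hz (Subtype.ext (Subtype.ext ?_))
  have : ((z : U) : G) ∈ U ⊓ Subgroup.centralizer (U : Set G) :=
    ⟨(z : U).2, Subgroup.mem_centralizer_iff.mpr fun x hx =>
      congrArg Subtype.val (Subgroup.mem_center_iff.mp z.2 ⟨x, hx⟩)⟩
  rw [e, Subgroup.mem_bot] at this
  exact this

theorem thompsonSubgroupOf_ne_bot [Finite G] [Fact p.Prime] {U : Subgroup G} (hU : IsPGroup p U)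
    (h : U ≠ ⊥) : Cfsg.thompsonSubgroupOf p U ≠ ⊥ := by
  rw [Cfsg.thompsonSubgroupOf, Ne, Subgroup.map_eq_bot_iff_of_injective _ U.subtype_injective]
  intro e
  obtain ⟨A, hA⟩ := Fusion.Thompson.exists_maxEA (p := p) (G := U)
  have hAb : A = ⊥ := le_bot_iff.mp (e ▸ le_sSup hA)
  obtain ⟨k, hk⟩ := IsPGroup.iff_card.mp hU
  have hd : p ∣ Nat.card U := by
    rw [hk]
    exact dvd_pow_self p fun h0 => h (Subgroup.card_eq_one.mp (by rw [hk, h0, pow_zero]))
  obtain ⟨x, hx⟩ := exists_prime_orderOf_dvd_card' p hd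
  have hEA : Cfsg.IsElementaryAbelian p (Subgroup.zpowers x) := by
    refine ⟨isMulCommutative_subgroup_iff.mpr ?_, ?_⟩
    · intro a ha b hb
      obtain ⟨i, rfl⟩ := Subgroup.mem_zpowers_iff.mp ha
      obtain ⟨j, rfl⟩ := Subgroup.mem_zpowers_iff.mp hb
      rw [← zpow_add, ← zpow_add, add_comm]
    · intro a ha
      exact orderOf_dvd_iff_pow_eq_one.mp ((Subgroup.orderOf_dvd_natCard _ ha).trans
        (by rw [Nat.card_zpowers, hx]))
  have := hA.2 _ hEA
  rw [hAb, Subgroup.card_bot, Nat.card_zpowers, hx] at this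
  exact absurd this (not_le.mpr (Fact.out : p.Prime).one_lt)

/-- The hypothesis of Thompson's theorem. -/
def Hyp (p : ℕ) (P : Subgroup G) : Prop :=
  Cfsg.HasNormalPComplement p (Subgroup.normalizer (Cfsg.thompsonSubgroupOf p P : Set G)) ∧
    Cfsg.HasNormalPComplement p
      (Subgroup.centralizer ((P ⊓ Subgroup.centralizer (P : Set G) : Subgroup G) : Set G))

/-- The hypothesis descends along injective homomorphisms. -/
theorem Hyp.of_map [Finite G] [Fact p.Prime] {L : Type*} [Group L] (f : L →* G)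
    (hf : Function.Injective f) {S : Subgroup L} (h : Hyp p (S.map f)) : Hyp p S := by
  constructor
  · refine npc_of_le' f hf ?_ h.1
    rw [thompsonSubgroupOf_map f hf S]
    exact Subgroup.le_normalizer_map f
  · refine npc_of_le' f hf ?_ h.2
    rintro _ ⟨x, hx, rfl⟩
    rw [Subgroup.mem_centralizer_iff]
    rintro _ ⟨⟨s, hs, rfl⟩, hsc⟩
    rw [← map_mul, ← map_mul]
    congr 1
    refine Subgroup.mem_centralizer_iff.mp hx s ⟨hs, Subgroup.mem_centralizer_iff.mpr fun t ht => ?_⟩
    exact hf (by simpa using Subgroup.mem_centralizer_iff.mp hsc _ (Subgroup.mem_map_of_mem f ht))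

theorem Hyp.smul [Finite G] [Fact p.Prime] {P : Subgroup G} (h : Hyp p P) (g : G) :
    Hyp p (MulAut.conj g • P) := by
  refine Hyp.of_map (MulAut.conj g⁻¹).toMonoidHom (MulAut.conj g⁻¹).injective ?_
  rwa [← conj_smul_eq_map, conj_smul_conj_smul, inv_mul_cancel, map_one, one_smul]

theorem npc_of_quotient_coprime [Finite G] [Fact p.Prime] (K : Subgroup G) [K.Normal]
    (hK : (Nat.card K).Coprime p) (h : Cfsg.HasNormalPComplement p (G ⧸ K)) :
    Cfsg.HasNormalPComplement p G := by
  rw [Fusion.Basic.npc_iff_coprime] at h ⊢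
  have hle : Cfsg.pResidual p G ≤
      (Cfsg.pResidual p (G ⧸ K)).comap (QuotientGroup.mk' K) :=
    Subgroup.map_le_iff_le_comap.mp (Fusion.Basic.map_pResidual_le _)
  refine Nat.Coprime.coprime_dvd_left (Subgroup.card_dvd_of_le hle) ?_
  rw [card_comap_mk]
  exact h.mul_left hK

theorem npc_aux (hp : p ≠ 2) [Fact p.Prime] : ∀ (n : ℕ) (G : Type u) [Group G] [Finite G],
    Nat.card G = n → ∀ P : Sylow p G, Hyp p (P : Subgroup G) →
      Cfsg.HasNormalPComplement p G := by
  intro n
  induction n using Nat.strong_induction_on with | _ n ih => ?_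
  intro G _ _ hn P hyp
  subst hn
  have hpp : p.Prime := Fact.out
  by_contra hG
  have hypP : ∀ P' : Sylow p G, Hyp p (P' : Subgroup G) := fun P' => by
    obtain ⟨g, hg⟩ := MulAction.exists_smul_eq G P P'
    rw [← hg, Sylow.coe_subgroup_smul]
    exact hyp.smul g
  -- proper subgroups containing a Sylow subgroup
  have hproper : ∀ L : Subgroup G, L ≠ ⊤ → ∀ P' : Sylow p G, (P' : Subgroup G) ≤ L →
      Cfsg.HasNormalPComplement p L := fun L hL P' hle => by
    refine ih _ (card_subgroup_lt L hL) L rfl (P'.subtype hle) ?_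
    refine Hyp.of_map L.subtype L.subtype_injective ?_
    rw [Sylow.coe_subtype, Subgroup.map_subgroupOf_eq_of_le hle]
    exact hypP P'
  -- some nontrivial `p`-subgroup is normal
  obtain ⟨U₀, hU₀⟩ : ∃ U : Subgroup G, IsPGroup p U ∧ U ≠ ⊥ ∧
      ¬ Cfsg.HasNormalPComplement p (Subgroup.normalizer (U : Set G)) := by
    by_contra hall
    push Not at hall
    exact hG (Fusion.Alperin.npc_iff_locals.mpr hall)
  obtain ⟨U, ⟨hUp, hU, hUn⟩, hmax⟩ := Set.exists_max_image
    {U : Subgroup G | IsPGroup p U ∧ U ≠ ⊥ ∧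
      ¬ Cfsg.HasNormalPComplement p (Subgroup.normalizer (U : Set G))}
    (fun U => (Nat.card (Subgroup.normalizer (U : Set G))).factorization p) (Set.toFinite _)
    ⟨U₀, hU₀⟩
  set N := Subgroup.normalizer (U : Set G) with hN
  obtain ⟨S⟩ : Nonempty (Sylow p N) := inferInstance
  set S₀ := (S : Subgroup N).map N.subtype with hS₀
  have hS₀p : IsPGroup p S₀ := S.isPGroup'.map _
  obtain ⟨P', hP'⟩ := hS₀p.exists_le_sylow
  have hUS : U ≤ S₀ := by
    haveI : (Subgroup.comap N.subtype U).Normal := Subgroup.normal_in_normalizer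
    have h := (hUp.comap_subtype (K := N)).le_sylow_of_normal S
    have h2 : (U.subgroupOf N).map N.subtype ≤ (S : Subgroup N).map N.subtype :=
      Subgroup.map_mono (f := N.subtype) h
    rwa [Subgroup.map_subgroupOf_eq_of_le Subgroup.le_normalizer] at h2
  have hS₀bot : S₀ ≠ ⊥ := fun e => hU (le_bot_iff.mp (e ▸ hUS))
  have hSeq : S₀ = P' := by
    by_contra hne
    have hlt := CfsgLib.Coprime.lt_normalizer_inf_of_lt P'.isPGroup' (lt_of_le_of_ne hP' hne)
    set T := (P' : Subgroup G) ⊓ Subgroup.normalizer (S₀ : Set G)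
    have key : ∀ V : Subgroup G, IsPGroup p V → V ≠ ⊥ →
        Subgroup.normalizer (S₀ : Set G) ≤ Subgroup.normalizer (V : Set G) →
        Cfsg.HasNormalPComplement p (Subgroup.normalizer (V : Set G)) := by
      intro V hVp hV hle
      by_contra hVn
      have h := hmax V ⟨hVp, hV, hVn⟩
      obtain ⟨t, ht⟩ := IsPGroup.iff_card.mp (P'.isPGroup'.to_le (inf_le_left : T ≤ _))
      have h1 : t ≤ (Nat.card (Subgroup.normalizer (V : Set G))).factorization p := by
        refine (hpp.pow_dvd_iff_le_factorization Nat.card_pos.ne').mp ?_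
        rw [← ht]
        exact Subgroup.card_dvd_of_le (inf_le_right.trans hle)
      have h2 : Nat.card S₀ < Nat.card T := by
        by_contra hge
        exact hlt.ne (Subgroup.eq_of_le_of_card_ge hlt.le (not_lt.mp hge))
      rw [Subgroup.card_subtype, S.card_eq_multiplicity, ht,
        Nat.pow_lt_pow_iff_right hpp.one_lt] at h2
      omega
    refine hUn ?_
    have hNtop : N ≠ ⊤ := by
      intro e
      refine hne (hS₀p |> fun _ => ?_)
      have hle : (P' : Subgroup G) ≤ N := e ▸ le_top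
      have h := S.3 (P'.subtype hle).2 (by
        intro x hx
        exact Subgroup.mem_subgroupOf.mpr (hP' (Subgroup.mem_map_of_mem _ hx)))
      rw [hS₀, ← h, Sylow.coe_subtype, Subgroup.map_subgroupOf_eq_of_le hle]
    refine ih _ (card_subgroup_lt N hNtop) N rfl S (Hyp.of_map N.subtype N.subtype_injective
      ⟨key _ (hS₀p.to_le (Fusion.Thompson.thompsonSubgroupOf_le _))
          (thompsonSubgroupOf_ne_bot hS₀p hS₀bot)
          (Fusion.Thompson.normalizer_le_normalizer_thompsonOf _), ?_⟩)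
    exact Fusion.Basic.npc_of_le (Subgroup.centralizer_le_normalizer _)
      (key _ (hS₀p.to_le inf_le_left) (centerOf_ne_bot hS₀p hS₀bot) (normalizer_le_centerOf _))
  have hUnormal : U.Normal := by
    rw [← Subgroup.normalizer_eq_top_iff]
    by_contra hNtop
    exact hUn (hproper N hNtop P' (hSeq ▸ Subgroup.map_subtype_le _))
  haveI := hUnormal
  set Q := Cfsg.pCore p G with hQdef
  haveI hQn : Q.Normal := Subgroup.sSup_normal _ fun _ h => h.1
  have hQbot : Q ≠ ⊥ := fun e => hU (le_bot_iff.mp (e ▸ Cores.le_pCore hUp))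
  -- the `p'`-core is trivial
  have hO : Cfsg.pPrimeCore p G = ⊥ := by
    by_contra hK
    set K := Cfsg.pPrimeCore p G
    haveI : K.Normal := Subgroup.sSup_normal _ fun _ h => h.1
    have hKc := Cores.coprime_card_pPrimeCore (G := G) p
    refine hG (npc_of_quotient_coprime K hKc ?_)
    set q := QuotientGroup.mk' K with hq
    have hqs := QuotientGroup.mk'_surjective K
    refine ih _ (card_quotient_lt K hK) (G ⧸ K) rfl (P.mapSurjective hqs) ⟨?_, ?_⟩
    · rw [Sylow.coe_mapSurjective, Fusion.Quotient.thompsonSubgroupOf_map hKc P.isPGroup',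
        Fusion.Quotient.normalizer_map hKc
          (P.isPGroup'.to_le (Fusion.Thompson.thompsonSubgroupOf_le _))]
      exact Fusion.Basic.npc_of_surjective (q.subgroupMap _) (q.subgroupMap_surjective _) hyp.1
    · have hZ : ((P : Subgroup G).map q) ⊓
          Subgroup.centralizer (((P : Subgroup G).map q : Subgroup (G ⧸ K)) : Set (G ⧸ K)) =
          ((P : Subgroup G) ⊓ Subgroup.centralizer ((P : Subgroup G) : Set G)).map q := by
        refine le_antisymm ?_ ?_
        · rintro _ ⟨⟨x, hx, rfl⟩, hc⟩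
          refine ⟨x, ⟨hx, Subgroup.mem_centralizer_iff.mpr fun r hr => ?_⟩, rfl⟩
          exact congrArg Subtype.val (Fusion.Quotient.inj_of_pGroup hKc P.isPGroup'
            (a₁ := ⟨r, hr⟩ * ⟨x, hx⟩) (a₂ := ⟨x, hx⟩ * ⟨r, hr⟩)
            (by
              show q (r * x) = q (x * r)
              rw [map_mul, map_mul]
              exact Subgroup.mem_centralizer_iff.mp hc _ ⟨r, hr, rfl⟩))
        · rintro _ ⟨x, ⟨hx, hc⟩, rfl⟩
          refine ⟨⟨x, hx, rfl⟩, Subgroup.mem_centralizer_iff.mpr ?_⟩
          rintro _ ⟨r, hr, rfl⟩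
          rw [← map_mul, ← map_mul, Subgroup.mem_centralizer_iff.mp hc r hr]
      rw [Sylow.coe_mapSurjective, hZ,
        Components.centralizer_map_mk hKc (P.isPGroup'.to_le inf_le_left)]
      exact Fusion.Basic.npc_of_surjective (q.subgroupMap _) (q.subgroupMap_surjective _) hyp.2
  have hQP : Q ≤ (P : Subgroup G) := Cores.pCore_le_sylow P
  have hQp : IsPGroup p Q := Cores.isPGroup_pCore p
  have hPQ : ¬ (P : Subgroup G) ≤ Q := by
    intro h
    have e : Subgroup.normalizer (Cfsg.thompsonSubgroupOf p (P : Subgroup G) : Set G) = ⊤ := by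
      rw [eq_top_iff]
      refine le_trans ?_ (Fusion.Thompson.normalizer_le_normalizer_thompsonOf _)
      rw [le_antisymm h hQP, Subgroup.normalizer_eq_top]
    refine hG ((Fusion.Basic.npc_congr Subgroup.topEquiv).mp ?_)
    rw [← e]
    exact hyp.1
  -- the quotient by `O_p(G)` has a normal `p`-complement
  set q := QuotientGroup.mk' Q with hq
  have hqs := QuotientGroup.mk'_surjective Q
  set Pb := P.mapSurjective hqs with hPb
  have hPbne : (Pb : Subgroup (G ⧸ Q)) ≠ ⊥ := by
    rw [Sylow.coe_mapSurjective, Ne, Subgroup.map_eq_bot_iff, QuotientGroup.ker_mk']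
    exact hPQ
  have hnpcQ : Cfsg.HasNormalPComplement p (G ⧸ Q) := by
    have key : ∀ V : Subgroup (G ⧸ Q), V ≤ (Pb : Subgroup (G ⧸ Q)) → V ≠ ⊥ →
        (Pb : Subgroup (G ⧸ Q)) ≤ Subgroup.normalizer (V : Set (G ⧸ Q)) →
        Cfsg.HasNormalPComplement p (Subgroup.normalizer (V : Set (G ⧸ Q))) := by
      intro V hVP hV hPV
      have hne : (Subgroup.normalizer (V : Set (G ⧸ Q))).comap q ≠ ⊤ := by
        intro e
        have hVn : V.Normal := by
          rw [← Subgroup.normalizer_eq_top_iff,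
            ← Subgroup.map_comap_eq_self_of_surjective hqs (Subgroup.normalizer (V : Set (G ⧸ Q))),
            e, Subgroup.map_top_of_surjective _ hqs]
        haveI := hVn.comap q
        refine hV ?_
        have hle : V.comap q ≤ Q := Cores.le_pCore ((Pb.isPGroup'.to_le hVP).comap_of_ker_isPGroup q
          (by rw [QuotientGroup.ker_mk']; exact hQp))
        rw [← Subgroup.map_comap_eq_self_of_surjective hqs V, Subgroup.map_eq_bot_iff,
          QuotientGroup.ker_mk']
        exact hle
      have hPle : (P : Subgroup G) ≤ (Subgroup.normalizer (V : Set (G ⧸ Q))).comap q := by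
        rw [← Subgroup.map_le_iff_le_comap]
        exact hPV
      exact Fusion.Basic.npc_of_surjective
        (q.subgroupComap (Subgroup.normalizer (V : Set (G ⧸ Q))))
        (MonoidHom.subgroupComap_surjective_of_surjective _ _ hqs) (hproper _ hne P hPle)
    refine ih _ (card_quotient_lt Q hQbot) (G ⧸ Q) rfl Pb ⟨?_, ?_⟩
    · exact key _ (Fusion.Thompson.thompsonSubgroupOf_le _)
        (thompsonSubgroupOf_ne_bot Pb.isPGroup' hPbne)
        (Subgroup.le_normalizer.trans (Fusion.Thompson.normalizer_le_normalizer_thompsonOf _))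
    · exact Fusion.Basic.npc_of_le (Subgroup.centralizer_le_normalizer _)
        (key _ inf_le_left (centerOf_ne_bot Pb.isPGroup' hPbne)
          (Subgroup.le_normalizer.trans (normalizer_le_centerOf _)))
  have hCQ : Subgroup.centralizer (Q : Set G) ≤ Q :=
    Fusion.PSolvable.centralizer_pCore_le
      (Fusion.PSolvable.psolvable_cons Q (Or.inl hQp) (Fusion.PSolvable.psolvable_of_npc hnpcQ)) hO
  -- the Sylow subgroup is maximal
  have hPtop : (P : Subgroup G) ≠ ⊤ := fun e =>
    hG (Fusion.Basic.npc_of_isPGroup ((e ▸ P.isPGroup' : IsPGroup p (⊤ : Subgroup G)).of_equiv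
      Subgroup.topEquiv))
  have hmaxP : ∀ L : Subgroup G, (P : Subgroup G) ≤ L → L ≠ ⊤ → L = P := by
    intro L hle hL
    have hnpc := hproper L hL P hle
    set O := (Cfsg.pResidual p L).map L.subtype with hOdef
    have hOc : (Nat.card O).Coprime p := by
      rw [hOdef, Subgroup.card_subtype]
      exact Fusion.Basic.npc_iff_coprime.mp hnpc
    have hOQ : Q ⊓ O = ⊥ := Fusion.Basic.inf_eq_bot_of_coprime hQp hOc
    have hObot : O = ⊥ := by
      rw [eq_bot_iff, ← hOQ]
      refine le_inf (le_trans (fun x hx => ?_) hCQ) le_rfl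
      rw [Subgroup.mem_centralizer_iff]
      intro y hy
      obtain ⟨x', hx', rfl⟩ := hx
      have hyL : y ∈ L := hle (hQP hy)
      have h1 : y * (x' : G) * y⁻¹ ∈ O :=
        ⟨⟨y, hyL⟩ * x' * ⟨y, hyL⟩⁻¹,
          (Fusion.Basic.pResidual_normal).conj_mem x' hx' ⟨y, hyL⟩, rfl⟩
      have h2 : y * (x' : G) * y⁻¹ * (x' : G)⁻¹ ∈ Q ⊓ O := by
        refine ⟨?_, O.mul_mem h1 (O.inv_mem (Subgroup.mem_map_of_mem _ hx'))⟩
        rw [show y * (x' : G) * y⁻¹ * (x' : G)⁻¹ = y * ((x' : G) * y⁻¹ * (x' : G)⁻¹) by group]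
        exact Q.mul_mem hy (hQn.conj_mem _ (Q.inv_mem hy) _)
      rw [hOQ, Subgroup.mem_bot, mul_inv_eq_one, mul_inv_eq_iff_eq_mul] at h2
      exact h2
    have hLp : IsPGroup p L := by
      have hb : Cfsg.pResidual p L = ⊥ :=
        (Subgroup.map_eq_bot_iff_of_injective _ L.subtype_injective).mp hObot
      intro x
      obtain ⟨k, hk⟩ := Fusion.Basic.isPGroup_quotient_pResidual (G := L) (p := p) (QuotientGroup.mk x)
      refine ⟨k, ?_⟩
      rw [← QuotientGroup.mk_pow, QuotientGroup.eq_one_iff, hb, Subgroup.mem_bot] at hk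
      exact hk
    exact P.3 hLp hle
  -- the structure of `G / Q`
  set Kb := Cfsg.pResidual p (G ⧸ Q)
  have hKbc : (Nat.card Kb).Coprime p := Fusion.Basic.npc_iff_coprime.mp hnpcQ
  have hKPtop : Kb ⊔ (Pb : Subgroup (G ⧸ Q)) = ⊤ := Fusion.Basic.pResidual_sup_sylow Pb
  have hPbmax : ∀ X : Subgroup (G ⧸ Q), (Pb : Subgroup (G ⧸ Q)) ≤ X → X ≠ ⊤ → X = Pb := by
    intro X hle hX
    have h := hmaxP (X.comap q) (Subgroup.map_le_iff_le_comap.mp hle) fun e => hX (by
      rw [← Subgroup.map_comap_eq_self_of_surjective hqs X, e,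
        Subgroup.map_top_of_surjective _ hqs])
    rw [← Subgroup.map_comap_eq_self_of_surjective hqs X, h]
    rfl
  obtain ⟨kP, hkP⟩ := IsPGroup.iff_card.mp Pb.isPGroup'
  have hsmall : ∀ E : Subgroup (G ⧸ Q), E ≤ Kb →
      (Pb : Subgroup (G ⧸ Q)) ≤ Subgroup.normalizer (E : Set (G ⧸ Q)) → E = ⊥ ∨ E = Kb := by
    intro E hE hnorm
    by_cases htop : E ⊔ (Pb : Subgroup (G ⧸ Q)) = ⊤
    · right
      refine Subgroup.eq_of_le_of_card_ge hE (Nat.le_of_dvd Nat.card_pos ?_)
      have h1 := Fusion.Thompson.card_sup_mul_card_inf hnorm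
      rw [htop, Subgroup.card_top] at h1
      refine (hKbc.pow_right kP).dvd_of_dvd_mul_right ?_
      rw [← hkP, ← h1]
      exact Dvd.dvd.mul_right Kb.card_subgroup_dvd_card _
    · left
      have h := hPbmax _ le_sup_right htop
      rw [eq_bot_iff]
      intro x hx
      have hxP : x ∈ (Pb : Subgroup (G ⧸ Q)) := h ▸ Subgroup.mem_sup_left hx
      rw [Subgroup.mem_bot, ← orderOf_eq_one_iff]
      exact Nat.eq_one_of_dvd_coprimes (hKbc.pow_right kP)
        (Subgroup.orderOf_dvd_natCard _ (hE hx)) (hkP ▸ Subgroup.orderOf_dvd_natCard _ hxP)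
  have hKbne : Kb ≠ ⊥ := by
    intro e
    rw [e, bot_sup_eq] at hKPtop
    refine hPtop (top_le_iff.mp fun x _ => ?_)
    have : q x ∈ (Pb : Subgroup (G ⧸ Q)) := hKPtop ▸ Subgroup.mem_top _
    obtain ⟨y, hy, hyx⟩ := this
    have := (QuotientGroup.eq.mp hyx)
    simpa using (P : Subgroup G).mul_mem hy (hQP this)
  obtain ⟨r, hr, hrK⟩ := Nat.exists_prime_and_dvd (Subgroup.card_eq_one.not.mpr hKbne)
  haveI := Fact.mk hr
  have hrp : r ≠ p := fun e => hpp.ne_one (Nat.eq_one_of_dvd_coprimes hKbc (e ▸ hrK) dvd_rfl)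
  haveI := Pb.isPGroup'.isNilpotent
  obtain ⟨R, hR⟩ := CfsgLib.Coprime.exists_invariant_sylow
    (A := (Pb : Subgroup (G ⧸ Q))) (K := Kb) (by rw [Subgroup.normalizer_eq_top]; exact le_top)
    (hkP ▸ (hKbc.pow_right kP).symm) (Or.inl inferInstance) r
  have hKr : IsPGroup r Kb := by
    rcases hsmall _ (Subgroup.map_subtype_le _) hR with e | e
    · exfalso
      rw [Subgroup.map_eq_bot_iff_of_injective _ Kb.subtype_injective] at e
      have := R.not_dvd_index
      rw [e, Subgroup.index_bot] at this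
      exact this hrK
    · exact e ▸ R.isPGroup'.map _
  have hKcomm : ∀ x ∈ Kb, ∀ y ∈ Kb, x * y = y * x := by
    haveI := hKr.isNilpotent
    haveI : Nontrivial Kb := (Subgroup.nontrivial_iff_ne_bot Kb).mpr hKbne
    rcases hsmall ((commutator Kb).map Kb.subtype) (Subgroup.map_subtype_le _)
      (by rw [Subgroup.normalizer_eq_top]; exact le_top) with e | e
    · intro x hx y hy
      rw [Subgroup.map_eq_bot_iff_of_injective _ Kb.subtype_injective] at e
      have h : ⁅(⟨x, hx⟩ : Kb), ⟨y, hy⟩⁆ ∈ commutator Kb :=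
        Subgroup.commutator_mem_commutator (Subgroup.mem_top _) (Subgroup.mem_top _)
      rw [e, Subgroup.mem_bot, commutatorElement_eq_one_iff_mul_comm] at h
      exact congrArg Subtype.val h
    · exfalso
      refine (Group.IsSolvable.commutator_lt_top_of_nontrivial Kb).ne ?_
      apply Subgroup.map_injective Kb.subtype_injective
      rw [e, ← MonoidHom.range_eq_map, Subgroup.range_subtype]
  have hnormal_small : ∀ X : Subgroup (G ⧸ Q), X.Normal → IsPGroup p X → X = ⊥ := by
    intro X hX hXp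
    haveI := hX.comap q
    have hle : X.comap q ≤ Q :=
      Cores.le_pCore (hXp.comap_of_ker_isPGroup q (by rw [QuotientGroup.ker_mk']; exact hQp))
    rw [← Subgroup.map_comap_eq_self_of_surjective hqs X, Subgroup.map_eq_bot_iff,
      QuotientGroup.ker_mk']
    exact hle
  have hCPK : (Pb : Subgroup (G ⧸ Q)) ⊓ Subgroup.centralizer (Kb : Set (G ⧸ Q)) = ⊥ := by
    refine hnormal_small _ ?_ (Pb.isPGroup'.to_le inf_le_left)
    rw [← Subgroup.normalizer_eq_top_iff, eq_top_iff, ← hKPtop]
    refine sup_le ?_ ?_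
    · refine le_trans ?_ (Subgroup.centralizer_le_normalizer _)
      exact Subgroup.le_centralizer_iff.mp inf_le_right
    · exact le_trans (le_inf Subgroup.le_normalizer (by rw [Subgroup.normalizer_eq_top]; exact le_top))
        (Subgroup.inf_normalizer_le_normalizer_inf (H := (Pb : Subgroup (G ⧸ Q)))
          (K := Subgroup.centralizer (Kb : Set (G ⧸ Q))))
  -- the module
  let W : Subgroup G :=
    { carrier := {x | x ∈ Q ⊓ Subgroup.centralizer (Q : Set G) ∧ x ^ p = 1}
      one_mem' := ⟨one_mem _, one_pow p⟩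
      mul_mem' := fun {a b} ha hb => ⟨mul_mem ha.1 hb.1, by
        rw [(show Commute a b from Subgroup.mem_centralizer_iff.mp hb.1.2 a ha.1.1).mul_pow, ha.2,
          hb.2, one_mul]⟩
      inv_mem' := fun {a} ha => ⟨inv_mem ha.1, by rw [inv_pow, ha.2, inv_one]⟩ }
  have hWn : W.Normal := ⟨fun x hx g => ⟨Subgroup.Normal.conj_mem inferInstance x hx.1 g, by
    rw [conj_pow, hx.2, mul_one, mul_inv_cancel]⟩⟩
  haveI := hWn
  have hWQ : W ≤ Q := fun x hx => hx.1.1
  have hWEA : Cfsg.IsElementaryAbelian p W :=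
    ⟨isMulCommutative_subgroup_iff.mpr fun a ha b hb =>
      Subgroup.mem_centralizer_iff.mp hb.1.2 a ha.1.1, fun a ha => ha.2⟩
  set CW := Subgroup.centralizer (W : Set G) with hCWdef
  have hQCW : Q ≤ CW := fun x hx => Subgroup.mem_centralizer_iff.mpr fun w hw =>
    (Subgroup.mem_centralizer_iff.mp hw.1.2 x hx).symm
  have hCW : CW ≤ Q := by
    haveI : (CW.map q).Normal := Subgroup.Normal.map inferInstance q hqs
    have hint : CW.map q ⊓ Kb = ⊥ := by
      refine (hsmall _ inf_le_right ?_).resolve_right fun e => ?_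
      · rw [Subgroup.normalizer_eq_top]; exact le_top
      have hKle : Kb ≤ CW.map q := inf_eq_right.mp e
      obtain ⟨T⟩ : Nonempty (Sylow r G) := inferInstance
      have hTCW : (T : Subgroup G) ≤ CW := by
        intro t ht
        have hidx : Kb.relIndex ⊤ = p ^ kP := by
          have h1 := Fusion.Thompson.card_sup_mul_card_inf
            (N := Kb) (K := (Pb : Subgroup (G ⧸ Q))) (by rw [Subgroup.normalizer_eq_top]; exact le_top)
          have h2 : Kb ⊓ (Pb : Subgroup (G ⧸ Q)) = ⊥ := by
            rw [inf_comm]; exact Fusion.Basic.inf_eq_bot_of_coprime Pb.isPGroup' hKbc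
          rw [h2, Subgroup.card_bot, mul_one, hKPtop, Subgroup.card_top, ← Kb.card_mul_index,
            hkP] at h1
          rw [Subgroup.relIndex_top_right]
          exact Nat.eq_of_mul_eq_mul_left Nat.card_pos h1
        have hTK : (T : Subgroup G).map q ≤ Kb := by
          refine Carter.le_of_coprime_relIndex (C := ⊤)
            (by rw [Subgroup.normalizer_eq_top]) le_top ?_
          rw [hidx]
          obtain ⟨k, hk⟩ := IsPGroup.iff_card.mp (T.isPGroup'.map q)
          rw [hk]
          exact ((Nat.coprime_primes hr hpp).mpr hrp).pow k kP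
        obtain ⟨c, hc, hct⟩ := hKle (hTK (Subgroup.mem_map_of_mem q ht))
        have h := QuotientGroup.eq.mp hct
        simpa using CW.mul_mem hc (hQCW h)
      have hTZ : (T : Subgroup G) ≤
          Subgroup.centralizer ((Q ⊓ Subgroup.centralizer (Q : Set G) : Subgroup G) : Set G) := by
        refine CfsgLib.OddOrder.OmegaLemma.le_centralizer_of_fix_orderP hp (hQp.to_le inf_le_left)
          (by rw [Subgroup.normalizer_eq_top]; exact le_top) ?_ fun x hx hxp => ?_
        · obtain ⟨k, hk⟩ := IsPGroup.iff_card.mp T.isPGroup'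
          rw [hk]
          exact ((Nat.coprime_primes hr hpp).mpr hrp).pow_left k
        · intro t ht
          rw [Subgroup.mem_centralizer_singleton_iff]
          exact (Subgroup.mem_centralizer_iff.mp (hTCW ht) x ⟨hx, hxp⟩).symm
      have hZP : (P : Subgroup G) ⊓ Subgroup.centralizer ((P : Subgroup G) : Set G) ≤
          Q ⊓ Subgroup.centralizer (Q : Set G) := by
        have h : (P : Subgroup G) ⊓ Subgroup.centralizer ((P : Subgroup G) : Set G) ≤
            Subgroup.centralizer (Q : Set G) := inf_le_right.trans (Subgroup.centralizer_le hQP)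
        exact le_inf (h.trans hCQ) h
      set CZ := Subgroup.centralizer
        (((P : Subgroup G) ⊓ Subgroup.centralizer ((P : Subgroup G) : Set G) : Subgroup G) : Set G)
      have hPCZ : (P : Subgroup G) ≤ CZ := Subgroup.le_centralizer_iff.mp inf_le_right
      have hTC : (T : Subgroup G) ≤ CZ := hTZ.trans (Subgroup.centralizer_le hZP)
      have htop : CZ = ⊤ := by
        by_contra hne
        have hTP : (T : Subgroup G) ≤ P := hmaxP CZ hPCZ hne ▸ hTC
        have hdG : r ∣ Nat.card G :=
          (hrK.trans Kb.card_subgroup_dvd_card).trans (Q.index_eq_card ▸ Q.index_dvd_card)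
        obtain ⟨k, hk⟩ := IsPGroup.iff_card.mp P.isPGroup'
        have h := T.not_dvd_index
        have hT1 : Nat.card (T : Subgroup G) = 1 := by
          obtain ⟨j, hj⟩ := IsPGroup.iff_card.mp T.isPGroup'
          refine Nat.eq_one_of_dvd_coprimes (((Nat.coprime_primes hr hpp).mpr hrp).pow j k)
            hj.dvd (hk ▸ Subgroup.card_dvd_of_le hTP)
        rw [Subgroup.card_eq_one] at hT1
        rw [hT1, Subgroup.index_bot] at h
        exact h hdG
      refine hG ((Fusion.Basic.npc_congr Subgroup.topEquiv).mp ?_)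
      rw [← htop]
      exact hyp.2
    have hp' : IsPGroup p (CW.map q) := by
      refine Pb.isPGroup'.to_le ?_ |>.of_equiv (MulEquiv.refl _)
      -- `CW` centralises `Kb`, hence meets `Kb P` inside `P`
      intro x hx
      have hxK : x ∈ Subgroup.centralizer (Kb : Set (G ⧸ Q)) := by
        haveI : Kb.Normal := Fusion.Basic.pResidual_normal
        exact Subgroup.mem_centralizer_iff.mpr fun y hy =>
          (Subgroup.commute_of_normal_of_disjoint (CW.map q) Kb inferInstance inferInstance
            (disjoint_iff.mpr hint) x y hx hy).eq.symm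
      have hx' : x ∈ (Kb : Set (G ⧸ Q)) * ((Pb : Subgroup (G ⧸ Q)) : Set (G ⧸ Q)) := by
        haveI : Kb.Normal := Fusion.Basic.pResidual_normal
        rw [← Subgroup.normal_mul, hKPtop]; trivial
      obtain ⟨k, hk, y, hy, rfl⟩ := hx'
      have hkc : k ∈ Subgroup.centralizer (Kb : Set (G ⧸ Q)) :=
        Subgroup.mem_centralizer_iff.mpr fun z hz => hKcomm z hz k hk
      have hyc : y ∈ (Pb : Subgroup (G ⧸ Q)) ⊓ Subgroup.centralizer (Kb : Set (G ⧸ Q)) :=
        ⟨hy, by simpa using mul_mem (inv_mem hkc) hxK⟩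
      rw [hCPK, Subgroup.mem_bot] at hyc
      subst hyc
      have : k ∈ CW.map q ⊓ Kb := ⟨by simpa using hx, hk⟩
      rw [hint, Subgroup.mem_bot] at this
      simp [this]
    have h := hnormal_small _ inferInstance hp'
    rwa [Subgroup.map_eq_bot_iff, QuotientGroup.ker_mk'] at h
  -- a maximal elementary abelian subgroup outside `Q`
  obtain ⟨A₀, hA₀, hA₀P⟩ := Fusion.Thompson.exists_maxEA_le_sylow (p := p) P
  have hex : ∃ A ∈ Cfsg.maxElementaryAbelianSubgroups p G, A ≤ (P : Subgroup G) ∧ ¬ A ≤ Q := by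
    by_contra hall
    push Not at hall
    have hJ : Cfsg.thompsonSubgroupOf p (P : Subgroup G) = Cfsg.thompsonSubgroupOf p Q := by
      rw [Fusion.Thompson.thompsonSubgroupOf_eq hA₀ hA₀P,
        Fusion.Thompson.thompsonSubgroupOf_eq hA₀ (hall A₀ hA₀ hA₀P)]
      congr 1
      ext A
      exact ⟨fun h => ⟨h.1, hall A h.1 h.2⟩, fun h => ⟨h.1, h.2.trans hQP⟩⟩
    refine hG ((Fusion.Basic.npc_congr Subgroup.topEquiv).mp ?_)
    have e : Subgroup.normalizer (Cfsg.thompsonSubgroupOf p (P : Subgroup G) : Set G) = ⊤ := by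
      rw [hJ, eq_top_iff]
      refine le_trans ?_ (Fusion.Thompson.normalizer_le_normalizer_thompsonOf _)
      rw [Subgroup.normalizer_eq_top]
    rw [← e]
    exact hyp.1
  obtain ⟨A, ⟨hA, hAP, hAQ⟩, hAmax⟩ := Set.exists_max_image
    {A : Subgroup G | A ∈ Cfsg.maxElementaryAbelianSubgroups p G ∧ A ≤ (P : Subgroup G) ∧ ¬ A ≤ Q}
    (fun A => Nat.card (A ⊓ W : Subgroup G)) (Set.toFinite _)
    (by obtain ⟨A, h⟩ := hex; exact ⟨A, h⟩)
  have hWA : W ≤ Subgroup.normalizer (A : Set G) := by
    by_contra hn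
    obtain ⟨A', hA', hle, hlt, hA'n⟩ := ThompsonReplacement.replacement hA hWEA
      (by rw [Subgroup.normalizer_eq_top]; exact le_top) hn
    have hA'P : A' ≤ (P : Subgroup G) := hle.trans (sup_le hAP (hWQ.trans hQP))
    have hA'Q : A' ≤ Q := by
      by_contra h
      exact absurd (hAmax A' ⟨hA', hA'P, h⟩) (not_le.mpr hlt)
    refine hn (le_trans (fun w hw => ?_) hA'n)
    exact Fusion.Thompson.mem_of_pow_eq_one_of_centralizes hA'
      (Subgroup.centralizer_le hA'Q hw.1.2) hw.2
  obtain ⟨a, haA, haQ⟩ := SetLike.not_le_iff_exists.mp hAQ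
  -- quadratic action
  letI : CommGroup W :=
    { (inferInstance : Group W) with
      mul_comm := fun x y => Subtype.ext
        (isMulCommutative_subgroup_iff.mp hWEA.1 x x.2 y y.2) }
  let ρ : G →* AddMonoid.End (Additive W) :=
    { toFun := fun g => MonoidHom.toAdditive (MulAut.conjNormal (H := W) g).toMonoidHom
      map_one' := by
        refine AddMonoidHom.ext fun v => ?_
        apply Additive.toMul.injective
        refine Subtype.ext ?_
        show (1 : G) * ((Additive.toMul v : W) : G) * (1 : G)⁻¹ = ((Additive.toMul v : W) : G)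
        simp
      map_mul' := fun g h => by
        refine AddMonoidHom.ext fun v => ?_
        apply Additive.toMul.injective
        refine Subtype.ext ?_
        show (g * h) * ((Additive.toMul v : W) : G) * (g * h)⁻¹ =
          g * (h * ((Additive.toMul v : W) : G) * h⁻¹) * g⁻¹
        group }
  have hρker : ∀ g : G, ρ g = 1 ↔ g ∈ CW := by
    intro g
    rw [hCWdef, Subgroup.mem_centralizer_iff]
    constructor
    · intro h w hw
      have e := congrArg
        (fun f : AddMonoid.End (Additive W) => ((Additive.toMul (f (Additive.ofMul ⟨w, hw⟩)) : W) : G)) h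
      change g * w * g⁻¹ = w at e
      exact (mul_inv_eq_iff_eq_mul.mp e).symm
    · intro h
      refine AddMonoidHom.ext fun v => ?_
      apply Additive.toMul.injective
      refine Subtype.ext ?_
      show g * ((Additive.toMul v : W) : G) * g⁻¹ = ((Additive.toMul v : W) : G)
      rw [← h _ (Additive.toMul v : W).2, mul_inv_cancel_right]
  have hR0 : (p : AddMonoid.End (Additive W)) = 0 := by
    refine DFunLike.ext _ _ fun v => ?_
    rw [AddMonoid.End.natCast_apply]
    apply Additive.toMul.injective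
    rw [toMul_nsmul]
    refine Subtype.ext ?_
    rw [Subgroup.coe_pow]
    exact hWEA.2 _ (Additive.toMul v : W).2
  have hAc := isMulCommutative_subgroup_iff.mp hA.1.1
  have hquad : (ρ a - 1) * (ρ a - 1) = 0 := by
    refine AddMonoidHom.ext fun v => ?_
    apply Additive.toMul.injective
    refine Subtype.ext ?_
    set w : G := ((Additive.toMul v : W) : G) with hw
    show a * (a * w * a⁻¹ / w) * a⁻¹ / (a * w * a⁻¹ / w) = 1
    simp only [div_eq_mul_inv]
    have hu : a * w * a⁻¹ * w⁻¹ ∈ A := by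
      have h1 : w * a⁻¹ * w⁻¹ ∈ A :=
        map_conj_le_of_normalizer (hWA (Additive.toMul v : W).2) (A.inv_mem haA)
      simpa [mul_assoc] using A.mul_mem haA h1
    rw [hAc a haA _ hu]
    group
  have hρQ : ∀ x : G, x ∈ Q → ρ x = 1 := fun x hx => (hρker x).mpr (hQCW hx)
  refine haQ ?_
  have hK1 : ∀ g ∈ Kb.comap q, g * a * g⁻¹ * a⁻¹ ∈ Q := by
    intro g hg
    refine hCW ((hρker _).mp (ThompsonReplacement.quadratic_commutator hp hR0 ρ hquad ?_ hg ?_ ?_))
    · haveI : Kb.Normal := Fusion.Basic.pResidual_normal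
      rw [Subgroup.normalizer_eq_top]; trivial
    · intro x hx y hy
      show ρ x * ρ y = ρ y * ρ x
      have e : q (x * y * (y * x)⁻¹) = 1 := by
        rw [map_mul, map_inv, map_mul, map_mul, hKcomm _ hx _ hy, mul_inv_cancel]
      have h := hρQ _ ((QuotientGroup.eq_one_iff _).mp e)
      calc ρ x * ρ y = ρ (x * y * (y * x)⁻¹) * (ρ y * ρ x) := by
            rw [← map_mul, ← map_mul, ← map_mul, inv_mul_cancel_right]
        _ = ρ y * ρ x := by rw [h, one_mul]
    · intro x hx
      refine ⟨Nat.card Kb, hKbc, ?_⟩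
      rw [← map_pow]
      refine hρQ _ ((QuotientGroup.eq_one_iff _).mp ?_)
      show q (x ^ Nat.card Kb) = 1
      rw [map_pow, ← orderOf_dvd_iff_pow_eq_one]
      exact Subgroup.orderOf_dvd_natCard _ hx
  have : q a ∈ (Pb : Subgroup (G ⧸ Q)) ⊓ Subgroup.centralizer (Kb : Set (G ⧸ Q)) := by
    refine ⟨Subgroup.mem_map_of_mem q (hAP haA), Subgroup.mem_centralizer_iff.mpr fun k hk => ?_⟩
    obtain ⟨g, rfl⟩ := hqs k
    rw [← commutatorElement_eq_one_iff_mul_comm, ← map_commutatorElement]
    exact (QuotientGroup.eq_one_iff _).mpr (hK1 g hk)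
  rw [hCPK, Subgroup.mem_bot] at this
  exact (QuotientGroup.eq_one_iff a).mp this

/-- **Thompson's normal `p`-complement theorem** (`p` odd). -/
theorem npc_of_thompson [Finite G] [Fact p.Prime] (hp : p ≠ 2) (P : Sylow p G)
    (h1 : Cfsg.HasNormalPComplement p
      (Subgroup.normalizer (Cfsg.thompsonSubgroupOf p (P : Subgroup G) : Set G)))
    (h2 : Cfsg.HasNormalPComplement p (Subgroup.centralizer
      (((P : Subgroup G) ⊓ Subgroup.centralizer (P : Set G)) : Set G))) :
    Cfsg.HasNormalPComplement p G :=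
  npc_aux hp _ G rfl P ⟨h1, by simpa using h2⟩

end CfsgLib.Solvable.ThompsonComplement
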