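import Mathlib.Algebra.Lie.Basic
import Mathlib.Algebra.DirectSum.Basic
import Mathlib.GroupTheory.Nilpotent
import Mathlib.GroupTheory.QuotientGroup.Basic
import Mathlib.Tactic.Group
import Mathlib.Tactic.Abel

/-!
The Lie ring associated with the lower central series of a group.
-/

set_option autoImplicit false

open scoped commutatorElement

namespace CfsgLib.Solvable.AssocLieRing

universe u

variable {G : Type u} [Group G]

/-- The terms of the lower central series, starting with `γ 0 = G`. -/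
abbrev γ (G : Type u) [Group G] (n : ℕ) : Subgroup G :=
  (⊤ : Subgroup G).lowerCentralSeries n

theorem γ_anti {m n : ℕ} (h : m ≤ n) : γ G n ≤ γ G m :=
  Subgroup.lowerCentralSeries_antitone (⊤ : Subgroup G) h

theorem γ_succ (n : ℕ) : γ G (n + 1) = ⁅γ G n, (⊤ : Subgroup G)⁆ := rfl

instance γ_normal (n : ℕ) : (γ G n).Normal := by
  induction n with
  | zero => exact (inferInstance : (⊤ : Subgroup G).Normal)
  | succ n ih =>
    rw [γ_succ]
    haveI := ih
    exact Subgroup.commutator_normal _ _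

theorem comm_le : ∀ (b a : ℕ), ⁅γ G a, γ G b⁆ ≤ γ G (a + b + 1) := by
  intro b
  induction b with
  | zero => exact fun a => le_of_eq rfl
  | succ b ih =>
    intro a
    set N := γ G (a + (b + 1) + 1) with hN
    let f := QuotientGroup.mk' N
    have key : ∀ H : Subgroup G, H.map f = ⊥ ↔ H ≤ N := fun H => by
      rw [Subgroup.map_eq_bot_iff, QuotientGroup.ker_mk']
    rw [Subgroup.commutator_comm, γ_succ, ← key, Subgroup.map_commutator, Subgroup.map_commutator]
    refine Subgroup.commutator_commutator_eq_bot_of_rotate ?_ ?_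
    · rw [← Subgroup.map_commutator, ← Subgroup.map_commutator, key,
        Subgroup.commutator_comm ⊤ (γ G a)]
      refine (ih (a + 1)).trans (le_of_eq ?_)
      rw [hN, show a + 1 + b + 1 = a + (b + 1) + 1 by omega]
    · rw [← Subgroup.map_commutator, ← Subgroup.map_commutator, key]
      refine (Subgroup.commutator_mono (ih a) le_rfl).trans (le_of_eq ?_)
      rw [← γ_succ, hN, show a + b + 1 + 1 = a + (b + 1) + 1 by omega]

theorem comm_mem {a b : ℕ} {x y : G} (hx : x ∈ γ G a) (hy : y ∈ γ G b) :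
    ⁅x, y⁆ ∈ γ G (a + b + 1) :=
  comm_le b a (Subgroup.commutator_mem_commutator hx hy)

/-- The `n`-th factor of the lower central series, as a multiplicative group. -/
abbrev Fac (G : Type u) [Group G] (n : ℕ) : Type u :=
  γ G n ⧸ (γ G (n + 1)).subgroupOf (γ G n)

instance facCommGroup (n : ℕ) : CommGroup (Fac G n) :=
  { (inferInstance : Group (Fac G n)) with
    mul_comm := fun x y => by
      induction x using QuotientGroup.induction_on with
      | H a =>
        induction y using QuotientGroup.induction_on with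
        | H b =>
          rw [← QuotientGroup.mk_mul, ← QuotientGroup.mk_mul, QuotientGroup.eq,
            Subgroup.mem_subgroupOf]
          have h : ((b : G))⁻¹ * (a : G)⁻¹ * b * a ∈ γ G (n + 1) := by
            have h' := comm_mem (inv_mem b.2) (inv_mem a.2)
            rw [commutatorElement_def, inv_inv, inv_inv] at h'
            exact γ_anti (by omega) h'
          simpa [mul_assoc] using h }

/-- The `n`-th factor of the lower central series, additively. -/
abbrev Q (G : Type u) [Group G] (n : ℕ) : Type u :=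
  Additive (Fac G n)

open Classical in
/-- The class of an element in the `n`-th factor (zero outside `γ n`). -/
noncomputable def q (n : ℕ) (g : G) : Q G n :=
  if h : g ∈ γ G n then Additive.ofMul (QuotientGroup.mk (⟨g, h⟩ : γ G n)) else 0

theorem q_surj {n : ℕ} (x : Q G n) : ∃ g ∈ γ G n, q n g = x := by
  obtain ⟨⟨g, hg⟩, h⟩ := QuotientGroup.mk_surjective (Additive.toMul x)
  exact ⟨g, hg, by rw [q, dif_pos hg, h]; rfl⟩

theorem q_mul {n : ℕ} {a b : G} (ha : a ∈ γ G n) (hb : b ∈ γ G n) :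
    q n (a * b) = q n a + q n b := by
  rw [q, q, q, dif_pos ha, dif_pos hb, dif_pos (mul_mem ha hb)]
  rfl

theorem q_one (n : ℕ) : q n (1 : G) = 0 := by
  rw [q, dif_pos (one_mem _)]
  rfl

theorem q_inv {n : ℕ} {a : G} (ha : a ∈ γ G n) : q n a⁻¹ = -q n a := by
  rw [q, q, dif_pos ha, dif_pos (inv_mem ha)]
  rfl

theorem q_eq_zero_iff {n : ℕ} {a : G} (ha : a ∈ γ G n) : q n a = 0 ↔ a ∈ γ G (n + 1) := by
  rw [q, dif_pos ha, ← ofMul_one, Additive.ofMul.injective.eq_iff, QuotientGroup.eq_one_iff,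
    Subgroup.mem_subgroupOf]

theorem q_eq_iff {n : ℕ} {a b : G} (ha : a ∈ γ G n) (hb : b ∈ γ G n) :
    q n a = q n b ↔ a⁻¹ * b ∈ γ G (n + 1) := by
  rw [← q_eq_zero_iff (mul_mem (inv_mem ha) hb), q_mul (inv_mem ha) hb, q_inv ha,
    neg_add_eq_zero]

theorem q_conj {n : ℕ} {x : G} (hx : x ∈ γ G n) (g : G) : q n (g * x * g⁻¹) = q n x := by
  have h : g * x * g⁻¹ ∈ γ G n := (γ_normal n).conj_mem x hx g
  have hc : ⁅g, x⁆ ∈ γ G (n + 1) := γ_anti (by omega)
    (comm_mem (a := 0) (show g ∈ γ G 0 from Subgroup.mem_top g) hx)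
  have e : g * x * g⁻¹ = ⁅g, x⁆ * x := by rw [commutatorElement_def]; group
  rw [e, q_mul (γ_anti (Nat.le_succ n) hc) hx,
    (q_eq_zero_iff (γ_anti (Nat.le_succ n) hc)).mpr hc, zero_add]

theorem q_comm_mul_left {i j : ℕ} {a a' b : G} (ha : a ∈ γ G i) (ha' : a' ∈ γ G i)
    (hb : b ∈ γ G j) :
    q (i + j + 1) ⁅a * a', b⁆ = q (i + j + 1) ⁅a, b⁆ + q (i + j + 1) ⁅a', b⁆ := by
  have e : ⁅a * a', b⁆ = a * ⁅a', b⁆ * a⁻¹ * ⁅a, b⁆ := by
    simp only [commutatorElement_def]; group
  rw [e, q_mul ((γ_normal _).conj_mem _ (comm_mem ha' hb) _) (comm_mem ha hb),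
    q_conj (comm_mem ha' hb)]
  exact add_comm _ _

theorem q_comm_mul_right {i j : ℕ} {a b b' : G} (ha : a ∈ γ G i) (hb : b ∈ γ G j)
    (hb' : b' ∈ γ G j) :
    q (i + j + 1) ⁅a, b * b'⁆ = q (i + j + 1) ⁅a, b⁆ + q (i + j + 1) ⁅a, b'⁆ := by
  have e : ⁅a, b * b'⁆ = ⁅a, b⁆ * (b * ⁅a, b'⁆ * b⁻¹) := by
    simp only [commutatorElement_def]; group
  rw [e, q_mul (comm_mem ha hb) ((γ_normal _).conj_mem _ (comm_mem ha hb') _),
    q_conj (comm_mem ha hb')]

theorem q_comm_congr {i j : ℕ} {a a' b b' : G} (ha : a ∈ γ G i) (ha' : a' ∈ γ G i)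
    (hb : b ∈ γ G j) (hb' : b' ∈ γ G j) (h1 : q i a = q i a') (h2 : q j b = q j b') :
    q (i + j + 1) ⁅a, b⁆ = q (i + j + 1) ⁅a', b'⁆ := by
  have ea : a' = a * (a⁻¹ * a') := by group
  have eb : b' = b * (b⁻¹ * b') := by group
  have hca := (q_eq_iff ha ha').mp h1
  have hcb := (q_eq_iff hb hb').mp h2
  have z1 : q (i + j + 1) ⁅a, b'⁆ = q (i + j + 1) ⁅a, b⁆ := by
    rw [eb, q_comm_mul_right ha hb (γ_anti (Nat.le_succ j) hcb),
      (q_eq_zero_iff (comm_mem ha (γ_anti (Nat.le_succ j) hcb))).mpr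
        (γ_anti (by omega) (comm_mem ha hcb)), add_zero]
  rw [← z1, ea, q_comm_mul_left ha (γ_anti (Nat.le_succ i) hca) hb',
    (q_eq_zero_iff (comm_mem (γ_anti (Nat.le_succ i) hca) hb')).mpr
      (γ_anti (by omega) (comm_mem hca hb')), add_zero]

/-- A representative of a class. -/
noncomputable def rep {n : ℕ} (x : Q G n) : G :=
  (q_surj x).choose

theorem rep_mem {n : ℕ} (x : Q G n) : rep x ∈ γ G n :=
  (q_surj x).choose_spec.1

theorem q_rep {n : ℕ} (x : Q G n) : q n (rep x) = x :=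
  (q_surj x).choose_spec.2

theorem beta_add_left {i j : ℕ} (x x' : Q G i) (y : Q G j) :
    q (i + j + 1) ⁅rep (x + x'), rep y⁆ =
      q (i + j + 1) ⁅rep x, rep y⁆ + q (i + j + 1) ⁅rep x', rep y⁆ := by
  rw [← q_comm_mul_left (rep_mem x) (rep_mem x') (rep_mem y)]
  exact q_comm_congr (rep_mem _) (mul_mem (rep_mem x) (rep_mem x')) (rep_mem y) (rep_mem y)
    (by rw [q_rep, q_mul (rep_mem x) (rep_mem x'), q_rep, q_rep]) rfl

theorem beta_add_right {i j : ℕ} (x : Q G i) (y y' : Q G j) :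
    q (i + j + 1) ⁅rep x, rep (y + y')⁆ =
      q (i + j + 1) ⁅rep x, rep y⁆ + q (i + j + 1) ⁅rep x, rep y'⁆ := by
  rw [← q_comm_mul_right (rep_mem x) (rep_mem y) (rep_mem y')]
  exact q_comm_congr (rep_mem x) (rep_mem x) (rep_mem _) (mul_mem (rep_mem y) (rep_mem y')) rfl
    (by rw [q_rep, q_mul (rep_mem y) (rep_mem y'), q_rep, q_rep])

/-- The bracket of two factors. -/
noncomputable def beta (i j : ℕ) : Q G i →+ Q G j →+ Q G (i + j + 1) :=
  AddMonoidHom.mk'
    (fun x => AddMonoidHom.mk' (fun y => q (i + j + 1) ⁅rep x, rep y⁆)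
      (fun y y' => beta_add_right x y y'))
    (fun x x' => AddMonoidHom.ext fun y => beta_add_left x x' y)

/-- The associated graded group. -/
abbrev LieR (G : Type u) [Group G] : Type u :=
  DirectSum ℕ (fun n => Q G n)

/-- The class of an element in the graded group. -/
noncomputable def cls (n : ℕ) (g : G) : LieR G :=
  DirectSum.of (fun n => Q G n) n (q n g)

theorem cls_mul {n : ℕ} {a b : G} (ha : a ∈ γ G n) (hb : b ∈ γ G n) :
    cls n (a * b) = cls n a + cls n b := by
  rw [cls, q_mul ha hb, map_add]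
  rfl

theorem cls_one (n : ℕ) : cls n (1 : G) = 0 := by
  rw [cls, q_one, map_zero]

theorem cls_inv {n : ℕ} {a : G} (ha : a ∈ γ G n) : cls n a⁻¹ = -cls n a := by
  rw [cls, q_inv ha, map_neg]
  rfl

theorem cls_conj {n : ℕ} {x : G} (hx : x ∈ γ G n) (g : G) : cls n (g * x * g⁻¹) = cls n x := by
  rw [cls, q_conj hx g]
  rfl

/-- Induction on the graded group. -/
theorem lie_induction {C : LieR G → Prop} (h0 : C 0)
    (hcls : ∀ (n : ℕ) (g : G), g ∈ γ G n → C (cls n g))
    (hadd : ∀ x y, C x → C y → C (x + y)) (x : LieR G) : C x := by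
  induction x using DirectSum.induction_on with
  | zero => exact h0
  | of n v =>
    obtain ⟨g, hg, rfl⟩ := q_surj v
    exact hcls n g hg
  | add a b ha hb => exact hadd a b ha hb

/-- The bracket as a biadditive map. -/
noncomputable def bra : LieR G →+ LieR G →+ LieR G :=
  DirectSum.toAddMonoid fun i => AddMonoidHom.flip
    (DirectSum.toAddMonoid fun j => AddMonoidHom.flip
      ((AddMonoidHom.compHom (DirectSum.of (fun n => Q G n) (i + j + 1))).comp (beta i j)))

noncomputable instance : Bracket (LieR G) (LieR G) :=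
  ⟨fun x y => bra x y⟩

theorem lie_def (x y : LieR G) : ⁅x, y⁆ = bra x y := rfl

theorem lie_cls {i j : ℕ} {a b : G} (ha : a ∈ γ G i) (hb : b ∈ γ G j) :
    ⁅cls i a, cls j b⁆ = cls (i + j + 1) ⁅a, b⁆ := by
  rw [lie_def, bra, cls, cls, DirectSum.toAddMonoid_of, AddMonoidHom.flip_apply,
    DirectSum.toAddMonoid_of, AddMonoidHom.flip_apply]
  show DirectSum.of (fun n => Q G n) (i + j + 1) (q (i + j + 1) ⁅rep (q i a), rep (q j b)⁆) = _
  rw [q_comm_congr (rep_mem _) ha (rep_mem _) hb (q_rep _) (q_rep _)]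
  rfl

theorem bra_skew (x y : LieR G) : bra x y + bra y x = 0 := by
  induction x using lie_induction with
  | h0 => simp
  | hadd u v hu hv =>
    rw [map_add, map_add, AddMonoidHom.add_apply, add_add_add_comm, hu, hv, add_zero]
  | hcls i a ha =>
    induction y using lie_induction with
    | h0 => simp
    | hadd u v hu hv =>
      rw [map_add, map_add, AddMonoidHom.add_apply, add_add_add_comm, hu, hv, add_zero]
    | hcls j b hb =>
      rw [← lie_def, ← lie_def, lie_cls ha hb, lie_cls hb ha, show j + i + 1 = i + j + 1 by omega,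
        ← cls_mul (comm_mem ha hb) (by rw [show i + j + 1 = j + i + 1 by omega]; exact comm_mem hb ha),
        show ⁅a, b⁆ * ⁅b, a⁆ = 1 by simp only [commutatorElement_def]; group, cls_one]

theorem bra_self (x : LieR G) : bra x x = 0 := by
  induction x using lie_induction with
  | h0 => simp
  | hcls i a ha => rw [← lie_def, lie_cls ha ha, commutatorElement_self, cls_one]
  | hadd u v hu hv =>
    rw [map_add, map_add, AddMonoidHom.add_apply, AddMonoidHom.add_apply, hu, hv, zero_add,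
      add_zero, add_comm]
    exact bra_skew u v

/-- The Hall-Witt identity, in the graded group. -/
theorem jacobi_cls {i j k : ℕ} {a b c : G} (ha : a ∈ γ G i) (hb : b ∈ γ G j) (hc : c ∈ γ G k) :
    ⁅⁅cls i a, cls j b⁆, cls k c⁆ + ⁅⁅cls j b, cls k c⁆, cls i a⁆ +
      ⁅⁅cls k c, cls i a⁆, cls j b⁆ = 0 := by
  have key : ∀ {i j k : ℕ} {a b c : G}, a ∈ γ G i → b ∈ γ G j → c ∈ γ G k →
      b⁻¹ * ⁅⁅a⁻¹, b⁆⁻¹, c⁻¹⁆ * b ∈ γ G (i + j + k + 2) ∧
      cls (i + j + k + 2) (b⁻¹ * ⁅⁅a⁻¹, b⁆⁻¹, c⁻¹⁆ * b) = -⁅⁅cls i a, cls j b⁆, cls k c⁆ := by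
    intro i j k a b c ha hb hc
    have hn : i + j + 1 + k + 1 = i + j + k + 2 := by omega
    have hw : ⁅⁅a⁻¹, b⁆⁻¹, c⁻¹⁆ ∈ γ G (i + j + k + 2) :=
      hn ▸ comm_mem (inv_mem (comm_mem (inv_mem ha) hb)) (inv_mem hc)
    have e : b⁻¹ * ⁅⁅a⁻¹, b⁆⁻¹, c⁻¹⁆ * b = b⁻¹ * ⁅⁅a⁻¹, b⁆⁻¹, c⁻¹⁆ * b⁻¹⁻¹ := by rw [inv_inv]
    refine ⟨e ▸ (γ_normal _).conj_mem _ hw _, ?_⟩
    rw [e, cls_conj hw, ← hn, ← lie_cls (inv_mem (comm_mem (inv_mem ha) hb)) (inv_mem hc),
      cls_inv (comm_mem (inv_mem ha) hb), ← lie_cls (inv_mem ha) hb, cls_inv ha, cls_inv hc]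
    simp only [lie_def, map_neg, AddMonoidHom.neg_apply, neg_neg]
  obtain ⟨m1, e1⟩ := key ha hb hc
  obtain ⟨m2, e2⟩ := key hb hc ha
  obtain ⟨m3, e3⟩ := key hc ha hb
  rw [show j + k + i + 2 = i + j + k + 2 by omega] at m2 e2
  rw [show k + i + j + 2 = i + j + k + 2 by omega] at m3 e3
  rw [← neg_eq_zero, neg_add, neg_add, ← e1, ← e2, ← e3, ← cls_mul m1 m2,
    ← cls_mul (mul_mem m1 m2) m3]
  have hw : b⁻¹ * ⁅⁅a⁻¹, b⁆⁻¹, c⁻¹⁆ * b * (c⁻¹ * ⁅⁅b⁻¹, c⁆⁻¹, a⁻¹⁆ * c) *
      (a⁻¹ * ⁅⁅c⁻¹, a⁆⁻¹, b⁻¹⁆ * a) = 1 := by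
    simp only [commutatorElement_def]; group
  rw [hw, cls_one]

theorem bra_jacobi (x y z : LieR G) : bra (bra x y) z + bra (bra y z) x + bra (bra z x) y = 0 := by
  induction x using lie_induction with
  | h0 => simp
  | hadd u v hu hv =>
    simp only [map_add, AddMonoidHom.add_apply] at hu hv ⊢
    calc _ = (bra (bra u y) z + bra (bra y z) u + bra (bra z u) y) +
          (bra (bra v y) z + bra (bra y z) v + bra (bra z v) y) := by abel
      _ = 0 := by rw [hu, hv, add_zero]
  | hcls i a ha =>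
    induction y using lie_induction with
    | h0 => simp
    | hadd u v hu hv =>
      simp only [map_add, AddMonoidHom.add_apply] at hu hv ⊢
      calc _ = (bra (bra (cls i a) u) z + bra (bra u z) (cls i a) + bra (bra z (cls i a)) u) +
            (bra (bra (cls i a) v) z + bra (bra v z) (cls i a) + bra (bra z (cls i a)) v) := by abel
        _ = 0 := by rw [hu, hv, add_zero]
    | hcls j b hb =>
      induction z using lie_induction with
      | h0 => simp
      | hadd u v hu hv =>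
        simp only [map_add, AddMonoidHom.add_apply] at hu hv ⊢
        calc _ = (bra (bra (cls i a) (cls j b)) u + bra (bra (cls j b) u) (cls i a) +
              bra (bra u (cls i a)) (cls j b)) +
              (bra (bra (cls i a) (cls j b)) v + bra (bra (cls j b) v) (cls i a) +
              bra (bra v (cls i a)) (cls j b)) := by abel
          _ = 0 := by rw [hu, hv, add_zero]
      | hcls k c hc => exact jacobi_cls ha hb hc

noncomputable instance instLieRing : LieRing (LieR G) where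
  add_lie x y z := by simp only [lie_def, map_add, AddMonoidHom.add_apply]
  lie_add x y z := by simp only [lie_def, map_add]
  lie_self x := bra_self x
  leibniz_lie x y z := by
    simp only [lie_def]
    have h1 : bra x (bra y z) = -bra (bra y z) x := eq_neg_of_add_eq_zero_left (bra_skew _ _)
    have h2 : bra y (bra x z) = bra (bra z x) y := by
      rw [eq_neg_of_add_eq_zero_left (bra_skew x z), map_neg,
        eq_neg_of_add_eq_zero_left (bra_skew y (bra z x)), neg_neg]
    have h3 := bra_jacobi x y z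
    rw [h1, h2, neg_eq_iff_add_eq_zero, ← h3]
    abel

/-- The subgroups spanned by brackets of `r + 1` elements. -/
def W (G : Type u) [Group G] : ℕ → AddSubgroup (LieR G)
  | 0 => ⊤
  | r + 1 => AddSubgroup.closure {z | ∃ x ∈ W G r, ∃ y : LieR G, ⁅x, y⁆ = z}

theorem lie_mem_W {r : ℕ} {x : LieR G} (hx : x ∈ W G r) (y : LieR G) : ⁅x, y⁆ ∈ W G (r + 1) :=
  AddSubgroup.subset_closure ⟨x, hx, y, rfl⟩

theorem cls_mem_W (r : ℕ) : ∀ g : G, g ∈ γ G r → cls r g ∈ W G r := by
  induction r with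
  | zero => exact fun _ _ => AddSubgroup.mem_top _
  | succ r ih =>
    intro g hg
    have hle : γ G (r + 1) ≤ Subgroup.closure {z | ∃ a ∈ γ G r, ∃ b : G, ⁅a, b⁆ = z} := by
      rw [γ_succ, Subgroup.commutator_le]
      exact fun a ha b _ => Subgroup.subset_closure ⟨a, ha, b, rfl⟩
    suffices h : g ∈ γ G (r + 1) ∧ cls (r + 1) g ∈ W G (r + 1) from h.2
    have hg' := hle hg
    clear hg hle
    induction hg' using Subgroup.closure_induction with
    | mem z hz =>
      obtain ⟨a, ha, b, rfl⟩ := hz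
      have hb : b ∈ γ G 0 := Subgroup.mem_top b
      have h1 := comm_mem ha hb
      have h2 := lie_cls ha hb
      rw [Nat.add_zero] at h1 h2
      exact ⟨h1, h2 ▸ lie_mem_W (ih a ha) _⟩
    | one => exact ⟨one_mem _, by rw [cls_one]; exact zero_mem _⟩
    | mul a b _ _ h1 h2 =>
      exact ⟨mul_mem h1.1 h2.1, by rw [cls_mul h1.1 h2.1]; exact add_mem h1.2 h2.2⟩
    | inv a _ h1 => exact ⟨inv_mem h1.1, by rw [cls_inv h1.1]; exact neg_mem h1.2⟩

theorem γ_le_of_W_eq_bot {r : ℕ} (h : W G r = ⊥) : γ G r ≤ γ G (r + 1) := by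
  intro g hg
  have h' := cls_mem_W r g hg
  rw [h, AddSubgroup.mem_bot] at h'
  rw [← q_eq_zero_iff hg]
  exact DirectSum.of_injective r (h'.trans (map_zero _).symm)

theorem card_nsmul [Finite G] (u : LieR G) : Nat.card G • u = 0 := by
  induction u using lie_induction with
  | h0 => simp
  | hadd a b ha hb => rw [smul_add, ha, hb, add_zero]
  | hcls n g hg =>
    have h : ∀ m : ℕ, cls n (g ^ m) = m • cls n g := by
      intro m
      induction m with
      | zero => rw [pow_zero, cls_one, zero_smul]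
      | succ m ih => rw [pow_succ, cls_mul (pow_mem hg m) hg, ih, succ_nsmul]
    rw [← h, pow_card_eq_one', cls_one]

end CfsgLib.Solvable.AssocLieRing
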