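import Mathlib.Algebra.Lie.Basic
import Mathlib.Algebra.BigOperators.Ring.Finset
import Mathlib.Data.ZMod.Basic
import Mathlib.Algebra.Field.ZMod
import Mathlib.Tactic.Ring
import Mathlib.Tactic.Abel
import Mathlib.Tactic.LinearCombination

/-!
The theorem of Kreknin and Kostrikin: in a Lie ring graded by `ZMod p` (`p` prime) with trivial
component of degree zero, every left-normed product of more than
`1 + (p-1) + ... + (p-1)^(n-1)` homogeneous elements vanishes, `n = 2^(p-1) - 1`.

The grading is only a family of additive subgroups with `[M i, M j] ⊆ M (i + j)`: no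
independence is needed.
-/

set_option autoImplicit false

namespace CfsgLib.Solvable.KrekninKostrikin

variable {M : Type*} [LieRing M] {p : ℕ}

/-- A family closed under the bracket, compatibly with degrees. -/
def Closed (N : ZMod p → AddSubgroup M) : Prop :=
  ∀ i j : ZMod p, ∀ x ∈ N i, ∀ y ∈ N j, ⁅x, y⁆ ∈ N (i + j)

/-- The degree-`k` part of the product of two families. -/
def br (A B : ZMod p → AddSubgroup M) (k : ZMod p) : AddSubgroup M :=
  AddSubgroup.closure {z | ∃ i j : ZMod p, i + j = k ∧ ∃ a ∈ A i, ∃ b ∈ B j, ⁅a, b⁆ = z}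

theorem lie_mem_br {A B : ZMod p → AddSubgroup M} {i j : ZMod p} {a b : M} (ha : a ∈ A i)
    (hb : b ∈ B j) : ⁅a, b⁆ ∈ br A B (i + j) :=
  AddSubgroup.subset_closure ⟨i, j, rfl, a, ha, b, hb, rfl⟩

theorem br_le {A B : ZMod p → AddSubgroup M} {k : ZMod p} {T : AddSubgroup M}
    (h : ∀ i j : ZMod p, i + j = k → ∀ a ∈ A i, ∀ b ∈ B j, ⁅a, b⁆ ∈ T) : br A B k ≤ T :=
  (AddSubgroup.closure_le T).mpr (by rintro z ⟨i, j, hij, a, ha, b, hb, rfl⟩; exact h i j hij a ha b hb)

/-- The derived series of a family. -/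
def D (N : ZMod p → AddSubgroup M) : ℕ → ZMod p → AddSubgroup M
  | 0 => N
  | t + 1 => br (D N t) (D N t)

/-- The lower central series of a family (`LCS N r` has weight `r + 1`). -/
def LCS (N : ZMod p → AddSubgroup M) : ℕ → ZMod p → AddSubgroup M
  | 0 => N
  | r + 1 => br (LCS N r) N

variable {N : ZMod p → AddSubgroup M}

theorem br_mono {A A' B B' : ZMod p → AddSubgroup M} (hA : ∀ k, A k ≤ A' k) (hB : ∀ k, B k ≤ B' k)
    (k : ZMod p) : br A B k ≤ br A' B' k :=
  br_le fun i j hij _ ha _ hb => hij ▸ lie_mem_br (hA i ha) (hB j hb)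

theorem D_succ_le (hN : Closed N) : ∀ (t : ℕ) (k : ZMod p), D N (t + 1) k ≤ D N t k
  | 0, _ => br_le fun i j hij a ha b hb => hij ▸ hN i j a ha b hb
  | t + 1, k => br_mono (D_succ_le hN t) (D_succ_le hN t) k

theorem D_antitone (hN : Closed N) {t s : ℕ} (h : t ≤ s) (k : ZMod p) : D N s k ≤ D N t k := by
  induction h with
  | refl => exact le_rfl
  | step _ ih => exact (D_succ_le hN _ k).trans ih

theorem D_le (hN : Closed N) (t : ℕ) (k : ZMod p) : D N t k ≤ N k :=
  D_antitone hN (Nat.zero_le t) k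

theorem D_closed (hN : Closed N) (t : ℕ) : Closed (D N t) :=
  fun i j _ hx _ hy => D_succ_le hN t (i + j) (lie_mem_br hx hy)

theorem D_add (t s : ℕ) : D (D N t) s = D N (t + s) := by
  induction s with
  | zero => rfl
  | succ s ih => show br (D (D N t) s) (D (D N t) s) = _; rw [ih]; rfl

/-- Each derived term is an ideal. -/
theorem D_ideal (hN : Closed N) : ∀ (t : ℕ) (i j : ZMod p),
    ∀ x ∈ D N t i, ∀ y ∈ N j, ⁅x, y⁆ ∈ D N t (i + j)
  | 0, i, j, x, hx, y, hy => hN i j x hx y hy
  | t + 1, i, j, x, hx, y, hy => by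
    induction hx using AddSubgroup.closure_induction with
    | mem z hz =>
      obtain ⟨i₁, i₂, rfl, a, ha, b, hb, rfl⟩ := hz
      have e : ⁅⁅a, b⁆, y⁆ = ⁅⁅a, y⁆, b⁆ + ⁅a, ⁅b, y⁆⁆ := by
        rw [leibniz_lie a b y, ← lie_skew ⁅a, y⁆ b]; abel
      rw [e]
      refine add_mem ?_ ?_
      · have := lie_mem_br (D_ideal hN t i₁ j a ha y hy) hb
        rwa [show i₁ + j + i₂ = i₁ + i₂ + j by ring] at this
      · have := lie_mem_br ha (D_ideal hN t i₂ j b hb y hy)
        rwa [← add_assoc] at this
    | zero => simp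
    | add a b _ _ ha hb => rw [add_lie]; exact add_mem ha hb
    | neg a _ ha => rw [neg_lie]; exact neg_mem ha

theorem LCS_succ_le (hN : Closed N) : ∀ (r : ℕ) (k : ZMod p), LCS N (r + 1) k ≤ LCS N r k
  | 0, _ => br_le fun i j hij a ha b hb => hij ▸ hN i j a ha b hb
  | r + 1, k => br_mono (LCS_succ_le hN r) (fun _ => le_rfl) k

theorem LCS_antitone (hN : Closed N) {t s : ℕ} (h : t ≤ s) (k : ZMod p) :
    LCS N s k ≤ LCS N t k := by
  induction h with
  | refl => exact le_rfl
  | step _ ih => exact (LCS_succ_le hN _ k).trans ih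

theorem LCS_mul : ∀ (b a : ℕ) (i j : ZMod p),
    ∀ x ∈ LCS N a i, ∀ y ∈ LCS N b j, ⁅x, y⁆ ∈ LCS N (a + b + 1) (i + j)
  | 0, a, i, j, x, hx, y, hy => lie_mem_br hx hy
  | b + 1, a, i, j, x, hx, y, hy => by
    induction hy using AddSubgroup.closure_induction with
    | mem z hz =>
      obtain ⟨j₁, j₂, rfl, u, hu, v, hv, rfl⟩ := hz
      have e : ⁅x, ⁅u, v⁆⁆ = ⁅⁅x, u⁆, v⁆ - ⁅⁅x, v⁆, u⁆ := by
        rw [leibniz_lie x u v, ← lie_skew u ⁅x, v⁆]; abel
      rw [e]
      refine sub_mem ?_ ?_
      · have h1 := LCS_mul b a i j₁ x hx u hu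
        have h2 := lie_mem_br (B := N) h1 hv
        show _ ∈ br (LCS N (a + b + 1)) N _
        rw [← add_assoc]
        exact h2
      · have h1 : ⁅x, v⁆ ∈ LCS N (a + 1) (i + j₂) := lie_mem_br hx hv
        have h2 := LCS_mul b (a + 1) (i + j₂) j₁ _ h1 u hu
        rwa [show a + 1 + b + 1 = a + (b + 1) + 1 by ring,
          show i + j₂ + j₁ = i + (j₁ + j₂) by ring] at h2
    | zero => simp
    | add a b _ _ ha hb => rw [lie_add]; exact add_mem ha hb
    | neg a _ ha => rw [lie_neg]; exact neg_mem ha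

/-- Membership in the subring generated by the components of degree `> s`. -/
inductive InGen (N : ZMod p → AddSubgroup M) (s : ℕ) : ZMod p → M → Prop
  | letter {l : ZMod p} {x : M} : s < l.val → x ∈ N l → InGen N s l x
  | zero (k : ZMod p) : InGen N s k 0
  | add {k : ZMod p} {x y : M} : InGen N s k x → InGen N s k y → InGen N s k (x + y)
  | neg {k : ZMod p} {x : M} : InGen N s k x → InGen N s k (-x)
  | brk {k l : ZMod p} {x y : M} : InGen N s k x → s < l.val → y ∈ N l → InGen N s (k + l) ⁅x, y⁆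

theorem InGen.sub {s : ℕ} {k : ZMod p} {x y : M} (hx : InGen N s k x) (hy : InGen N s k y) :
    InGen N s k (x - y) := by
  rw [sub_eq_add_neg]; exact hx.add hy.neg

theorem InGen.lie {s : ℕ} {j : ZMod p} {y : M} (hy : InGen N s j y) :
    ∀ {i : ZMod p} {x : M}, InGen N s i x → InGen N s (i + j) ⁅x, y⁆ := by
  induction hy with
  | letter hl hy => intro i x hx; exact hx.brk hl hy
  | zero k => intro i x _; rw [lie_zero]; exact .zero _
  | add _ _ ih1 ih2 => intro i x hx; rw [lie_add]; exact (ih1 hx).add (ih2 hx)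
  | neg _ ih => intro i x hx; rw [lie_neg]; exact (ih hx).neg
  | @brk k l u v _ hl hv ih =>
    intro i x hx
    have e : ⁅x, ⁅u, v⁆⁆ = ⁅⁅x, u⁆, v⁆ - ⁅⁅x, v⁆, u⁆ := by
      rw [leibniz_lie x u v, ← lie_skew u ⁅x, v⁆]; abel
    rw [e]
    refine InGen.sub ?_ ?_
    · rw [← add_assoc]; exact (ih hx).brk hl hv
    · have := ih (hx.brk hl hv)
      rwa [show i + l + k = i + (k + l) by ring] at this

theorem InGen.mem (hN : Closed N) {s : ℕ} {k : ZMod p} {x : M} (hx : InGen N s k x) : x ∈ N k := by
  induction hx with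
  | letter _ h => exact h
  | zero k => exact zero_mem _
  | add _ _ h1 h2 => exact add_mem h1 h2
  | neg _ h => exact neg_mem h
  | brk _ _ hy h => exact hN _ _ _ h _ hy

section Kreknin

variable [Fact p.Prime] (hzero : ∀ x ∈ N 0, x = (0 : M)) (hN : Closed N)
include hzero hN

/-- The key step of Kreknin's argument. -/
theorem lie_inGen {s : ℕ} (hs : s + 1 < p) {j : ZMod p} {b : M} (hb : InGen N s j b) :
    ∀ {i : ZMod p} {a : M}, a ∈ N i → i.val ≤ s → i + j = ((s + 1 : ℕ) : ZMod p) →
      InGen N (s + 1) (i + j) ⁅a, b⁆ := by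
  have hp : p.Prime := Fact.out
  induction hb with
  | @letter l x hl hx =>
    intro i a ha hi hij
    by_cases hi0 : i = 0
    · subst hi0
      rw [hzero a ha, zero_lie]; exact .zero _
    exfalso
    have hipos : 0 < i.val := Nat.pos_of_ne_zero fun h => hi0 ((ZMod.val_eq_zero i).mp h)
    have e : l = ((s + 1 - i.val : ℕ) : ZMod p) := by
      rw [Nat.cast_sub (by omega), ZMod.natCast_zmod_val]
      exact eq_sub_of_add_eq' hij
    rw [e, ZMod.val_cast_of_lt (by omega)] at hl
    omega
  | zero k => intro i a _ _ _; rw [lie_zero]; exact .zero _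
  | add _ _ ih1 ih2 =>
    intro i a ha hi hij
    rw [lie_add]; exact (ih1 ha hi hij).add (ih2 ha hi hij)
  | neg _ ih => intro i a ha hi hij; rw [lie_neg]; exact (ih ha hi hij).neg
  | @brk k l u v hu hl hv ih =>
    intro i a ha hi hij
    have hu' : u ∈ N k := hu.mem hN
    have hlp : l.val < p := ZMod.val_lt l
    have hip : i.val < p := ZMod.val_lt i
    have e : ⁅a, ⁅u, v⁆⁆ = ⁅⁅a, u⁆, v⁆ - ⁅⁅a, v⁆, u⁆ := by
      rw [leibniz_lie a u v, ← lie_skew u ⁅a, v⁆]; abel
    rw [e]
    refine InGen.sub ?_ ?_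
    · rw [← add_assoc]
      by_cases hls : l.val = s + 1
      · have h0 : i + k = 0 := by
          have hl' : l = ((s + 1 : ℕ) : ZMod p) := by rw [← hls, ZMod.natCast_zmod_val]
          rw [← hl', ← add_assoc] at hij
          exact add_eq_right.mp hij
        have := hN i k a ha u hu'
        rw [h0] at this
        rw [hzero _ this, zero_lie]
        exact .zero _
      · have e2 : i + k = ((p + (s + 1) - l.val : ℕ) : ZMod p) := by
          rw [Nat.cast_sub (by omega), Nat.cast_add, ZMod.natCast_self, zero_add,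
            ZMod.natCast_zmod_val, ← hij]
          ring
        refine InGen.brk (.letter ?_ (hN i k a ha u hu')) (by omega) hv
        rw [e2, ZMod.val_cast_of_lt (by omega)]
        omega
    · rw [show i + (k + l) = i + l + k by ring]
      by_cases hil0 : i + l = 0
      · have := hN i l a ha v hv
        rw [hil0] at this
        rw [hzero _ this, zero_lie]
        exact .zero _
      by_cases hlt : i.val + l.val < p
      · by_cases hi0 : i = 0
        · subst hi0
          rw [hzero a ha, zero_lie, zero_lie]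
          exact .zero _
        have hipos : 0 < i.val := Nat.pos_of_ne_zero fun h => hi0 ((ZMod.val_eq_zero i).mp h)
        have e3 : k = ((p + (s + 1) - (i.val + l.val) : ℕ) : ZMod p) := by
          rw [Nat.cast_sub (by omega), Nat.cast_add, ZMod.natCast_self, zero_add, Nat.cast_add i.val,
            ZMod.natCast_zmod_val, ZMod.natCast_zmod_val, ← hij]
          ring
        refine InGen.brk (.letter ?_ (hN i l a ha v hv)) ?_ hu'
        · rw [ZMod.val_add_of_lt hlt]; omega
        · rw [e3, ZMod.val_cast_of_lt (by omega)]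
          omega
      · refine ih (hN i l a ha v hv) ?_ (by rw [← hij]; ring)
        rw [ZMod.val_add_of_le (not_lt.mp hlt)]
        omega

end Kreknin

/-- **Kreknin**: the derived series terminates. -/
theorem kreknin [Fact p.Prime] : ∀ (s : ℕ), s < p → ∀ (N : ZMod p → AddSubgroup M), Closed N →
    (∀ x ∈ N 0, x = 0) → ∀ (k : ZMod p), ∀ x ∈ D N (2 ^ s - 1) k, InGen N s k x := by
  intro s
  induction s with
  | zero =>
    intro _ N hN hzero k x hx
    rw [pow_zero, Nat.sub_self] at hx
    by_cases hk : k = 0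
    · subst hk
      rw [hzero x hx]; exact .zero _
    · exact .letter (Nat.pos_of_ne_zero fun h => hk ((ZMod.val_eq_zero k).mp h)) hx
  | succ s ih =>
    intro hs N hN hzero
    set t := 2 ^ s - 1 with ht
    have hexp : 2 ^ (s + 1) - 1 = t + 1 + t := by
      have := Nat.one_le_two_pow (n := s)
      rw [pow_succ]; omega
    set N' := D N (t + 1) with hN'
    have hN'c : Closed N' := D_closed hN _
    have hstep : ∀ (k : ZMod p), s < k.val → ∀ x ∈ N' k, InGen N (s + 1) k x := by
      intro k hk x hx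
      by_cases hks : s + 1 < k.val
      · exact .letter hks (D_le hN _ k hx)
      have hkv : k.val = s + 1 := by omega
      induction hx using AddSubgroup.closure_induction with
      | mem z hz =>
        obtain ⟨i, j, rfl, a, ha, b, hb, rfl⟩ := hz
        have ha' : a ∈ N i := D_le hN _ i ha
        have hbg := ih (by omega) N hN hzero j b hb
        have hij : i + j = ((s + 1 : ℕ) : ZMod p) := by rw [← hkv, ZMod.natCast_zmod_val]
        have hip : i.val < p := ZMod.val_lt i
        have hjp : j.val < p := ZMod.val_lt j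
        rcases le_or_gt i.val s with hi | hi
        · exact lie_inGen hzero hN (by omega) hbg ha' hi hij
        by_cases hi' : i.val = s + 1
        · have : j = 0 := by
            have hi'' : i = ((s + 1 : ℕ) : ZMod p) := by rw [← hi', ZMod.natCast_zmod_val]
            rw [← hi''] at hij
            exact add_eq_left.mp hij
          subst this
          rw [hzero b (D_le hN _ _ hb), lie_zero]
          exact .zero _
        refine InGen.brk (.letter (by omega) ha') ?_ (D_le hN _ j hb)
        have e : j = ((p + (s + 1) - i.val : ℕ) : ZMod p) := by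
          rw [Nat.cast_sub (by omega), Nat.cast_add, ZMod.natCast_self, zero_add,
            ZMod.natCast_zmod_val, ← hij]
          ring
        rw [e, ZMod.val_cast_of_lt (by omega)]
        omega
      | zero => exact .zero _
      | add a b _ _ h1 h2 => exact h1.add h2
      | neg a _ h1 => exact h1.neg
    intro k x hx
    rw [hexp, ← D_add] at hx
    have h := ih (by omega) N' hN'c (fun y hy => hzero y (D_le hN _ 0 hy)) k x hx
    clear hx
    induction h with
    | letter hl hy => exact hstep _ hl _ hy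
    | zero k => exact .zero k
    | add _ _ h1 h2 => exact h1.add h2
    | neg _ h1 => exact h1.neg
    | brk _ hl hy h1 => exact (hstep _ hl _ hy).lie h1

theorem D_eq_bot [Fact p.Prime] (hN : Closed N) (hzero : ∀ x ∈ N 0, x = 0) (k : ZMod p) :
    D N (2 ^ (p - 1) - 1) k = ⊥ := by
  have hp : p.Prime := Fact.out
  rw [eq_bot_iff]
  intro x hx
  rw [AddSubgroup.mem_bot]
  have h := kreknin (p - 1) (by have := hp.pos; omega) N hN hzero k x hx
  clear hx
  induction h with
  | @letter l x hl hx => have := ZMod.val_lt l; omega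
  | zero k => rfl
  | add _ _ h1 h2 => rw [h1, h2, add_zero]
  | neg _ h1 => rw [h1, neg_zero]
  | brk _ _ _ h1 => rw [h1, zero_lie]

section Kostrikin

theorem zmod_two_cases : ∀ i : ZMod 2, i = 0 ∨ i = 1 := by decide

theorem zmod_three_cases : ∀ i₁ i₂ j : ZMod 3, i₁ ≠ 0 → i₂ ≠ 0 → j ≠ 0 →
    i₁ + i₂ = 0 ∨ i₁ + i₂ + j = 0 ∨ (i₁ + j = 0 ∧ i₂ + j = 0) := by decide

/-- A left-normed product with a list of weighted homogeneous elements. -/
def mon (a : M) (l : List (ℕ × ZMod p × M)) : M :=
  l.foldl (fun u e => ⁅u, e.2.2⁆) a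

/-- The total weight. -/
def wt (l : List (ℕ × ZMod p × M)) : ℕ :=
  (l.map fun e => e.1 + 1).sum

/-- The total degree. -/
def dg (l : List (ℕ × ZMod p × M)) : ZMod p :=
  (l.map fun e => e.2.1).sum

/-- All entries are where they claim to be. -/
def Ok (N : ZMod p → AddSubgroup M) (l : List (ℕ × ZMod p × M)) : Prop :=
  ∀ e ∈ l, e.2.2 ∈ LCS N e.1 e.2.1

theorem mon_cons (a : M) (e : ℕ × ZMod p × M) (l : List (ℕ × ZMod p × M)) :
    mon a (e :: l) = mon ⁅a, e.2.2⁆ l := rfl

theorem mon_append (a : M) (l l' : List (ℕ × ZMod p × M)) :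
    mon a (l ++ l') = mon (mon a l) l' := List.foldl_append

theorem mon_zero : ∀ l : List (ℕ × ZMod p × M), mon (0 : M) l = 0
  | [] => rfl
  | e :: l => by rw [mon_cons, zero_lie]; exact mon_zero l

theorem mon_sub : ∀ (l : List (ℕ × ZMod p × M)) (a b : M), mon (a - b) l = mon a l - mon b l
  | [], _, _ => rfl
  | e :: l, a, b => by rw [mon_cons, sub_lie]; exact mon_sub l _ _

theorem mon_add (l : List (ℕ × ZMod p × M)) (u v : M) : mon (u + v) l = mon u l + mon v l := by
  have := mon_sub l u (-v)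
  have h0 := mon_sub l (0 : M) v
  rw [mon_zero, zero_sub, zero_sub] at h0
  rw [sub_neg_eq_add, h0, sub_neg_eq_add] at this
  exact this

theorem mon_mem (hN : Closed N) : ∀ (l : List (ℕ × ZMod p × M)), Ok N l → ∀ (k : ZMod p) (a : M),
    ∀ (n : ℕ), a ∈ D N n k → mon a l ∈ D N n (k + dg l)
  | [], _, k, a, n, ha => by
    rw [show dg ([] : List (ℕ × ZMod p × M)) = 0 from rfl, add_zero]; exact ha
  | e :: l, hl, k, a, n, ha => by
    have he : e.2.2 ∈ N e.2.1 := LCS_antitone hN (Nat.zero_le _) _ (hl e List.mem_cons_self)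
    have h := mon_mem hN l (fun x hx => hl x (List.mem_cons_of_mem _ hx)) (k + e.2.1) ⁅a, e.2.2⁆ n
      (D_ideal hN n _ _ a ha _ he)
    rw [mon_cons]
    rwa [show dg (e :: l) = e.2.1 + dg l from List.sum_cons, ← add_assoc]

theorem exists_subset_sum [Fact p.Prime] : ∀ (l : List (ℕ × ZMod p × M)),
    (∀ e ∈ l, e.2.1 ≠ 0) → ∀ S : Finset (ZMod p), (∀ t, t ∈ S ↔ ∃ l' : List (ℕ × ZMod p × M),
      l'.Sublist l ∧ dg l' = t) → min p (l.length + 1) ≤ S.card := by
  classical
  intro l
  induction l with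
  | nil =>
    intro _ S hS
    exact le_trans (min_le_right _ _)
      (Finset.card_pos.mpr ⟨0, (hS 0).mpr ⟨[], List.Sublist.refl _, rfl⟩⟩)
  | cons e l ih =>
    intro hne S hS
    obtain ⟨T, hT⟩ : ∃ T : Finset (ZMod p), ∀ t, t ∈ T ↔ ∃ l' : List (ℕ × ZMod p × M),
        l'.Sublist l ∧ dg l' = t := ⟨Finset.univ.filter fun t => ∃ l' : List (ℕ × ZMod p × M),
          l'.Sublist l ∧ dg l' = t, fun t => by simp⟩
    have h1 := ih (fun x hx => hne x (List.mem_cons_of_mem _ hx)) T hT
    have hsub : T ⊆ S := fun t ht => by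
      obtain ⟨l', hl', e'⟩ := (hT t).mp ht
      exact (hS t).mpr ⟨l', hl'.cons _, e'⟩
    have hshift : ∀ t ∈ T, t + e.2.1 ∈ S := fun t ht => by
      obtain ⟨l', hl', e'⟩ := (hT t).mp ht
      refine (hS _).mpr ⟨e :: l', hl'.cons_cons _, ?_⟩
      rw [show dg (e :: l') = e.2.1 + dg l' from List.sum_cons, e', add_comm]
    by_cases hfull : ∀ t ∈ T, t + e.2.1 ∈ T
    · have hall : ∀ (m : ℕ), (m : ZMod p) * e.2.1 ∈ T := by
        intro m
        induction m with
        | zero => rw [Nat.cast_zero, zero_mul]; exact (hT 0).mpr ⟨[], List.nil_sublist _, rfl⟩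
        | succ m hm => rw [Nat.cast_succ, add_mul, one_mul]; exact hfull _ hm
      have htop : T = Finset.univ := Finset.eq_univ_of_forall fun t => by
        have h := hall (t * (e.2.1)⁻¹).val
        rwa [ZMod.natCast_zmod_val, mul_assoc, inv_mul_cancel₀ (hne e List.mem_cons_self), mul_one]
          at h
      calc min p ((e :: l).length + 1) ≤ p := min_le_left _ _
        _ = T.card := by rw [htop, Finset.card_univ, ZMod.card]
        _ ≤ S.card := Finset.card_le_card hsub
    · push Not at hfull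
      obtain ⟨t, ht, ht'⟩ := hfull
      have hlt : T.card < S.card :=
        Finset.card_lt_card (Finset.ssubset_iff_subset_ne.mpr ⟨hsub, fun h => ht' (h ▸ hshift t ht)⟩)
      rw [List.length_cons]
      omega

/-- Everything of degree-free form: the union of the components. -/
def total (A : ZMod p → AddSubgroup M) : AddSubgroup M :=
  ⨆ k, A k

theorem mem_total {A : ZMod p → AddSubgroup M} {k : ZMod p} {x : M} (h : x ∈ A k) :
    x ∈ total A :=
  le_iSup A k h

theorem total_lie (n : ℕ) {x y : M} (hx : x ∈ total (D N n)) (hy : y ∈ total (D N n)) :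
    ⁅x, y⁆ ∈ total (D N (n + 1)) := by
  refine AddSubgroup.iSup_induction (D N n) (C := fun x => ⁅x, y⁆ ∈ total (D N (n + 1))) hx
    (fun i a ha => ?_) (by rw [zero_lie]; exact zero_mem _)
    (fun u v hu hv => by rw [add_lie]; exact add_mem hu hv)
  refine AddSubgroup.iSup_induction (D N n) (C := fun y => ⁅a, y⁆ ∈ total (D N (n + 1))) hy
    (fun j b hb => ?_) (by rw [lie_zero]; exact zero_mem _)
    (fun u v hu hv => by rw [lie_add]; exact add_mem hu hv)
  exact mem_total (A := D N (n + 1)) (lie_mem_br ha hb)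

theorem total_mon (hN : Closed N) (n : ℕ) (l : List (ℕ × ZMod p × M)) (hl : Ok N l) {x : M}
    (hx : x ∈ total (D N n)) : mon x l ∈ total (D N n) := by
  refine AddSubgroup.iSup_induction (D N n) (C := fun x => mon x l ∈ total (D N n)) hx
    (fun i a ha => mem_total (mon_mem hN l hl i a n ha)) (by rw [mon_zero]; exact zero_mem _)
    (fun u v hu hv => by rw [mon_add]; exact add_mem hu hv)

variable [Fact p.Prime] (hzero : ∀ x ∈ N 0, x = (0 : M)) (hN : Closed N)
include hzero hN

theorem mon_vanish {n c : ℕ} (hc : ∀ k, LCS N c k ≤ total (D N n)) :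
    ∀ (q : ℕ) (l : List (ℕ × ZMod p × M)), l.length = q → Ok N l → (p - 2) * c < wt l →
      ∀ (k : ZMod p) (a : M), a ∈ D N n k → mon a l ∈ total (D N (n + 1)) := by
  classical
  intro q
  induction q using Nat.strong_induction_on with
  | _ q ih =>
  intro l hlq hl hw k a ha
  -- a heavy entry lies in the derived term
  by_cases hbig : ∃ e ∈ l, c ≤ e.1
  · obtain ⟨e, he, hec⟩ := hbig
    obtain ⟨l₁, l₂, rfl⟩ := List.append_of_mem he
    rw [mon_append, mon_cons]
    refine total_mon hN (n + 1) l₂ (fun x hx => hl x (by simp [hx])) (total_lie n ?_ ?_)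
    · exact mem_total (mon_mem hN l₁ (fun x hx => hl x (by simp [hx])) k a n ha)
    · exact hc _ (LCS_antitone hN hec _ (hl e he))
  push Not at hbig
  -- hence the list is long
  have hlen : p - 1 ≤ l.length := by
    by_contra hlt
    have h1 : wt l ≤ l.length * c := by
      have := List.sum_le_card_nsmul (l.map fun e => e.1 + 1) c (by
        intro x hx
        obtain ⟨e, he, rfl⟩ := List.mem_map.mp hx
        exact hbig e he)
      rwa [List.length_map, smul_eq_mul] at this
    have h2 : l.length * c ≤ (p - 2) * c := Nat.mul_le_mul_right c (by omega)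
    omega
  by_cases hdeg : ∃ e ∈ l, e.2.1 = 0
  · obtain ⟨e, he, he0⟩ := hdeg
    obtain ⟨l₁, l₂, rfl⟩ := List.append_of_mem he
    have h := LCS_antitone hN (Nat.zero_le _) _ (hl e he)
    rw [he0] at h
    rw [mon_append, mon_cons, hzero _ h, lie_zero, mon_zero]
    exact zero_mem _
  push Not at hdeg
  -- entries may be permuted
  have hperm : ∀ {l₁ l₂ : List (ℕ × ZMod p × M)}, l₁.Perm l₂ → ∀ pre : List (ℕ × ZMod p × M),
      (pre ++ l₁).length = q → Ok N (pre ++ l₁) → (p - 2) * c < wt (pre ++ l₁) →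
        mon a (pre ++ l₁) - mon a (pre ++ l₂) ∈ total (D N (n + 1)) := by
    intro l₁ l₂ hp'
    induction hp' with
    | nil => intro pre _ _ _; rw [sub_self]; exact zero_mem (total (D N (n + 1)))
    | @cons x t₁ t₂ hperm' h =>
      intro pre hq hok hwt
      have := h (pre ++ [x]) (by simpa using hq) (by simpa [Ok] using hok)
        (by simpa [wt] using hwt)
      simpa using this
    | @swap x y t =>
      intro pre hq hok hwt
      set z : ℕ × ZMod p × M := (y.1 + x.1 + 1, y.2.1 + x.2.1, ⁅y.2.2, x.2.2⁆) with hz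
      have hzmem : z.2.2 ∈ LCS N z.1 z.2.1 :=
        LCS_mul _ _ _ _ _ (hok y (by simp)) _ (hok x (by simp))
      have e : mon a (pre ++ y :: x :: t) - mon a (pre ++ x :: y :: t) = mon a (pre ++ z :: t) := by
        rw [mon_append, mon_append, mon_append, mon_cons, mon_cons, mon_cons, mon_cons, mon_cons,
          ← mon_sub]
        congr 1
        show ⁅⁅mon a pre, y.2.2⁆, x.2.2⁆ - ⁅⁅mon a pre, x.2.2⁆, y.2.2⁆ = ⁅mon a pre, ⁅y.2.2, x.2.2⁆⁆
        rw [leibniz_lie (mon a pre) y.2.2 x.2.2, ← lie_skew y.2.2 ⁅mon a pre, x.2.2⁆]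
        abel
      rw [e]
      simp only [List.length_append, List.length_cons] at hq
      refine ih (pre.length + (t.length + 1)) (by omega) _ (by simp) (fun w hw' => ?_) ?_ k a ha
      · simp only [List.mem_append, List.mem_cons] at hw'
        rcases hw' with hw' | rfl | hw'
        · exact hok w (by simp [hw'])
        · exact hzmem
        · exact hok w (by simp [hw'])
      · simp only [wt, List.map_append, List.map_cons, List.sum_append, List.sum_cons, hz] at hwt ⊢
        omega
    | @trans t₁ t₂ t₃ h12 _ h1 h2 =>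
      intro pre hq hok hwt
      have hp2 : (pre ++ t₁).Perm (pre ++ t₂) := List.Perm.append_left pre h12
      have hA := h1 pre hq hok hwt
      have hB := h2 pre (hp2.length_eq ▸ hq) (fun w hw' => hok w (hp2.mem_iff.mpr hw'))
        (by have h := (hp2.map fun e => e.1 + 1).sum_eq; unfold wt at hwt ⊢; omega)
      simpa using add_mem hA hB
  -- some subset of the degrees cancels the degree of `a`
  let S : Finset (ZMod p) := Finset.univ.filter fun t => ∃ l' : List (ℕ × ZMod p × M),
    l'.Sublist l ∧ dg l' = t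
  have hS := exists_subset_sum l hdeg S (fun t => by simp [S])
  have hfull : S = Finset.univ := Finset.eq_univ_of_card S (le_antisymm (Finset.card_le_univ S) (by
    rw [ZMod.card]; have := (Fact.out : p.Prime).two_le; omega))
  have hk : -k ∈ S := hfull ▸ Finset.mem_univ _
  obtain ⟨l', hl', hsum⟩ : ∃ l' : List (ℕ × ZMod p × M), l'.Sublist l ∧ dg l' = -k := by
    simpa [S] using hk
  obtain ⟨l'', hperm'⟩ := hl'.exists_perm_append
  have h0 : mon a (l' ++ l'') = 0 := by
    have h := mon_mem hN l' (fun x hx => hl x (hl'.subset hx)) k a n ha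
    rw [hsum, add_neg_cancel] at h
    rw [mon_append, hzero _ (D_le hN _ _ h), mon_zero]
  have h := hperm hperm' [] (by simpa using hlq) (by simpa using hl) (by simpa using hw)
  simpa [h0] using h

omit hzero [Fact p.Prime] in
theorem LCS_split (m : ℕ) : ∀ (r : ℕ) (k : ZMod p), LCS N (m + r) k ≤ AddSubgroup.closure
    {z | ∃ i, ∃ a ∈ LCS N m i, ∃ l : List (ℕ × ZMod p × M), Ok N l ∧ wt l = r ∧ mon a l = z}
  | 0, k => fun x hx => AddSubgroup.subset_closure
      ⟨k, x, hx, [], fun _ h => (List.not_mem_nil h).elim, rfl, rfl⟩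
  | r + 1, k => br_le fun i j _ u hu b hb => by
    have hu' := LCS_split m r i hu
    clear hu
    induction hu' using AddSubgroup.closure_induction with
    | mem z hz =>
      obtain ⟨i', a, ha, l, hl, hw, rfl⟩ := hz
      refine AddSubgroup.subset_closure ⟨i', a, ha, l ++ [((0 : ℕ), j, b)], ?_, ?_, ?_⟩
      · intro e he
        rcases List.mem_append.mp he with h | h
        · exact hl e h
        · rw [List.mem_singleton] at h; subst h; exact hb
      · simp [wt, ← hw]
      · rw [mon_append]; rfl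
    | zero => rw [zero_lie]; exact zero_mem _
    | add u v _ _ h1 h2 => rw [add_lie]; exact add_mem h1 h2
    | neg u _ h1 => rw [neg_lie]; exact neg_mem h1

/-- **Kostrikin**: solvability of length `n` bounds the class. -/
theorem LCS_le_total : ∀ (n : ℕ) (k : ZMod p),
    LCS N (∑ i ∈ Finset.range n, (p - 1) ^ i) k ≤ total (D N n)
  | 0, k => fun x hx => mem_total (A := D N 0) hx
  | n + 1, k => by
    set c := ∑ i ∈ Finset.range n, (p - 1) ^ i with hcdef
    have hc := fun k => LCS_le_total n k
    have e : ∑ i ∈ Finset.range (n + 1), (p - 1) ^ i = c + ((p - 2) * c + 1) := by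
      rw [Finset.sum_range_succ', pow_zero, Finset.sum_congr rfl (fun i _ => pow_succ' (p - 1) i), ← Finset.mul_sum, ← hcdef]
      obtain ⟨m, rfl⟩ : ∃ m, p = m + 2 := ⟨p - 2, by have := (Fact.out : p.Prime).two_le; omega⟩
      simp only [Nat.add_sub_cancel, show m + 2 - 1 = m + 1 by omega]
      ring
    rw [e]
    refine (LCS_split hN c _ k).trans ((AddSubgroup.closure_le _).mpr ?_)
    rintro z ⟨i, a, ha, l, hl, hw, rfl⟩
    have ha' := hc i ha
    exact AddSubgroup.iSup_induction (D N n) (C := fun a => mon a l ∈ total (D N (n + 1))) ha'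
      (fun j b hb => mon_vanish hzero hN hc _ l rfl hl (by rw [← hcdef]; omega) j b hb)
      (by rw [mon_zero]; exact zero_mem _)
      (fun u v hu hv => by rw [mon_add]; exact add_mem hu hv)

/-- **Kreknin–Kostrikin**. -/
theorem LCS_eq_bot (k : ZMod p) :
    LCS N (∑ i ∈ Finset.range (2 ^ (p - 1) - 1), (p - 1) ^ i) k = ⊥ := by
  refine le_bot_iff.mp ((LCS_le_total hzero hN _ k).trans ?_)
  exact iSup_le fun j => (D_eq_bot hN hzero j).le

/-- For `p = 2` the ring is abelian. -/
theorem LCS_one_eq_bot (h2 : p = 2) (k : ZMod p) : LCS N 1 k = ⊥ := by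
  subst h2
  rw [eq_bot_iff]
  refine br_le fun i j _ a ha b hb => ?_
  rw [AddSubgroup.mem_bot]
  have := zmod_two_cases
  rcases this i with rfl | rfl
  · rw [hzero a ha, zero_lie]
  rcases this j with rfl | rfl
  · rw [hzero b hb, lie_zero]
  have h := hN 1 1 a ha b hb
  rw [show (1 : ZMod 2) + 1 = 0 from rfl] at h
  exact hzero _ h

/-- For `p = 3` the class is at most two. -/
theorem LCS_two_eq_bot (h3 : p = 3) (k : ZMod p) : LCS N 2 k = ⊥ := by
  subst h3
  have hpair : ∀ i j : ZMod 3, i + j = 0 → ∀ a ∈ N i, ∀ b ∈ N j, ⁅a, b⁆ = 0 := by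
    intro i j hij a ha b hb
    exact hzero _ (hij ▸ hN i j a ha b hb)
  rw [eq_bot_iff]
  refine br_le fun i j _ u hu c hc => ?_
  induction hu using AddSubgroup.closure_induction with
  | mem z hz =>
    obtain ⟨i₁, i₂, -, a, ha, b, hb, rfl⟩ := hz
    rw [AddSubgroup.mem_bot]
    by_cases h1 : i₁ = 0
    · subst h1; rw [hzero a ha, zero_lie, zero_lie]
    by_cases h2 : i₂ = 0
    · subst h2; rw [hzero b hb, lie_zero, zero_lie]
    by_cases h3 : j = 0
    · subst h3; rw [hzero c hc, lie_zero]
    rcases zmod_three_cases i₁ i₂ j h1 h2 h3 with h | h | ⟨h, h'⟩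
    · rw [hpair i₁ i₂ h a ha b hb, zero_lie]
    · exact hpair _ j h _ (hN i₁ i₂ a ha b hb) c hc
    · have e : ⁅⁅a, b⁆, c⁆ = ⁅a, ⁅b, c⁆⁆ - ⁅b, ⁅a, c⁆⁆ := by rw [leibniz_lie a b c]; abel
      rw [e, hpair i₂ j h' b hb c hc, hpair i₁ j h a ha c hc, lie_zero, lie_zero, sub_zero]
  | zero => rw [zero_lie]; exact zero_mem _
  | add u v _ _ hu hv => rw [add_lie]; exact add_mem hu hv
  | neg u _ hu => rw [neg_lie]; exact neg_mem hu

end Kostrikin

end CfsgLib.Solvable.KrekninKostrikin
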