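import Mathlib.Algebra.Lie.BaseChange
import Mathlib.Algebra.MonoidAlgebra.Basic
import Mathlib.RingTheory.TensorProduct.Basic
import Mathlib.Algebra.BigOperators.Group.Finset.Basic
import Cfsg.Agent.Lib.Solvable.KrekninKostrikin
import Cfsg.Agent.Lib.Solvable.AssocLieRing
import Cfsg.Agent.Lib.Solvable.FPFNilpotent

/-!
The Higman-Kreknin-Kostrikin bound for the class of a finite group with a fixed-point-free
automorphism of prime order.
-/

set_option autoImplicit false

open scoped TensorProduct commutatorElement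

namespace CfsgLib.Solvable.FPFClassBound

open KrekninKostrikin AssocLieRing

/-! ### Extension of scalars by the group ring of the automorphism group -/

section Graded

/-- The integral group ring of the cyclic group of order `p`. -/
abbrev A (p : ℕ) : Type := AddMonoidAlgebra ℤ (ZMod p)

variable {L : Type*} [LieRing L] {p : ℕ}

/-- The basis element `ω ^ k`. -/
noncomputable def om (k : ZMod p) : A p := AddMonoidAlgebra.single k 1

theorem om_mul (i j : ZMod p) : om i * om j = om (i + j) := by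
  rw [om, om, om, AddMonoidAlgebra.single_mul_single, mul_one]

theorem om_zero : om (0 : ZMod p) = 1 := rfl

/-- The sum of the basis. -/
noncomputable def orb (p : ℕ) [NeZero p] : A p := ∑ k : ZMod p, om k

theorem orb_mul_om [NeZero p] (i : ZMod p) : orb p * om i = orb p := by
  rw [orb, Finset.sum_mul, Finset.sum_congr rfl (fun k _ => om_mul k i)]
  exact Fintype.sum_equiv (Equiv.addRight i) _ _ fun k => rfl

/-- The element `p - orb p`. -/
noncomputable def ee (p : ℕ) [NeZero p] : A p := (p : A p) - orb p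

theorem ee_sq [NeZero p] : ee p * ee p = (p : A p) * ee p := by
  have h : orb p * orb p = (p : A p) * orb p := by
    calc orb p * orb p = ∑ k : ZMod p, orb p * om k := by rw [orb, Finset.mul_sum]
      _ = (p : A p) * orb p := by
        rw [Finset.sum_congr rfl (fun k _ => orb_mul_om k), Finset.sum_const, Finset.card_univ,
          ZMod.card, nsmul_eq_mul]
  rw [ee, sub_mul, mul_sub, mul_sub, h]
  ring

theorem ee_pow [NeZero p] : ∀ m : ℕ, ee p ^ (m + 1) = (p : A p) ^ m * ee p
  | 0 => by rw [pow_one, pow_zero, one_mul]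
  | m + 1 => by rw [pow_succ, ee_pow m, mul_assoc, ee_sq, pow_succ, mul_assoc]

/-- The coefficient at `k`, on the extension of scalars. -/
noncomputable def coef (k : ZMod p) : A p ⊗[ℤ] L →ₗ[ℤ] L :=
  TensorProduct.lift
    ((LinearMap.lsmul ℤ L).comp
      (AddMonoidHom.mk' (fun a : A p => a.coeff k) (fun a b => by
        rw [AddMonoidAlgebra.coeff_add]; rfl)).toIntLinearMap)

theorem coef_tmul (k : ZMod p) (a : A p) (x : L) : coef k (a ⊗ₜ x) = a.coeff k • x := rfl

/-- The extension of an endomorphism. -/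
noncomputable def ext (p : ℕ) (φ : L →+ L) : A p ⊗[ℤ] L →ₗ[ℤ] A p ⊗[ℤ] L :=
  LinearMap.lTensor (A p) φ.toIntLinearMap

theorem ext_tmul (φ : L →+ L) (a : A p) (x : L) : ext p φ (a ⊗ₜ x) = a ⊗ₜ φ x := rfl

theorem ext_smul (φ : L →+ L) (a : A p) (v : A p ⊗[ℤ] L) : ext p φ (a • v) = a • ext p φ v := by
  induction v using TensorProduct.induction_on with
  | zero => rw [smul_zero, map_zero, smul_zero]
  | tmul b x => rw [TensorProduct.smul_tmul', ext_tmul, ext_tmul, TensorProduct.smul_tmul']
  | add u v hu hv => rw [smul_add, map_add, map_add, smul_add, hu, hv]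

theorem lie_add' (u v w : A p ⊗[ℤ] L) : ⁅u, v + w⁆ = ⁅u, v⁆ + ⁅u, w⁆ := lie_add u v w

theorem add_lie' (u v w : A p ⊗[ℤ] L) : ⁅u + v, w⁆ = ⁅u, w⁆ + ⁅v, w⁆ := add_lie u v w

theorem lie_zero' (u : A p ⊗[ℤ] L) : ⁅u, (0 : A p ⊗[ℤ] L)⁆ = 0 := lie_zero u

theorem zero_lie' (u : A p ⊗[ℤ] L) : ⁅(0 : A p ⊗[ℤ] L), u⁆ = 0 := zero_lie u

theorem smul_lie_smul (s t : A p) (u v : A p ⊗[ℤ] L) : ⁅s • u, t • v⁆ = (s * t) • ⁅u, v⁆ :=
  (smul_lie s u (t • v)).trans ((congrArg (s • ·) (lie_smul t u v)).trans (smul_smul s t _))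

theorem ext_lie {φ : L →+ L} (hlie : ∀ x y : L, φ ⁅x, y⁆ = ⁅φ x, φ y⁆) (u v : A p ⊗[ℤ] L) :
    ext p φ ⁅u, v⁆ = ⁅ext p φ u, ext p φ v⁆ := by
  induction u using TensorProduct.induction_on with
  | zero => rw [zero_lie', map_zero, zero_lie']
  | tmul a x =>
    induction v using TensorProduct.induction_on with
    | zero => rw [lie_zero', map_zero, lie_zero']
    | tmul b y =>
      rw [LieAlgebra.ExtendScalars.bracket_tmul, ext_tmul, ext_tmul, ext_tmul,
        LieAlgebra.ExtendScalars.bracket_tmul, hlie]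
    | add v w hv hw => rw [lie_add', map_add, map_add, lie_add', hv, hw]
  | add u w hu hw => rw [add_lie', map_add, map_add, add_lie', hu, hw]

/-- The eigencomponents of the extended endomorphism. -/
noncomputable def eig (φ : L →+ L) (k : ZMod p) : AddSubgroup (A p ⊗[ℤ] L) where
  carrier := {v | ext p φ v = om k • v}
  zero_mem' := by
    show ext p φ 0 = om k • (0 : A p ⊗[ℤ] L)
    rw [map_zero, smul_zero]
  add_mem' := fun {u v} hu hv => by
    show ext p φ (u + v) = om k • (u + v)
    rw [map_add, smul_add, hu, hv]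
  neg_mem' := fun {u} hu => by
    show ext p φ (-u) = om k • (-u)
    rw [map_neg, smul_neg, hu]

theorem mem_eig {φ : L →+ L} {k : ZMod p} {v : A p ⊗[ℤ] L} :
    v ∈ eig φ k ↔ ext p φ v = om k • v := Iff.rfl

theorem eig_closed {φ : L →+ L} (hlie : ∀ x y : L, φ ⁅x, y⁆ = ⁅φ x, φ y⁆) :
    Closed (eig (p := p) φ) := by
  intro i j x hx y hy
  rw [mem_eig] at hx hy ⊢
  show ext p φ ⁅x, y⁆ = om (i + j) • ⁅x, y⁆
  refine (ext_lie hlie x y).trans ?_
  rw [hx, hy, smul_lie_smul, om_mul]


theorem ext_iterate (φ : L →+ L) (a : A p) (x : L) :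
    ∀ i : ℕ, (ext p φ)^[i] (a ⊗ₜ x) = a ⊗ₜ φ^[i] x
  | 0 => rfl
  | i + 1 => by
    rw [Function.iterate_succ_apply', Function.iterate_succ_apply', ext_iterate φ a x i, ext_tmul]

theorem eig_zero_eq {φ : L →+ L} (horb : ∀ x : L, ∑ i ∈ Finset.range p, φ^[i] x = 0) {n : ℕ}
    (hn : ∀ x : L, n • x = 0) (hcop : p.Coprime n) (v : A p ⊗[ℤ] L) (hv : v ∈ eig φ 0) :
    v = 0 := by
  rw [mem_eig, om_zero, one_smul] at hv
  have hsum : ∀ w : A p ⊗[ℤ] L, ∑ i ∈ Finset.range p, (ext p φ)^[i] w = 0 := by
    intro w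
    induction w using TensorProduct.induction_on with
    | zero => simp
    | tmul a x =>
      rw [Finset.sum_congr rfl (fun i _ => ext_iterate φ a x i), ← TensorProduct.tmul_sum, horb,
        TensorProduct.tmul_zero]
    | add u w hu hw => simp only [iterate_map_add, Finset.sum_add_distrib, hu, hw, add_zero]
  have hnv : ∀ w : A p ⊗[ℤ] L, n • w = 0 := by
    intro w
    induction w using TensorProduct.induction_on with
    | zero => rw [smul_zero]
    | tmul a x => rw [← TensorProduct.tmul_smul, hn, TensorProduct.tmul_zero]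
    | add u w hu hw => rw [smul_add, hu, hw, add_zero]
  have hpv : p • v = 0 := by
    have h := hsum v
    rwa [Finset.sum_congr rfl (fun i _ => Function.iterate_fixed hv i), Finset.sum_const,
      Finset.card_range] at h
  have h1 := Nat.dvd_gcd (addOrderOf_dvd_of_nsmul_eq_zero hpv)
    (addOrderOf_dvd_of_nsmul_eq_zero (hnv v))
  rw [hcop.gcd_eq_one, Nat.dvd_one, AddMonoid.addOrderOf_eq_one_iff] at h1
  exact h1

theorem ee_tmul_mem [Fact p.Prime] {φ : L →+ L} (hper : ∀ x : L, φ^[p] x = x)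
    (horb : ∀ x : L, ∑ i ∈ Finset.range p, φ^[i] x = 0) (x : L) :
    ee p ⊗ₜ x ∈ total (eig (p := p) φ) := by
  classical
  have hshift : ∀ i : ZMod p, φ (φ^[i.val] x) = φ^[(i + 1).val] x := by
    intro i
    rw [← Function.iterate_succ_apply' φ i.val x]
    have hlt := ZMod.val_lt i
    by_cases h : i.val + 1 < p
    · rw [ZMod.val_add_of_lt (by rwa [ZMod.val_one]), ZMod.val_one]
    · have hi : i.val + 1 = p := by omega
      have h0 : i + 1 = 0 := by
        rw [← ZMod.natCast_zmod_val i, ← Nat.cast_one (R := ZMod p), ← Nat.cast_add, hi,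
          ZMod.natCast_self]
      rw [h0, ZMod.val_zero, Nat.succ_eq_add_one, hi, hper]
      rfl
  -- the eigencomponents of `1 ⊗ x`
  let c : ZMod p → A p ⊗[ℤ] L := fun k => ∑ i : ZMod p, om (-(k * i)) ⊗ₜ φ^[i.val] x
  have hc : ∀ k, c k ∈ eig φ k := by
    intro k
    rw [mem_eig, map_sum, Finset.smul_sum]
    refine Fintype.sum_equiv (Equiv.addRight (1 : ZMod p)) _ _ fun i => ?_
    rw [ext_tmul, hshift, TensorProduct.smul_tmul', Equiv.coe_addRight, smul_eq_mul, om_mul]
    congr 2
    ring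
  suffices h : ee p ⊗ₜ x = ∑ k, c k by
    rw [h]
    exact sum_mem fun k _ => mem_total (hc k)
  have hinner : ∀ i : ZMod p,
      ∑ k : ZMod p, om (-(k * i)) = orb p + if i = 0 then ee p else 0 := by
    intro i
    by_cases hi : i = 0
    · subst hi
      rw [if_pos rfl, Finset.sum_congr rfl (fun k _ => by rw [mul_zero, neg_zero, om_zero]),
        Finset.sum_const, Finset.card_univ, ZMod.card, nsmul_eq_mul, mul_one, ee,
        add_sub_cancel]
    · rw [if_neg hi, add_zero, orb]
      refine Fintype.sum_equiv ((Equiv.mulRight₀ i hi).trans (Equiv.neg _)) _ _ fun k => ?_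
      rfl
  have hall : ∑ i : ZMod p, φ^[i.val] x = 0 := by
    rw [← horb x]
    refine Finset.sum_nbij (fun i => i.val) (fun i _ => Finset.mem_range.mpr (ZMod.val_lt i))
      (fun a _ b _ h => ZMod.val_injective p h) (fun m hm => ?_) (fun _ _ => rfl)
    exact ⟨(m : ZMod p), Finset.mem_univ _, ZMod.val_cast_of_lt (Finset.mem_range.mp hm)⟩
  show ee p ⊗ₜ x = ∑ k, ∑ i : ZMod p, om (-(k * i)) ⊗ₜ φ^[i.val] x
  rw [Finset.sum_comm, Finset.sum_congr rfl (fun i _ => (TensorProduct.sum_tmul _ _ _).symm),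
    Finset.sum_congr rfl (fun i _ => by rw [hinner i, TensorProduct.add_tmul]),
    Finset.sum_add_distrib, ← TensorProduct.tmul_sum, hall, TensorProduct.tmul_zero, zero_add,
    Finset.sum_eq_single (0 : ZMod p) (fun i _ hi => by rw [if_neg hi, TensorProduct.zero_tmul])
      (fun h => absurd (Finset.mem_univ _) h), if_pos rfl, ZMod.val_zero]
  rfl

theorem total_br {M : Type*} [LieRing M] {B C : ZMod p → AddSubgroup M} {u v : M}
    (hu : u ∈ total B) (hv : v ∈ total C) : ⁅u, v⁆ ∈ total (br B C) := by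
  refine AddSubgroup.iSup_induction B (C := fun u => ⁅u, v⁆ ∈ total (br B C)) hu
    (fun i a ha => ?_) (by rw [zero_lie]; exact zero_mem _)
    (fun a b ha hb => by rw [add_lie]; exact add_mem ha hb)
  refine AddSubgroup.iSup_induction C (C := fun v => ⁅a, v⁆ ∈ total (br B C)) hv
    (fun j b hb => ?_) (by rw [lie_zero]; exact zero_mem _)
    (fun b c hb hc => by rw [lie_add]; exact add_mem hb hc)
  exact mem_total (A := br B C) (lie_mem_br ha hb)

theorem eq_zero_of_ee_tmul [Fact p.Prime] {n : ℕ} (hcop : p.Coprime n) (m : ℕ) {x : L}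
    (hn : n • x = 0) (h : (ee p ^ (m + 1)) ⊗ₜ[ℤ] x = 0) : x = 0 := by
  have hc : (ee p ^ (m + 1)).coeff (1 : ZMod p) = -((p : ℤ) ^ m) := by
    have h1 : (ee p).coeff (1 : ZMod p) = -1 := by
      rw [ee, orb, AddMonoidAlgebra.coeff_sub, AddMonoidAlgebra.coeff_sum]
      rw [AddMonoidAlgebra.natCast_def, AddMonoidAlgebra.coeff_single, Finsupp.sub_apply,
        Finsupp.finsetSum_apply]
      simp [om, AddMonoidAlgebra.coeff_single, Finsupp.single_apply]
    rw [ee_pow, show (p : A p) ^ m = ((p ^ m : ℕ) : A p) from (Nat.cast_pow p m).symm,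
      ← nsmul_eq_mul, AddMonoidAlgebra.coeff_smul_apply, h1]
    simp
  have h' := congrArg (coef (1 : ZMod p)) h
  rw [map_zero, coef_tmul, hc, neg_smul, neg_eq_zero, ← Nat.cast_pow, natCast_zsmul] at h'
  have h2 := Nat.dvd_gcd (addOrderOf_dvd_of_nsmul_eq_zero h') (addOrderOf_dvd_of_nsmul_eq_zero hn)
  rw [(hcop.pow_left m).gcd_eq_one, Nat.dvd_one, AddMonoid.addOrderOf_eq_one_iff] at h2
  exact h2

end Graded

/-! ### The automorphism on the associated Lie ring -/

section Group

variable {G : Type*} [Group G] (α : G →* G)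

theorem map_mem {n : ℕ} {g : G} (hg : g ∈ γ G n) : α g ∈ γ G n := by
  induction n generalizing g with
  | zero => exact Subgroup.mem_top _
  | succ n ih =>
    have h : γ G (n + 1) ≤ (γ G (n + 1)).comap α := by
      conv_lhs => rw [γ_succ]
      rw [Subgroup.commutator_le]
      intro a ha b _
      rw [Subgroup.mem_comap, map_commutatorElement]
      exact Subgroup.commutator_mem_commutator (ih ha) (Subgroup.mem_top _)
    exact h hg

theorem psi_add {n : ℕ} (x y : Q G n) :
    q n (α (rep (x + y))) = q n (α (rep x)) + q n (α (rep y)) := by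
  rw [← q_mul (map_mem α (rep_mem x)) (map_mem α (rep_mem y)), ← map_mul,
    q_eq_iff (map_mem α (rep_mem _)) (map_mem α (mul_mem (rep_mem x) (rep_mem y))), ← map_inv,
    ← map_mul]
  refine map_mem α ((q_eq_iff (rep_mem _) (mul_mem (rep_mem x) (rep_mem y))).mp ?_)
  rw [q_rep, q_mul (rep_mem x) (rep_mem y), q_rep, q_rep]

/-- The endomorphism of the graded group induced by `α`. -/
noncomputable def phi : LieR G →+ LieR G :=
  DirectSum.toAddMonoid fun n => (DirectSum.of (fun n => Q G n) n).comp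
    (AddMonoidHom.mk' (fun x : Q G n => q n (α (rep x))) (psi_add α))

theorem phi_cls {n : ℕ} {g : G} (hg : g ∈ γ G n) : phi α (cls n g) = cls n (α g) := by
  rw [phi, cls, DirectSum.toAddMonoid_of]
  show DirectSum.of (fun n => Q G n) n (q n (α (rep (q n g)))) = _
  rw [show q n (α (rep (q n g))) = q n (α g) by
    rw [q_eq_iff (map_mem α (rep_mem _)) (map_mem α hg), ← map_inv, ← map_mul]
    exact map_mem α ((q_eq_iff (rep_mem _) hg).mp (q_rep _))]
  rfl

theorem phi_lie (x y : LieR G) : phi α ⁅x, y⁆ = ⁅phi α x, phi α y⁆ := by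
  induction x using lie_induction with
  | h0 => simp
  | hadd u v hu hv => rw [add_lie, map_add, map_add, add_lie, hu, hv]
  | hcls i a ha =>
    induction y using lie_induction with
    | h0 => simp
    | hadd u v hu hv => rw [lie_add, map_add, map_add, lie_add, hu, hv]
    | hcls j b hb =>
      rw [lie_cls ha hb, phi_cls α (comm_mem ha hb), phi_cls α ha, phi_cls α hb,
        lie_cls (map_mem α ha) (map_mem α hb), map_commutatorElement]

theorem iterate_mem {n : ℕ} {g : G} (hg : g ∈ γ G n) : ∀ i : ℕ, α^[i] g ∈ γ G n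
  | 0 => hg
  | i + 1 => by rw [Function.iterate_succ_apply']; exact map_mem α (iterate_mem hg i)

theorem phi_iterate_cls {n : ℕ} {g : G} (hg : g ∈ γ G n) :
    ∀ i : ℕ, (phi α)^[i] (cls n g) = cls n (α^[i] g)
  | 0 => rfl
  | i + 1 => by
    rw [Function.iterate_succ_apply', Function.iterate_succ_apply', phi_iterate_cls hg i,
      phi_cls α (iterate_mem α hg i)]

variable {α} {p : ℕ}

theorem phi_per (hper : ∀ g, α^[p] g = g) (x : LieR G) : (phi α)^[p] x = x := by
  induction x using lie_induction with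
  | h0 => simp
  | hadd u v hu hv => rw [iterate_map_add, hu, hv]
  | hcls n g hg => rw [phi_iterate_cls α hg, hper]

theorem phi_orb [Finite G] (hfpf : ∀ g, α g = g → g = 1) (hper : ∀ g, α^[p] g = g) (x : LieR G) :
    ∑ i ∈ Finset.range p, (phi α)^[i] x = 0 := by
  induction x using lie_induction with
  | h0 => simp
  | hadd u v hu hv => simp only [iterate_map_add, Finset.sum_add_distrib, hu, hv, add_zero]
  | hcls n g hg =>
    obtain ⟨h, hh, e⟩ : ∃ h ∈ γ G n, ∑ i ∈ Finset.range p, (phi α)^[i] (cls n g) = cls n h := by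
      suffices ∀ m : ℕ, ∃ h ∈ γ G n, ∑ i ∈ Finset.range m, (phi α)^[i] (cls n g) = cls n h from
        this p
      intro m
      induction m with
      | zero => exact ⟨1, one_mem _, by rw [Finset.range_zero, Finset.sum_empty, cls_one]⟩
      | succ m ih =>
        obtain ⟨h, hh, e⟩ := ih
        exact ⟨h * α^[m] g, mul_mem hh (iterate_mem α hg m), by
          rw [Finset.sum_range_succ, e, phi_iterate_cls α hg, cls_mul hh (iterate_mem α hg m)]⟩
    rw [e]
    have hfix : phi α (cls n h) = cls n h := by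
      rw [← e, map_sum, Finset.sum_congr rfl
        (fun i _ => (Function.iterate_succ_apply' (phi α) i (cls n g)).symm)]
      have h1 := Finset.sum_range_succ' (fun i => (phi α)^[i] (cls n g)) p
      rw [Finset.sum_range_succ, phi_per hper, Function.iterate_zero_apply] at h1
      exact (add_right_cancel h1).symm
    rw [phi_cls α hh] at hfix
    have hq := DirectSum.of_injective n hfix
    have hc : h⁻¹ * α h ∈ γ G (n + 1) := (q_eq_iff hh (map_mem α hh)).mp hq.symm
    have hinj : Function.Injective fun c : γ G (n + 1) =>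
        (⟨c.1 * (α c.1)⁻¹, mul_mem c.2 (inv_mem (map_mem α c.2))⟩ : γ G (n + 1)) := by
      intro c d h'
      have h2 : c.1 * (α c.1)⁻¹ = d.1 * (α d.1)⁻¹ := congrArg Subtype.val h'
      have h3 : α (d.1⁻¹ * c.1) = d.1⁻¹ * c.1 := by
        rw [map_mul, map_inv]
        calc (α d.1)⁻¹ * α c.1 = d.1⁻¹ * (d.1 * (α d.1)⁻¹) * α c.1 := by group
          _ = d.1⁻¹ * c.1 := by rw [← h2]; group
      exact Subtype.ext (inv_mul_eq_one.mp (hfpf _ h3)).symm
    obtain ⟨c, hc'⟩ := Finite.injective_iff_surjective.mp hinj ⟨_, hc⟩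
    have hc2 : c.1 * (α c.1)⁻¹ = h⁻¹ * α h := congrArg Subtype.val hc'
    have h4 : h * c.1 = 1 := hfpf _ (by
      rw [map_mul]
      calc α h * α c.1 = h * (h⁻¹ * α h) * α c.1 := by group
        _ = h * c.1 := by rw [← hc2]; group)
    have h5 : h ∈ γ G (n + 1) := eq_inv_of_mul_eq_one_left h4 ▸ inv_mem c.2
    rw [cls, (q_eq_zero_iff hh).mpr h5, map_zero]

/-- A vanishing theorem for graded Lie rings bounds the class. -/
theorem γ_eq_bot [Finite G] [Fact p.Prime] (hfpf : ∀ g, α g = g → g = 1)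
    (hper : ∀ g, α^[p] g = g) (r : ℕ)
    (hLie : ∀ N : ZMod p → AddSubgroup (A p ⊗[ℤ] LieR G), (∀ x ∈ N 0, x = 0) → Closed N →
      ∀ k, LCS N r k = ⊥) : γ G r = ⊥ := by
  have hp : p.Prime := Fact.out
  have hcard : ∀ x : LieR G, Nat.card G • x = 0 := card_nsmul
  have hcop : p.Coprime (Nat.card G) := by
    rw [hp.coprime_iff_not_dvd]
    intro hdvd
    let e : G ≃ G := Equiv.ofBijective α (Finite.injective_iff_bijective.mp fun a b h => by
      have h1 : p = p - 1 + 1 := by have := hp.pos; omega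
      rw [← hper a, ← hper b, h1, Function.iterate_succ_apply, Function.iterate_succ_apply, h])
    haveI := Fintype.ofFinite G
    have hpow : ∀ (i : ℕ) (x : G), (e ^ i) x = α^[i] x := by
      intro i x
      rw [Equiv.Perm.coe_pow]
      rfl
    have he : e ^ p ^ 1 = 1 := Equiv.ext fun x => by rw [pow_one, hpow, hper]; rfl
    rw [Nat.card_eq_fintype_card] at hdvd
    obtain ⟨b, hb, hb'⟩ := Equiv.Perm.exists_fixed_point_of_prime' hdvd he (a := 1) (map_one α)
    exact hb' (hfpf b hb)
  set N := eig (p := p) (phi α) with hN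
  have hzero : ∀ x ∈ N 0, x = 0 := eig_zero_eq (phi_orb hfpf hper) hcard hcop
  have hW : ∀ (m : ℕ), ∀ x ∈ W G m, (ee p ^ (m + 1)) ⊗ₜ[ℤ] x ∈ total (LCS N m) := by
    intro m
    induction m with
    | zero => intro x _; rw [pow_one]; exact ee_tmul_mem (phi_per hper) (phi_orb hfpf hper) x
    | succ m ih =>
      intro x hx
      induction hx using AddSubgroup.closure_induction with
      | mem z hz =>
        obtain ⟨u, hu, v, rfl⟩ := hz
        rw [pow_succ, ← LieAlgebra.ExtendScalars.bracket_tmul]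
        exact total_br (ih u hu) (ee_tmul_mem (phi_per hper) (phi_orb hfpf hper) v)
      | zero => rw [TensorProduct.tmul_zero]; exact zero_mem _
      | add a b _ _ ha hb => rw [TensorProduct.tmul_add]; exact add_mem ha hb
      | neg a _ ha => rw [TensorProduct.tmul_neg]; exact neg_mem ha
  have hWr : W G r = ⊥ := by
    rw [eq_bot_iff]
    intro x hx
    rw [AddSubgroup.mem_bot]
    have h := hW r x hx
    have hbot : total (LCS N r) = ⊥ := le_bot_iff.mp
      (iSup_le fun k => (hLie N hzero (eig_closed (phi_lie α)) k).le)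
    rw [hbot, AddSubgroup.mem_bot] at h
    exact eq_zero_of_ee_tmul hcop r (hcard x) h
  haveI : Group.IsNilpotent G := FPFNilpotent.isNilpotent hp α hper hfpf
  obtain ⟨m, hm⟩ := (Subgroup.nilpotent_iff_lowerCentralSeries (G := G)).mp ‹Group.IsNilpotent G›
  have hstab : ∀ k : ℕ, γ G r ≤ γ G (r + k) := by
    intro k
    induction k with
    | zero => exact le_rfl
    | succ k ih =>
      have : γ G (r + 1) ≤ γ G (r + (k + 1)) := by
        rw [← add_assoc, γ_succ, γ_succ]
        exact Subgroup.commutator_mono ih le_rfl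
      exact (γ_le_of_W_eq_bot hWr).trans this
  exact le_bot_iff.mp ((hstab m).trans ((γ_anti (Nat.le_add_left m r)).trans hm.le))

end Group

/-- The class bound, for an automorphism. -/
theorem main {G : Type*} [Group G] [Finite G] {p : ℕ} (hp : p.Prime) (α : MulAut G)
    (hα : orderOf α = p) (hfpf : ∀ g : G, α g = g → g = 1) :
    (p = 2 → (⊤ : Subgroup G).lowerCentralSeries 1 = ⊥) ∧
    (p = 3 → (⊤ : Subgroup G).lowerCentralSeries 2 = ⊥) ∧
    (⊤ : Subgroup G).lowerCentralSeries
      (Finset.sum (Finset.range (2 ^ (p - 1) - 1)) (fun i => (p - 1) ^ i)) = ⊥ := by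
  haveI : Fact p.Prime := ⟨hp⟩
  have hiter : ∀ (i : ℕ) (g : G), (⇑α.toMonoidHom)^[i] g = (α ^ i) g := by
    intro i g
    induction i with
    | zero => rfl
    | succ i ih => rw [Function.iterate_succ_apply', ih, pow_succ']; rfl
  have hper : ∀ g : G, (⇑α.toMonoidHom)^[p] g = g := fun g => by
    rw [hiter, ← hα, pow_orderOf_eq_one]; rfl
  refine ⟨fun h2 => γ_eq_bot hfpf hper 1 fun N hz hN k => LCS_one_eq_bot hz hN h2 k,
    fun h3 => γ_eq_bot hfpf hper 2 fun N hz hN k => LCS_two_eq_bot hz hN h3 k,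
    γ_eq_bot hfpf hper _ fun N hz hN k => LCS_eq_bot hz hN k⟩

end CfsgLib.Solvable.FPFClassBound
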