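import Cfsg.Agent.Lib.Solvable.Basic
import Mathlib.GroupTheory.Focal

/-!
The focal series of a Hall subgroup and normal complements.
-/

open scoped Pointwise commutatorElement
set_option linter.style.haveILetI false

namespace CfsgLib.Solvable.Transfer

open CfsgLib.Solvable.Basic

universe u

/-- A normal Hall subgroup is the only subgroup of its order. -/
theorem le_of_normal_hall {G : Type*} [Group G] [Finite G] {N L : Subgroup G} [N.Normal]
    (hN : (Nat.card N).Coprime N.index) (hL : Nat.card L ∣ Nat.card N) : L ≤ N := by
  intro x hx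
  rw [← QuotientGroup.eq_one_iff, ← orderOf_eq_one_iff, ← Nat.dvd_one, ← hN.gcd_eq_one]
  refine Nat.dvd_gcd ?_ (N.index_eq_card ▸ orderOf_dvd_natCard _)
  exact ((orderOf_map_dvd (QuotientGroup.mk' N) x).trans
    (Subgroup.orderOf_dvd_natCard L hx)).trans hL

/-- A normal Hall subgroup is characteristic. -/
theorem characteristic_of_normal_hall {G : Type*} [Group G] [Finite G] {N : Subgroup G} [N.Normal]
    (hN : (Nat.card N).Coprime N.index) : N.Characteristic :=
  Subgroup.characteristic_iff_map_le.mpr fun _ =>
    le_of_normal_hall hN (Subgroup.card_map_dvd _ _)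

theorem focal_mono {G : Type*} [Group G] {K : Subgroup G} {A : Subgroup K} {B : Subgroup G}
    (h : A.map K.subtype ≤ B) :
    (Subgroup.focalSubgroup A).map K.subtype ≤ Subgroup.focalSubgroup B := by
  rw [Subgroup.focalSubgroup_def, Subgroup.focalSubgroup_def, MonoidHom.map_closure]
  apply Subgroup.closure_mono
  rintro _ ⟨g, ⟨hg, x, hx, u, rfl⟩, rfl⟩
  exact ⟨h (Subgroup.mem_map_of_mem _ hg), K.subtype x, h (Subgroup.mem_map_of_mem _ hx),
    K.subtype u, map_commutatorElement _ _ _⟩

theorem exists_normal_complement_aux : ∀ (n : ℕ) (G : Type u) [Group G] [Finite G]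
    (H : Subgroup G), (Nat.card H).Coprime H.index →
    (fun K : Subgroup G => Subgroup.focalSubgroup K)^[n] H = ⊥ →
    ∃ N : Subgroup G, N.Normal ∧ Subgroup.IsComplement' N H := by
  intro n
  induction n with
  | zero =>
    intro G _ _ H _ h
    rw [Function.iterate_zero_apply] at h
    exact ⟨⊤, inferInstance, h ▸ Subgroup.isComplement'_top_bot⟩
  | succ n ih =>
    intro G _ _ H hH h
    set T := Subgroup.transferFocal H
    set F := Subgroup.focalSubgroupOf H
    have hcQ : (Nat.card (H ⧸ F)).Coprime H.index :=
      hH.coprime_dvd_left (F.index_eq_card ▸ F.index_dvd_card)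
    have hpow : Function.Injective fun y : H ⧸ F => y ^ H.index := (powCoprime hcQ).injective
    have hsurj : Function.Surjective T := by
      intro y
      obtain ⟨z, rfl⟩ := (powCoprime hcQ).surjective y
      obtain ⟨x, rfl⟩ := QuotientGroup.mk'_surjective F z
      exact ⟨x, (Subgroup.transferFocal_eq_pow H x).trans rfl⟩
    set K := T.ker
    have hKH : K ⊓ H = Subgroup.focalSubgroup H := by
      ext x
      constructor
      · rintro ⟨hxK, hxH⟩
        have h1 : ((⟨x, hxH⟩ : H) : H ⧸ F) ^ H.index = (1 : H ⧸ F) ^ H.index := by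
          rw [← Subgroup.transferFocal_eq_pow H ⟨x, hxH⟩, one_pow]; exact hxK
        exact (QuotientGroup.eq_one_iff (⟨x, hxH⟩ : H)).mp (hpow h1)
      · intro hx
        refine ⟨?_, Subgroup.focalSubgroup_le H hx⟩
        show T x = 1
        rw [Subgroup.transferFocal_eq_pow H ⟨x, Subgroup.focalSubgroup_le H hx⟩,
          (QuotientGroup.eq_one_iff (⟨x, Subgroup.focalSubgroup_le H hx⟩ : H)).mpr hx, one_pow]
    set A := (Subgroup.focalSubgroup H).subgroupOf K
    have hAK : Subgroup.focalSubgroup H ≤ K := hKH ▸ inf_le_left
    have hcA : Nat.card A = Nat.card F := by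
      rw [Nat.card_congr (Subgroup.subgroupOfEquivOfLe hAK).toEquiv]
      exact (Nat.card_congr (Subgroup.subgroupOfEquivOfLe (Subgroup.focalSubgroup_le H)).toEquiv).symm
    have hidx : A.index = H.index := by
      have h1 : A.index * Nat.card A = Nat.card K := A.index_mul_card
      have h2 : K.index = F.index := by
        rw [Subgroup.index_ker, MonoidHom.range_eq_top.mpr hsurj, Subgroup.card_top,
          Subgroup.index_eq_card]
      have h3 := K.card_mul_index
      rw [← h1, hcA, h2, mul_assoc, F.card_mul_index, ← H.index_mul_card] at h3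
      exact Nat.eq_of_mul_eq_mul_right Nat.card_pos h3
    have hA : (Nat.card A).Coprime A.index := by
      rw [hidx, hcA]
      exact hH.coprime_dvd_left F.card_subgroup_dvd_card
    have hiter : ∀ k, ((fun L : Subgroup K => Subgroup.focalSubgroup L)^[k] A).map K.subtype ≤
        (fun L : Subgroup G => Subgroup.focalSubgroup L)^[k + 1] H := by
      intro k
      induction k with
      | zero => exact (Subgroup.map_subgroupOf_eq_of_le hAK).le
      | succ k ihk =>
        rw [Function.iterate_succ_apply', Function.iterate_succ_apply' _ (k + 1)]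
        exact focal_mono ihk
    have hA0 : (fun L : Subgroup K => Subgroup.focalSubgroup L)^[n] A = ⊥ := by
      rw [← Subgroup.map_eq_bot_iff_of_injective _ K.subtype_injective, eq_bot_iff, ← h]
      exact hiter n
    obtain ⟨N, hN, hc⟩ := ih K A hA hA0
    haveI := hN
    have hNi : N.index = Nat.card A := hc.symm.index_eq_card
    have hNc : Nat.card N = A.index := hc.index_eq_card.symm
    haveI : N.Characteristic := characteristic_of_normal_hall (by rw [hNi, hNc]; exact hA.symm)
    refine ⟨N.map K.subtype, inferInstance,
      Subgroup.isComplement'_of_coprime ?_ ?_⟩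
    · rw [Subgroup.card_map_of_injective K.subtype_injective, hNc, hidx, Subgroup.index_mul_card]
    · rw [Subgroup.card_map_of_injective K.subtype_injective, hNc, hidx]
      exact hH.symm

end CfsgLib.Solvable.Transfer
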