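import Mathlib
import Cfsg.Agent.Lib.TwoGroups.MaximalClass
import Cfsg.Agent.Lib.TwoGroups.MetacyclicSub

/-!
Helpers on Sylow 2-subgroups of transitive groups with fixity two.
-/

set_option autoImplicit false

namespace CfsgLib.Solvable.FixityTwo

open CfsgLib.TwoGroups

/-- A 2-group with an involution whose centralizer has order 4 is dihedral or quasi-dihedral,
unless it is cyclic of order four. -/
theorem dihedral_or_quasiDihedral {S : Type*} [Group S] [Finite S] (hS : IsPGroup 2 S)
    {t : S} (ht : orderOf t = 2) (hC : Nat.card (Subgroup.centralizer ({t} : Set S)) = 4)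
    (hnc : ¬ IsCyclic S) :
    (∃ n : ℕ, Nonempty (S ≃* DihedralGroup n)) ∨ Cfsg.IsQuasiDihedral S := by
  haveI : Fact (Nat.Prime 2) := ⟨Nat.prime_two⟩
  obtain ⟨k, hk⟩ := hS.exists_card_eq
  have h4k : 4 ∣ 2 ^ k := by rw [← hC, ← hk]; exact Subgroup.card_subgroup_dvd_card _
  have hk2 : 2 ≤ k := by
    have h4 := Nat.le_of_dvd (pow_pos two_pos k) h4k
    by_contra hh
    interval_cases k <;> simp at h4
  rcases eq_or_lt_of_le hk2 with rfl | hk3
  · left
    haveI : Nontrivial S := ⟨⟨t, 1, fun e => by simp [e] at ht⟩⟩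
    haveI : IsKleinFour S := by
      refine ⟨by simpa using hk, ?_⟩
      exact (Monoid.exponent_eq_prime_iff Nat.prime_two).mpr fun x hx => by
        have hd : orderOf x ∣ 2 ^ 2 := hk ▸ orderOf_dvd_natCard x
        obtain ⟨j, hj, hjx⟩ := (Nat.dvd_prime_pow Nat.prime_two).mp hd
        interval_cases j
        · exact absurd (orderOf_eq_one_iff.mp (by simpa using hjx)) hx
        · simpa using hjx
        · exact absurd (isCyclic_of_orderOf_eq_card x (by rw [hk, hjx])) hnc
    exact ⟨2, IsKleinFour.nonempty_mulEquiv⟩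
  · obtain ⟨n, rfl⟩ : ∃ n, k = n + 3 := ⟨k - 3, by omega⟩
    obtain ⟨C, hCc, hCi⟩ := MaximalClass.cyclic_max_of_involution_centralizer n S hk t ht hC
    haveI : C.Normal := Subgroup.normal_of_index_eq_two hCi
    haveI hQ : IsCyclic (S ⧸ C) := isCyclic_of_prime_card (p := 2) hCi
    have ht1 : t ≠ 1 := fun e => by simp [e] at ht
    have htt : t * t = 1 := by rw [← sq, ← ht, pow_orderOf_eq_one]
    have htop : (⊤ : Subgroup S) ≠ ⊥ := fun e => ht1 (Subgroup.mem_bot.mp (e ▸ Subgroup.mem_top t))
    obtain ⟨z, -, hz, hzc⟩ := Classify.exists_central_involution hS ⊤ htop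
    have hzt : z ≠ t := by
      rintro rfl
      have htop : Subgroup.centralizer ({z} : Set S) = ⊤ :=
        (Subgroup.eq_top_iff' _).mpr fun g =>
          Subgroup.mem_centralizer_singleton_iff.mpr (Subgroup.mem_center_iff.mp hzc g)
      rw [htop, Subgroup.card_top, hk] at hC
      have : 2 ^ 3 ≤ 2 ^ (n + 3) := Nat.pow_le_pow_right two_pos (by omega)
      omega
    have hzz : z * z = 1 := by rw [← sq, ← hz, pow_orderOf_eq_one]
    have hzC : z ∈ Subgroup.centralizer ({t} : Set S) :=
      Subgroup.mem_centralizer_singleton_iff.mpr ((Subgroup.mem_center_iff.mp hzc t).symm)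
    have htC : t ∈ Subgroup.centralizer ({t} : Set S) :=
      Subgroup.mem_centralizer_singleton_iff.mpr rfl
    -- the centralizer of `t` is `{1, t, z, t z}`
    have hexp : ∀ x ∈ Subgroup.centralizer ({t} : Set S), x * x = 1 := by
      intro x hx
      by_contra hxx
      have hord : orderOf (⟨x, hx⟩ : Subgroup.centralizer ({t} : Set S)) = 4 := by
        have hd : orderOf (⟨x, hx⟩ : Subgroup.centralizer ({t} : Set S)) ∣ 2 ^ 2 := by
          have h0 := orderOf_dvd_natCard (⟨x, hx⟩ : Subgroup.centralizer ({t} : Set S))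
          rw [hC] at h0
          exact h0
        obtain ⟨j, hj, hjx⟩ := (Nat.dvd_prime_pow Nat.prime_two).mp hd
        rw [Subgroup.orderOf_mk] at hjx
        interval_cases j
        · rw [pow_zero, orderOf_eq_one_iff] at hjx
          exact absurd (by simp [hjx]) hxx
        · exact absurd (by rw [← sq, show (2 : ℕ) = orderOf x by simpa using hjx.symm, pow_orderOf_eq_one]) hxx
        · rw [Subgroup.orderOf_mk]; simpa using hjx
      classical
      haveI := isCyclic_of_orderOf_eq_card (⟨x, hx⟩ : Subgroup.centralizer ({t} : Set S)) (by rw [hC, hord])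
      haveI := Fintype.ofFinite (Subgroup.centralizer ({t} : Set S))
      have hle := IsCyclic.card_pow_eq_one_le (α := Subgroup.centralizer ({t} : Set S)) two_pos
      have hsub : ({1, ⟨t, htC⟩, ⟨z, hzC⟩} : Finset (Subgroup.centralizer ({t} : Set S))) ⊆
          Finset.univ.filter fun a => a ^ 2 = 1 := by
        intro a ha
        simp only [Finset.mem_insert, Finset.mem_singleton] at ha
        simp only [Finset.mem_filter, Finset.mem_univ, true_and]
        rcases ha with rfl | rfl | rfl
        · simp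
        · exact Subtype.ext (by simpa [sq] using htt)
        · exact Subtype.ext (by simpa [sq] using hzz)
      have h3 := Finset.card_le_card hsub
      have hz1 : z ≠ 1 := fun e => by simp [e] at hz
      rw [Finset.card_eq_three.mpr ⟨_, _, _, ?_, ?_, ?_, rfl⟩] at h3
      · exact absurd (h3.trans hle) (by norm_num)
      · exact fun e => ht1 (congrArg Subtype.val e).symm
      · exact fun e => hz1 (congrArg Subtype.val e).symm
      · exact fun e => hzt (congrArg Subtype.val e).symm
    refine MetacyclicSub.dihedral_or_quasiDihedral hS hCc hQ hC hexp ?_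
    intro g hg
    exact Subgroup.mem_centralizer_singleton_iff.mpr (Subgroup.mem_centralizer_iff.mp hg t htC).symm

variable {Ω : Type*} [Fintype Ω]

/-- A permutation moving every point, swapping two points and semiregular elsewhere, is odd when its order
divides an even divisor of the number of the other points. -/
theorem sign_eq_neg_one [DecidableEq Ω] (σ : Equiv.Perm Ω) (a b : Ω) (hab : a ≠ b)
    (ha : σ a = b) (hb : σ b = a) (hfree : ∀ n : ℕ, ∀ x, x ≠ a → x ≠ b → (σ ^ n) x = x → σ ^ n = 1)
    (hmove : ∀ x, σ x ≠ x) (hdvd : 2 * orderOf σ ∣ Fintype.card Ω - 2) :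
    Equiv.Perm.sign σ = -1 := by
  classical
  set τ := Equiv.swap a b * σ with hτ
  have hτa : τ a = a := by simp [hτ, ha]
  have hτb : τ b = b := by simp [hτ, hb]
  have hinv : ∀ n : ℕ, ∀ x, x ≠ a → x ≠ b → (σ ^ n) x ≠ a ∧ (σ ^ n) x ≠ b := by
    intro n
    induction n with
    | zero => intro x h1 h2; exact ⟨h1, h2⟩
    | succ n ih =>
      intro x h1 h2
      obtain ⟨h3, h4⟩ := ih x h1 h2
      rw [pow_succ']
      simp only [Equiv.Perm.mul_apply]
      exact ⟨fun e => h4 (σ.injective (e.trans hb.symm)), fun e => h3 (σ.injective (e.trans ha.symm))⟩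
  have hτσ : ∀ n : ℕ, ∀ x, x ≠ a → x ≠ b → (τ ^ n) x = (σ ^ n) x := by
    intro n
    induction n with
    | zero => intro x _ _; rfl
    | succ n ih =>
      intro x h1 h2
      rw [pow_succ', Equiv.Perm.mul_apply, ih x h1 h2]
      obtain ⟨h3, h4⟩ := hinv (n + 1) x h1 h2
      rw [pow_succ', Equiv.Perm.mul_apply] at h3 h4
      rw [hτ, Equiv.Perm.mul_apply, Equiv.swap_apply_of_ne_of_ne h3 h4, ← Equiv.Perm.mul_apply, ← pow_succ']
  have hτfix : ∀ n : ℕ, (τ ^ n) a = a ∧ (τ ^ n) b = b := fun n =>
    ⟨Equiv.Perm.pow_apply_eq_self_of_apply_eq_self hτa n, Equiv.Perm.pow_apply_eq_self_of_apply_eq_self hτb n⟩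
  have hord : ∀ n : ℕ, σ ^ n = 1 → τ ^ n = 1 := by
    intro n hn
    ext x
    by_cases h1 : x = a
    · subst h1; simpa using (hτfix n).1
    by_cases h2 : x = b
    · subst h2; simpa using (hτfix n).2
    rw [hτσ n x h1 h2, hn]
  have hsupp : τ.support = Finset.univ \ {a, b} := by
    ext x
    simp only [Equiv.Perm.mem_support, Finset.mem_sdiff, Finset.mem_univ, true_and, Finset.mem_insert,
      Finset.mem_singleton, not_or]
    constructor
    · intro h
      exact ⟨fun e => h (e ▸ hτa), fun e => h (e ▸ hτb)⟩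
    · rintro ⟨h1, h2⟩
      have := hτσ 1 x h1 h2
      simp only [pow_one] at this
      rw [this]
      exact hmove x
  have hcyc : ∀ n ∈ τ.cycleType, n = orderOf τ := by
    intro n hn
    apply Nat.dvd_antisymm (Equiv.Perm.dvd_of_mem_cycleType hn)
    obtain ⟨c, d, hcd, hdis, hc, hcard⟩ := Equiv.Perm.mem_cycleType_iff.mp hn
    obtain ⟨x, hx, -⟩ := id hc
    have hcn : c ^ n = 1 := by rw [← hcard, ← hc.orderOf, pow_orderOf_eq_one]
    have hdx : d x = x := (hdis x).resolve_left hx
    have hxx : (τ ^ n) x = x := by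
      rw [hcd, hdis.commute.mul_pow, hcn, one_mul]
      exact Equiv.Perm.pow_apply_eq_self_of_apply_eq_self hdx n
    have hτx : τ x ≠ x := by rw [hcd, Equiv.Perm.mul_apply, hdx]; exact hx
    have h1 : x ≠ a := fun e => hτx (e ▸ hτa)
    have h2 : x ≠ b := fun e => hτx (e ▸ hτb)
    rw [hτσ n x h1 h2] at hxx
    exact orderOf_dvd_of_pow_eq_one (hord n (hfree n x h1 h2 hxx))
  have hsum : τ.cycleType.sum = Fintype.card Ω - 2 := by
    rw [Equiv.Perm.sum_cycleType, hsupp, Finset.card_sdiff_of_subset (Finset.subset_univ _),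
      Finset.card_univ, Finset.card_pair hab]
  have hrep : τ.cycleType.sum = Multiset.card τ.cycleType * orderOf τ := by
    rw [Multiset.eq_replicate_card.mpr hcyc, Multiset.sum_replicate, Multiset.card_replicate, smul_eq_mul]
  have heven : Even (τ.cycleType.sum + Multiset.card τ.cycleType) := by
    have hd : 2 * orderOf τ ∣ τ.cycleType.sum := by
      rw [hsum]
      exact (Nat.mul_dvd_mul_left 2 (orderOf_dvd_of_pow_eq_one (hord _ (pow_orderOf_eq_one σ)))).trans hdvd
    rw [hrep] at hd ⊢
    have hc2 : 2 ∣ Multiset.card τ.cycleType := Nat.dvd_of_mul_dvd_mul_right (orderOf_pos τ) hd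
    obtain ⟨c, hc⟩ := hc2
    exact ⟨c * orderOf τ + c, by rw [hc]; ring⟩
  have hτsign : Equiv.Perm.sign τ = 1 := by
    rw [Equiv.Perm.sign_of_cycleType, heven.neg_one_pow]
  have hs : σ = Equiv.swap a b * τ := by rw [hτ, ← mul_assoc, Equiv.swap_mul_self, one_mul]
  rw [hs, map_mul, Equiv.Perm.sign_swap hab, hτsign, mul_one]

end CfsgLib.Solvable.FixityTwo
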