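import Cfsg.Prelude.Def_Solvable
import Cfsg.Agent.Lib.FrobRealize.FixedPointFree
import Cfsg.Agent.Lib.Solvable.Cores
import Cfsg.Agent.Lib.Coprime.Sylow
import Cfsg.Agent.Lib.OddOrder.OmegaLemma
import Cfsg.Agent.S0144
import Mathlib.GroupTheory.Transfer

/-!
Groups acting fixed-point-freely: the involution, and the centre.
-/

open scoped Pointwise commutatorElement
set_option linter.style.haveILetI false

namespace CfsgLib.Solvable.FPF

open CfsgLib.Solvable.Basic

variable {G : Type*} [Group G]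

/-- An involution acting fixed-point-freely inverts. -/
theorem inverts [Finite G] (K : Subgroup G) [hn : K.Normal] {s : G} (hs : s * s = 1)
    (hfpf : K ⊓ Subgroup.centralizer {s} = ⊥) {k : G} (hk : k ∈ K) : s * k * s⁻¹ = k⁻¹ := by
  let f : K → K := fun x => ⟨(x : G)⁻¹ * (s * x * s⁻¹),
    K.mul_mem (K.inv_mem x.2) (hn.conj_mem x x.2 s)⟩
  have hinj : Function.Injective f := by
    intro a b hab
    have e : (a : G)⁻¹ * (s * a * s⁻¹) = (b : G)⁻¹ * (s * b * s⁻¹) := congrArg Subtype.val hab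
    have hz : (b : G) * (a : G)⁻¹ ∈ K ⊓ Subgroup.centralizer {s} := by
      refine ⟨K.mul_mem b.2 (K.inv_mem a.2), Subgroup.mem_centralizer_singleton_iff.mpr ?_⟩
      have e' : (b : G) * (a : G)⁻¹ = s * b * s⁻¹ * (s * a * s⁻¹)⁻¹ := by
        calc (b : G) * (a : G)⁻¹ =
            (b : G) * ((a : G)⁻¹ * (s * a * s⁻¹)) * (s * a * s⁻¹)⁻¹ := by group
          _ = _ := by rw [e]; group
      conv_lhs => rw [e']
      group
    rw [hfpf, Subgroup.mem_bot, mul_inv_eq_one] at hz
    exact Subtype.ext hz.symm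
  obtain ⟨x, hx⟩ := Finite.injective_iff_surjective.mp hinj ⟨k, hk⟩
  have e : (x : G)⁻¹ * (s * x * s⁻¹) = k := congrArg Subtype.val hx
  have hsi : s⁻¹ = s := inv_eq_of_mul_eq_one_right hs
  rw [← e]
  calc s * ((x : G)⁻¹ * (s * x * s⁻¹)) * s⁻¹
      = (s * (x : G)⁻¹ * s⁻¹) * ((s * s) * x * (s⁻¹ * s⁻¹)) := by group
    _ = (s * (x : G)⁻¹ * s⁻¹) * x := by rw [hsi, hs]; group
    _ = ((x : G)⁻¹ * (s * x * s⁻¹))⁻¹ := by group

theorem even_order [Finite G] (K H : Subgroup G) [K.Normal] (hK : K ≠ ⊥)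
    (hfpf : ∀ h ∈ H, h ≠ 1 → K ⊓ Subgroup.centralizer {h} = ⊥) (heven : 2 ∣ Nat.card H) :
    (∃ s ∈ H, orderOf s = 2 ∧ (∀ t ∈ H, orderOf t = 2 → t = s) ∧
      ∀ k ∈ K, s * k * s⁻¹ = k⁻¹) ∧ IsMulCommutative K := by
  obtain ⟨x, hx⟩ := exists_prime_orderOf_dvd_card' 2 heven
  have key : ∀ t : G, t ∈ H → orderOf t = 2 → t ≠ 1 ∧ ∀ k ∈ K, t * k * t⁻¹ = k⁻¹ := by
    intro t ht ho
    have hne : t ≠ 1 := fun e => by rw [e, orderOf_one] at ho; omega
    refine ⟨hne, fun k hk => inverts K ?_ (hfpf t ht hne) hk⟩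
    rw [← pow_two, ← ho, pow_orderOf_eq_one]
  have hxo : orderOf (x : G) = 2 := by rw [Subgroup.orderOf_coe, hx]
  obtain ⟨-, hinv⟩ := key x x.2 hxo
  refine ⟨⟨x, x.2, hxo, fun t ht ho => ?_, hinv⟩, ?_⟩
  · by_contra hne
    obtain ⟨-, htinv⟩ := key t ht ho
    have hne' : t⁻¹ * x ≠ 1 := fun e => hne (inv_mul_eq_one.mp e)
    obtain ⟨k, hk, hk1⟩ := K.bot_or_exists_ne_one.resolve_left hK
    have hc : k ∈ K ⊓ Subgroup.centralizer {t⁻¹ * (x : G)} := by
      refine ⟨hk, Subgroup.mem_centralizer_singleton_iff.mpr ?_⟩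
      have e : t⁻¹ * (x : G) * k = k * (t⁻¹ * x) := by
        calc t⁻¹ * (x : G) * k = t⁻¹ * ((x : G) * k * (x : G)⁻¹) * x := by group
          _ = t⁻¹ * k⁻¹ * x := by rw [hinv k hk]
          _ = t⁻¹ * (t * k * t⁻¹) * x := by rw [htinv k hk]
          _ = k * (t⁻¹ * x) := by group
      exact e.symm
    rw [hfpf _ (H.mul_mem (H.inv_mem ht) x.2) hne', Subgroup.mem_bot] at hc
    exact hk1 hc
  · rw [isMulCommutative_subgroup_iff]
    intro a ha b hb
    have h1 : (a * b)⁻¹ = a⁻¹ * b⁻¹ := by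
      rw [← hinv _ (mul_mem ha hb), ← hinv a ha, ← hinv b hb]
      group
    have h2 := congrArg (·⁻¹) h1
    simp only [inv_inv, mul_inv_rev] at h2
    exact h2

theorem center_ne_bot [Finite G] (K H : Subgroup G) [K.Normal] (hK : K ≠ ⊥) (hH : H ≠ ⊥)
    (hfpf : ∀ h ∈ H, h ≠ 1 → K ⊓ Subgroup.centralizer {h} = ⊥) : Subgroup.center H ≠ ⊥ := by
  haveI : Nontrivial H := (Subgroup.nontrivial_iff_ne_bot H).mpr hH
  have hnorm : ∀ X : Subgroup G, X ≤ Subgroup.normalizer (K : Set G) := fun X => by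
    rw [Subgroup.normalizer_eq_top]; exact le_top
  by_cases heven : 2 ∣ Nat.card H
  · obtain ⟨⟨s, hs, hso, huniq, -⟩, -⟩ := even_order K H hK hfpf heven
    have hmem : (⟨s, hs⟩ : H) ∈ Subgroup.center H := by
      rw [Subgroup.mem_center_iff]
      intro g
      apply Subtype.ext
      have h1 : (g : G) * s * (g : G)⁻¹ = s :=
        huniq _ (H.mul_mem (H.mul_mem g.2 hs) (H.inv_mem g.2)) (by
          rw [← MulAut.conj_apply, MulEquiv.orderOf_eq, hso])
      exact mul_inv_eq_iff_eq_mul.mp h1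
    intro e
    rw [e, Subgroup.mem_bot] at hmem
    have : s = 1 := congrArg Subtype.val hmem
    rw [this, orderOf_one] at hso
    omega
  have hq : (Nat.card H).minFac.Prime :=
    Nat.minFac_prime (Subgroup.card_eq_one.not.mpr hH)
  set q := (Nat.card H).minFac with hqdef
  haveI := Fact.mk hq
  have hqd : q ∣ Nat.card H := Nat.minFac_dvd _
  have hcyc : ∀ (r : ℕ) [Fact r.Prime] (R : Sylow r H), IsCyclic R := by
    intro r _ R
    refine (FrobRealize.FPF.sylow_cyclic_or_quaternion hK (hnorm H) hfpf R).elim id ?_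
    rintro ⟨rfl, n, ⟨e⟩⟩
    exfalso
    refine heven (dvd_trans ?_ (R : Subgroup H).card_subgroup_dvd_card)
    rw [Nat.card_congr e.toEquiv, Nat.card_eq_fintype_card (α := QuaternionGroup (2 ^ n)),
      QuaternionGroup.card]
    exact Dvd.dvd.mul_right (by norm_num) _
  obtain ⟨Q⟩ : Nonempty (Sylow q H) := inferInstance
  haveI hQc := hcyc q Q
  set N := (MonoidHom.transferSylow Q
    (IsCyclic.normalizer_le_centralizer hqdef.symm hQc)).ker with hNdef
  have hcompl : Subgroup.IsComplement' N (Q : Subgroup H) :=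
    MonoidHom.ker_transferSylow_isComplement' Q _
  have hqQ : q ∣ Nat.card (Q : Subgroup H) := by
    obtain ⟨k, hk⟩ := IsPGroup.iff_card.mp Q.isPGroup'
    rw [hk]
    refine dvd_pow_self q fun h0 => ?_
    have := Q.not_dvd_index
    rw [← mul_one (Q : Subgroup H).index, ← pow_zero q, ← h0, ← hk,
      Subgroup.index_mul_card] at this
    exact this hqd
  obtain ⟨x₀, hx₀⟩ := exists_prime_orderOf_dvd_card' q hqQ
  set x : H := (x₀ : H) with hxdef
  have hxo : orderOf x = q := by rw [hxdef, Subgroup.orderOf_coe, hx₀]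
  have hcop : (Nat.card (Subgroup.zpowers x)).Coprime (Nat.card N) := by
    rw [Nat.card_zpowers, hxo, hq.coprime_iff_not_dvd]
    intro hd
    have e := hcompl.card_mul
    have := Q.not_dvd_index
    rw [← (Q : Subgroup H).card_mul_index, mul_comm (Nat.card N)] at e
    exact this ((Nat.eq_of_mul_eq_mul_left Nat.card_pos e).symm ▸ hd)
  suffices hc : Subgroup.centralizer ({x} : Set H) = ⊤ by
    intro e
    have hmem : x ∈ Subgroup.center H := by
      rw [Subgroup.mem_center_iff]
      intro g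
      exact Subgroup.mem_centralizer_singleton_iff.mp (hc ▸ Subgroup.mem_top g)
    rw [e, Subgroup.mem_bot] at hmem
    rw [hmem, orderOf_one] at hxo
    exact hq.one_lt.ne hxo
  refine Cores.eq_top_of_sylow_le _ fun p hp => ?_
  haveI := Fact.mk hp
  by_cases hpq : p = q
  · subst hpq
    refine ⟨Q, fun y hy => Subgroup.mem_centralizer_singleton_iff.mpr ?_⟩
    letI := IsCyclic.commGroup (α := (Q : Subgroup H))
    exact congrArg Subtype.val (mul_comm (⟨y, hy⟩ : (Q : Subgroup H)) x₀)
  set A := Subgroup.zpowers x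
  have hAN : A ≤ Subgroup.normalizer (N : Set H) := by
    rw [Subgroup.normalizer_eq_top]; exact le_top
  obtain ⟨P, hP⟩ := CfsgLib.Coprime.exists_invariant_sylow hAN hcop
    (Or.inl (CfsgLib.Coprime.isSolvable_zpowers x)) p
  set P₀ := (P : Subgroup N).map N.subtype with hP₀
  have hP₀p : IsPGroup p P₀ := P.isPGroup'.map _
  have hidx : ¬ p ∣ P₀.index := by
    rw [← Subgroup.relIndex_mul_index (Subgroup.map_subtype_le (P : Subgroup N))]
    intro hd
    rcases hp.dvd_mul.mp hd with hd | hd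
    · rw [Subgroup.relIndex, Subgroup.subgroupOf,
        Subgroup.comap_map_eq_self_of_injective N.subtype_injective] at hd
      exact P.not_dvd_index hd
    · obtain ⟨k, hk⟩ := IsPGroup.iff_card.mp Q.isPGroup'
      rw [hcompl.symm.index_eq_card, hk] at hd
      exact hpq ((Nat.prime_dvd_prime_iff_eq hp hq).mp (hp.dvd_of_dvd_pow hd))
  let T : Sylow p H := hP₀p.toSylow hidx
  haveI hTc := hcyc p T
  refine ⟨T, ?_⟩
  show P₀ ≤ _
  by_cases hpH : p ∣ Nat.card H
  swap
  · obtain ⟨k, hk⟩ := IsPGroup.iff_card.mp hP₀p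
    have : P₀ = ⊥ := Subgroup.card_eq_one.mp (by
      rcases Nat.eq_zero_or_pos k with rfl | h0
      · rw [hk, pow_zero]
      · exact absurd ((hk ▸ dvd_pow_self p h0.ne').trans P₀.card_subgroup_dvd_card) hpH)
    rw [this]; exact bot_le
  have hp2 : p ≠ 2 := fun e => heven (e ▸ hpH)
  have hxc : A ≤ Subgroup.centralizer (P₀ : Set H) := by
    refine CfsgLib.OddOrder.OmegaLemma.le_centralizer_of_fix_orderP hp2 hP₀p hP
      (by rw [Nat.card_zpowers, hxo]; exact (Nat.coprime_primes hq hp).mpr (Ne.symm hpq))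
      fun y hy hyp => ?_
    by_cases hy1 : y = 1
    · subst hy1
      intro a _
      rw [Subgroup.mem_centralizer_singleton_iff]; simp
    have hyo : orderOf y = p := orderOf_eq_prime hyp hy1
    have hpd : p ∣ Nat.card H := hyo ▸ orderOf_dvd_natCard y
    have hlt : q < p := lt_of_le_of_ne (Nat.minFac_le_of_dvd hp.two_le hpd) (Ne.symm hpq)
    -- `zpowers y` is invariant under `x`
    set Y := Subgroup.zpowers y
    have hYP : Y ≤ P₀ := Subgroup.zpowers_le.mpr hy
    have hAY : A ≤ Subgroup.normalizer (Y : Set H) := by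
      intro a ha
      have hle : MulAut.conj a • Y ≤ P₀ := by
        refine (conj_smul_mono hYP).trans (le_of_eq ?_)
        exact Subgroup.conjAct_pointwise_smul_eq_self (hP ha)
      haveI : IsCyclic P₀ := hTc
      have he : (MulAut.conj a • Y).subgroupOf P₀ = Y.subgroupOf P₀ := by
        letI := IsCyclic.commGroup (α := P₀)
        have key : ∀ Z : Subgroup H, Z ≤ P₀ → Nat.card Z = p →
            Z.subgroupOf P₀ = (powMonoidHom p : P₀ →* P₀).ker := by
          intro Z hZ hZc
          refine Subgroup.eq_of_le_of_card_ge (fun z hz => ?_) ?_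
          · rw [MonoidHom.mem_ker, powMonoidHom_apply]
            apply Subtype.ext
            rw [Subgroup.coe_pow, Subgroup.coe_one, ← orderOf_dvd_iff_pow_eq_one]
            exact (Subgroup.orderOf_dvd_natCard Z (Subgroup.mem_subgroupOf.mp hz)).trans hZc.dvd
          · rw [IsCyclic.card_powMonoidHom_ker,
              Nat.card_congr (Subgroup.subgroupOfEquivOfLe hZ).toEquiv, hZc]
            exact Nat.le_of_dvd hp.pos (Nat.gcd_dvd_right _ _)
        have hYp : Nat.card Y = p := by rw [Nat.card_zpowers, hyo]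
        rw [key _ hle (by rw [card_conj_smul, hYp]), key _ hYP hYp]
      rw [Subgroup.subgroupOf_inj, inf_eq_left.mpr hle, inf_eq_left.mpr hYP] at he
      rw [Subgroup.mem_normalizer_iff]
      intro z
      conv_rhs => rw [← he, mem_conj_smul]
      group
    set B := A ⊔ Y
    haveI : (Y.subgroupOf B).Normal := Subgroup.normal_subgroupOf_of_le_normalizer
      (sup_le hAY Subgroup.le_normalizer)
    have hAc : Nat.card A = q := by rw [Nat.card_zpowers, hxo]
    have hYc : Nat.card Y = p := by rw [Nat.card_zpowers, hyo]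
    have hinf : A ⊓ Y = ⊥ := by
      refine Subgroup.inf_eq_bot_of_coprime ?_
      rw [hAc, hYc]; exact (Nat.coprime_primes hq hp).mpr hlt.ne
    have hBc : Nat.card B = q * p := by
      have h1 := card_sup_of_disjoint (Y.subgroupOf B) (A.subgroupOf B) (by
        rw [eq_bot_iff]
        intro z hz
        have : (z : H) ∈ A ⊓ Y := ⟨hz.2, hz.1⟩
        rw [hinf, Subgroup.mem_bot] at this
        exact Subgroup.mem_bot.mpr (Subtype.ext this))
      rw [← Subgroup.subgroupOf_sup le_sup_left le_sup_right, Subgroup.subgroupOf_self,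
        Subgroup.card_top, Nat.card_congr (Subgroup.subgroupOfEquivOfLe le_sup_left).toEquiv,
        Nat.card_congr (Subgroup.subgroupOfEquivOfLe le_sup_right).toEquiv, hAc, hYc] at h1
      exact h1
    set B₀ := B.map H.subtype
    have hB₀c : Nat.card B₀ = q * p := by rw [Subgroup.card_subtype, hBc]
    have hB₀H : B₀ ≤ H := Subgroup.map_subtype_le B
    have hcopK := FrobRealize.FPF.coprime_card (hnorm B₀) fun a ha => hfpf a (hB₀H ha)
    obtain ⟨r, hr, hrK⟩ := Nat.exists_prime_and_dvd (Subgroup.card_eq_one.not.mpr hK)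
    haveI := Fact.mk hr
    haveI : Group.IsSolvable B₀ := Cfsg.Agent.S0144.result q p 1 1 hq hp (by
      rw [hB₀c, pow_one, pow_one])
    obtain ⟨R, hR⟩ := CfsgLib.Coprime.exists_invariant_sylow (hnorm B₀) hcopK (Or.inl inferInstance) r
    set R₀ := (R : Subgroup K).map K.subtype
    set V := (Subgroup.center R₀).map R₀.subtype with hV
    haveI : IsMulCommutative V := isMulCommutative_subgroup_iff.mpr (by
      rintro _ ⟨a, ha, rfl⟩ _ ⟨b, hb, rfl⟩
      exact congrArg Subtype.val (Subgroup.mem_center_iff.mp hb a))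
    have hVR : V ≤ R₀ := Subgroup.map_subtype_le _
    have hVne : V ≠ ⊥ := by
      rw [hV, Ne, Subgroup.map_eq_bot_iff_of_injective _ R₀.subtype_injective]
      haveI : Nontrivial R₀ := by
        rw [← Finite.one_lt_card_iff_nontrivial, Subgroup.card_subtype]
        obtain ⟨k, hk⟩ := IsPGroup.iff_card.mp R.isPGroup'
        rw [hk]
        refine Nat.one_lt_pow (fun h0 => R.not_dvd_index ?_) hr.one_lt
        have := (R : Subgroup K).card_mul_index
        rw [hk, h0, pow_zero, one_mul] at this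
        rw [this]; exact hrK
      exact ((R.isPGroup'.map K.subtype).bot_lt_center).ne'
    have hBV : B₀ ≤ Subgroup.normalizer (V : Set G) := by
      intro b hb
      have hbR : MulAut.conj b • R₀ = R₀ := Subgroup.conjAct_pointwise_smul_eq_self (hR hb)
      rw [Subgroup.mem_normalizer_iff]
      have key : ∀ z : G, z ∈ V → ∀ c : G, MulAut.conj c • R₀ = R₀ → c * z * c⁻¹ ∈ V := by
        rintro _ ⟨z, hz, rfl⟩ c hc
        have hcz : c * (z : G) * c⁻¹ ∈ R₀ := by
          have h := conj_mem_conj_smul (g := c) z.2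
          rwa [hc] at h
        refine ⟨⟨_, hcz⟩, Subgroup.mem_center_iff.mpr fun w => Subtype.ext ?_, rfl⟩
        have hw : c⁻¹ * (w : G) * c ∈ R₀ := by
          have : (w : G) ∈ MulAut.conj c • R₀ := by rw [hc]; exact w.2
          exact mem_conj_smul.mp this
        have e : c⁻¹ * (w : G) * c * z = z * (c⁻¹ * w * c) :=
          congrArg Subtype.val (Subgroup.mem_center_iff.mp hz ⟨_, hw⟩)
        show (w : G) * (c * z * c⁻¹) = c * z * c⁻¹ * w
        calc (w : G) * (c * z * c⁻¹) = c * (c⁻¹ * w * c * z) * c⁻¹ := by group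
          _ = c * (z * (c⁻¹ * w * c)) * c⁻¹ := by rw [e]
          _ = _ := by group
      intro z
      refine ⟨fun hz => key z hz b hbR, fun hz => ?_⟩
      have := key _ hz b⁻¹ (by rw [map_inv, inv_smul_eq_iff, hbR])
      simpa [mul_assoc] using this
    have hVK : V ≤ K := hVR.trans (Subgroup.map_subtype_le _)
    haveI := FrobRealize.FPF.isMulCommutative_of_card_mul hVne hBV
      (fun a ha ha1 => le_bot_iff.mp (hfpf a (hB₀H ha) ha1 ▸ inf_le_inf_right _ hVK))
      hq hp hlt hB₀c
    intro a ha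
    rw [Subgroup.mem_centralizer_singleton_iff]
    apply Subtype.ext
    exact (isMulCommutative_subgroup_iff.mp this)
      _ (Subgroup.mem_map_of_mem _ (Subgroup.mem_sup_left ha))
      _ (Subgroup.mem_map_of_mem _ (Subgroup.mem_sup_right (Subgroup.mem_zpowers y)))
  exact Subgroup.le_centralizer_iff.mp (hxc.trans le_rfl) |>.trans
    (Subgroup.centralizer_le (Set.singleton_subset_iff.mpr (Subgroup.mem_zpowers x)))

end CfsgLib.Solvable.FPF
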