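import Cfsg.Agent.Lib.Solvable.Cores
import Mathlib.GroupTheory.GroupAction.Primitive

/-!
Regular normal subgroups and primitive solvable groups.
-/

open scoped Pointwise
set_option linter.style.haveILetI false

namespace CfsgLib.Solvable.Primitive

open CfsgLib.Solvable.Basic

variable {G : Type*} [Group G] {X : Type*} [MulAction G X]

theorem minimal_normal_regular [Finite G] [Group.IsSolvable G] [Nonempty X] [FaithfulSMul G X]
    (hprim : MulAction.IsPreprimitive G X) (M : Subgroup G) [M.Normal] (hM : M ≠ ⊥)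
    (hmin : ∀ K : Subgroup G, K.Normal → K ≤ M → K = ⊥ ∨ K = M) :
    MulAction.IsPretransitive M X ∧ (∀ x : X, MulAction.stabilizer M x = ⊥) ∧
      ∃ p d : ℕ, p.Prime ∧ 0 < d ∧ Nat.card X = p ^ d ∧ Nat.card M = p ^ d := by
  obtain ⟨hc, p, hp, -, hpg⟩ := minimal_normal_solvable M hM hmin
  haveI := hprim
  have hfix : MulAction.fixedPoints M X ≠ Set.univ := by
    intro h
    apply hM
    rw [eq_bot_iff]
    intro m hm
    rw [Subgroup.mem_bot]
    refine eq_of_smul_eq_smul (α := X) fun x => ?_
    rw [one_smul]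
    have hx : x ∈ MulAction.fixedPoints M X := h ▸ Set.mem_univ x
    exact hx ⟨m, hm⟩
  have ht : MulAction.IsPretransitive M X :=
    MulAction.IsQuasiPreprimitive.isPretransitive_of_normal hfix
  have hst : ∀ x : X, MulAction.stabilizer M x = ⊥ := by
    intro x
    rw [eq_bot_iff]
    intro m hm
    rw [Subgroup.mem_bot]
    apply Subtype.ext
    refine eq_of_smul_eq_smul (α := X) fun y => ?_
    rw [Subgroup.coe_one, one_smul]
    obtain ⟨n, rfl⟩ := MulAction.exists_smul_eq M x y
    show (m : G) • (n : G) • x = (n : G) • x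
    rw [smul_smul, isMulCommutative_subgroup_iff.mp hc m m.2 n n.2, ← smul_smul,
      show (m : G) • x = x from MulAction.mem_stabilizer_iff.mp hm]
  refine ⟨ht, hst, ?_⟩
  haveI := Fact.mk hp
  obtain ⟨d, hd⟩ := IsPGroup.iff_card.mp hpg
  obtain ⟨x⟩ := ‹Nonempty X›
  refine ⟨p, d, hp, ?_, ?_, hd⟩
  · rcases Nat.eq_zero_or_pos d with h | h
    · subst h; exact absurd (Subgroup.card_eq_one.mp (by simpa using hd)) hM
    · exact h
  · rw [← MulAction.index_stabilizer_of_transitive M x, hst x, Subgroup.index_bot, hd]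

end CfsgLib.Solvable.Primitive
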