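import Mathlib
import Cfsg.Prelude.Def_LieExceptional
import Cfsg.Agent.Lib.Perm.ZGroup.Basic
import Cfsg.Agent.Lib.CharDeep.Zassenhaus
import Cfsg.Agent.S0739
import Cfsg.Agent.S0740

/-!
Simple Zassenhaus groups whose two-point stabiliser has odd order: involutions, and element counts.
-/

set_option autoImplicit false

namespace CfsgLib.Solvable.ZassenhausOdd

open MulAction

variable {G Ω : Type*} [Group G] [Finite G] [MulAction G Ω] [Fintype Ω]

theorem card_group (hZ : Cfsg.IsZassenhausGroup G Ω) {a b : Ω} (hab : a ≠ b) :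
    Nat.card G = Fintype.card Ω * ((Fintype.card Ω - 1) * Nat.card ↥(stabilizer G a ⊓ stabilizer G b)) := by
  obtain ⟨S⟩ := CfsgLib.Perm.ZGroup.exists_setup hZ hab
  rw [S.card_G]
  congr 1
  · exact S.card_F
  · congr 1
    have := S.card_F
    omega

theorem swap_inverts [IsSimpleGroup G] (hZ : Cfsg.IsZassenhausGroup G Ω) {a b : Ω} (hab : a ≠ b)
    (hodd : Odd (Nat.card ↥(stabilizer G a ⊓ stabilizer G b))) :
    ∀ s : G, s • a = b → s • b = a → ∀ x ∈ stabilizer G a ⊓ stabilizer G b, s * x * s⁻¹ = x⁻¹ := by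
  refine (Cfsg.Agent.S0739.result hZ hab hodd ?_).2.2
  rintro q hq hqd ⟨N, hN, hidx⟩
  haveI := Fact.mk hq
  have hqG : q ∣ Nat.card G := hqd.trans (Subgroup.card_subgroup_dvd_card _)
  have hv : 0 < (Nat.card G).factorization q := hq.factorization_pos_of_dvd Nat.card_pos.ne' hqG
  rcases hN.eq_bot_or_eq_top with rfl | rfl
  · rw [Subgroup.index_bot] at hidx
    have h2 : 2 ∣ Nat.card G := by
      obtain ⟨⟨s, hs, -⟩, -⟩ := Cfsg.Agent.S0740.result hZ hab
      exact hs ▸ orderOf_dvd_natCard s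
    rw [hidx] at h2
    have h3 := (Nat.prime_dvd_prime_iff_eq Nat.prime_two hq).mp (Nat.prime_two.dvd_of_dvd_pow h2)
    subst h3
    exact absurd hodd (Nat.not_odd_iff_even.mpr (even_iff_two_dvd.mpr hqd))
  · rw [Subgroup.index_top] at hidx
    exact absurd hidx.symm (Nat.one_lt_pow hv.ne' hq.one_lt).ne'

/-- Exactly `e` involutions exchange two given points, and they are conjugate under their stabiliser. -/
theorem swappers [IsSimpleGroup G] (hZ : Cfsg.IsZassenhausGroup G Ω) {a b : Ω} (hab : a ≠ b)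
    (hodd : Odd (Nat.card ↥(stabilizer G a ⊓ stabilizer G b))) :
    Nat.card {s : G // orderOf s = 2 ∧ s • a = b ∧ s • b = a} = Nat.card ↥(stabilizer G a ⊓ stabilizer G b) ∧
      ∀ s r : G, orderOf s = 2 → s • a = b → s • b = a → orderOf r = 2 → r • a = b → r • b = a →
        IsConj s r := by
  have hinv := swap_inverts hZ hab hodd
  obtain ⟨⟨t, ht, hta, htb⟩, -⟩ := Cfsg.Agent.S0740.result hZ hab
  set E := stabilizer G a ⊓ stabilizer G b with hE
  have hmemE : ∀ {x : G}, x ∈ E ↔ x • a = a ∧ x • b = b := Iff.rfl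
  have htt : t * t = 1 := by rw [← sq, ← ht, pow_orderOf_eq_one]
  have hti : t⁻¹ = t := inv_eq_of_mul_eq_one_right htt
  have hord : ∀ x ∈ E, orderOf (t * x) = 2 := by
    intro x hx
    have h1 : t * x * t = x⁻¹ := by
      have := hinv t hta htb x hx
      rwa [hti] at this
    have hsq : (t * x) ^ 2 = 1 := by rw [sq, show t * x * (t * x) = t * x * t * x by group, h1, inv_mul_cancel]
    refine orderOf_eq_prime hsq fun h => hab ?_
    have h2 : (t * x) • a = a := by rw [h, one_smul]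
    rwa [mul_smul, (hmemE.mp hx).1, hta, eq_comm] at h2
  have hin : ∀ s : G, s • a = b → s • b = a → t * s ∈ E := fun s h1 h2 =>
    hmemE.mpr ⟨by rw [mul_smul, h1, htb], by rw [mul_smul, h2, hta]⟩
  have hcancel : ∀ s : G, t * (t * s) = s := fun s => by rw [← mul_assoc, htt, one_mul]
  refine ⟨Nat.card_congr ⟨fun s => ⟨t * s.1, hin s.1 s.2.2.1 s.2.2.2⟩,
    fun x => ⟨t * x.1, hord x.1 x.2, by rw [mul_smul, (hmemE.mp x.2).1, hta],
      by rw [mul_smul, (hmemE.mp x.2).2, htb]⟩,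
    fun s => Subtype.ext (hcancel _), fun x => Subtype.ext (hcancel _)⟩, ?_⟩
  intro s r hs hsa hsb hr hra hrb
  have hss : s * s = 1 := by rw [← sq, ← hs, pow_orderOf_eq_one]
  have hsi : s⁻¹ = s := inv_eq_of_mul_eq_one_right hss
  have hz : s * r ∈ E := hmemE.mpr ⟨by rw [mul_smul, hra, hsb], by rw [mul_smul, hrb, hsa]⟩
  set z : E := ⟨s * r, hz⟩ with hzdef
  have hcop : Nat.Coprime (Nat.card E) 2 := (Nat.coprime_two_right).mpr hodd
  obtain ⟨y, hy⟩ := (powCoprime hcop).surjective z⁻¹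
  have hy' : (y : G) ^ 2 = (s * r)⁻¹ := by
    have := congrArg Subtype.val hy
    simpa [powCoprime, hzdef] using this
  refine isConj_iff.mpr ⟨(y : G), ?_⟩
  have h1 : s * (y : G) * s = (y : G)⁻¹ := by
    have := hinv s hsa hsb _ y.2
    rwa [hsi] at this
  calc (y : G) * s * (y : G)⁻¹ = (y : G) * s * (s * y * s) := by rw [h1]
    _ = (y : G) * (s * s) * ((y : G) * s) := by group
    _ = (y : G) ^ 2 * s := by rw [hss, sq]; group
    _ = r⁻¹ * (s⁻¹ * s) := by rw [hy']; group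
    _ = r := by
      rw [inv_mul_cancel, mul_one]
      exact inv_eq_of_mul_eq_one_right (by rw [← sq, ← hr, pow_orderOf_eq_one])

/-- An involution fixes one point in odd degree and none in even degree. -/
theorem involution_fixed (hZ : Cfsg.IsZassenhausGroup G Ω) {a b : Ω} (hab : a ≠ b)
    (hodd : Odd (Nat.card ↥(stabilizer G a ⊓ stabilizer G b))) {s : G} (hs : orderOf s = 2) :
    Nat.card (fixedBy Ω s) = if Odd (Fintype.card Ω) then 1 else 0 := by
  haveI := hZ.1
  obtain ⟨c, hc⟩ : ∃ c : Ω, s • c ≠ c := by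
    by_contra! hall
    have : s = 1 := eq_of_smul_eq_smul (α := Ω) fun c => by rw [hall c, one_smul]
    simp [this] at hs
  have hssc : s • s • c = c := by
    rw [← mul_smul, ← sq, ← hs, pow_orderOf_eq_one, one_smul]
  obtain ⟨-, h1, -⟩ := Cfsg.Agent.S0740.result hZ (Ne.symm hc)
  obtain ⟨ho, he⟩ := h1 s hs rfl hssc
  by_cases hn : Odd (Fintype.card Ω)
  · rw [if_pos hn]; exact ho hn
  · rw [if_neg hn]
    rcases he (Nat.not_odd_iff_even.mp hn) with h | h
    · exact h
    · exfalso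
      haveI := Fintype.ofFinite (fixedBy Ω s)
      rw [Nat.card_eq_fintype_card] at h
      obtain ⟨⟨x, hx⟩, ⟨y, hy⟩, hxy⟩ := Fintype.exists_pair_of_one_lt_card (by omega : 1 < Fintype.card (fixedBy Ω s))
      obtain ⟨g, hga, hgb⟩ := CfsgLib.CharDeep.Zassenhaus.exists_map_pair hZ (a := x) (b := y)
        (fun e => hxy (Subtype.ext e)) hab
      have hmem : g * s * g⁻¹ ∈ stabilizer G a ⊓ stabilizer G b := by
        refine Subgroup.mem_inf.mpr ⟨?_, ?_⟩ <;> rw [mem_stabilizer_iff]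
        · rw [← hga, mul_smul, inv_smul_smul, mul_smul, (show s • x = x from hx)]
        · rw [← hgb, mul_smul, inv_smul_smul, mul_smul, (show s • y = y from hy)]
      have hd := Subgroup.orderOf_dvd_natCard _ hmem
      rw [show g * s * g⁻¹ = MulAut.conj g s from rfl, MulEquiv.orderOf_eq, hs] at hd
      exact absurd hodd (Nat.not_odd_iff_even.mpr (even_iff_two_dvd.mpr hd))

/-- The number of involutions. -/
theorem card_involutions [IsSimpleGroup G] (hZ : Cfsg.IsZassenhausGroup G Ω) {a b : Ω} (hab : a ≠ b)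
    (hodd : Odd (Nat.card ↥(stabilizer G a ⊓ stabilizer G b))) :
    Nat.card {s : G // orderOf s = 2} * (Fintype.card Ω - if Odd (Fintype.card Ω) then 1 else 0) =
      Fintype.card Ω * (Fintype.card Ω - 1) * Nat.card ↥(stabilizer G a ⊓ stabilizer G b) := by
  classical
  haveI := Fintype.ofFinite G
  set e := Nat.card ↥(stabilizer G a ⊓ stabilizer G b)
  have hmoved : ∀ s : {s : G // orderOf s = 2}, Nat.card {c : Ω // (s : G) • c ≠ c} =
      Fintype.card Ω - if Odd (Fintype.card Ω) then 1 else 0 := by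
    intro s
    rw [← involution_fixed hZ hab hodd s.2, Nat.card_eq_fintype_card, Fintype.card_subtype_compl,
      Nat.card_eq_fintype_card]
    rfl
  have hpair : ∀ p : {p : Ω × Ω // p.1 ≠ p.2},
      Nat.card {s : G // orderOf s = 2 ∧ s • p.1.1 = p.1.2 ∧ s • p.1.2 = p.1.1} = e := by
    intro p
    obtain ⟨g, hga, hgb⟩ := CfsgLib.CharDeep.Zassenhaus.exists_map_pair hZ p.2 hab
    have hcong : Nat.card ↥(stabilizer G p.1.1 ⊓ stabilizer G p.1.2) = e := by
      refine Nat.card_congr ((MulAut.conj g).toEquiv.subtypeEquiv fun x => ?_)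
      simp only [Subgroup.mem_inf, mem_stabilizer_iff, MulEquiv.toEquiv_eq_coe, MulEquiv.coe_toEquiv,
        MulAut.conj_apply]
      rw [← hga, ← hgb]
      simp [mul_smul]
    rw [(swappers hZ p.2 (hcong ▸ hodd)).1, hcong]
  have h1 : Nat.card (Σ s : {s : G // orderOf s = 2}, {c : Ω // (s : G) • c ≠ c}) =
      Nat.card (Σ p : {p : Ω × Ω // p.1 ≠ p.2},
        {s : G // orderOf s = 2 ∧ s • p.1.1 = p.1.2 ∧ s • p.1.2 = p.1.1}) := by
    refine Nat.card_congr ⟨fun x => ⟨⟨(x.2.1, x.1.1 • x.2.1), Ne.symm x.2.2⟩, x.1.1, x.1.2, rfl, ?_⟩,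
      fun y => ⟨⟨y.2.1, y.2.2.1⟩, y.1.1.1, ?_⟩, fun x => rfl, ?_⟩
    · have h2 : x.1.1 ^ 2 = 1 := by
        have h := pow_orderOf_eq_one x.1.1
        rwa [x.1.2] at h
      show x.1.1 • (x.1.1 • x.2.1) = x.2.1
      rw [← mul_smul, ← sq, h2, one_smul]
    · rw [y.2.2.2.1]; exact Ne.symm y.1.2
    · rintro ⟨⟨⟨c, d⟩, hcd⟩, s, hs, hsc, hsd⟩
      obtain rfl : s • c = d := hsc
      rfl
  rw [Nat.card_sigma, Nat.card_sigma, Finset.sum_congr rfl fun s _ => hmoved s,
    Finset.sum_congr rfl fun p _ => hpair p, Finset.sum_const, Finset.sum_const, smul_eq_mul, smul_eq_mul,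
    Finset.card_univ, Finset.card_univ, ← Nat.card_eq_fintype_card] at h1
  rw [h1]
  congr 1
  rw [Fintype.card_subtype_compl, Fintype.card_prod, Nat.mul_sub, mul_one]
  congr 1
  exact Fintype.card_congr ⟨fun p => p.1.1, fun c => ⟨(c, c), rfl⟩,
    fun p => Subtype.ext (Prod.ext rfl p.2), fun c => rfl⟩

/-- All involutions are conjugate. -/
theorem involutions_conj [IsSimpleGroup G] (hZ : Cfsg.IsZassenhausGroup G Ω) {a b : Ω} (hab : a ≠ b)
    (hodd : Odd (Nat.card ↥(stabilizer G a ⊓ stabilizer G b))) {x y : G} (hx : orderOf x = 2)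
    (hy : orderOf y = 2) : IsConj x y := by
  haveI := hZ.1
  have key : ∀ s : G, orderOf s = 2 → ∃ r : G, IsConj s r ∧ orderOf r = 2 ∧ r • a = b ∧ r • b = a := by
    intro s hs
    obtain ⟨c, hc⟩ : ∃ c : Ω, s • c ≠ c := by
      by_contra! hall
      have : s = 1 := eq_of_smul_eq_smul (α := Ω) fun c => by rw [hall c, one_smul]
      simp [this] at hs
    have hssc : s • s • c = c := by rw [← mul_smul, ← sq, ← hs, pow_orderOf_eq_one, one_smul]
    obtain ⟨g, hga, hgb⟩ := CfsgLib.CharDeep.Zassenhaus.exists_map_pair hZ (Ne.symm hc) hab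
    refine ⟨g * s * g⁻¹, isConj_iff.mpr ⟨g, rfl⟩, ?_, ?_, ?_⟩
    · rw [show g * s * g⁻¹ = MulAut.conj g s from rfl, MulEquiv.orderOf_eq, hs]
    · rw [← hga, mul_smul, inv_smul_smul, mul_smul, hgb]
    · rw [← hgb, mul_smul, inv_smul_smul, mul_smul, hssc, hga]
  obtain ⟨r, hxr, hr, hra, hrb⟩ := key x hx
  obtain ⟨r', hyr, hr', hra', hrb'⟩ := key y hy
  exact hxr.trans (((swappers hZ hab hodd).2 r r' hr hra hrb hr' hra' hrb').trans hyr.symm)

end CfsgLib.Solvable.ZassenhausOdd
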