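import Cfsg.Agent.Lib.Solvable.Basic
import Cfsg.Agent.Lib.Solvable.Ito
import Cfsg.Agent.Lib.Solvable.KegelWielandt

/-!
# Products of an abelian group and a group of class two
-/

set_option autoImplicit false

namespace CfsgLib.Solvable.AbelianClassTwo

open Subgroup CfsgLib CfsgLib.Solvable.Basic
open scoped Pointwise commutatorElement

universe u

variable {G : Type u} [Group G]

theorem derivedSeries_add_le (N : Subgroup G) {n : ℕ} (h : derivedSeries G n ≤ N) (k : ℕ) :
    derivedSeries G (n + k) ≤ (derivedSeries N k).map N.subtype := by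
  induction k with
  | zero => rwa [derivedSeries_zero, ← MonoidHom.range_eq_map, range_subtype, add_zero]
  | succ k ih =>
    rw [← add_assoc, derivedSeries_succ, derivedSeries_succ, map_commutator]
    exact commutator_mono ih ih

/-- A metabelian subgroup containing the conjugates of a nontrivial element of the derived subgroup
of the second factor. -/
theorem exists_metabelian [Finite G] (A B : Subgroup G) [IsMulCommutative A]
    (hB : commutator ↥B ≤ center ↥B) (hAB : ∀ g : G, ∃ a ∈ A, ∃ b ∈ B, g = a * b)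
    (hne : commutator ↥B ≠ ⊥) :
    ∃ z : B, z ∈ commutator ↥B ∧ z ≠ 1 ∧ ∃ Y : Subgroup G, A ≤ Y ∧ (z : G) ∈ Y ∧
      ∀ x ∈ Y ⊓ B, ∀ y ∈ Y ⊓ B, x * y = y * x := by
  classical
  have cA := isMulCommutative_subgroup_iff.mp (inferInstance : IsMulCommutative A)
  set D := (commutator ↥B).map B.subtype with hD
  have hcomm : ∀ x ∈ B, ∀ y ∈ B, ⁅x, y⁆ ∈ D := fun x hx y hy =>
    ⟨⁅(⟨x, hx⟩ : B), ⟨y, hy⟩⁆, commutator_mem_commutator (mem_top _) (mem_top _), rfl⟩
  have hDc : ∀ x ∈ D, ∀ y ∈ B, y * x = x * y := by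
    rintro _ ⟨x, hx, rfl⟩ y hy
    exact congrArg Subtype.val (mem_center_iff.1 (hB hx) ⟨y, hy⟩)
  have hBnil : Group.IsNilpotent B := by
    haveI : Group.IsNilpotent (Abelianization B) := inferInstance
    exact Subgroup.isNilpotent_of_ker_le_center (Abelianization.of (G := B))
      (by rw [Abelianization.ker_of]; exact hB)
  haveI : Group.IsSolvable G := KegelWielandt.isSolvable A B
    ((inferInstance : IsMulCommutative A) |> fun _ => by
      letI : CommGroup A := { (inferInstance : Group A) with mul_comm := mul_comm' }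
      infer_instance) hBnil hAB
  obtain ⟨L, ⟨hLn, hLD⟩, hLmax⟩ := Set.Finite.exists_maximal
    (s := {L : Subgroup G | L.Normal ∧ L ⊓ D = ⊥}) (Set.toFinite _) ⟨⊥, inferInstance, bot_inf_eq _⟩
  haveI := hLn
  have hLtop : L ≠ ⊤ := fun e => hne (by
    rw [e, top_inf_eq, hD, map_eq_bot_iff_of_injective _ B.subtype_injective] at hLD
    exact hLD)
  haveI : Nontrivial (G ⧸ L) := QuotientGroup.nontrivial_iff.2 hLtop
  obtain ⟨M, p, -, hMn, hMne, -, hMc, -, -⟩ :=
    exists_minimal_normal_pgroup (G := G ⧸ L) (H := ⊤) top_ne_bot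
  haveI := hMn
  set K := M.comap (QuotientGroup.mk' L) with hK
  have hLK : L ≤ K := fun x hx => by
    show QuotientGroup.mk' L x ∈ M
    rw [show QuotientGroup.mk' L x = 1 from (QuotientGroup.eq_one_iff x).2 hx]
    exact one_mem M
  have hKD : K ⊓ D ≠ ⊥ := fun e => hMne (by
    have := hLmax ⟨inferInstance, e⟩ hLK
    rw [← map_comap_eq_self_of_surjective (QuotientGroup.mk'_surjective L) M, Subgroup.map_eq_bot_iff,
      QuotientGroup.ker_mk']
    exact this)
  let q := QuotientGroup.mk' L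
  have hKc : ∀ x ∈ K, ∀ y ∈ K, q x * q y = q y * q x := fun x hx y hy =>
    isMulCommutative_subgroup_iff.mp hMc _ hx _ hy
  by_cases hB1 : ∀ x ∈ (A ⊔ K) ⊓ B, ∀ y ∈ (A ⊔ K) ⊓ B, x * y = y * x
  · obtain ⟨_, ⟨hzK, z, hz, rfl⟩, hz1⟩ := (K ⊓ D).bot_or_exists_ne_one.resolve_left hKD
    exact ⟨z, hz, fun e => hz1 (by rw [e]; rfl), A ⊔ K, le_sup_left, mem_sup_right hzK, hB1⟩
  push Not at hB1
  obtain ⟨b₁, hb₁, b₂, hb₂, hne12⟩ := hB1
  set z := ⁅b₁, b₂⁆ with hz
  have hz1 : z ≠ 1 := fun e => hne12 (commutatorElement_eq_one_iff_mul_comm.1 e)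
  have hzD : z ∈ D := hcomm b₁ hb₁.2 b₂ hb₂.2
  have hzK : z ∈ K := by
    haveI : K.Normal := inferInstance
    obtain ⟨a₁, ha₁, k₁, hk₁, e₁⟩ := mem_sup_of_normal_right.1 hb₁.1
    obtain ⟨a₂, ha₂, k₂, hk₂, e₂⟩ := mem_sup_of_normal_right.1 hb₂.1
    rw [hz, ← e₁, ← e₂, ← QuotientGroup.eq_one_iff (N := K)]
    show QuotientGroup.mk' K ⁅a₁ * k₁, a₂ * k₂⁆ = 1
    rw [map_commutatorElement, map_mul, map_mul,
      show QuotientGroup.mk' K k₁ = 1 from (QuotientGroup.eq_one_iff _).2 hk₁,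
      show QuotientGroup.mk' K k₂ = 1 from (QuotientGroup.eq_one_iff _).2 hk₂, mul_one, mul_one,
      ← map_commutatorElement, commutatorElement_eq_one_iff_mul_comm.2 (cA a₁ ha₁ a₂ ha₂), map_one]
  -- elements of `K` commuting modulo `L` with the part of `A` supplemented by `K`
  set A₀ : Set G := {a | a ∈ A ∧ ∃ k ∈ K, a * k ∈ B} with hA₀
  set Z₀ : Subgroup G := K ⊓ (centralizer (q '' A₀)).comap q with hZ₀
  have hzZ : z ∈ Z₀ := by
    refine ⟨hzK, ?_⟩
    show q z ∈ centralizer (q '' A₀)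
    refine mem_centralizer_iff.2 ?_
    rintro _ ⟨a, ⟨-, k, hk, hakB⟩, rfl⟩
    have h1 : q (a * k) * q z = q z * q (a * k) := by rw [← map_mul, ← map_mul, hDc z hzD _ hakB]
    rw [map_mul, mul_assoc, hKc k hk z hzK, ← mul_assoc, ← mul_assoc] at h1
    exact mul_right_cancel h1
  have hAZ : A ≤ normalizer (Z₀ : Set G) := by
    intro a ha
    have key : ∀ a ∈ A, ∀ x ∈ Z₀, a * x * a⁻¹ ∈ Z₀ := by
      intro a ha x hx
      refine ⟨(inferInstance : K.Normal).conj_mem x hx.1 a, ?_⟩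
      show q (a * x * a⁻¹) ∈ centralizer (q '' A₀)
      refine mem_centralizer_iff.2 ?_
      rintro _ ⟨a', ha', rfl⟩
      have h1 : q a' * q x = q x * q a' := mem_centralizer_iff.1 hx.2 _ ⟨a', ha', rfl⟩
      rw [← map_mul, ← map_mul, ← mul_assoc, ← mul_assoc, cA a' ha'.1 a ha, mul_assoc a a' x,
        mul_assoc (a * x), ← cA a' ha'.1 a⁻¹ (inv_mem ha), map_mul, map_mul q a, map_mul q a', h1,
        ← map_mul, ← map_mul, ← map_mul]
      congr 1
      group
    refine mem_normalizer_iff.2 fun x => ⟨key a ha x, fun hx => ?_⟩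
    have := key a⁻¹ (inv_mem ha) _ hx
    rwa [show a⁻¹ * (a * x * a⁻¹) * a⁻¹⁻¹ = x by group] at this
  obtain ⟨z', hz', ez⟩ := hzD
  refine ⟨z', hz', fun e => hz1 (by rw [← ez, e]; rfl), A ⊔ Z₀, le_sup_left, mem_sup_right ?_, ?_⟩
  · rw [show (z' : G) = z from ez]; exact hzZ
  intro x hx y hy
  have hdec : ∀ b ∈ (A ⊔ Z₀) ⊓ B, ∃ a ∈ A₀, ∃ k ∈ Z₀, b = a * k := by
    intro b hb
    obtain ⟨a, ha, k, hk, e⟩ :=
      (Set.mem_mul.1 ((coe_mul_of_left_le_normalizer_right A Z₀ hAZ).le hb.1))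
    exact ⟨a, ⟨ha, k, hk.1, e ▸ hb.2⟩, k, hk, e.symm⟩
  obtain ⟨a₁, ha₁, k₁, hk₁, e₁⟩ := hdec x hx
  obtain ⟨a₂, ha₂, k₂, hk₂, e₂⟩ := hdec y hy
  have c1 : Commute (q a₁) (q a₂) := by
    show q a₁ * q a₂ = q a₂ * q a₁
    rw [← map_mul, ← map_mul, cA a₁ ha₁.1 a₂ ha₂.1]
  have c2 : Commute (q a₁) (q k₂) := mem_centralizer_iff.1 hk₂.2 _ ⟨a₁, ha₁, rfl⟩
  have c3 : Commute (q k₁) (q a₂) := (mem_centralizer_iff.1 hk₁.2 _ ⟨a₂, ha₂, rfl⟩).symm
  have c4 : Commute (q k₁) (q k₂) := hKc k₁ hk₁.1 k₂ hk₂.1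
  have hL : ⁅x, y⁆ ∈ L := by
    rw [← QuotientGroup.eq_one_iff]
    show q ⁅x, y⁆ = 1
    rw [map_commutatorElement, commutatorElement_eq_one_iff_commute, e₁, e₂, map_mul, map_mul]
    exact (c1.mul_right c2).mul_left (c3.mul_right c4)
  have h1 : ⁅x, y⁆ ∈ L ⊓ D := ⟨hL, hcomm x hx.2 y hy.2⟩
  rw [hLD, mem_bot] at h1
  exact commutatorElement_eq_one_iff_mul_comm.1 h1

theorem derivedSeries_aux (n : ℕ) : ∀ (G : Type u) [Group G] [Finite G] (A B : Subgroup G),
    IsMulCommutative A → commutator ↥B ≤ center ↥B → (∀ g : G, ∃ a ∈ A, ∃ b ∈ B, g = a * b) →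
    (Nat.card ↥(commutator ↥B)).primeFactorsList.length ≤ n →
    derivedSeries G (2 * (1 + n)) = ⊥ := by
  induction n with
  | zero =>
    intro G _ _ A B hA hB hAB hn
    have h1 : Nat.card ↥(commutator ↥B) = 1 := by
      rcases (Nat.primeFactorsList_eq_nil _).1 (List.length_eq_zero_iff.1 (Nat.le_zero.1 hn)) with h | h
      · exact absurd h Nat.card_pos.ne'
      · exact h
    have hBc : IsMulCommutative B := isMulCommutative_iff.2 fun a b =>
      commutatorElement_eq_one_iff_mul_comm.1 (mem_bot.1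
        ((card_eq_one.1 h1).le (commutator_mem_commutator (mem_top a) (mem_top b))))
    exact Ito.derivedSeries_two_eq_bot A B hA hBc hAB
  | succ n ih =>
    intro G _ _ A B hA hB hAB hn
    by_cases hne : commutator ↥B = ⊥
    · refine eq_bot_iff.2 ((derivedSeries_antitone G (show 2 * (1 + n) ≤ 2 * (1 + (n + 1)) by omega)).trans
        (ih G A B hA hB hAB ?_).le)
      rw [hne, card_bot]
      simp
    haveI := hA
    obtain ⟨z, hz, hz1, Y, hAY, hzY, hYB⟩ := exists_metabelian A B hB hAB hne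
    set N := normalClosure ({(z : G)} : Set G) with hN
    have hNY : N ≤ Y := by
      rw [hN, normalClosure, closure_le]
      intro v hv
      obtain ⟨z', hz', hv'⟩ := Group.mem_conjugatesOfSet_iff.1 hv
      obtain ⟨g, rfl⟩ := isConj_iff.1 hv'
      rw [Set.mem_singleton_iff] at hz'
      subst hz'
      obtain ⟨a, ha, b, hb, rfl⟩ := hAB g
      have hbz : b * (z : G) * b⁻¹ = z := by
        rw [show b * (z : G) = z * b from congrArg Subtype.val (mem_center_iff.1 (hB hz) ⟨b, hb⟩),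
          mul_inv_cancel_right]
      show a * b * (z : G) * (a * b)⁻¹ ∈ Y
      rw [show a * b * (z : G) * (a * b)⁻¹ = a * (b * z * b⁻¹) * a⁻¹ by group, hbz]
      exact mul_mem (mul_mem (hAY ha) hzY) (inv_mem (hAY ha))
    have hY2 : derivedSeries Y 2 = ⊥ := by
      refine Ito.derivedSeries_two_eq_bot ((Y ⊓ A).subgroupOf Y) ((Y ⊓ B).subgroupOf Y)
        (isMulCommutative_subgroup_iff.2 fun x hx y hy => Subtype.ext
          (isMulCommutative_subgroup_iff.mp hA _ hx.2 _ hy.2))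
        (isMulCommutative_subgroup_iff.2 fun x hx y hy => Subtype.ext (hYB _ hx _ hy)) fun g => ?_
      obtain ⟨a, ha, b, hb, e⟩ := hAB g
      have hbY : b ∈ Y := by
        have h1 := mul_mem (inv_mem (hAY ha)) g.2
        rwa [e, inv_mul_cancel_left] at h1
      exact ⟨⟨a, hAY ha⟩, ⟨hAY ha, ha⟩, ⟨b, hbY⟩, ⟨hbY, hb⟩, Subtype.ext e⟩
    have hN2 : derivedSeries N 2 = ⊥ := by
      have h := map_derivedSeries_le_derivedSeries (Subgroup.inclusion hNY) 2
      rw [hY2, le_bot_iff, map_eq_bot_iff_of_injective _ (Subgroup.inclusion_injective hNY)] at h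
      exact h
    let q := QuotientGroup.mk' N
    let f : B →* B.map q := q.subgroupMap B
    have hf : Function.Surjective f := q.subgroupMap_surjective B
    have hmap : (commutator ↥B).map f = commutator ↥(B.map q) := by
      rw [← derivedSeries_one, ← derivedSeries_one, map_derivedSeries_eq hf]
    have hlt : (Nat.card ↥(commutator ↥(B.map q))).primeFactorsList.length ≤ n := by
      rw [← hmap]
      have hd : Nat.card ↥((commutator ↥B).map f) ∣ Nat.card ↥(commutator ↥B) := card_map_dvd _ f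
      obtain ⟨k, hk⟩ := hd
      have hk1 : k ≠ 1 := by
        intro e
        rw [e, mul_one] at hk
        have hinj : Function.Injective (f.subgroupMap (commutator ↥B)) :=
          ((f.subgroupMap_surjective _).bijective_of_nat_card_le hk.le).1
        refine hz1 ?_
        have h2 : (⟨z, hz⟩ : commutator ↥B) = 1 := hinj (by
          rw [map_one]
          exact Subtype.ext (Subtype.ext ((QuotientGroup.eq_one_iff _).2 (subset_normalClosure rfl))))
        exact congrArg Subtype.val h2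
      have hk0 : k ≠ 0 := fun e => by rw [e, mul_zero] at hk; exact Nat.card_pos.ne' hk
      have hlen := (Nat.perm_primeFactorsList_mul (a := Nat.card ↥((commutator ↥B).map f))
        Nat.card_pos.ne' hk0).length_eq
      rw [← hk, List.length_append] at hlen
      have hpos : 0 < k.primeFactorsList.length := List.length_pos_of_ne_nil fun e => by
        rcases (Nat.primeFactorsList_eq_nil _).1 e with h | h
        · exact hk0 h
        · exact hk1 h
      omega
    have hA' : IsMulCommutative (A.map q) := isMulCommutative_subgroup_iff.2 (by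
      rintro _ ⟨x, hx, rfl⟩ _ ⟨y, hy, rfl⟩
      rw [← map_mul, ← map_mul, isMulCommutative_subgroup_iff.mp hA x hx y hy])
    have hB' : commutator ↥(B.map q) ≤ center ↥(B.map q) := by
      rw [← hmap]
      rintro _ ⟨x, hx, rfl⟩
      refine mem_center_iff.2 fun y => ?_
      obtain ⟨y, rfl⟩ := hf y
      rw [← map_mul, ← map_mul, mem_center_iff.1 (hB hx) y]
    have hq := ih (G ⧸ N) (A.map q) (B.map q) hA' hB' (fun x => by
      obtain ⟨g, rfl⟩ := QuotientGroup.mk'_surjective N x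
      obtain ⟨a, ha, b, hb, rfl⟩ := hAB g
      exact ⟨_, mem_map_of_mem _ ha, _, mem_map_of_mem _ hb, map_mul _ _ _⟩) hlt
    have h1 : derivedSeries G (2 * (1 + n)) ≤ N := by
      rw [← QuotientGroup.ker_mk' N, ← Subgroup.map_eq_bot_iff, map_derivedSeries_eq (QuotientGroup.mk'_surjective N)]
      exact hq
    rw [eq_bot_iff, show 2 * (1 + (n + 1)) = 2 * (1 + n) + 2 by ring]
    refine (derivedSeries_add_le N h1 2).trans ?_
    rw [hN2, Subgroup.map_bot]

end CfsgLib.Solvable.AbelianClassTwo
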