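import Cfsg.Agent.S0144
import Cfsg.Agent.S1993
import Cfsg.Agent.S1279
import Cfsg.Agent.Lib.KGroups.Functor.KInfNormal
import Cfsg.Agent.Lib.Components.SFT.Complete
import Cfsg.Agent.Lib.Components.Signalizer.Equivariant
import Cfsg.Agent.Lib.Components.PComponents
import Cfsg.Agent.Lib.Solvable.SylowSystem
import Cfsg.Agent.Lib.Solvable.Basic

/-!
# Groups whose subgroups of order prime to `p` are abelian of exponent dividing `p - 1`

Such a group is solvable.  In a minimal counterexample every Sylow subgroup for a prime other than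
`p` has order congruent to one modulo `p`, so the normaliser `L` of `K^∞` of a Sylow `p`-subgroup
has a non-cyclic Sylow subgroup for such a prime `q`; the solvable signalizer functor theorem puts
`L` inside a proper subgroup with a non-trivial `p`-quotient, against the focal subgroup theorem.
-/

set_option autoImplicit false

universe u

namespace CfsgLib.Solvable.AbelianPPrime

open Subgroup
open scoped Pointwise

variable {G : Type u} [Group G] [Finite G] {p : ℕ}

/-- The hypothesis. -/
def Hyp (p : ℕ) (G : Type u) [Group G] : Prop :=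
  ∀ H : Subgroup G, (Nat.card ↥H).Coprime p → IsMulCommutative ↥H ∧ ∀ x ∈ H, x ^ (p - 1) = 1

omit [Finite G] in
theorem Hyp.subgroup (h : Hyp p G) (K : Subgroup G) : Hyp p K := by
  intro H hH
  obtain ⟨hc, he⟩ := h (H.map K.subtype) (by
    rwa [card_map_of_injective K.subtype_injective])
  refine ⟨⟨⟨fun x y => Subtype.ext (Subtype.ext ?_)⟩⟩, fun x hx => Subtype.ext ?_⟩
  · have := congrArg Subtype.val (hc.is_comm.comm ⟨_, mem_map_of_mem K.subtype x.2⟩
      ⟨_, mem_map_of_mem K.subtype y.2⟩)
    simpa using this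
  · simpa using he _ (mem_map_of_mem K.subtype hx)

theorem Hyp.quotient [hp : Fact p.Prime] (h : Hyp p G) (N : Subgroup G) [N.Normal] {r : ℕ}
    (hr : r.Prime) (hN : IsPGroup r N) : Hyp p (G ⧸ N) := by
  intro K hK
  set π := QuotientGroup.mk' N with hπ
  obtain ⟨H, hH, hHK⟩ : ∃ H : Subgroup G, (Nat.card H).Coprime p ∧ K ≤ H.map π := by
    have hK₀ : Nat.card (K.comap π) = Nat.card N * Nat.card K := by
      rw [hπ, CfsgLib.Solvable.Basic.card_comap_mk N K, mul_comm]
    by_cases hrp : r = p
    · subst hrp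
      set N₀ := N.subgroupOf (K.comap π)
      have hNle : N ≤ K.comap π := fun x hx => by
        rw [mem_comap, show π x = 1 from (QuotientGroup.eq_one_iff x).2 hx]
        exact one_mem K
      have hcN : Nat.card N₀ = Nat.card N := Nat.card_congr (subgroupOfEquivOfLe hNle).toEquiv
      have hiN : N₀.index = Nat.card K := by
        have h1 := N₀.card_mul_index
        rw [hK₀, hcN] at h1
        exact Nat.eq_of_mul_eq_mul_left Nat.card_pos h1
      haveI := Fact.mk hr
      obtain ⟨k, hk⟩ := hN.exists_card_eq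
      obtain ⟨C, hC⟩ := exists_right_complement'_of_coprime (N := N₀) (by
        rw [hcN, hiN, hk]; exact (hK.symm).pow_left k)
      refine ⟨C.map (K.comap π).subtype, ?_, ?_⟩
      · rw [card_map_of_injective (subtype_injective _)]
        have h1 := hC.card_mul
        rw [hK₀, hcN] at h1
        rwa [Nat.eq_of_mul_eq_mul_left Nat.card_pos h1]
      · intro x hx
        obtain ⟨g, rfl⟩ := QuotientGroup.mk'_surjective N x
        obtain ⟨⟨⟨n, hn⟩, ⟨c, hc⟩⟩, he⟩ := hC.2 ⟨g, hx⟩
        refine ⟨c.1, mem_map_of_mem _ hc, ?_⟩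
        have he' : (n : G) * c = g := congrArg Subtype.val he
        rw [← he', map_mul, show π (n : G) = 1 from (QuotientGroup.eq_one_iff _).2 hn, one_mul]
    · refine ⟨K.comap π, ?_, ?_⟩
      · rw [hK₀]
        haveI := Fact.mk hr
        obtain ⟨k, hk⟩ := hN.exists_card_eq
        exact Nat.Coprime.mul_left (hk ▸ ((Nat.coprime_primes hr hp.out).2 hrp).pow_left k) hK
      · rw [map_comap_eq_self_of_surjective (QuotientGroup.mk'_surjective N)]
  obtain ⟨hc, he⟩ := h H hH
  refine ⟨⟨⟨fun x y => Subtype.ext ?_⟩⟩, fun x hx => ?_⟩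
  · obtain ⟨a, ha, hax⟩ := hHK x.2
    obtain ⟨b, hb, hby⟩ := hHK y.2
    rw [Subgroup.coe_mul, Subgroup.coe_mul, ← hax, ← hby, ← map_mul, ← map_mul]
    exact congrArg π (congrArg Subtype.val (hc.is_comm.comm ⟨a, ha⟩ ⟨b, hb⟩))
  · obtain ⟨a, ha, rfl⟩ := hHK hx
    rw [← map_pow, he a ha, map_one]

/-- A number whose prime power parts are congruent to one is congruent to one. -/
theorem modEq_one_of_parts {m : ℕ} :
    ∀ n : ℕ, n ≠ 0 → (∀ q, q.Prime → q ∣ n → q ^ n.factorization q ≡ 1 [MOD m]) → n ≡ 1 [MOD m] := by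
  intro n
  induction n using Nat.recOnPrimeCoprime with
  | zero => intro h; exact absurd rfl h
  | prime_pow q k hq =>
    intro _ h
    rcases Nat.eq_zero_or_pos k with rfl | hk
    · rw [pow_zero]
    · have := h q hq (dvd_pow_self q hk.ne')
      rwa [Nat.Prime.factorization_pow hq, Finsupp.single_eq_same] at this
  | coprime a b ha hb hab iha ihb =>
    intro _ h
    have h1 := iha (by omega) fun q hq hqa => by
      have := h q hq (hqa.mul_right b)
      rwa [Nat.factorization_mul (by omega) (by omega), Finsupp.add_apply,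
        Nat.factorization_eq_zero_of_not_dvd (fun hqb => hq.not_dvd_one
          (hab.gcd_eq_one ▸ Nat.dvd_gcd hqa hqb)), add_zero] at this
    have h2 := ihb (by omega) fun q hq hqb => by
      have := h q hq (hqb.mul_left a)
      rwa [Nat.factorization_mul (by omega) (by omega), Finsupp.add_apply,
        Nat.factorization_eq_zero_of_not_dvd (fun hqa => hq.not_dvd_one
          (hab.gcd_eq_one ▸ Nat.dvd_gcd hqa hqb)), zero_add] at this
    exact h1.mul h2

/-- A number prime to `p` all of whose prime power parts divide `p - 1` divides `p - 1`. -/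
theorem dvd_of_parts {n m : ℕ} (hn : n ≠ 0) (hm : m ≠ 0)
    (h : ∀ q, q.Prime → q ∣ n → q ^ n.factorization q ∣ m) : n ∣ m := by
  rw [← Nat.factorization_le_iff_dvd hn hm]
  intro q
  by_cases hq : q.Prime ∧ q ∣ n
  · exact (hq.1.pow_dvd_iff_le_factorization hm).1 (h q hq.1 hq.2)
  · rw [not_and_or] at hq
    rcases hq with hq | hq
    · rw [Nat.factorization_eq_zero_of_not_prime n hq]; exact Nat.zero_le _
    · rw [Nat.factorization_eq_zero_of_not_dvd hq]; exact Nat.zero_le _

omit [Finite G] in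
/-- An abelian group of prime power order with at most `q` solutions of `x ^ q = 1` is cyclic. -/
theorem isCyclic_of_card_torsion {T : Type u} [CommGroup T] [Finite T] {q : ℕ} [Fact q.Prime]
    (hT : IsPGroup q T) (h : Nat.card {x : T // x ^ q = 1} ≤ q) : IsCyclic T := by
  classical
  haveI := Fintype.ofFinite T
  have key : ∀ k, (Finset.univ.filter fun x : T => x ^ q ^ k = 1).card ≤ q ^ k := by
    intro k
    induction k with
    | zero => simp [Finset.card_le_one]
    | succ k ih =>
      rw [Nat.card_eq_fintype_card, Fintype.card_subtype] at h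
      refine (Finset.card_le_mul_card_image (f := fun x : T => x ^ q) _ q fun b hb => ?_).trans
        (le_trans (Nat.mul_le_mul_left q (le_trans (Finset.card_le_card fun y hy => ?_) ih))
          (by rw [pow_succ']))
      · obtain ⟨a, -, rfl⟩ := Finset.mem_image.1 hb
        refine le_trans (Finset.card_le_card_of_injOn (fun x => x * a⁻¹) (fun x hx => ?_) ?_) h
        · simp only [Finset.coe_filter, Set.mem_ofPred_eq, Finset.mem_filter] at hx
          simp [mul_pow, hx.2]
        · intro x _ y _ hxy; exact mul_right_cancel hxy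
      · obtain ⟨a, ha, rfl⟩ := Finset.mem_image.1 hy
        simp only [Finset.mem_filter, Finset.mem_univ, true_and] at ha ⊢
        rw [← pow_mul, ← pow_succ', ha]
  obtain ⟨n, hn⟩ := hT.exists_card_eq
  refine IsCyclic.iff_exponent_eq_card.2 ?_
  obtain ⟨k, hk, hexp⟩ := (Nat.dvd_prime_pow (Fact.out : q.Prime)).1 (hn ▸ Group.exponent_dvd_nat_card (G := T))
  refine le_antisymm (Nat.le_of_dvd Nat.card_pos Group.exponent_dvd_nat_card) ?_
  rw [hexp, Nat.card_eq_fintype_card, ← Finset.card_univ,
    show (Finset.univ : Finset T) = Finset.univ.filter (fun x : T => x ^ q ^ k = 1) from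
      (Finset.filter_true_of_mem fun x _ => hexp ▸ Monoid.pow_exponent_eq_one x).symm]
  exact key k

/-- In a non-abelian simple group no non-trivial element of an abelian Sylow subgroup is
centralised by its normaliser. -/
theorem eq_one_of_central [IsSimpleGroup G] (hnc : ¬ ∀ a b : G, a * b = b * a) {q : ℕ} [Fact q.Prime]
    (Q : Sylow q G) [IsMulCommutative Q] {z : G} (hz : z ∈ Q)
    (hfix : ∀ n ∈ normalizer ((Q : Subgroup G) : Set G), n * z = z * n) : z = 1 := by
  open scoped IsMulCommutative in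
  haveI : (Q : Subgroup G).FiniteIndex := inferInstance
  let τ : G →* (Q : Subgroup G) := MonoidHom.transfer (MonoidHom.id _)
  have key : ∀ (k : ℕ) (g : G), g⁻¹ * z ^ k * g ∈ (Q : Subgroup G) → g⁻¹ * z ^ k * g = z ^ k := by
    intro k g hg
    obtain ⟨n, hn, he⟩ := Q.conj_eq_normalizer_conj_of_mem _ g (pow_mem hz k) hg
    rw [he, mul_assoc, ← (Commute.pow_right (hfix n hn) k).eq, inv_mul_cancel_left]
  have h1 : τ z = ⟨z ^ (Q : Subgroup G).index, _⟩ := MonoidHom.transfer_eq_pow _ z key
  have hker : τ.ker = ⊤ := by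
    refine (τ.normal_ker.eq_bot_or_eq_top).resolve_left fun hb => hnc fun a b => ?_
    refine (MonoidHom.ker_eq_bot_iff τ).1 hb ?_
    rw [map_mul, map_mul, mul_comm]
  have h2 : z ^ (Q : Subgroup G).index = 1 := by
    have h3 : τ z = 1 := MonoidHom.mem_ker.1 (hker ▸ mem_top z)
    rw [h1] at h3
    exact congrArg Subtype.val h3
  obtain ⟨k, hk⟩ := Q.isPGroup' ⟨z, hz⟩
  have hco : Nat.Coprime (q ^ k) (Q : Subgroup G).index :=
    ((Fact.out : q.Prime).coprime_iff_not_dvd.2 Q.not_dvd_index).pow_left k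
  have h4 : z ^ q ^ k = 1 := congrArg Subtype.val hk
  exact orderOf_eq_one_iff.1 (Nat.eq_one_of_dvd_coprimes hco (orderOf_dvd_of_pow_eq_one h4)
    (orderOf_dvd_of_pow_eq_one h2))

/-- In a solvable subgroup with abelian Sylow subgroup `Q` one has `O_{q'} · N(Q)`. -/
theorem exists_mul_normalizer {q : ℕ} [Fact q.Prime] (X : Subgroup G) [Group.IsSolvable X]
    (Q : Sylow q X) (hQ : IsMulCommutative Q) {x : G} (hx : x ∈ X) :
    ∃ o ∈ (Cfsg.pPrimeCore q X).map X.subtype, ∃ n ∈ X,
      n ∈ normalizer (((Q : Subgroup X).map X.subtype : Subgroup G) : Set G) ∧ x = o * n := by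
  haveI hN : ((Q : Subgroup X) ⊔ Cfsg.pPrimeCore q X).Normal :=
    SylowSystem.abelian_sylow_normal q Q hQ
  have hF := Sylow.normalizer_sup_eq_top' Q (le_sup_left : (Q : Subgroup X) ≤ _ ⊔ Cfsg.pPrimeCore q X)
  rw [← sup_assoc, sup_eq_left.2 (show (Q : Subgroup X) ≤ normalizer (Q : Set X) from Subgroup.le_normalizer)] at hF
  obtain ⟨n, hn, o, ho, he⟩ := (mem_sup_of_normal_right (t := Cfsg.pPrimeCore q X)).1
    (hF ▸ mem_top (⟨x, hx⟩ : X))
  have hn' : (n : G) ∈ normalizer (((Q : Subgroup X).map X.subtype : Subgroup G) : Set G) := by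
    rw [mem_normalizer_iff]
    intro y
    constructor
    · rintro ⟨w, hw, rfl⟩
      exact ⟨n * w * n⁻¹, (mem_normalizer_iff.1 hn w).1 hw, rfl⟩
    · rintro ⟨w, hw, he'⟩
      refine ⟨n⁻¹ * w * n, (mem_normalizer_iff''.1 hn w).1 hw, ?_⟩
      change ((n⁻¹ * w * n : X) : G) = y
      rw [coe_mul, coe_mul, coe_inv, show ((w : X) : G) = n * y * (n : G)⁻¹ from he']
      group
  refine ⟨_, mem_map_of_mem X.subtype ((Cores.pPrimeCore_normal (G := X) q).conj_mem o ho n),
    n, n.2, hn', ?_⟩
  have he2 : (n : G) * o = x := congrArg Subtype.val he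
  rw [← he2]
  simp

section Simple

variable [hp : Fact p.Prime] (h : Hyp p G)
include h

theorem comm_sylow {q : ℕ} [hq : Fact q.Prime] (hqp : q ≠ p) (Q : Sylow q G) :
    IsMulCommutative Q ∧ ∀ x ∈ (Q : Subgroup G), x ^ (p - 1) = 1 := by
  obtain ⟨k, hk⟩ := Q.isPGroup'.exists_card_eq
  exact h _ (hk ▸ ((Nat.coprime_primes hq.out hp.out).2 hqp).pow_left k)

/-- The automorphisms induced by the normaliser of a Sylow subgroup form a `p`-group. -/
theorem isPGroup_range {q : ℕ} [hq : Fact q.Prime] (hqp : q ≠ p) (Q : Sylow q G) :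
    IsPGroup p (Q : Subgroup G).normalizerMonoidHom.range := by
  rintro ⟨_, n, rfl⟩
  obtain ⟨k, m, hm, hnm⟩ := Nat.exists_eq_pow_mul_and_not_dvd (n := orderOf (n : G))
    (orderOf_pos _).ne' p hp.out.ne_one
  refine ⟨k, Subtype.ext ?_⟩
  rw [SubmonoidClass.coe_pow, ← map_pow, Subgroup.coe_one, ← MonoidHom.mem_ker, normalizerMonoidHom_ker,
    mem_subgroupOf, SubmonoidClass.coe_pow]
  set y := (n : G) ^ p ^ k with hy
  have hy1 : orderOf y ∣ m := orderOf_dvd_of_pow_eq_one (by rw [hy, ← pow_mul, ← hnm, pow_orderOf_eq_one])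
  have hmp : Nat.Coprime m p := (hp.out.coprime_iff_not_dvd.2 hm).symm
  obtain ⟨a, ha⟩ := Q.isPGroup'.exists_card_eq
  have hle : zpowers y ≤ normalizer ((Q : Subgroup G) : Set G) := zpowers_le.2 (pow_mem n.2 _)
  have hd := CfsgLib.Components.Signalizer.card_sup_dvd_mul hle
  rw [Nat.card_zpowers, ha] at hd
  have hco : (Nat.card ↥((Q : Subgroup G) ⊔ zpowers y)).Coprime p :=
    Nat.Coprime.coprime_dvd_left hd
      ((((Nat.coprime_primes hq.out hp.out).2 hqp).pow_left a).mul_left (hmp.coprime_dvd_left hy1))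
  rw [mem_centralizer_iff]
  intro x hx
  exact congrArg Subtype.val ((h _ hco).1.is_comm.comm ⟨x, mem_sup_left hx⟩
    ⟨y, mem_sup_right (mem_zpowers y)⟩)

variable [IsSimpleGroup G] (hnc : ¬ ∀ a b : G, a * b = b * a)
include hnc

theorem eq_one_of_fixed {q : ℕ} [Fact q.Prime] (hqp : q ≠ p) (Q : Sylow q G) {x : (Q : Subgroup G)}
    (hx : ∀ g ∈ (Q : Subgroup G).normalizerMonoidHom.range, g x = x) : x = 1 := by
  haveI := (comm_sylow h hqp Q).1
  refine Subtype.ext (eq_one_of_central hnc Q x.2 fun n hn => ?_)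
  have := congrArg Subtype.val (hx _ ⟨⟨n, hn⟩, rfl⟩)
  change n * (x : G) * n⁻¹ = x at this
  exact mul_inv_eq_iff_eq_mul.1 this

/-- The order of a Sylow subgroup, and the number of its elements of exponent `q`, are congruent
to one modulo `p`. -/
theorem modEq_one {q : ℕ} [Fact q.Prime] (hqp : q ≠ p) (Q : Sylow q G) :
    Nat.card Q ≡ 1 [MOD p] ∧ Nat.card {x : (Q : Subgroup G) // x ^ q = 1} ≡ 1 [MOD p] := by
  set R := (Q : Subgroup G).normalizerMonoidHom.range
  have hR := isPGroup_range h hqp Q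
  constructor
  · refine (hR.card_modEq_card_fixedPoints (Q : Subgroup G)).trans ?_
    have : Nat.card (MulAction.fixedPoints R (Q : Subgroup G)) = 1 := by
      rw [Nat.card_eq_one_iff_unique]
      refine ⟨⟨fun x y => Subtype.ext ?_⟩, ⟨⟨1, fun g => smul_one g⟩⟩⟩
      rw [eq_one_of_fixed h hnc hqp Q fun g hg => x.2 ⟨g, hg⟩,
        eq_one_of_fixed h hnc hqp Q fun g hg => y.2 ⟨g, hg⟩]
    rw [this]
  · letI : MulAction R {x : (Q : Subgroup G) // x ^ q = 1} :=
      { smul := fun g x => ⟨g.1 x.1, by rw [← map_pow, x.2, map_one]⟩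
        one_smul := fun x => rfl
        mul_smul := fun g g' x => rfl }
    refine (hR.card_modEq_card_fixedPoints {x : (Q : Subgroup G) // x ^ q = 1}).trans ?_
    have : Nat.card (MulAction.fixedPoints R {x : (Q : Subgroup G) // x ^ q = 1}) = 1 := by
      rw [Nat.card_eq_one_iff_unique]
      refine ⟨⟨fun x y => Subtype.ext (Subtype.ext ?_)⟩,
        ⟨⟨⟨1, one_pow q⟩, fun g => Subtype.ext (map_one g.1)⟩⟩⟩
      rw [eq_one_of_fixed h hnc hqp Q fun g hg => congrArg Subtype.val (x.2 ⟨g, hg⟩),
        eq_one_of_fixed h hnc hqp Q fun g hg => congrArg Subtype.val (y.2 ⟨g, hg⟩)]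
    rw [this]

theorem q_lt {q : ℕ} [hq : Fact q.Prime] (hp3 : 3 ≤ p) (hqp : q ≠ p) (hqG : q ∣ Nat.card G) :
    q < p := by
  obtain ⟨x, hx⟩ := exists_prime_orderOf_dvd_card' q hqG
  have hco : (Nat.card (zpowers x)).Coprime p := by
    rw [Nat.card_zpowers, hx]; exact (Nat.coprime_primes hq.out hp.out).2 hqp
  have := Nat.le_of_dvd (by omega) (hx ▸ orderOf_dvd_of_pow_eq_one ((h _ hco).2 x (mem_zpowers x)))
  omega

theorem false_of_simple (hsol : ∀ H : Subgroup G, H ≠ ⊤ → Group.IsSolvable H)
    (hns : ¬ Group.IsSolvable G) : False := by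
  classical
  have hp3 : 3 ≤ p := by
    by_contra hlt
    have hp2 : p = 2 := by have := hp.out.two_le; omega
    subst hp2
    have hPG : IsPGroup 2 G := IsPGroup.iff_orderOf.2 fun g => by
      obtain ⟨k, m, hm, hnm⟩ := Nat.exists_eq_pow_mul_and_not_dvd (n := orderOf g) (orderOf_pos g).ne' 2 (by norm_num)
      refine ⟨k, ?_⟩
      have hgk : orderOf (g ^ 2 ^ k) ∣ m :=
        orderOf_dvd_of_pow_eq_one (by rw [← pow_mul, ← hnm, pow_orderOf_eq_one])
      have hco : (Nat.card (zpowers (g ^ 2 ^ k))).Coprime 2 := by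
        rw [Nat.card_zpowers]
        exact (Nat.coprime_two_right.2 (Nat.not_even_iff_odd.1 fun he => hm (even_iff_two_dvd.1 he))).coprime_dvd_left hgk
      have h1 := (h _ hco).2 _ (mem_zpowers (g ^ 2 ^ k))
      rw [pow_one] at h1
      obtain ⟨j, hj, hj'⟩ := (Nat.dvd_prime_pow Nat.prime_two).1 (orderOf_dvd_of_pow_eq_one h1)
      have : j = k := by
        refine le_antisymm hj ?_
        have h5 : 2 ^ k ∣ 2 ^ j := hj' ▸ hnm ▸ dvd_mul_right _ _
        exact (Nat.pow_dvd_pow_iff_le_right (by norm_num)).1 h5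
      rw [hj', this]
    haveI := hPG.isNilpotent
    exact hns inferInstance
  -- a third prime: `p` is at least five
  have hp5 : 5 ≤ p := by
    by_contra hlt
    have hp3' : p = 3 := by
      have := hp.out
      interval_cases p
      · rfl
      · exact absurd this (by norm_num)
    obtain ⟨a, m, hm, hG⟩ := Nat.exists_eq_pow_mul_and_not_dvd (n := Nat.card G) Nat.card_pos.ne' 3 (by norm_num)
    obtain ⟨b, m', hm', hG'⟩ := Nat.exists_eq_pow_mul_and_not_dvd (n := m)
      (by rintro rfl; exact hm (dvd_zero 3)) 2 (by norm_num)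
    have hm1 : m' = 1 := by
      by_contra hne
      obtain ⟨q, hq, hqm⟩ := Nat.exists_prime_and_dvd hne
      haveI := Fact.mk hq
      have hqG : q ∣ Nat.card G := hG ▸ (hqm.trans (hG' ▸ dvd_mul_left _ _)).mul_left _
      have hqp : q ≠ p := by
        rintro rfl
        exact hm (hG' ▸ (hp3' ▸ hqm).mul_left _)
      have := q_lt h hnc hp3 hqp hqG
      have := hq.two_le
      have : q = 2 := by omega
      exact hm' (this ▸ hqm)
    rw [hG', hm1, mul_one] at hG
    exact hns (Cfsg.Agent.S0144.result 3 2 a b Nat.prime_three Nat.prime_two hG)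
  obtain ⟨P⟩ : Nonempty (Sylow p G) := inferInstance
  -- the normaliser of `K^∞ (P)`
  set Z := Cfsg.inducedFunctor Cfsg.kInfUpper.{u} (P : Subgroup G) with hZ
  set L := normalizer (Z : Set G) with hL
  have hfoc := (Cfsg.Agent.S1993.result P).1 hp5
  have hW := CfsgLib.KGroups.Functor.isCharPFunctor_kInfUpper.{u} p
  have hcommG : commutator G = ⊤ := by
    refine (Subgroup.Normal.eq_bot_or_eq_top inferInstance).resolve_left fun hb => hnc fun a b => ?_
    have := commutator_mem_commutator (mem_top a) (mem_top b) (g₁ := a) (g₂ := b)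
    rw [← commutator_def, hb, mem_bot, commutatorElement_eq_one_iff_mul_comm] at this
    exact this
  rw [hcommG, inf_top_eq] at hfoc
  have hPne : (P : Subgroup G) ≠ ⊥ := by
    intro hb
    have hnd : ¬ p ∣ Nat.card G := fun hd => by
      have := P.dvd_card_of_dvd_card hd
      rw [hb, card_bot] at this
      exact hp.out.not_dvd_one this
    have := (h ⊤ (by rw [card_top]; exact (hp.out.coprime_iff_not_dvd.2 hnd).symm)).1
    exact hnc fun a b => congrArg Subtype.val (this.is_comm.comm ⟨a, mem_top a⟩ ⟨b, mem_top b⟩)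
  have hLne : L ≠ ⊤ := by
    intro ht
    have hn : Z.Normal := normalizer_eq_top_iff.1 ht
    rcases hn.eq_bot_or_eq_top with hb | htop
    · haveI : Nontrivial (P : Subgroup G) := (nontrivial_iff_ne_bot _).2 hPne
      refine hW.1 _ P.isPGroup' inferInstance ?_
      rw [hZ] at hb
      exact ((map_eq_bot_iff_of_injective _ (subtype_injective _)).1 hb)
    · have hle : Z ≤ P := map_subtype_le _
      rw [htop, top_le_iff] at hle
      haveI := P.isPGroup'.isNilpotent
      rw [hle] at this
      exact hns (@IsNilpotent.to_isSolvable _ _ (Group.isNilpotent_top.1 this))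
  have hNPL : normalizer ((P : Subgroup G) : Set G) ≤ L := by
    intro g hg
    rw [hL, Subgroup.mem_normalizer_iff_map_conj_eq]
    rw [Subgroup.mem_normalizer_iff_map_conj_eq] at hg
    set φ : (P : Subgroup G) ≃* (P : Subgroup G) :=
      ((MulAut.conj g).subgroupMap (P : Subgroup G)).trans (MulEquiv.subgroupCongr hg) with hφ
    have := hW.2 _ _ P.isPGroup' φ
    conv_rhs => rw [hZ, Cfsg.inducedFunctor, ← this]
    rw [hZ, Cfsg.inducedFunctor, map_map, map_map]
    rfl
  have hPL : (P : Subgroup G) ≤ L := Subgroup.le_normalizer.trans hNPL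
  -- `|L : P|` is congruent to one
  set d := (P : Subgroup G).relIndex L with hd
  have hd1 : d ≡ 1 [MOD p] := by
    have hGP : (P : Subgroup G).index ≡ 1 [MOD p] := by
      refine modEq_one_of_parts _ index_ne_zero_of_finite fun q hq hqd => ?_
      haveI := Fact.mk hq
      have hqp : q ≠ p := by rintro rfl; exact P.not_dvd_index hqd
      obtain ⟨Q⟩ : Nonempty (Sylow q G) := inferInstance
      have hQ := (modEq_one h hnc hqp Q).1
      rw [Q.card_eq_multiplicity, ← (P : Subgroup G).card_mul_index, P.card_eq_multiplicity,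
        Nat.factorization_mul (pow_ne_zero _ hp.out.ne_zero) index_ne_zero_of_finite, Finsupp.add_apply,
        Nat.Prime.factorization_pow hp.out, Finsupp.single_eq_of_ne hqp, zero_add] at hQ
      exact hQ
    have hN1 : (normalizer ((P : Subgroup G) : Set G)).index ≡ 1 [MOD p] := by
      have := card_sylow_modEq_one p G
      rw [P.card_eq_index_normalizer] at this
      exact this
    have hN2 : (normalizer ((P : Subgroup G) : Set G)).relIndex L ≡ 1 [MOD p] := by
      have h1 := card_sylow_modEq_one p L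
      rw [Sylow.card_eq_index_normalizer (P.subtype hPL)] at h1
      convert h1 using 1
      rw [relIndex]
      congr 1
      ext x
      simp only [mem_subgroupOf, mem_normalizer_iff]
      refine ⟨fun hx y => hx y, fun hx y => ⟨fun hy => ?_, fun hy => ?_⟩⟩
      · exact (hx ⟨y, hPL hy⟩).1 hy
      · have hyL : y ∈ L := by
          have := mul_mem (mul_mem (inv_mem x.2) (hPL hy)) x.2
          rwa [mul_assoc, inv_mul_cancel_right, inv_mul_cancel_left] at this
        exact (hx ⟨y, hyL⟩).2 hy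
    have hL1 : L.index ≡ 1 [MOD p] := by
      rw [← relIndex_mul_index hNPL] at hN1
      have := (hN2.mul_right L.index).symm.trans hN1
      rwa [one_mul] at this
    rw [← relIndex_mul_index hPL] at hGP
    have := (hL1.mul_left d).symm.trans hGP
    rwa [mul_one] at this
  -- a non-cyclic Sylow subgroup of `L` for a prime other than `p`
  obtain ⟨q, hq, hqp, T, hT⟩ : ∃ (q : ℕ) (_ : Fact q.Prime), q ≠ p ∧ ∃ T : Sylow q L, ¬ IsCyclic T := by
    by_contra hall
    push Not at hall
    have hdvd : d ∣ p - 1 := by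
      refine dvd_of_parts ((index_ne_zero_of_finite : ((P : Subgroup G).subgroupOf L).index ≠ 0)) (by omega) fun q hq hqd => ?_
      haveI := Fact.mk hq
      have hqp : q ≠ p := by
        rintro rfl
        refine (P.subtype hPL).not_dvd_index ?_
        rw [Sylow.coe_subtype]
        exact hqd
      obtain ⟨T⟩ : Nonempty (Sylow q L) := inferInstance
      haveI := hall q (Fact.mk hq) hqp T
      obtain ⟨g, hg⟩ := IsCyclic.exists_ofOrder_eq_natCard (α := T)
      obtain ⟨a, ha⟩ := T.isPGroup'.exists_card_eq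
      have hco : (Nat.card (T : Subgroup L)).Coprime p := ha ▸ ((Nat.coprime_primes hq hp.out).2 hqp).pow_left a
      have h1 := orderOf_dvd_of_pow_eq_one ((h.subgroup L _ hco).2 (g : L) g.2)
      rw [orderOf_coe, hg, T.card_eq_multiplicity] at h1
      refine (pow_dvd_pow q ?_).trans h1
      refine (Nat.factorization_le_iff_dvd (index_ne_zero_of_finite : ((P : Subgroup G).subgroupOf L).index ≠ 0) Nat.card_pos.ne').2 ?_ q
      exact index_dvd_card _
    have hle := Nat.le_of_dvd (by omega) hdvd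
    have hd11 : d = 1 := by
      have := hd1
      rwa [Nat.ModEq, Nat.mod_eq_of_lt (by omega), Nat.mod_eq_of_lt (by omega)] at this
    have hLP : L ≤ P := relIndex_eq_one.1 hd11
    have hnil : Group.IsNilpotent L := (P.isPGroup'.to_le hLP).isNilpotent
    have hlt : commutator L < ⊤ := by
      haveI := hnil
      haveI : Nontrivial L := (nontrivial_iff_ne_bot _).2 (ne_bot_of_le_ne_bot hPne hPL)
      exact (IsNilpotent.to_isSolvable (G := L)).commutator_lt_top_of_nontrivial L
    refine hlt.ne (top_le_iff.1 fun x _ => ?_)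
    have hx : (x : G) ∈ ⁅L, L⁆ := by
      have := hLP x.2
      rw [hfoc] at this
      exact this.2
    rw [← map_subtype_commutator] at hx
    obtain ⟨y, hy, hyx⟩ := hx
    rwa [Subtype.ext hyx] at hy
  -- the maximal subgroup attached to `q`
  obtain ⟨Q, hTQ⟩ := (T.isPGroup'.map L.subtype).exists_le_sylow
  obtain ⟨hQc, -⟩ := comm_sylow h hqp Q
  have hQcomm : ∀ a ∈ (Q : Subgroup G), ∀ b ∈ (Q : Subgroup G), a * b = b * a := fun a ha b hb =>
    congrArg Subtype.val (hQc.is_comm.comm ⟨a, ha⟩ ⟨b, hb⟩)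
  let E : Subgroup G :=
    { carrier := {x | x ∈ (Q : Subgroup G) ∧ x ^ q = 1}
      one_mem' := ⟨one_mem _, one_pow q⟩
      mul_mem' := fun {x y} hx hy => ⟨mul_mem hx.1 hy.1, by
        rw [Commute.mul_pow (hQcomm x hx.1 y hy.1), hx.2, hy.2, one_mul]⟩
      inv_mem' := fun {x} hx => ⟨inv_mem hx.1, by rw [inv_pow, hx.2, inv_one]⟩ }
  have hE : Cfsg.IsElementaryAbelian q E :=
    ⟨⟨⟨fun x y => Subtype.ext (hQcomm x x.2.1 y y.2.1)⟩⟩, fun x hx => hx.2⟩
  have hEQ : ∀ {x}, x ∈ E → x ∈ (Q : Subgroup G) := fun hx => hx.1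
  -- torsion of `T`
  have hT2 : q < Nat.card {x : T // x ^ q = 1} := by
    by_contra hle
    push Not at hle
    letI : CommGroup T := { (inferInstance : Group T) with
      mul_comm := fun x y => Subtype.ext (Subtype.ext (hQcomm _ (hTQ (mem_map_of_mem _ x.2)) _
        (hTQ (mem_map_of_mem _ y.2)))) }
    exact hT (isCyclic_of_card_torsion T.isPGroup' hle)
  have hE3 : q ^ 3 ≤ Nat.card E := by
    obtain ⟨r, hr⟩ := (CfsgLib.Components.Signalizer.isPGroup_of_elementary hE).exists_card_eq
    have hmod : Nat.card E ≡ 1 [MOD p] := by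
      have e : Nat.card {x : (Q : Subgroup G) // x ^ q = 1} = Nat.card E := Nat.card_congr
        { toFun := fun x => ⟨x.1.1, x.1.2, congrArg Subtype.val x.2⟩
          invFun := fun x => ⟨⟨x.1, x.2.1⟩, Subtype.ext x.2.2⟩
          left_inv := fun x => rfl
          right_inv := fun x => rfl }
      exact e ▸ (modEq_one h hnc hqp Q).2
    have hge : q < Nat.card E := lt_of_lt_of_le hT2 (Nat.card_le_card_of_injective
      (fun x : {x : T // x ^ q = 1} => (⟨((x.1 : L) : G), hTQ (mem_map_of_mem _ x.1.2), by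
        have := congrArg (fun y : T => ((y : L) : G)) x.2
        simpa using this⟩ : E))
      fun x y e => Subtype.ext (Subtype.ext (Subtype.ext (congrArg (fun z : E => (z : G)) e))))
    rw [hr] at hmod hge ⊢
    refine Nat.pow_le_pow_right hq.out.pos ?_
    by_contra hr3
    have hr2 : r = 2 := by
      rcases r with _ | _ | _ | r
      · simp at hge; have := hq.out.two_le; omega
      · simp at hge
      · rfl
      · omega
    have hqlt := q_lt h hnc hp3 hqp (((dvd_pow_self q (by omega : r ≠ 0)).trans hr.symm.dvd).trans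
      (card_subgroup_dvd_card E))
    rw [hr2] at hmod
    have h2 : p ∣ (q - 1) * (q + 1) := by
      have h5 := (Nat.modEq_iff_dvd' (Nat.one_le_pow _ _ hq.out.pos)).1 hmod.symm
      rwa [show q ^ 2 - 1 = (q + 1) * (q - 1) from by simpa using Nat.sq_sub_sq q 1, mul_comm] at h5
    have := hq.out.two_le
    rcases hp.out.dvd_mul.1 h2 with h3 | h3
    · have := Nat.le_of_dvd (by omega) h3; omega
    · have := Nat.le_of_dvd (by omega) h3
      obtain ⟨k, hk⟩ := hq.out.eq_two_or_odd'.resolve_left (by omega)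
      obtain ⟨j, hj⟩ := hp.out.eq_two_or_odd'.resolve_left (by omega)
      omega
  have hE2 : q ^ 2 ≤ Nat.card E := (Nat.pow_le_pow_right hq.out.pos (by norm_num)).trans hE3
  have hcne : ∀ a : G, a ≠ 1 → centralizer ({a} : Set G) ≠ ⊤ := by
    intro a ha ht
    have hac : a ∈ center G := mem_center_iff.2 fun g =>
      ((mem_centralizer_singleton_iff.1 (ht ▸ mem_top g : g ∈ centralizer ({a} : Set G))))
    rcases (center G).normal_of_characteristic.eq_bot_or_eq_top with hb | htop
    · exact ha (mem_bot.1 (hb ▸ hac))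
    · exact hnc fun x y => (mem_center_iff.1 (htop ▸ mem_top y) x)
  have hθ := Cfsg.Agent.S1279.result q E hE hE2 fun a _ ha1 => hsol _ (hcne a ha1)
  obtain ⟨⟨hWs, hWq, -, -⟩, -⟩ := CfsgLib.Components.SFT.solvable_complete hE hE3 hθ
  set W := ⨆ a : {a : G // a ∈ E ∧ a ≠ 1}, Cfsg.centralizerPPrimeCore q (a : G) with hWdef
  have hQne : (Q : Subgroup G) ≠ ⊥ := by
    intro hb
    have : E = ⊥ := le_bot_iff.1 fun x hx => hb ▸ hEQ hx
    rw [this, card_bot] at hE3
    exact absurd hE3 (not_le.2 (Nat.one_lt_pow (by norm_num) hq.out.one_lt))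
  obtain ⟨M, hM, hNQ, hθM⟩ : ∃ M : Subgroup G, M ≠ ⊤ ∧ normalizer ((Q : Subgroup G) : Set G) ≤ M ∧ W ≤ M := by
    by_cases hW0 : W = ⊥
    · refine ⟨_, fun ht => ?_, le_rfl, hW0 ▸ bot_le⟩
      rcases (normalizer_eq_top_iff.1 ht).eq_bot_or_eq_top with hb | htop
      · exact hQne hb
      · haveI := (htop ▸ hQc : IsMulCommutative (⊤ : Subgroup G))
        exact hnc fun a b => congrArg Subtype.val
          ((this : IsMulCommutative (⊤ : Subgroup G)).is_comm.comm ⟨a, mem_top a⟩ ⟨b, mem_top b⟩)
    · refine ⟨normalizer (W : Set G), fun ht => ?_, fun g hg => ?_, Subgroup.le_normalizer⟩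
      · rcases (normalizer_eq_top_iff.1 ht).eq_bot_or_eq_top with hb | htop
        · exact hW0 hb
        · refine hWq ?_
          rw [htop, card_top]
          exact (Nat.dvd_of_pow_dvd (by norm_num : 1 ≤ 1) ((pow_one q).symm ▸
            ((dvd_pow_self q (by norm_num : (3 : ℕ) ≠ 0)).trans (by
              obtain ⟨r, hr⟩ := (CfsgLib.Components.Signalizer.isPGroup_of_elementary hE).exists_card_eq
              exact (hr ▸ pow_dvd_pow q ((Nat.pow_le_pow_iff_right hq.out.one_lt).1 (hr ▸ hE3)) :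
                q ^ 3 ∣ Nat.card E).trans (card_subgroup_dvd_card E)))))
      · rw [Subgroup.mem_normalizer_iff_map_conj_eq]
        have hmove : ∀ g ∈ normalizer ((Q : Subgroup G) : Set G), W.map (MulAut.conj g).toMonoidHom ≤ W := by
          intro g hg
          rw [hWdef, Subgroup.map_iSup]
          refine iSup_le fun a => ?_
          have haE : g * a * g⁻¹ ∈ E ∧ g * a * g⁻¹ ≠ 1 :=
            ⟨⟨(mem_normalizer_iff.1 hg _).1 a.2.1.1, by rw [conj_pow, a.2.1.2]; group⟩,
              fun e => a.2.2 (conj_eq_one_iff.1 e)⟩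
          refine le_trans ?_ (le_iSup (fun b : {b : G // b ∈ E ∧ b ≠ 1} =>
            Cfsg.centralizerPPrimeCore q (b : G)) ⟨_, haE⟩)
          exact (CfsgLib.Components.Signalizer.map_conj_core (p := q) (a : G) g).ge
        refine le_antisymm (hmove g hg) fun x hx => ?_
        refine ⟨g⁻¹ * x * g, ?_, by simp [mul_assoc]⟩
        have := hmove g⁻¹ (inv_mem hg) (mem_map_of_mem _ hx)
        simpa using this
  haveI := hsol M hM
  -- `M` contains the centralisers of the non-trivial elements of `E`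
  have hCM : ∀ a ∈ E, a ≠ 1 → centralizer ({a} : Set G) ≤ M := by
    intro a ha ha1 x hx
    haveI := hsol _ (hcne a ha1)
    have hQC : (Q : Subgroup G) ≤ centralizer ({a} : Set G) := fun y hy =>
      mem_centralizer_singleton_iff.2 (hQcomm y hy a (hEQ ha))
    obtain ⟨o, ho, n, -, hn, rfl⟩ := exists_mul_normalizer (centralizer ({a} : Set G)) (Q.subtype hQC)
      ⟨⟨fun y z => Subtype.ext (Subtype.ext (hQcomm _ y.2 _ z.2))⟩⟩ hx
    refine mul_mem (hθM ((le_iSup (fun b : {b : G // b ∈ E ∧ b ≠ 1} =>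
      Cfsg.centralizerPPrimeCore q (b : G)) ⟨a, ha, ha1⟩) ho)) (hNQ ?_)
    rwa [Sylow.coe_subtype, subgroupOf_map_subtype, inf_eq_left.2 hQC] at hn
  have hQM : (Q : Subgroup G) ≤ M := Subgroup.le_normalizer.trans hNQ
  -- elements moving a non-trivial element of `E` into `E` lie in `M`
  have hmoveM : ∀ g a : G, a ∈ E → a ≠ 1 → g * a * g⁻¹ ∈ E → g ∈ M := by
    intro g a ha ha1 hga
    have hconj : ((g • Q : Sylow q G) : Subgroup G) ≤ M := by
      intro y hy
      rw [Sylow.coe_subgroup_smul, mem_pointwise_smul_iff_inv_smul_mem] at hy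
      refine hCM _ hga (fun e => ha1 (conj_eq_one_iff.1 e)) (mem_centralizer_singleton_iff.2 ?_)
      simp only [MulAut.smul_def, MulAut.conj_inv_apply] at hy
      have := hQcomm _ hy a (hEQ ha)
      calc y * (g * a * g⁻¹) = g * (g⁻¹ * y * g * a) * g⁻¹ := by group
        _ = g * (a * (g⁻¹ * y * g)) * g⁻¹ := by rw [this]
        _ = g * a * g⁻¹ * y := by group
    obtain ⟨m, hm⟩ := MulAction.exists_smul_eq M (Sylow.subtype (g • Q) hconj) (Q.subtype hQM)
    have h1 : ((m : G) * g) • Q = Q := by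
      rw [mul_smul]
      refine Sylow.subtype_injective (hP := ?_) (hQ := hQM) ?_
      · intro y hy
        rw [Sylow.coe_subgroup_smul, mem_pointwise_smul_iff_inv_smul_mem] at hy
        simp only [MulAut.smul_def, MulAut.conj_inv_apply] at hy
        have := mul_mem (mul_mem m.2 (hconj hy)) (inv_mem m.2)
        simpa [mul_assoc] using this
      · rw [← hm, Sylow.smul_subtype]
        rfl
    have h2 : (m : G) * g ∈ M := hNQ (Sylow.smul_eq_iff_mem_normalizer.1 h1)
    simpa using mul_mem (inv_mem m.2) h2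
  -- `L ≤ M`
  haveI := hsol L hLne
  have hTc : IsMulCommutative T := ⟨⟨fun x y => Subtype.ext (Subtype.ext
    (hQcomm _ (hTQ (mem_map_of_mem _ x.2)) _ (hTQ (mem_map_of_mem _ y.2))))⟩⟩
  set ET := (T : Subgroup L).map L.subtype ⊓ E with hET
  have hET2 : q < Nat.card ET := by
    refine lt_of_lt_of_le hT2 (Nat.card_le_card_of_injective
      (fun x : {x : T // x ^ q = 1} => (⟨((x.1 : L) : G), mem_map_of_mem _ x.1.2,
        hTQ (mem_map_of_mem _ x.1.2), by
          have := congrArg (fun y : T => ((y : L) : G)) x.2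
          simpa using this⟩ : ET))
      fun x y e => Subtype.ext (Subtype.ext (Subtype.ext (congrArg (fun z : ET => (z : G)) e))))
  obtain ⟨a, ha, ha1⟩ : ∃ a ∈ ET, a ≠ 1 := (bot_or_exists_ne_one ET).resolve_left fun hb => by
    rw [hb, card_bot] at hET2; have := hq.out.two_le; omega
  have hLM : L ≤ M := by
    intro x hx
    obtain ⟨o, ho, n, -, hn, rfl⟩ := exists_mul_normalizer L T hTc hx
    refine mul_mem ?_ (hmoveM n a ha.2 ha1 ⟨hTQ ((mem_normalizer_iff.1 hn a).1 ha.1), ?_⟩)
    · -- the core of `L` is generated by fixed points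
      set X := (Cfsg.pPrimeCore q L).map L.subtype with hX
      have hXq : ¬ q ∣ Nat.card X := by
        rw [hX, card_map_of_injective (subtype_injective L)]
        exact hq.out.coprime_iff_not_dvd.1 (Cores.coprime_card_pPrimeCore q).symm
      have hEn : ET ≤ normalizer (X : Set G) := fun e he => by
        haveI := Cores.pPrimeCore_normal (G := L) q
        exact le_normalizer_map L.subtype (mem_map_of_mem L.subtype (x := ⟨e, map_subtype_le _ he.1⟩)
          (by rw [normalizer_eq_top]; exact mem_top _))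
      have hEel : Cfsg.IsElementaryAbelian q ET :=
        CfsgLib.Components.Signalizer.elementary_of_le hE inf_le_right
      refine (le_trans (CfsgLib.Components.Signalizer.le_iSup_centralizer_relIndex hEel le_rfl
        (fun hb => by rw [hb, card_bot] at hET2; have := hq.out.two_le; omega) hXq hEn) (iSup_le fun D => ?_)) ho
      obtain ⟨D, hD, hDi⟩ := D
      obtain ⟨b, hbD, hb1⟩ : ∃ b ∈ D, b ≠ 1 := (bot_or_exists_ne_one D).resolve_left fun hb => by
        rw [hb, relIndex_bot_left] at hDi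
        omega
      exact inf_le_right.trans ((centralizer_le (Set.singleton_subset_iff.2 hbD)).trans
        (hCM b (hD hbD).2 hb1))
    · rw [conj_pow, ha.2.2]; group
  -- `M` has a non-trivial `p`-quotient
  let QM := Q.subtype hQM
  have hQMc : IsMulCommutative QM := ⟨⟨fun y z => Subtype.ext (Subtype.ext (hQcomm _ y.2 _ z.2))⟩⟩
  set O := Cfsg.pPrimeCore q M
  let π := QuotientGroup.mk' O
  have hπ := QuotientGroup.mk'_surjective O
  haveI hN1 : ((QM : Subgroup M).map π).Normal := by
    have := SylowSystem.abelian_sylow_normal q QM hQMc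
    have e : (QM : Subgroup M).map π = ((QM : Subgroup M) ⊔ O).map π := by
      rw [Subgroup.map_sup, (map_eq_bot_iff O).2 (by rw [QuotientGroup.ker_mk']), sup_bot_eq]
    rw [e]
    exact this.map π hπ
  let ρ : M →* MulAut ((QM : Subgroup M).map π) := MulAut.conjNormal.comp π
  have hρO : ∀ o ∈ O, ρ o = 1 := fun o ho => by
    show MulAut.conjNormal (π o) = 1
    rw [show π o = 1 from (QuotientGroup.eq_one_iff o).2 ho, map_one]
  have hρn : ∀ n : M, (n : G) ∈ centralizer ((Q : Subgroup G) : Set G) → ρ n = 1 := fun n hn => by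
    refine MulEquiv.ext fun ⟨y, hy⟩ => Subtype.ext ?_
    obtain ⟨w, hw, rfl⟩ := hy
    show π n * π w * (π n)⁻¹ = π w
    rw [← map_mul, ← map_inv, ← map_mul]
    congr 1
    exact Subtype.ext (show (n : G) * w * (n : G)⁻¹ = w by
      rw [← hn _ (show (w : G) ∈ (Q : Subgroup G) from hw), mul_inv_cancel_right])
  have hQnorm : ((QM : Subgroup M).map M.subtype : Subgroup G) = Q := by
    rw [Sylow.coe_subtype, subgroupOf_map_subtype, inf_eq_left.2 hQM]
  have hρp : IsPGroup p ρ.range := by
    rintro ⟨_, x, rfl⟩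
    obtain ⟨o, ⟨o', ho', rfl⟩, n, hnM, hn, hxe⟩ := exists_mul_normalizer M QM hQMc x.2
    rw [hQnorm] at hn
    obtain ⟨k, hk⟩ := isPGroup_range h hqp Q ⟨_, ⟨n, hn⟩, rfl⟩
    refine ⟨k, Subtype.ext ?_⟩
    have hxn : ρ x = ρ ⟨n, hnM⟩ := by
      rw [show x = o' * ⟨n, hnM⟩ from Subtype.ext hxe, map_mul, hρO o' ho', one_mul]
    change (ρ x) ^ p ^ k = 1
    rw [hxn, ← map_pow]
    refine hρn _ ?_
    have h1 := congrArg Subtype.val hk
    rw [SubmonoidClass.coe_pow, ← map_pow, Subgroup.coe_one, ← MonoidHom.mem_ker, normalizerMonoidHom_ker,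
      mem_subgroupOf] at h1
    exact h1
  have hρne : ρ.range ≠ ⊥ := by
    intro hb
    obtain ⟨z, hz, hz1⟩ := (bot_or_exists_ne_one (Q : Subgroup G)).resolve_left hQne
    refine hz1 (eq_one_of_central hnc Q hz fun n hn => ?_)
    have h1 : ρ ⟨n, hNQ hn⟩ = 1 := mem_bot.1 (hb ▸ ⟨_, rfl⟩)
    have h2 := congrArg Subtype.val (DFunLike.congr_fun h1 ⟨π ⟨z, hQM hz⟩, mem_map_of_mem _ hz⟩)
    change π ⟨n, hNQ hn⟩ * π ⟨z, hQM hz⟩ * (π ⟨n, hNQ hn⟩)⁻¹ = π ⟨z, hQM hz⟩ at h2
    rw [← map_inv, ← map_mul, ← map_mul] at h2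
    set w : M := (⟨n, hNQ hn⟩ * ⟨z, hQM hz⟩ * ⟨n, hNQ hn⟩⁻¹)⁻¹ * ⟨z, hQM hz⟩ with hw
    have hwO : w ∈ O := (QuotientGroup.eq (s := O)).1 h2
    have hwQ : w ∈ (QM : Subgroup M) :=
      mul_mem (inv_mem (show n * z * n⁻¹ ∈ (Q : Subgroup G) from (mem_normalizer_iff.1 hn z).1 hz)) hz
    obtain ⟨k, hk⟩ := QM.isPGroup'.exists_card_eq
    have h3 : orderOf w = 1 := Nat.eq_one_of_dvd_coprimes ((Cores.coprime_card_pPrimeCore (G := M) q).pow_right k)
      (orderOf_dvd_natCard O hwO) (hk ▸ orderOf_dvd_natCard (QM : Subgroup M) hwQ)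
    have h4 := congrArg Subtype.val (orderOf_eq_one_iff.1 h3)
    change (n * z * n⁻¹)⁻¹ * z = 1 at h4
    rw [inv_mul_eq_one] at h4
    exact mul_inv_eq_iff_eq_mul.1 h4
  have hPM : (P : Subgroup G) ≤ M := hPL.trans hLM
  have hcomm : ∀ x : M, (x : G) ∈ (P : Subgroup G) → x ∈ commutator M := by
    intro x hx
    have h1 : (x : G) ∈ ⁅M, M⁆ := commutator_mono hLM hLM (by rw [hfoc] at hx; exact hx.2)
    rw [← map_subtype_commutator] at h1
    obtain ⟨y, hy, hyx⟩ := h1
    rwa [Subtype.ext hyx] at hy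
  let PM := P.subtype hPM
  have hsurj : (PM : Subgroup M).map ρ.rangeRestrict = ⊤ := by
    have hs := PM.mapSurjective (MonoidHom.rangeRestrict_surjective ρ)
    obtain ⟨k, hk⟩ := hρp.exists_card_eq
    have := (IsPGroup.of_card (p := p) (G := (⊤ : Subgroup ρ.range)) (n := k) (by rw [card_top, hk]))
    rw [← Sylow.coe_mapSurjective (MonoidHom.rangeRestrict_surjective ρ) PM]
    exact ((PM.mapSurjective (MonoidHom.rangeRestrict_surjective ρ)).is_maximal' this le_top).symm
  haveI := hρp.isNilpotent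
  haveI : Nontrivial ρ.range := (nontrivial_iff_ne_bot _).2 hρne
  refine ((IsNilpotent.to_isSolvable (G := ρ.range)).commutator_lt_top_of_nontrivial ρ.range).ne
    (top_le_iff.1 ?_)
  rw [← hsurj]
  refine (map_mono (fun x hx => hcomm x hx)).trans ?_
  rw [_root_.commutator_def, map_commutator, _root_.commutator_def]
  exact commutator_mono le_top le_top

end Simple

theorem isSolvable [Fact p.Prime] : ∀ (n : ℕ) (G : Type u) [Group G] [Finite G],
    Nat.card G = n → Hyp p G → Group.IsSolvable G := by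
  intro n
  induction n using Nat.strong_induction_on with
  | _ n ih =>
  intro G _ _ hn h
  by_contra hns
  have hsol : ∀ H : Subgroup G, H ≠ ⊤ → Group.IsSolvable H := fun H hH => by
    refine ih _ (hn ▸ ?_) H rfl (h.subgroup H)
    exact lt_of_le_of_ne (Nat.le_of_dvd Nat.card_pos H.card_subgroup_dvd_card)
      fun e => hH (eq_top_of_card_eq H e)
  haveI : Nontrivial G := not_subsingleton_iff_nontrivial.1 fun hs => hns inferInstance
  haveI : IsSimpleGroup G := ⟨fun N hN => by
    by_contra hne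
    rw [not_or] at hne
    haveI := hN
    haveI := hsol N hne.2
    haveI : Nontrivial N := (nontrivial_iff_ne_bot _).2 hne.1
    obtain ⟨K, r, hr, hKn, hK, -, -, hKr, -⟩ :=
      CfsgLib.Solvable.Basic.exists_minimal_normal_pgroup (G := N)
        (H := Cfsg.fittingSubgroup N) CfsgLib.Solvable.Cores.fittingSubgroup_ne_bot
    haveI := Fact.mk hr
    set R := (Cfsg.pCore r N).map N.subtype with hR
    have hRne : R ≠ ⊥ := by
      haveI := hKn
      rw [hR, Ne, map_eq_bot_iff_of_injective _ (subtype_injective N)]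
      exact fun e => hK (le_bot_iff.1 (e ▸ CfsgLib.Solvable.Cores.le_pCore hKr))
    haveI : R.Normal := ConjAct.normal_of_characteristic_of_normal
    have hRp : IsPGroup r R := (CfsgLib.Solvable.Cores.isPGroup_pCore r).map _
    have hlt : Nat.card (G ⧸ R) < n := by
      rw [← hn, card_eq_card_quotient_mul_card_subgroup R]
      exact lt_mul_of_one_lt_right Nat.card_pos (one_lt_card_iff_ne_bot R |>.2 hRne)
    haveI := hRp.isNilpotent
    haveI := ih _ hlt (G ⧸ R) rfl (h.quotient R hr hRp)
    exact hns (solvable_of_ker_le_range R.subtype (QuotientGroup.mk' R) (by simp))⟩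
  refine false_of_simple h (fun hc => hns (Group.isSolvable_of_comm hc)) hsol hns

end CfsgLib.Solvable.AbelianPPrime
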