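import Mathlib

set_option autoImplicit false

/-! Counts in the alternating group of degree six. -/

namespace CfsgLib.Solvable.AltSixCounts

open Finset
theorem c3 : (univ.filter fun g : alternatingGroup (Fin 6) => g ^ 3 = 1).card ≤ 81 := by decide +kernel
theorem c5 : (univ.filter fun g : alternatingGroup (Fin 6) => g ^ 5 = 1).card ≤ 145 := by decide +kernel
theorem cinv : ∀ g : alternatingGroup (Fin 6), g ^ 2 = 1 → g ≠ 1 →
    (univ.filter fun h : alternatingGroup (Fin 6) => h * g = g * h).card ≤ 8 := by decide +kernel

end CfsgLib.Solvable.AltSixCounts
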