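import Cfsg.Prelude.Def_Solvable
import Cfsg.Agent.Lib.FrobRealize.FixedPointFree
import Cfsg.Agent.Lib.Coprime.Sylow

/-!
A solvable subgroup that is central in every solvable subgroup containing it is central.
-/

set_option autoImplicit false
open scoped Pointwise

universe u

namespace CfsgLib.CentralInSolvable

/-- `A` is central in every solvable subgroup containing it. -/
def Hyp {G : Type*} [Group G] (A : Subgroup G) : Prop :=
  ∀ S : Subgroup G, A ≤ S → Group.IsSolvable S → ∀ a ∈ A, ∀ s ∈ S, a * s = s * a

theorem central_of_normal_comm {G : Type*} [Group G] {A B : Subgroup G} (h : Hyp A) (hAB : A ≤ B)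
    (hB : ∀ x ∈ B, ∀ y ∈ B, x * y = y * x) (hBn : B.Normal) : A ≤ Subgroup.center G := by
  intro a ha
  rw [Subgroup.mem_center_iff]
  intro g
  set S := B ⊔ Subgroup.zpowers g with hS
  haveI := hBn
  haveI : Group.IsSolvable B := Group.isSolvable_of_comm fun x y => Subtype.ext (hB x x.2 y y.2)
  haveI : (B.subgroupOf S).Normal := hBn.subgroupOf S
  haveI : Group.IsSolvable (B.subgroupOf S) :=
    Group.isSolvable_of_surjective
      (f := (Subgroup.subgroupOfEquivOfLe (le_sup_left : B ≤ S)).symm.toMonoidHom)
      (Subgroup.subgroupOfEquivOfLe le_sup_left).symm.surjective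
  let φ : Subgroup.zpowers g →* S ⧸ B.subgroupOf S :=
    (QuotientGroup.mk' _).comp (Subgroup.inclusion le_sup_right)
  have hφ : Function.Surjective φ := by
    intro x
    obtain ⟨⟨s, hs⟩, rfl⟩ := QuotientGroup.mk'_surjective _ x
    obtain ⟨b, hb, z, hz, rfl⟩ := Subgroup.mem_sup_of_normal_left.mp (hS ▸ hs)
    refine ⟨⟨z, hz⟩, (QuotientGroup.eq).mpr ?_⟩
    show z⁻¹ * (b * z) ∈ B
    have := hBn.conj_mem b hb z⁻¹
    rwa [inv_inv, mul_assoc] at this
  haveI : Group.IsSolvable (Subgroup.zpowers g) :=
    Group.isSolvable_of_comm fun x y => mul_comm' x y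
  haveI : Group.IsSolvable (S ⧸ B.subgroupOf S) := Group.isSolvable_of_surjective hφ
  have hsol : Group.IsSolvable S :=
    Group.isSolvable_of_ker_le_range (B.subgroupOf S).subtype (QuotientGroup.mk' (B.subgroupOf S)) (by simp)
  exact (h S (hAB.trans le_sup_left) hsol a ha g
    ((le_sup_right : Subgroup.zpowers g ≤ S) (Subgroup.mem_zpowers g))).symm

theorem aux : ∀ (m : ℕ) (G : Type u) [Group G] [Finite G], Nat.card G ≤ m →
    ∀ A : Subgroup G, Group.IsSolvable A → Hyp A → A ≤ Subgroup.center G := by
  intro m
  induction m with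
  | zero => intro G _ _ h; exact absurd h (by have := Nat.card_pos (α := G); omega)
  | succ m ih =>
    intro G _ _ hcard A hA h
    by_contra hne
    have hab : ∀ x ∈ A, ∀ y ∈ A, x * y = y * x := fun x hx y hy => h A le_rfl hA x hx y hy
    -- `A` is central in every proper overgroup
    have hprop : ∀ H : Subgroup G, A ≤ H → H ≠ ⊤ → ∀ a ∈ A, ∀ s ∈ H, a * s = s * a := by
      intro H hAH hH a ha s hs
      have hlt : Nat.card H ≤ m := by
        have : Nat.card H ≠ Nat.card G := fun e => hH (Subgroup.eq_top_of_card_eq H e)
        have := Subgroup.card_le_card_group H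
        omega
      have hh : Hyp (A.subgroupOf H) := by
        intro S hS hsol b hb t ht
        haveI := hsol
        have hsol' : Group.IsSolvable (S.map H.subtype) :=
          Group.isSolvable_of_surjective (MonoidHom.subgroupMap_surjective H.subtype S)
        refine Subtype.ext (h (S.map H.subtype) (fun x hx => ?_) hsol' (b : G) hb t ⟨t, ht, rfl⟩)
        exact ⟨⟨x, hAH hx⟩, hS hx, rfl⟩
      haveI := hA
      have hsA : Group.IsSolvable (A.subgroupOf H) :=
        Group.isSolvable_of_surjective
          (f := (Subgroup.subgroupOfEquivOfLe hAH).symm.toMonoidHom)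
          (Subgroup.subgroupOfEquivOfLe hAH).symm.surjective
      have hb : (⟨a, hAH ha⟩ : H) ∈ Subgroup.center H :=
        ih H hlt (A.subgroupOf H) hsA hh (show (⟨a, hAH ha⟩ : H) ∈ A.subgroupOf H from ha)
      exact (congrArg Subtype.val ((Subgroup.mem_center_iff.mp hb) ⟨s, hs⟩)).symm
    set C := Subgroup.centralizer (A : Set G) with hC
    have hAC : A ≤ C := fun a ha => Subgroup.mem_centralizer_iff.mpr fun b hb => hab b hb a ha
    have hCtop : C ≠ ⊤ := fun e => hne fun a ha => Subgroup.mem_center_iff.mpr fun g =>
      (Subgroup.mem_centralizer_iff.mp (show g ∈ C by rw [e]; trivial) a ha).symm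
    have hmax : ∀ H : Subgroup G, A ≤ H → H ≠ ⊤ → H ≤ C := fun H hAH hH s hs =>
      Subgroup.mem_centralizer_iff.mpr fun a ha => hprop H hAH hH a ha s hs
    have hCn : ¬ C.Normal := by
      intro hn
      refine hne (central_of_normal_comm h (B := Subgroup.normalClosure (A : Set G))
        Subgroup.le_normalClosure ?_ inferInstance)
      haveI := hn
      have h1 : Subgroup.normalClosure (A : Set G) ≤ C := Subgroup.normalClosure_le_normal hAC
      haveI : (Subgroup.centralizer (Subgroup.normalClosure (A : Set G) : Set G)).Normal :=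
        inferInstance
      have h2 : Subgroup.normalClosure (A : Set G) ≤
          Subgroup.centralizer (Subgroup.normalClosure (A : Set G) : Set G) := by
        refine Subgroup.normalClosure_le_normal fun a ha => Subgroup.mem_centralizer_iff.mpr fun x hx => ?_
        exact (Subgroup.mem_centralizer_iff.mp (h1 hx) a ha).symm
      exact fun x hx y hy => (Subgroup.mem_centralizer_iff.mp (h2 hx) y hy).symm
    -- conjugates generate
    have hcore : ∀ g : G, g ∉ C → C ⊓ (MulAut.conj g • C) ≤ Subgroup.center G := by
      intro g hg x hx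
      set H := Subgroup.centralizer ({x} : Set G) with hH
      have hAH : A ≤ H := fun a ha =>
        Subgroup.mem_centralizer_singleton_iff.mpr (Subgroup.mem_centralizer_iff.mp hx.1 a ha)
      have hgH : ∀ a ∈ A, g * a * g⁻¹ ∈ H := by
        intro a ha
        obtain ⟨y, hy, hye⟩ := hx.2
        rw [Subgroup.mem_centralizer_singleton_iff, ← hye]
        simp only [MulDistribMulAction.toMonoidEnd_apply, MulDistribMulAction.toMonoidHom_apply,
          MulAut.smul_def, MulAut.conj_apply]
        calc g * a * g⁻¹ * (g * y * g⁻¹) = g * (a * y) * g⁻¹ := by group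
          _ = g * (y * a) * g⁻¹ := by rw [Subgroup.mem_centralizer_iff.mp hy a ha]
          _ = g * y * g⁻¹ * (g * a * g⁻¹) := by group
      by_cases hHt : H = ⊤
      · exact Subgroup.mem_center_iff.mpr fun z =>
          Subgroup.mem_centralizer_singleton_iff.mp (show z ∈ H by rw [hHt]; trivial)
      exfalso
      have hHC := hmax H hAH hHt
      -- `gAg⁻¹ ≤ C`
      set C' := C.map (MulAut.conj g).toMonoidHom with hC'
      have hAC' : A ≤ C' := by
        intro a ha
        refine ⟨g⁻¹ * a * g, Subgroup.mem_centralizer_iff.mpr fun b hb => ?_, by simp; group⟩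
        have := Subgroup.mem_centralizer_iff.mp (hHC (hgH b hb)) a ha
        calc b * (g⁻¹ * a * g) = g⁻¹ * ((g * b * g⁻¹) * a) * g := by group
          _ = g⁻¹ * (a * (g * b * g⁻¹)) * g := by rw [this]
          _ = g⁻¹ * a * g * b := by group
      have hC'top : C' ≠ ⊤ := fun e => hCtop (by
        rw [← Subgroup.map_top_of_surjective (MulAut.conj g).toMonoidHom (MulAut.conj g).surjective,
          hC'] at e
        exact Subgroup.map_injective (f := (MulAut.conj g).toMonoidHom) (MulAut.conj g).injective e)
      have hle := hmax C' hAC' hC'top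
      have heq : C' = C := Subgroup.eq_of_le_of_card_ge hle (by
        rw [hC', Subgroup.card_map_of_injective (f := (MulAut.conj g).toMonoidHom)
          (MulAut.conj g).injective])
      have hgN : g ∈ Subgroup.normalizer (C : Set G) := by
        refine Subgroup.mem_normalizer_iff.mpr fun y => ⟨fun hy => ?_, fun hy => ?_⟩
        · rw [← heq]; exact ⟨y, hy, rfl⟩
        · rw [← heq] at hy
          obtain ⟨z, hz, hze⟩ := hy
          have : z = y := (MulAut.conj g).injective (by simpa using hze)
          rwa [← this]
      by_cases hN : Subgroup.normalizer (C : Set G) = ⊤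
      · exact hCn (Subgroup.normalizer_eq_top_iff.mp hN)
      · exact hg (hmax _ (hAC.trans Subgroup.le_normalizer) hN hgN)
    set Z := Subgroup.center G with hZ
    by_cases hZb : Z = ⊥
    · -- a Frobenius complement
      have hF : Cfsg.IsFrobeniusComplement C :=
        ⟨fun e => hne ((hAC.trans_eq e).trans bot_le), hCtop,
          fun g hg => le_bot_iff.mp (hZb ▸ hcore g hg)⟩
      obtain ⟨N, hNn, hNne, -, hfpf, hcomp, -⟩ := FrobRealize.FPF.exists_fpf_kernel hF
      haveI := hNn
      obtain ⟨a, haA, ha1⟩ : ∃ a ∈ A, a ≠ 1 := by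
        by_contra hc
        push Not at hc
        exact hne fun a ha => by rw [hc a ha]; exact one_mem _
      have hcop : (Nat.card A).Coprime (Nat.card N) :=
        FrobRealize.FPF.coprime_card (A := A) (K := N)
          (by rw [Subgroup.normalizer_eq_top]; exact le_top) fun x hx => hfpf x (hAC hx)
      haveI := hA
      have hkill : ∀ p, p.Prime → ¬ p ∣ Nat.card N := by
        intro p hp hd
        haveI := Fact.mk hp
        obtain ⟨P, hP⟩ := CfsgLib.Coprime.exists_invariant_sylow (A := A) (K := N)
          (by rw [Subgroup.normalizer_eq_top]; exact le_top) hcop (Or.inl hA) p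
        set R := (P : Subgroup N).map N.subtype with hR
        have hRp : IsPGroup p R := P.2.map _
        have hsol : Group.IsSolvable (R ⊔ A : Subgroup G) := by
          haveI : Group.IsNilpotent R := hRp.isNilpotent
          haveI hn : (R.subgroupOf (R ⊔ A)).Normal :=
            (Subgroup.normal_subgroupOf_iff_le_normalizer le_sup_left).mpr
              (sup_le Subgroup.le_normalizer hP)
          haveI : Group.IsSolvable (R.subgroupOf (R ⊔ A)) :=
            Group.isSolvable_of_surjective
              (f := (Subgroup.subgroupOfEquivOfLe (le_sup_left : R ≤ R ⊔ A)).symm.toMonoidHom)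
              (Subgroup.subgroupOfEquivOfLe le_sup_left).symm.surjective
          let φ : A →* ↥(R ⊔ A) ⧸ R.subgroupOf (R ⊔ A) :=
            (QuotientGroup.mk' _).comp (Subgroup.inclusion le_sup_right)
          haveI : Group.IsSolvable (↥(R ⊔ A) ⧸ R.subgroupOf (R ⊔ A)) := by
            refine Group.isSolvable_of_surjective (f := φ) fun x => ?_
            obtain ⟨⟨s, hs⟩, rfl⟩ := QuotientGroup.mk'_surjective _ x
            have hs' : s ∈ (R : Set G) * A := by
              rw [← Subgroup.coe_mul_of_right_le_normalizer_left R A hP]; exact hs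
            obtain ⟨b, hb, a, ha, rfl⟩ := hs'
            refine ⟨⟨a, ha⟩, (QuotientGroup.eq).mpr ?_⟩
            show a⁻¹ * (b * a) ∈ R
            have := (Subgroup.mem_normalizer_iff.mp (hP (A.inv_mem ha)) b).mp hb
            rwa [inv_inv, mul_assoc] at this
          exact Group.isSolvable_of_ker_le_range (R.subgroupOf (R ⊔ A)).subtype
            (QuotientGroup.mk' (R.subgroupOf (R ⊔ A))) (by simp)
        obtain ⟨⟨r, hr⟩, hr1⟩ := exists_prime_orderOf_dvd_card' p (show p ∣ Nat.card R by
          rw [hR, CfsgLib.Coprime.card_map_subtype, P.card_eq_multiplicity]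
          exact dvd_pow_self p (Nat.pos_iff_ne_zero.mp (hp.factorization_pos_of_dvd Nat.card_pos.ne' hd)))
        have hrc : r ∈ N ⊓ Subgroup.centralizer ({a} : Set G) :=
          ⟨Subgroup.map_subtype_le _ hr, Subgroup.mem_centralizer_singleton_iff.mpr
            (h _ le_sup_right hsol a haA r ((le_sup_left : R ≤ R ⊔ A) hr)).symm⟩
        rw [hfpf a (hAC haA) ha1, Subgroup.mem_bot] at hrc
        subst hrc
        exact hp.ne_one (by rw [← hr1]; simp)
      obtain ⟨p, hp, hd⟩ := Nat.exists_prime_and_dvd (Subgroup.card_eq_one.not.mpr hNne)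
      exact hkill p hp hd
    · -- pass to the quotient by the centre
      set f := QuotientGroup.mk' Z
      have hlt : Nat.card (G ⧸ Z) ≤ m := by
        have h1 := Z.card_mul_index
        have h2 : 1 < Nat.card Z := Subgroup.one_lt_card_iff_ne_bot Z |>.mpr hZb
        rw [← Subgroup.index_eq_card]
        have h3 : 0 < Z.index := Nat.pos_of_ne_zero Subgroup.FiniteIndex.index_ne_zero
        nlinarith
      haveI := hA
      have hAbar : Group.IsSolvable (A.map f) :=
        Group.isSolvable_of_surjective (MonoidHom.subgroupMap_surjective f A)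
      have hh : Hyp (A.map f) := by
        rintro S hS hsol _ ⟨a, ha, rfl⟩ s hs
        obtain ⟨s, rfl⟩ := QuotientGroup.mk'_surjective Z s
        have hsol' : Group.IsSolvable (S.comap f) := by
          haveI := hsol
          haveI : Group.IsSolvable Z := Group.isSolvable_of_comm fun x y =>
            Subtype.ext (Subgroup.mem_center_iff.mp y.2 x)
          refine Group.isSolvable_of_ker_le_range
            (Subgroup.inclusion (show Z ≤ S.comap f from QuotientGroup.le_comap_mk' Z S))
            (f.subgroupComap S) fun x hx => ?_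
          have : (x : G) ∈ Z := (QuotientGroup.eq_one_iff _).mp (congrArg Subtype.val hx)
          exact ⟨⟨x, this⟩, rfl⟩
        rw [← map_mul, ← map_mul, h (S.comap f) (fun b hb => hS ⟨b, hb, rfl⟩) hsol' a ha s hs]
      have hcen := ih (G ⧸ Z) hlt (A.map f) hAbar hh
      refine hne (central_of_normal_comm h (B := A ⊔ Z) le_sup_left ?_ ?_)
      · intro x hx y hy
        obtain ⟨a, ha, z, hz, rfl⟩ := Subgroup.mem_sup_of_normal_right.mp hx
        obtain ⟨b, hb, w, hw, rfl⟩ := Subgroup.mem_sup_of_normal_right.mp hy
        have hz' := Subgroup.mem_center_iff.mp hz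
        have hw' := Subgroup.mem_center_iff.mp hw
        calc a * z * (b * w) = a * b * (z * w) := by rw [mul_assoc, ← mul_assoc z b, ← hz' b]; group
          _ = b * a * (w * z) := by rw [hab a ha b hb, hw' z]
          _ = b * w * (a * z) := by rw [mul_assoc, ← mul_assoc a w, hw' a]; group
      · refine ⟨fun x hx g => ?_⟩
        have hx' : f x ∈ Subgroup.center (G ⧸ Z) := by
          obtain ⟨a, ha, z, hz, rfl⟩ := Subgroup.mem_sup_of_normal_right.mp hx
          rw [map_mul, show f z = 1 from (QuotientGroup.eq_one_iff z).mpr hz, mul_one]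
          exact hcen ⟨a, ha, rfl⟩
        have hd : (g * x * g⁻¹) * x⁻¹ ∈ Z := by
          rw [← QuotientGroup.eq_one_iff]
          show f ((g * x * g⁻¹) * x⁻¹) = 1
          rw [map_mul, map_mul, map_mul, map_inv, map_inv,
            Subgroup.mem_center_iff.mp hx' (f g), mul_inv_cancel_right, mul_inv_cancel]
        rw [show g * x * g⁻¹ = (g * x * g⁻¹ * x⁻¹) * x by group]
        exact mul_mem ((le_sup_right : Z ≤ A ⊔ Z) hd) hx

end CfsgLib.CentralInSolvable
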