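import Cfsg.Agent.Lib.OddOrder.CharOmega
import Cfsg.Agent.Lib.KGroups.OmegaFaithful
import Cfsg.Agent.Lib.PGroup.CoprimeFix
import Cfsg.Agent.Lib.Fusion.PSolvable

/-!
# A `p'`-group centralising the fixed points of a `p`-group

For odd `p`: if a `p`-group `A` normalises a `p'`-group `X`, both act on a group of exponent `p` and
class two, and `X` centralises the fixed points of `A`, then `X` acts trivially. The proof linearises
the group with Baer's addition.
-/

set_option autoImplicit false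

namespace CfsgLib.Solvable.CentralizedFixedPoints

open Subgroup CfsgLib
open scoped commutatorElement

/-- The underlying set of a group carrying Baer's addition. -/
structure Baer (P : Type*) where
  /-- the element -/
  val : P

@[ext] theorem Baer.ext' {P : Type*} {a b : Baer P} (h : a.val = b.val) : a = b := by
  cases a; cases b; cases h; rfl

theorem Baer.finite {P : Type*} [Finite P] : Finite (Baer P) :=
  Finite.of_injective Baer.val fun _ _ h => Baer.ext' h

section

variable {P : Type*} [Group P]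

theorem comm_mul_left (hc : ∀ a b c : P, Commute c ⁅a, b⁆) (x y z : P) :
    ⁅z, x * y⁆ = ⁅z, x⁆ * ⁅z, y⁆ := by
  rw [show ⁅z, x * y⁆ = ⁅z, x⁆ * (x * ⁅z, y⁆ * x⁻¹) by simp only [commutatorElement_def]; group,
    (hc z y x).eq, mul_inv_cancel_right]

theorem comm_mul_right (hc : ∀ a b c : P, Commute c ⁅a, b⁆) (x y z : P) :
    ⁅x * y, z⁆ = ⁅x, z⁆ * ⁅y, z⁆ := by
  rw [show ⁅x * y, z⁆ = x * ⁅y, z⁆ * x⁻¹ * ⁅x, z⁆ by simp only [commutatorElement_def]; group,
    (hc y z x).eq, mul_inv_cancel_right, (hc x z ⁅y, z⁆).eq]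

theorem comm_central (hc : ∀ a b c : P, Commute c ⁅a, b⁆) (a b c : P) (m : ℕ) :
    ⁅a, b⁆ ^ m * c = c * ⁅a, b⁆ ^ m := ((hc a b c).pow_right m).eq.symm

/-- Baer's abelian group on a class two group of exponent dividing `p`, `p` odd. -/
@[reducible] def baerGroup {p m : ℕ} (hm : 2 * m = p + 1) (hexp : ∀ x : P, x ^ p = 1)
    (hc : ∀ a b c : P, Commute c ⁅a, b⁆) : CommGroup (Baer P) where
  mul x y := ⟨x.val * y.val * ⁅y.val, x.val⁆ ^ m⟩
  one := ⟨1⟩
  inv x := ⟨x.val⁻¹⟩
  mul_assoc x y z := Baer.ext' (by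
    show x.val * y.val * ⁅y.val, x.val⁆ ^ m * z.val * ⁅z.val, x.val * y.val * ⁅y.val, x.val⁆ ^ m⁆ ^ m =
      x.val * (y.val * z.val * ⁅z.val, y.val⁆ ^ m) * ⁅y.val * z.val * ⁅z.val, y.val⁆ ^ m, x.val⁆ ^ m
    have e1 : ⁅z.val, ⁅y.val, x.val⁆ ^ m⁆ = 1 :=
      commutatorElement_eq_one_iff_mul_comm.2 (comm_central hc _ _ _ m).symm
    have e2 : ⁅⁅z.val, y.val⁆ ^ m, x.val⁆ = 1 :=
      commutatorElement_eq_one_iff_mul_comm.2 (comm_central hc _ _ _ m)
    rw [comm_mul_left hc, comm_mul_left hc, e1, mul_one, comm_mul_right hc, comm_mul_right hc, e2,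
      mul_one, (hc z.val y.val ⁅z.val, x.val⁆).mul_pow m, (hc z.val x.val ⁅y.val, x.val⁆).mul_pow m]
    simp only [mul_assoc]
    refine congrArg (x.val * ·) (congrArg (y.val * ·) ?_)
    rw [← mul_assoc, comm_central hc y.val x.val z.val m, mul_assoc]
    refine congrArg (z.val * ·) ?_
    rw [comm_central hc z.val x.val (⁅z.val, y.val⁆ ^ m) m, ← mul_assoc,
      comm_central hc y.val x.val (⁅z.val, y.val⁆ ^ m) m, mul_assoc])
  one_mul x := Baer.ext' (by
    show (1 : P) * x.val * ⁅x.val, (1 : P)⁆ ^ m = x.val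
    rw [commutatorElement_one_right, one_pow, one_mul, mul_one])
  mul_one x := Baer.ext' (by
    show x.val * 1 * ⁅(1 : P), x.val⁆ ^ m = x.val
    rw [commutatorElement_one_left, one_pow, mul_one, mul_one])
  inv_mul_cancel x := Baer.ext' (by
    show x.val⁻¹ * x.val * ⁅x.val, x.val⁻¹⁆ ^ m = 1
    rw [inv_mul_cancel, commutatorElement_eq_one_iff_mul_comm.2 (by simp), one_pow, one_mul])
  mul_comm x y := Baer.ext' (by
    show x.val * y.val * ⁅y.val, x.val⁆ ^ m = y.val * x.val * ⁅x.val, y.val⁆ ^ m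
    have h1 : y.val * x.val = x.val * y.val * ⁅y.val, x.val⁆ := by
      rw [← (hc y.val x.val (x.val * y.val)).eq.symm, commutatorElement_def]; group
    have h2 : ⁅y.val, x.val⁆ ^ (2 * m) = ⁅y.val, x.val⁆ := by
      rw [hm, pow_succ, hexp, one_mul]
    rw [h1, mul_assoc _ ⁅y.val, x.val⁆, ← commutatorElement_inv y.val x.val, inv_pow]
    refine congrArg (x.val * y.val * ·) ?_
    rw [eq_mul_inv_iff_mul_eq, ← pow_add, ← two_mul, h2])

end

/-- A `p'`-group centralising the fixed points of a `p`-group centralises. -/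
theorem le_centralizer_of_fixed {G : Type*} [Group G] [Finite G] {p : ℕ} [Fact p.Prime] (hp2 : p ≠ 2)
    {T A X : Subgroup G} (hTp : IsPGroup p T) (hexp : ∀ x ∈ T, x ^ p = 1)
    (hcomm : ∀ a ∈ T, ∀ b ∈ T, ∀ c ∈ T, Commute c ⁅a, b⁆) (hA : IsPGroup p A)
    (hAT : A ≤ normalizer (T : Set G)) (hXT : X ≤ normalizer (T : Set G))
    (hAX : A ≤ normalizer (X : Set G)) (hcop : (Nat.card X).Coprime p)
    (hfix : ∀ t ∈ T, (∀ a ∈ A, a * t = t * a) → ∀ x ∈ X, x * t = t * x) :
    X ≤ centralizer (T : Set G) := by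
  classical
  have hp : p.Prime := Fact.out
  obtain ⟨m, hm⟩ : ∃ m, 2 * m = p + 1 := by
    obtain ⟨k, hk⟩ := hp.odd_of_ne_two hp2
    exact ⟨k + 1, by omega⟩
  have hexp' : ∀ x : T, x ^ p = 1 := fun x => Subtype.ext (hexp x x.2)
  have hc' : ∀ a b c : T, Commute c ⁅a, b⁆ := fun a b c => Subtype.ext (by
    show (c : G) * T.subtype ⁅a, b⁆ = T.subtype ⁅a, b⁆ * c
    rw [map_commutatorElement]
    exact hcomm a a.2 b b.2 c c.2)
  letI : CommGroup (Baer T) := baerGroup hm hexp' hc'
  haveI : Finite (Baer T) := Baer.finite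
  haveI : Fintype X := Fintype.ofFinite _
  let act : (normalizer (T : Set G)) → Baer T →* Baer T := fun g => MonoidHom.mk'
    (fun v => ⟨Coprime.conjHom (le_refl (normalizer (T : Set G))) g v.val⟩) fun v w => Baer.ext' (by
      show Coprime.conjHom (le_refl (normalizer (T : Set G))) g (v.val * w.val * ⁅w.val, v.val⁆ ^ m) = _
      rw [map_mul, map_mul, map_pow, map_commutatorElement]
      rfl)
  have hact : ∀ (g : normalizer (T : Set G)) (v : Baer T),
      (((act g v).val : T) : G) = g * (v.val : G) * (g : G)⁻¹ := fun g v => Coprime.conjHom_apply _ g v.val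
  let N : Baer T →* Baer T := ∏ x : X, act ⟨x, hXT x.2⟩
  have hN : ∀ v, N v = ∏ x : X, act ⟨x, hXT x.2⟩ v := fun v => MonoidHom.finsetProd_apply _ _ _
  have hpow : ∀ (n : ℕ) (v : Baer T), (v ^ n).val = v.val ^ n := by
    intro n v
    induction n with
    | zero => rw [pow_zero, pow_zero]; rfl
    | succ n ih =>
      rw [pow_succ, pow_succ]
      show (v ^ n).val * v.val * ⁅v.val, (v ^ n).val⁆ ^ m = _
      rw [ih, commutatorElement_eq_one_iff_mul_comm.2 ((Commute.refl v.val).pow_right n).eq, one_pow,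
        mul_one]
  have hfixX : ∀ (v : Baer T) (y : X), act ⟨y, hXT y.2⟩ (N v) = N v := by
    intro v y
    rw [hN, map_prod]
    refine Fintype.prod_equiv (Equiv.mulLeft y) _ _ fun x => Baer.ext' (Subtype.ext ?_)
    rw [hact, hact, hact]
    show (y : G) * (x * (v.val : G) * (x : G)⁻¹) * (y : G)⁻¹ = (y : G) * x * v.val * ((y : G) * x)⁻¹
    group
  set W := N.ker with hW
  have hinvA : ∀ a : A, ∀ v ∈ W, act ⟨a, hAT a.2⟩ v ∈ W := by
    intro a v hv
    rw [hW, MonoidHom.mem_ker] at hv ⊢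
    rw [← map_one (act ⟨a, hAT a.2⟩), ← hv, hN, hN, map_prod]
    let e : X ≃ X :=
      { toFun := fun x => ⟨(a : G)⁻¹ * x * (a : G), by
          simpa using (mem_normalizer_iff.1 ((normalizer (X : Set G)).inv_mem (hAX a.2)) x).1 x.2⟩
        invFun := fun x => ⟨(a : G) * x * (a : G)⁻¹, (mem_normalizer_iff.1 (hAX a.2) x).1 x.2⟩
        left_inv := fun x => Subtype.ext (by simp [mul_assoc])
        right_inv := fun x => Subtype.ext (by simp [mul_assoc]) }
    refine Fintype.prod_equiv e _ _ fun x => Baer.ext' (Subtype.ext ?_)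
    rw [hact, hact, hact, hact]
    show (x : G) * ((a : G) * (v.val : G) * (a : G)⁻¹) * (x : G)⁻¹ =
      (a : G) * (((a : G)⁻¹ * x * a) * (v.val : G) * ((a : G)⁻¹ * x * a)⁻¹) * (a : G)⁻¹
    group
  have hpB : IsPGroup p (Baer T) := fun v => ⟨1, Baer.ext' (by
    rw [hpow, pow_one]; exact hexp' v.val)⟩
  by_cases hWb : W = ⊥
  · intro x hx
    refine mem_centralizer_iff.2 fun t ht => ?_
    set v : Baer T := ⟨⟨t, ht⟩⟩ with hv
    have h1 : N (v ^ Fintype.card X) = N (N v) := by
      have h2 : N (N v) = (N v) ^ Fintype.card X := by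
        rw [hN (N v), Finset.prod_congr rfl (fun y _ => hfixX v y), Finset.prod_const, Finset.card_univ]
      rw [h2, map_pow]
    have h2 : v ^ Fintype.card X = N v := by
      have h3 : v ^ Fintype.card X * (N v)⁻¹ ∈ W := by
        rw [hW, MonoidHom.mem_ker, map_mul, map_inv, h1, mul_inv_cancel]
      rw [hWb, mem_bot, mul_inv_eq_one] at h3
      exact h3
    have h4 : act ⟨x, hXT hx⟩ v ^ Fintype.card X = v ^ Fintype.card X := by
      rw [← map_pow, h2]; exact hfixX v ⟨x, hx⟩
    have hcd : (Nat.card (Baer T)).Coprime (Fintype.card X) := by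
      obtain ⟨k, hk⟩ := IsPGroup.iff_card.mp hpB
      rw [hk, ← Nat.card_eq_fintype_card]
      exact hcop.symm.pow_left k
    have h5 := congrArg (fun z : Baer T => ((z.val : T) : G)) ((powCoprime hcd).injective h4)
    simp only [hact] at h5
    exact (mul_inv_eq_iff_eq_mul.1 h5).symm
  exfalso
  haveI : Nontrivial W := (nontrivial_iff_ne_bot _).2 hWb
  let inst : MulAction A W :=
    { smul := fun a w => ⟨act ⟨a, hAT a.2⟩ w, hinvA a w w.2⟩
      one_smul := fun w => Subtype.ext (Baer.ext' (Subtype.ext (by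
        show (((act ⟨((1 : A) : G), _⟩ w).val : T) : G) = _
        rw [hact]; simp)))
      mul_smul := fun a b w => Subtype.ext (Baer.ext' (Subtype.ext (by
        show (((act ⟨((a * b : A) : G), _⟩ w).val : T) : G) =
          ((act ⟨(a : G), _⟩ (act ⟨(b : G), _⟩ (w : Baer T))).val : G)
        rw [hact, hact, hact]; simp [mul_assoc]))) }
  obtain ⟨k, hk0, hk⟩ := (hpB.to_subgroup W).nontrivial_iff_card.1 inferInstance
  have h1 : (1 : W) ∈ MulAction.fixedPoints A W := fun a => Subtype.ext (map_one _)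
  obtain ⟨w, hw, hw1⟩ := hA.exists_fixed_point_of_prime_dvd_card_of_fixed_point W
    (hk ▸ dvd_pow_self p hk0.ne') h1
  have hwA : ∀ a ∈ A, a * ((w : Baer T).val : G) = (w : Baer T).val * a := by
    intro a ha
    have h2 := congrArg (fun z : W => (((z : Baer T).val : T) : G)) (hw ⟨a, ha⟩)
    have h3 : a * ((w : Baer T).val : G) * a⁻¹ = (w : Baer T).val := by
      exact (hact ⟨a, hAT ha⟩ w).symm.trans h2
    exact mul_inv_eq_iff_eq_mul.1 h3
  have hwX := hfix _ (w : Baer T).val.2 hwA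
  have h5 : N (w : Baer T) = (w : Baer T) ^ Fintype.card X := by
    rw [hN, Finset.prod_congr rfl (fun (x : X) _ => (Baer.ext' (Subtype.ext (by
      rw [hact, mul_inv_eq_iff_eq_mul]; exact hwX x x.2)) : act ⟨x, hXT x.2⟩ (w : Baer T) = w)),
      Finset.prod_const, Finset.card_univ]
  rw [MonoidHom.mem_ker.1 w.2] at h5
  refine hw1 (Subtype.ext ?_)
  refine (orderOf_eq_one_iff.1 (Nat.eq_one_of_dvd_coprimes hcop
    (Nat.card_eq_fintype_card (α := X) ▸ orderOf_dvd_of_pow_eq_one h5.symm)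
    (orderOf_dvd_of_pow_eq_one (Baer.ext' (by rw [hpow]; exact hexp' _))))).symm

end CfsgLib.Solvable.CentralizedFixedPoints
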