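import Cfsg.Agent.Lib.Solvable.ClassSizeRigid
import Cfsg.Agent.Lib.KGroups.OmegaFaithful
import Mathlib.GroupTheory.Transfer

/-!
# A normal subgroup with one non-central class size which is generated by its `r`-elements
-/

set_option autoImplicit false

namespace CfsgLib.Solvable.ClassSizeRigid

open Subgroup CfsgLib
open scoped commutatorElement

variable {G : Type*} [Group G] [Finite G] {N : Subgroup G} [hNn : N.Normal] {m : ℕ}

omit hNn in
/-- If `w y w⁻¹ = z * y` with central `z` of `q`-power order and a power of `w` of exponent prime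
to `q` centralises `y`, then `z = 1`. -/
theorem eq_one_of_pow_commute {q : ℕ} {w y z : G} (hz : z ∈ center G)
    (hzy : w * y * w⁻¹ = z * y) {n : ℕ} (hn : w ^ n * y = y * w ^ n) (hzn : (orderOf z).Coprime n) :
    z = 1 := by
  have hit : ∀ i : ℕ, w ^ i * y = z ^ i * y * w ^ i := by
    intro i
    induction i with
    | zero => simp
    | succ i ih =>
      rw [pow_succ', mul_assoc, ih, ← mul_assoc, ← mul_assoc, mem_center_iff.1 (pow_mem hz i) w,
        mul_assoc (z ^ i), mul_inv_eq_iff_eq_mul.1 hzy, pow_succ z]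
      simp only [mul_assoc]
  have h1 : z ^ n = 1 := by
    have h := hit n
    rw [hn] at h
    exact mul_eq_right.1 (mul_right_cancel h).symm
  exact orderOf_eq_one_iff.1 (Nat.eq_one_of_dvd_coprimes hzn dvd_rfl (orderOf_dvd_of_pow_eq_one h1))

omit [Finite G] hNn in
theorem center_pow_eq_one {q : ℕ} {w y z : G} (hz : z ∈ center G) (hzy : w * y * w⁻¹ = z * y)
    (hyq : y ^ q ∈ center G) : z ^ q = 1 := by
  have h2 : (w * y * w⁻¹) ^ q = y ^ q := by
    rw [conj_pow, mem_center_iff.1 hyq, mul_inv_cancel_right]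
  rw [hzy, (show Commute z y from (mem_center_iff.1 hz y).symm).mul_pow, mul_eq_right] at h2
  exact h2

/-- A prime dividing the class size has its square dividing the index of the centre. -/
theorem Rigid.noq (h : Rigid N m) {r q : ℕ} [Fact r.Prime] [hq : Fact q.Prime] (hqr : q ≠ r)
    (hgen : N ≤ closure {a : G | a ∈ N ∧ IsPElt r a}) (hqN : q ∣ (center G).relIndex N) (hqm : q ∣ m) :
    q ^ 2 ∣ (center G).relIndex N := by
  classical
  by_contra hsq
  obtain ⟨a, haN, hac, haq⟩ := (dvd_relIndex_center_iff N).1 hqN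
  obtain ⟨P, hP⟩ := haq.isPGroup.exists_le_sylow
  have haP : a ∈ (P : Subgroup G) := hP (mem_zpowers a)
  haveI : (N.subgroupOf (P : Subgroup G)).Normal := inferInstance
  obtain ⟨⟨y, hyP⟩, hyN, hyc, hyp, hycen⟩ := Fusion.NormalRankTwo.exists_central_of_lt P.isPGroup'
    (M := (center G).subgroupOf (P : Subgroup G)) (N := N.subgroupOf (P : Subgroup G))
    (fun hle => hac (hle (show (⟨a, haP⟩ : (P : Subgroup G)) ∈ N.subgroupOf _ from haN)))
  have hyN' : y ∈ N := hyN
  have hyc' : y ∉ center G := hyc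
  have hyq : y ^ q ∈ center G := hyp
  obtain ⟨g, hgP, hgy⟩ : ∃ g ∈ (P : Subgroup G), g * y ≠ y * g := by
    by_contra hno
    push Not at hno
    refine P.not_dvd_index (hqm.trans ?_)
    rw [← h y hyN' hyc']
    exact index_dvd_of_le fun g hg => mem_centralizer_singleton_iff.2 (hno g hg)
  set Q := (P : Subgroup G) ⊓ N with hQ
  set π := QuotientGroup.mk' (center G) with hπ
  have hQmap : Nat.card (Q.map π) = q := by
    have h1 : Nat.card (Q.map π) = (center G).relIndex Q := by
      rw [← relIndex_bot_left (Q.map π), ← relIndex_comap (f := π) ⊥ Q, MonoidHom.comap_bot,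
        QuotientGroup.ker_mk']
    have h2 : (center G).relIndex Q ∣ (center G).relIndex N := by
      rw [← h1, show (center G).relIndex N = Nat.card (N.map π) by
        rw [← relIndex_bot_left (N.map π), ← relIndex_comap (f := π) ⊥ N, MonoidHom.comap_bot,
          QuotientGroup.ker_mk']]
      exact card_dvd_of_le (map_mono inf_le_right)
    obtain ⟨k, hk⟩ := IsPGroup.iff_card.mp ((P.isPGroup'.to_le (inf_le_left : Q ≤ P)).map π)
    rw [h1] at hk ⊢
    rw [hk] at h2 ⊢
    have hk1 : k ≤ 1 := by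
      by_contra hk2
      exact hsq ((pow_dvd_pow q (by omega : 2 ≤ k)).trans h2)
    have hk0 : k ≠ 0 := fun h0 => hyc' (relIndex_eq_one.1 (hk.trans (by rw [h0, pow_zero]))
      (⟨hyP, hyN'⟩ : y ∈ Q))
    rw [show k = 1 by omega, pow_one]
  -- every element of `Q` is a power of `y` modulo the centre
  have hQgen : ∀ b ∈ Q, ∃ i : ℤ, ∃ z ∈ center G, b = z * y ^ i := by
    intro b hb
    have hy1 : (⟨π y, mem_map_of_mem π (⟨hyP, hyN'⟩ : y ∈ Q)⟩ : Q.map π) ≠ 1 := fun e =>
      hyc' ((QuotientGroup.eq_one_iff y).1 (congrArg Subtype.val e))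
    obtain ⟨i, hi⟩ := mem_zpowers_iff.1
      (mem_zpowers_of_prime_card hQmap (g' := ⟨π b, mem_map_of_mem π hb⟩) hy1)
    refine ⟨i, b * (y ^ i)⁻¹, ?_, by rw [inv_mul_cancel_right]⟩
    rw [← QuotientGroup.eq_one_iff, ← QuotientGroup.mk'_apply, ← hπ, map_mul, map_inv, map_zpow]
    rw [show (π y) ^ i = π b from congrArg Subtype.val hi, mul_inv_cancel]
  have hQy : ∀ b ∈ Q, b * y = y * b := by
    intro b hb
    obtain ⟨i, z, hz, rfl⟩ := hQgen b hb
    exact ((show Commute z y from (mem_center_iff.1 hz y).symm).mul_left ((Commute.refl y).zpow_left i)).eq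
  -- the Sylow subgroup of `N`
  have hQi : ¬ q ∣ (Q.subgroupOf N).index := by
    rw [show (Q.subgroupOf N).index = (P : Subgroup G).relIndex N by
      rw [← inf_relIndex_right (P : Subgroup G) N]; rfl]
    intro hd
    exact P.not_dvd_index (hd.trans (relIndex_dvd_index_of_normal_right _))
  let Qs : Sylow q N := ((P.isPGroup'.to_le (inf_le_left : Q ≤ P)).comap_subtype (K := N)).toSylow hQi
  have hQs : ∀ b : N, b ∈ (Qs : Subgroup N) ↔ (b : G) ∈ Q := fun b => Iff.rfl
  haveI hQn : ((Qs : Subgroup N).subgroupOf (normalizer ((Qs : Subgroup N) : Set N))).Normal :=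
    normal_in_normalizer
  have hpow : ∀ v ∈ normalizer ((Qs : Subgroup N) : Set N),
      ∃ n : ℕ, n.Coprime q ∧ (v : N) ^ n ∈ (Qs : Subgroup N) := by
    intro v hv
    refine ⟨(Qs : Subgroup N).relIndex (normalizer ((Qs : Subgroup N) : Set N)), ?_, ?_⟩
    · refine (hq.out.coprime_iff_not_dvd.2 fun hd => Qs.not_dvd_index (hd.trans ?_)).symm
      exact relIndex_dvd_index_of_le le_normalizer
    · exact pow_index_mem ((Qs : Subgroup N).subgroupOf (normalizer ((Qs : Subgroup N) : Set N))) ⟨v, hv⟩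
  obtain ⟨z1, hz1, hz1y⟩ : ∃ z ∈ center G, g * y * g⁻¹ = z * y :=
    ⟨⁅g, y⁆, hycen ⟨g, hgP⟩, by rw [commutatorElement_def]; group⟩
  have hz1q := center_pow_eq_one hz1 hz1y hyq
  have hord : ∀ z : G, z ^ q = 1 → ∀ n : ℕ, n.Coprime q → (orderOf z).Coprime n := fun z hz n hn =>
    hn.symm.coprime_dvd_left (orderOf_dvd_of_pow_eq_one hz)
  have hgN : ∀ b : G, b ∈ Q → g * b * g⁻¹ ∈ Q ∧ g⁻¹ * b * g ∈ Q := fun b hb =>
    ⟨⟨(P : Subgroup G).mul_mem ((P : Subgroup G).mul_mem hgP hb.1) ((P : Subgroup G).inv_mem hgP),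
      hNn.conj_mem b hb.2 g⟩,
     ⟨(P : Subgroup G).mul_mem ((P : Subgroup G).mul_mem ((P : Subgroup G).inv_mem hgP) hb.1) hgP,
      hNn.conj_mem' b hb.2 g⟩⟩
  have hfixy : ∀ v : N, v ∈ normalizer ((Qs : Subgroup N) : Set N) → (v : G) * y = y * v := by
    intro v hv
    have hvQ : ∀ b ∈ Q, (v : G) * b * (v : G)⁻¹ ∈ Q ∧ (v : G)⁻¹ * b * v ∈ Q := by
      intro b hb
      refine ⟨(hQs _).1 ((mem_normalizer_iff.1 hv ⟨b, hb.2⟩).1 ((hQs _).2 hb)), ?_⟩
      have h2 := (mem_normalizer_iff.1 ((normalizer ((Qs : Subgroup N) : Set N)).inv_mem hv) ⟨b, hb.2⟩).1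
        ((hQs _).2 hb)
      rw [inv_inv] at h2
      exact (hQs _).1 h2
    obtain ⟨k, z, hz, hzy⟩ := hQgen _ (hvQ y ⟨hyP, hyN'⟩).1
    -- compare the two orders of composition
    have hgv : ((v : G) * g)⁻¹ * (g * v) * y * (((v : G) * g)⁻¹ * (g * v))⁻¹ = z1 ^ (k - 1) * y := by
      have e1 : ((v : G) * g) * (z1 ^ (k - 1) * y) * ((v : G) * g)⁻¹ = (g * v) * y * (g * v)⁻¹ := by
        have hz1c : ∀ c : G, ∀ j : ℤ, c * z1 ^ j = z1 ^ j * c := fun c j =>
          mem_center_iff.1 (zpow_mem hz1 j) c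
        have r1 : (g * v) * y * (g * v)⁻¹ = z * (z1 ^ k * y ^ k) := by
          rw [show (g * v) * y * (g * v)⁻¹ = g * ((v : G) * y * (v : G)⁻¹) * g⁻¹ by group, hzy,
            ← mul_assoc g z, mem_center_iff.1 hz g, mul_assoc z, mul_assoc z, ← conj_zpow, hz1y,
            (show Commute z1 y from (mem_center_iff.1 hz1 y).symm).mul_zpow]
        have r2 : ((v : G) * g) * y * ((v : G) * g)⁻¹ = z1 * (z * y ^ k) := by
          rw [show ((v : G) * g) * y * ((v : G) * g)⁻¹ = v * (g * y * g⁻¹) * (v : G)⁻¹ by group, hz1y,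
            ← mul_assoc (v : G) z1, mem_center_iff.1 hz1 (v : G), mul_assoc z1, mul_assoc z1, hzy]
        rw [r1, ← mul_assoc ((v : G) * g), hz1c, mul_assoc (z1 ^ (k - 1)), mul_assoc (z1 ^ (k - 1)), r2,
          ← mul_assoc, ← zpow_add_one, sub_add_cancel, ← mul_assoc, ← mul_assoc,
          mem_center_iff.1 hz (z1 ^ k)]
      calc _ = ((v : G) * g)⁻¹ * ((g * v) * y * (g * v)⁻¹) * ((v : G) * g) := by group
        _ = _ := by rw [← e1]; group
    have hcN : ((v : G) * g)⁻¹ * (g * v) ∈ N := by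
      rw [show ((v : G) * g)⁻¹ * (g * v) = g⁻¹ * (v : G)⁻¹ * g * v by group]
      exact N.mul_mem (hNn.conj_mem' _ (N.inv_mem v.2) g) v.2
    obtain ⟨n, hn, hnQ⟩ := hpow ⟨_, hcN⟩ (mem_normalizer_iff.2 fun b => by
      have key : ∀ b' : G, b' ∈ Q ↔
          ((v : G) * g)⁻¹ * (g * v) * b' * (((v : G) * g)⁻¹ * (g * v))⁻¹ ∈ Q := by
        intro b'
        constructor
        · intro hb
          convert (hgN _ (hvQ _ (hgN _ (hvQ _ hb).1).1).2).2 using 1
          group
        · intro hb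
          convert (hvQ _ (hgN _ (hvQ _ (hgN _ hb).1).1).2).2 using 1
          group
      exact key b)
    have hz10 : z1 ^ (k - 1) = 1 := eq_one_of_pow_commute (q := q) (zpow_mem hz1 _) hgv
      (hQy _ ((hQs _).1 hnQ)) (hord _ (by rw [← zpow_natCast, ← zpow_mul, mul_comm, zpow_mul,
        zpow_natCast, hz1q, one_zpow]) n hn)
    have hk : (q : ℤ) ∣ k - 1 := by
      rw [← show orderOf z1 = q from orderOf_eq_prime hz1q (fun e => hgy (by
        rw [e, one_mul] at hz1y; exact mul_inv_eq_iff_eq_mul.1 hz1y))]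
      exact orderOf_dvd_iff_zpow_eq_one.2 hz10
    have hyk : y ^ (k - 1) ∈ center G := by
      obtain ⟨c, hc⟩ := hk
      rw [hc, zpow_mul, zpow_natCast]
      exact zpow_mem hyq c
    have hzy' : (v : G) * y * (v : G)⁻¹ = (z * y ^ (k - 1)) * y := by
      rw [hzy, mul_assoc, ← zpow_add_one, sub_add_cancel]
    obtain ⟨n', hn', hnQ'⟩ := hpow v hv
    have h1 := eq_one_of_pow_commute (q := q) (mul_mem hz hyk) hzy' (hQy _ ((hQs _).1 hnQ'))
      (hord _ (center_pow_eq_one (mul_mem hz hyk) hzy' hyq) n' hn')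
    rw [h1, one_mul] at hzy'
    exact mul_inv_eq_iff_eq_mul.1 hzy'
  have hPC : normalizer ((Qs : Subgroup N) : Set N) ≤ centralizer ((Qs : Subgroup N) : Set N) := by
    intro v hv
    refine mem_centralizer_iff.2 fun b hb => Subtype.ext ?_
    obtain ⟨i, z, hz, hbz⟩ := hQgen _ ((hQs b).1 hb)
    show (b : G) * v = v * b
    rw [hbz]
    exact (((show Commute (v : G) z from mem_center_iff.1 hz _)).mul_right
      ((show Commute (v : G) y from hfixy v hv).zpow_right i)).symm.eq
  set K := (MonoidHom.transferSylow Qs hPC).ker with hK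
  have hKtop : K = ⊤ := by
    refine eq_top_iff.2 fun b _ => ?_
    suffices hN : N ≤ K.map N.subtype by
      obtain ⟨c, hc, hcb⟩ := hN b.2
      rwa [← N.subtype_injective hcb]
    refine hgen.trans ((closure_le _).2 ?_)
    rintro c ⟨hcN, k, hk⟩
    refine ⟨⟨c, hcN⟩, ?_, rfl⟩
    rw [hK, SetLike.mem_coe, MonoidHom.mem_ker]
    obtain ⟨j, hj⟩ := Qs.isPGroup' (MonoidHom.transferSylow Qs hPC ⟨c, hcN⟩)
    have hc1 : (⟨c, hcN⟩ : N) ^ r ^ k = 1 := Subtype.ext hk
    exact orderOf_eq_one_iff.1 (Nat.eq_one_of_dvd_coprimes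
      (((Nat.coprime_primes (Fact.out : r.Prime) hq.out).2 hqr.symm).pow k j)
      (orderOf_dvd_of_pow_eq_one (by rw [← map_pow, hc1, map_one]))
      (orderOf_dvd_of_pow_eq_one hj))
  have hcomp := MonoidHom.ker_transferSylow_isComplement' Qs hPC
  rw [← hK, hKtop, isComplement'_top_left] at hcomp
  have : (⟨y, hyN'⟩ : N) ∈ (Qs : Subgroup N) := (hQs _).2 ⟨hyP, hyN'⟩
  rw [hcomp, mem_bot] at this
  exact hyc' (by rw [show y = 1 from congrArg Subtype.val this]; exact one_mem _)

/-- A subgroup with all prime power elements commuting with one another is nilpotent. -/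
theorem isNilpotent_of_central_coprime {r : ℕ} [Fact r.Prime]
    (h : ∀ q : ℕ, q.Prime → q ≠ r → ¬ q ∣ (center G).relIndex N) : Group.IsNilpotent N := by
  haveI : ((center G).subgroupOf N).Normal := inferInstance
  have hp : IsPGroup r (N ⧸ (center G).subgroupOf N) := by
    refine IsPGroup.of_card (n := (Nat.card (N ⧸ (center G).subgroupOf N)).factorization r) ?_
    refine Nat.eq_pow_of_factorization_eq_single ?_ ?_
    · exact Nat.card_pos.ne'
    · ext q
      by_cases hqr : q = r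
      · subst hqr; rw [Finsupp.single_eq_same]
      · rw [Finsupp.single_eq_of_ne hqr]
        by_cases hq : q.Prime
        · exact Nat.factorization_eq_zero_of_not_dvd (h q hq hqr)
        · exact Nat.factorization_eq_zero_of_not_prime _ hq
  haveI := hp.isNilpotent
  refine Subgroup.isNilpotent_of_ker_le_center (QuotientGroup.mk' ((center G).subgroupOf N))
    (fun a ha => ?_)
  rw [QuotientGroup.ker_mk'] at ha
  exact mem_center_iff.2 fun b => Subtype.ext (mem_center_iff.1 ha (b : G))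

theorem Rigid.isNilpotent_of_generated (h : Rigid N m) {r : ℕ} [hr : Fact r.Prime]
    (hNr : ¬ r ∣ N.index) (hx : r ∣ (center G).relIndex N)
    (hgen : N ≤ closure {a : G | a ∈ N ∧ IsPElt r a}) : Group.IsNilpotent N := by
  classical
  by_cases hq0 : ∀ q : ℕ, q.Prime → q ≠ r → ¬ q ∣ (center G).relIndex N
  · exact isNilpotent_of_central_coprime hq0
  push Not at hq0
  obtain ⟨q0, hq0p, hq0r, hq0N⟩ := hq0
  have hmr : ∀ q : ℕ, q.Prime → q ≠ r → q ∣ (center G).relIndex N → ¬ q ^ 2 ∣ m := by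
    intro q hq hqr hqN
    haveI := Fact.mk hq
    refine h.not_sq_dvd hqN fun a ha hac _ => ?_
    obtain ⟨b, hb, hbc, hbr⟩ := (dvd_relIndex_center_iff _).1 (h.dvd_of_sylow hNr hx ha hac)
    exact ⟨b, hb, hbc, hbr.coprime_prime hr.out hq hqr.symm⟩
  -- all centralizers meet all the relevant Sylow subgroups
  have hall : ∀ g ∈ N, g ∉ center G → ∀ q : ℕ, q.Prime → q ∣ (center G).relIndex N →
      q ∣ (center G).relIndex (D N g) := by
    intro g hg hgc q hq hqN
    haveI := Fact.mk hq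
    by_cases hqr : q = r
    · subst hqr; exact h.dvd_of_sylow hNr hx hg hgc
    by_contra hno
    have hmul := relIndex_center_mul (N := N) g
    have hdm : (D N g).relIndex N ∣ m := h g hg hgc ▸ relIndex_D_dvd g
    have hqm : q ∣ m := by
      refine dvd_trans ?_ hdm
      rw [← hmul] at hqN
      exact (hq.dvd_mul.1 hqN).resolve_left hno
    have h2 := h.noq hqr hgen hqN hqm
    rw [← hmul] at h2
    exact hmr q hq hqr hqN
      ((Nat.Coprime.dvd_of_dvd_mul_left (((hq.coprime_iff_not_dvd).2 hno).pow_left 2) h2).trans hdm)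
  have hmix : ∀ a ∈ N, a ∉ center G → ∀ p : ℕ, p.Prime → IsPElt p a →
      ∃ b ∈ D N a, b ∉ center G ∧ ∃ q : ℕ, q.Prime ∧ q ≠ p ∧ IsPElt q b := by
    intro a ha hac p hp hap
    haveI := Fact.mk hq0p
    by_cases hpr : p = r
    · obtain ⟨b, hb, hbc, hbq⟩ := (dvd_relIndex_center_iff _).1 (hall a ha hac q0 hq0p hq0N)
      exact ⟨b, hb, hbc, q0, hq0p, hpr ▸ hq0r, hbq⟩
    · obtain ⟨b, hb, hbc, hbq⟩ := (dvd_relIndex_center_iff _).1 (h.dvd_of_sylow hNr hx ha hac)
      exact ⟨b, hb, hbc, r, hr.out, Ne.symm hpr, hbq⟩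
  have heq : ∀ {g c : G}, g ∈ N → g ∉ center G → c ∈ D N g → c ∉ center G →
      centralizer ({c} : Set G) = centralizer ({g} : Set G) :=
    fun hg hgc hc hcc => h.eq_of_mem_D hg hgc hmix hc hcc
  have hDcomm : ∀ {g a b : G}, g ∈ N → g ∉ center G → a ∈ D N g → b ∈ D N g → a * b = b * a := by
    intro g a b hg hgc ha hb
    by_cases hbc : b ∈ center G
    · exact mem_center_iff.1 hbc a
    · have := ha.2
      rw [← heq hg hgc hb hbc] at this
      exact mem_centralizer_singleton_iff.1 this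
  have hm2 : ∀ q : ℕ, q.Prime → q ∣ (center G).relIndex N → ¬ q ^ 2 ∣ m := by
    intro q hq hqN
    haveI := Fact.mk hq
    refine h.not_sq_dvd hqN fun a ha hac haq => ?_
    obtain ⟨b, hb, hbc, s, hs, hsq, hbs⟩ := hmix a ha hac q hq haq
    exact ⟨b, hb, hbc, hbs.coprime_prime hs hq hsq⟩
  have hrelN : ∀ g : G, ∀ p : ℕ, p ∣ (D N g).relIndex N → p ∣ (center G).relIndex N := fun g p hd =>
    relIndex_center_mul (N := N) g ▸ hd.mul_left _
  have hDm : ∀ g ∈ N, g ∉ center G → (D N g).relIndex N ∣ m := fun g hg hgc =>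
    h g hg hgc ▸ relIndex_D_dvd g
  have hsqf : ∀ g ∈ N, g ∉ center G → Squarefree ((D N g).relIndex N) := fun g hg hgc =>
    Nat.squarefree_iff_prime_squarefree.2 fun p hp hd =>
      hm2 p hp (hrelN g p ((dvd_mul_right p p).trans hd)) (sq p ▸ hd.trans (hDm g hg hgc))
  have hunif : ∀ g ∈ N, g ∉ center G → ∀ g' ∈ N, g' ∉ center G →
      (D N g).relIndex N ∣ (D N g').relIndex N := by
    intro g hg hgc g' hg' hgc'
    rw [← Nat.prod_primeFactors_of_squarefree (hsqf g hg hgc)]
    refine (Finset.prod_dvd_prod_of_subset _ _ _ fun p hp => ?_).trans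
      (Nat.prod_primeFactors_dvd ((D N g').relIndex N))
    obtain ⟨hpp, hpd, -⟩ := Nat.mem_primeFactors.1 hp
    haveI := Fact.mk hpp
    refine Nat.mem_primeFactors.2 ⟨hpp, ?_, index_ne_zero_of_finite⟩
    by_contra hno
    obtain ⟨c, hc, hcc, hcp⟩ := (dvd_relIndex_center_iff _).1 (hall g hg hgc p hpp (hrelN g p hpd))
    obtain ⟨S⟩ : Nonempty (Sylow p (D N g')) := inferInstance
    set SN := ((S : Subgroup (D N g')).map (D N g').subtype) with hSN
    have hSNle : SN ≤ N := (map_subtype_le _).trans inf_le_left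
    have hSi : ¬ p ∣ (SN.subgroupOf N).index := by
      have hle : SN ≤ D N g' := map_subtype_le _
      rw [show (SN.subgroupOf N).index = SN.relIndex N from rfl,
        ← relIndex_mul_relIndex _ _ _ hle inf_le_left, hSN]
      refine hpp.not_dvd_mul ?_ hno
      rw [relIndex, subgroupOf, comap_map_eq_self_of_injective (D N g').subtype_injective]
      exact S.not_dvd_index
    let T : Sylow p N := ((S.isPGroup'.map (D N g').subtype).comap_subtype (K := N)).toSylow hSi
    obtain ⟨T', hT'⟩ := (hcp.isPGroup.comap_subtype (K := N)).exists_le_sylow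
    obtain ⟨w, rfl⟩ := MulAction.exists_smul_eq N T T'
    have h1 : (⟨c, hc.1⟩ : N) ∈ ((w • T : Sylow p N) : Subgroup N) :=
      hT' (show c ∈ zpowers c from mem_zpowers c)
    rw [Sylow.coe_subgroup_smul, mem_pointwise_smul_iff_inv_smul_mem] at h1
    have h2 : (w : G)⁻¹ * c * w ∈ D N g' := by
      have h3 : (((MulAut.conj w)⁻¹ • (⟨c, hc.1⟩ : N) : N) : G) ∈ SN := h1
      have h4 := (map_subtype_le _ : SN ≤ D N g') h3
      simpa [MulAut.smul_def, mul_assoc] using h4
    have h2c : (w : G)⁻¹ * c * w ∉ center G := fun hcen => hcc (by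
      have h5 := ((inferInstance : (center G).Normal)).conj_mem _ hcen (w : G)
      simpa [mul_assoc] using h5)
    have hD : ((D N g').map (MulAut.conj (w : G)).toMonoidHom) = D N g := by
      ext a
      rw [mem_map_equiv, MulAut.conj_symm_apply]
      simp only [D, mem_inf]
      rw [← heq hg' hgc' h2 h2c, ← heq hg hgc hc hcc, mem_centralizer_singleton_iff,
        mem_centralizer_singleton_iff]
      refine and_congr ⟨fun ha => ?_, fun ha => hNn.conj_mem' a ha _⟩ ⟨fun ha => ?_, fun ha => ?_⟩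
      · have := hNn.conj_mem _ ha (w : G)
        simpa [mul_assoc] using this
      · have := congrArg (fun x => (w : G) * x * (w : G)⁻¹) ha
        simpa [mul_assoc] using this
      · have := congrArg (fun x => (w : G)⁻¹ * x * (w : G)) ha
        simpa [mul_assoc] using this
    apply hno
    have e : ((D N g').map (MulAut.conj (w : G)).toMonoidHom).relIndex
        (N.map (MulAut.conj (w : G)).toMonoidHom) = (D N g').relIndex N :=
      relIndex_map_map_of_injective _ _ (MulAut.conj (w : G)).injective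
    rw [hD, show N.map (MulAut.conj (w : G)).toMonoidHom = N from le_antisymm
      (by rintro _ ⟨a, ha, rfl⟩; exact hNn.conj_mem a ha _)
      (fun a ha => ⟨(w : G)⁻¹ * a * w, hNn.conj_mem' a ha _, by simp [mul_assoc]⟩)] at e
    rwa [← e]
  -- the index and the order of a centralizer agree
  obtain ⟨x, hxN, hxc, hxr⟩ := (dvd_relIndex_center_iff N).1 hx
  set M := (D N x).relIndex N with hM
  have hMg : ∀ g ∈ N, g ∉ center G → (D N g).relIndex N = M := fun g hg hgc =>
    Nat.dvd_antisymm (hunif g hg hgc x hxN hxc) (hunif x hxN hxc g hg hgc)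
  have hMpos : 0 < M := Nat.pos_of_ne_zero index_ne_zero_of_finite
  rcases Nat.lt_or_ge 1 M with hM1 | hM1
  swap
  · have hM1' : M = 1 := by omega
    have hND : N ≤ D N x := relIndex_eq_one.1 hM1'
    haveI : IsMulCommutative N := isMulCommutative_iff.2 fun a b =>
      Subtype.ext (hDcomm hxN hxc (hND a.2) (hND b.2))
    letI : CommGroup N := { (inferInstance : Group N) with mul_comm := mul_comm' }
    infer_instance
  exfalso
  set k := Nat.card (center G ⊓ N : Subgroup G) with hk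
  set z := (center G).relIndex N with hz
  set a := (center G).relIndex (D N x) with ha
  have hMpos' : 0 < M := by omega
  have haz : a * M = z := relIndex_center_mul (N := N) x
  have hcardD : ∀ g ∈ N, g ∉ center G → Nat.card (D N g) = a * k := by
    intro g hg hgc
    rw [card_D]
    congr 1
    refine Nat.eq_of_mul_eq_mul_right hMpos' ?_
    rw [haz, ← hMg g hg hgc]
    exact relIndex_center_mul g
  have hcardN : Nat.card N = z * k := by
    rw [hz, hk, ← inf_relIndex_right, mul_comm, ← relIndex_bot_left (center G ⊓ N : Subgroup G),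
      ← relIndex_bot_left N]
    exact (relIndex_mul_relIndex _ _ _ bot_le inf_le_right).symm
  haveI : Fintype G := Fintype.ofFinite G
  let S := Finset.univ.filter fun g : G => g ∈ N ∧ g ∉ center G
  have hcount : (a - 1) ∣ (z - 1) := by
    have hsub : ∀ H : Subgroup G, center G ⊓ N ≤ H → H ≤ N →
        (Finset.univ.filter fun g : G => g ∈ H ∧ g ∉ center G).card = Nat.card H - k := by
      intro H hKH hHN
      have e1 : (Finset.univ.filter fun g : G => g ∈ H ∧ g ∉ center G) =
          (Finset.univ.filter fun g : G => g ∈ H) \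
            (Finset.univ.filter fun g : G => g ∈ (center G ⊓ N : Subgroup G)) := by
        ext g
        simp only [Finset.mem_filter, Finset.mem_univ, true_and, Finset.mem_sdiff, mem_inf]
        exact ⟨fun hgH => ⟨hgH.1, fun hc => hgH.2 hc.1⟩, fun hgH => ⟨hgH.1, fun hc => hgH.2 ⟨hc, hHN hgH.1⟩⟩⟩
      rw [e1, Finset.card_sdiff_of_subset (fun g hg => by
        simp only [Finset.mem_filter, Finset.mem_univ, true_and] at hg ⊢; exact hKH hg), hk,
        Nat.card_eq_fintype_card, Nat.card_eq_fintype_card, Fintype.card_subtype, Fintype.card_subtype]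
    have hS : S.card = (z - 1) * k := by
      rw [hsub N inf_le_right le_rfl, hcardN, Nat.sub_mul, one_mul]
    have hsum := Finset.card_eq_sum_card_image (fun g => D N g) S
    have hfib : ∀ T ∈ S.image (fun g => D N g),
        (S.filter fun g => D N g = T).card = (a - 1) * k := by
      intro T hT
      obtain ⟨g, hgS, rfl⟩ := Finset.mem_image.1 hT
      simp only [S, Finset.mem_filter, Finset.mem_univ, true_and] at hgS
      have e : (S.filter fun c => D N c = D N g) =
          Finset.univ.filter fun c : G => c ∈ D N g ∧ c ∉ center G := by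
        ext c
        simp only [S, Finset.mem_filter, Finset.mem_univ, true_and]
        refine ⟨fun hc => ⟨hc.2 ▸ self_mem_D hc.1.1, hc.1.2⟩, fun hc => ⟨⟨hc.1.1, hc.2⟩, ?_⟩⟩
        rw [D, D, heq hgS.1 hgS.2 hc.1 hc.2]
      rw [e, hsub (D N g) (le_inf inf_le_right (inf_le_left.trans (center_le_centralizer g))) inf_le_left,
        hcardD g hgS.1 hgS.2, Nat.sub_mul, one_mul]
    rw [Finset.sum_congr rfl hfib, Finset.sum_const, smul_eq_mul, hS, ← mul_assoc] at hsum
    exact ⟨_, (Nat.eq_of_mul_eq_mul_right Nat.card_pos hsum).trans (mul_comm _ _)⟩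
  have hprimeM : ∀ p : ℕ, p.Prime → p ∣ M → p ∣ a := fun p hp hpM =>
    hall x hxN hxc p hp (hrelN x p hpM)
  have hMa : M ∣ a := by
    rw [hM, ← Nat.prod_primeFactors_of_squarefree (hsqf x hxN hxc)]
    refine (Finset.prod_dvd_prod_of_subset _ _ _ fun p hp => ?_).trans (Nat.prod_primeFactors_dvd a)
    obtain ⟨hpp, hpd, -⟩ := Nat.mem_primeFactors.1 hp
    exact Nat.mem_primeFactors.2 ⟨hpp, hprimeM p hpp hpd, relIndex_center_ne_zero _⟩
  have haM : a = M := by
    have ha2 : M ≤ a := Nat.le_of_dvd (Nat.pos_of_ne_zero (relIndex_center_ne_zero _)) hMa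
    have e : z - 1 = (a - 1) * M + (M - 1) := by
      have h1 : M ≤ a * M := Nat.le_mul_of_pos_left M (by omega)
      rw [← haz, Nat.sub_mul, one_mul]
      omega
    rw [e, Nat.dvd_add_right (dvd_mul_right _ _)] at hcount
    have := Nat.le_of_dvd (by omega) hcount
    omega
  -- two different primes
  obtain ⟨p, q, hp, hq, hpq, hpM, hqM⟩ : ∃ p q : ℕ, p.Prime ∧ q.Prime ∧ p < q ∧ p ∣ M ∧ q ∣ M := by
    have hr' : r ∣ M := haM ▸ hall x hxN hxc r hr.out hx
    have hq' : q0 ∣ M := haM ▸ hall x hxN hxc q0 hq0p hq0N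
    rcases Nat.lt_or_gt_of_ne hq0r with hlt | hlt
    · exact ⟨q0, r, hq0p, hr.out, hlt, hq', hr'⟩
    · exact ⟨r, q0, hr.out, hq0p, hlt, hr', hq'⟩
  haveI := Fact.mk hp
  haveI := Fact.mk hq
  obtain ⟨Q⟩ : Nonempty (Sylow q N) := inferInstance
  have hQc : ¬ (⊤ : Subgroup (Q : Subgroup N)) ≤
      (((center G).subgroupOf N).subgroupOf (Q : Subgroup N)) := by
    intro hle
    have h1 : (center G).relIndex N = ((center G).subgroupOf N).index := rfl
    exact Q.not_dvd_index ((hrelN x q hqM).trans (index_dvd_of_le (H := (Q : Subgroup N)) (K := (center G).subgroupOf N) fun b hb => hle (mem_top ⟨b, hb⟩)))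
  obtain ⟨y, -, hyc, -, hycen⟩ := Fusion.NormalRankTwo.exists_central_of_lt Q.isPGroup' hQc
  have hyc' : ((y : N) : G) ∉ center G := hyc
  set D₀ := D N ((y : N) : G) with hD₀
  obtain ⟨v, hvQ, hvD⟩ : ∃ v ∈ (Q : Subgroup N), (v : G) ∉ D₀ := by
    by_contra hno
    push Not at hno
    have h1 : (D₀.subgroupOf N).index ∣ (Q : Subgroup N).index := index_dvd_of_le hno
    have h2 : (D₀.subgroupOf N).index = M := hMg _ (y : N).2 hyc'
    exact Q.not_dvd_index ((h2 ▸ hqM).trans h1)
  have hvy : ∀ c : G, c ∈ D₀ → (v : G) * c * (v : G)⁻¹ ∈ D₀ := by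
    intro c hc
    have hz : ⁅(v : G), ((y : N) : G)⁆ ∈ center G := hycen ⟨v, hvQ⟩
    refine ⟨hNn.conj_mem c hc.1 _, mem_centralizer_singleton_iff.2 ?_⟩
    have h1 : Commute ((v : G) * c * (v : G)⁻¹) ((v : G) * (y : N) * (v : G)⁻¹) :=
      (Commute.conj_iff (v : G)).2 (mem_centralizer_singleton_iff.1 hc.2)
    have hzc : Commute ((v : G) * c * (v : G)⁻¹) ⁅(v : G), ((y : N) : G)⁆ := mem_center_iff.1 hz _
    have h3 := hzc.inv_right.mul_right h1
    rw [commutatorElement_def] at h3
    simpa [mul_assoc] using h3.eq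
  obtain ⟨c, hcD, hcc, hcp⟩ := (dvd_relIndex_center_iff D₀).1
    (hall _ (y : N).2 hyc' p hp (hrelN x p hpM))
  set π := QuotientGroup.mk' (center G) with hπ
  set U := (closure {b : G | b ∈ D₀ ∧ IsPElt p b}).map π with hU
  have hcomD : ∀ b₁ ∈ {b : G | b ∈ D₀ ∧ IsPElt p b}, ∀ b₂ ∈ {b : G | b ∈ D₀ ∧ IsPElt p b},
      b₁ * b₂ = b₂ * b₁ := fun b₁ h1 b₂ h2 => hDcomm (y : N).2 hyc' h1.1 h2.1
  have hUp : IsPGroup p (closure {b : G | b ∈ D₀ ∧ IsPElt p b}) := by
    rintro ⟨b, hb⟩
    haveI := Subgroup.isMulCommutative_closure hcomD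
    suffices h' : IsPElt p b by
      obtain ⟨i, hi⟩ := h'
      exact ⟨i, Subtype.ext hi⟩
    induction hb using closure_induction with
    | mem b hb => exact hb.2
    | one => exact ⟨0, one_pow _⟩
    | mul b₁ b₂ hb1 hb2 h1 h2 =>
      obtain ⟨i, hi⟩ := h1
      obtain ⟨j, hj⟩ := h2
      have hcb : Commute b₁ b₂ := congrArg Subtype.val
        (mul_comm' (⟨b₁, hb1⟩ : closure {b : G | b ∈ D₀ ∧ IsPElt p b}) ⟨b₂, hb2⟩)
      refine ⟨i + j, ?_⟩
      rw [hcb.mul_pow, pow_add, pow_mul, hi, one_pow, one_mul, mul_comm (p ^ i), pow_mul, hj, one_pow]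
    | inv b₁ _ h1 =>
      obtain ⟨i, hi⟩ := h1
      exact ⟨i, by rw [inv_pow, hi, inv_one]⟩
  have hUcard : Nat.card U = p := by
    obtain ⟨i, hi⟩ := IsPGroup.iff_card.mp (hUp.map π)
    have hdvd : Nat.card U ∣ M := by
      refine (card_dvd_of_le (map_mono ((closure_le D₀).2 fun b hb => hb.1))).trans (dvd_of_eq ?_)
      rw [← relIndex_bot_left (D₀.map π), ← relIndex_comap (f := π) ⊥ D₀, MonoidHom.comap_bot,
        QuotientGroup.ker_mk', ← haM]
      refine Nat.eq_of_mul_eq_mul_right hMpos' ?_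
      rw [haz, ← hMg _ (y : N).2 hyc']
      exact relIndex_center_mul _
    have hi1 : i ≤ 1 := by
      by_contra h2
      have : p * p ∣ M := sq p ▸ ((pow_dvd_pow p (by omega : 2 ≤ i)).trans (hi ▸ hdvd))
      exact hp.not_isUnit (hsqf x hxN hxc p this)
    have hi0 : i ≠ 0 := fun h0 => by
      rw [h0, pow_zero] at hi
      have := eq_bot_of_card_eq U hi
      exact hcc ((QuotientGroup.eq_one_iff c).1 (mem_bot.1 (this.le
        (mem_map_of_mem π (subset_closure ⟨hcD, hcp⟩)))))
    rw [hi, show i = 1 by omega, pow_one]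
  have hvU : ∀ b ∈ U, π (v : G) * b * (π (v : G))⁻¹ ∈ U := by
    rintro _ ⟨b, hb, rfl⟩
    refine ⟨(v : G) * b * (v : G)⁻¹, ?_, by rw [map_mul, map_mul, map_inv]⟩
    induction hb using closure_induction with
    | mem b hb => exact subset_closure ⟨hvy b hb.1, hb.2.conj _⟩
    | one => rw [mul_one, mul_inv_cancel]; exact one_mem _
    | mul b₁ b₂ _ _ h1 h2 => rw [← conj_mul]; exact mul_mem h1 h2
    | inv b₁ _ h1 => rw [← conj_inv]; exact inv_mem h1
  let f : Equiv.Perm U := Equiv.ofBijective (fun b : U => ⟨_, hvU b b.2⟩)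
    (Finite.injective_iff_bijective.1 fun b₁ b₂ e => Subtype.ext
      (mul_left_cancel (mul_right_cancel (congrArg Subtype.val e))))
  have hf : ∀ (i : ℕ) (b : U), (((f ^ i) b : U) : G ⧸ center G) =
      π (v : G) ^ i * b * (π (v : G) ^ i)⁻¹ := by
    intro i b
    induction i with
    | zero => simp
    | succ i ih =>
      rw [pow_succ' f, Equiv.Perm.mul_apply, pow_succ']
      show π (v : G) * ((f ^ i) b : G ⧸ center G) * (π (v : G))⁻¹ = _
      rw [ih]; group
  obtain ⟨j, hj⟩ := Q.isPGroup' ⟨v, hvQ⟩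
  have hvj : (v : G) ^ q ^ j = 1 := congrArg (fun b : (Q : Subgroup N) => ((b : N) : G)) hj
  have hf1 : f = 1 := by
    have h1 : f ^ q ^ j = 1 := Equiv.ext fun b => Subtype.ext (by
      rw [hf, ← map_pow, hvj, map_one]; simp)
    haveI : Fintype U := Fintype.ofFinite U
    have h2 : orderOf f ∣ p.factorial := by
      refine (orderOf_dvd_natCard f).trans (dvd_of_eq ?_)
      rw [Nat.card_perm, hUcard]
    refine orderOf_eq_one_iff.1 (Nat.eq_one_of_dvd_coprimes ?_ (orderOf_dvd_of_pow_eq_one h1) h2)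
    exact (hq.coprime_iff_not_dvd.2 fun hd => hpq.not_ge ((Nat.Prime.dvd_factorial hq).1 hd)).pow_left j
  have hz : ⁅(v : G), c⁆ ∈ center G := by
    rw [← QuotientGroup.eq_one_iff, ← QuotientGroup.mk'_apply, map_commutatorElement]
    have h1 := hf 1 ⟨π c, mem_map_of_mem π (subset_closure ⟨hcD, hcp⟩)⟩
    rw [pow_one, pow_one, hf1, Equiv.Perm.one_apply] at h1
    rw [commutatorElement_def, ← h1]
    exact mul_inv_cancel _
  obtain ⟨i, hi⟩ := hcp
  have hzc : (v : G) * c * (v : G)⁻¹ = ⁅(v : G), c⁆ * c := by rw [commutatorElement_def]; group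
  have hz1 : ⁅(v : G), c⁆ = 1 := eq_one_of_pow_commute (q := q) hz hzc
    (n := q ^ j) (by rw [hvj, one_mul, mul_one])
    (((Nat.coprime_primes hp hq).2 hpq.ne).pow i j |>.coprime_dvd_left (orderOf_dvd_of_pow_eq_one
      (center_pow_eq_one hz hzc (by rw [hi]; exact one_mem _))))
  refine hvD ⟨v.2, ?_⟩
  have h := mem_centralizer_singleton_iff.2 (commutatorElement_eq_one_iff_mul_comm.1 hz1)
  rwa [heq (y : N).2 hyc' hcD hcc] at h

end CfsgLib.Solvable.ClassSizeRigid
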