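import Cfsg.Agent.Lib.Fusion.NormalRankTwo
import Cfsg.Agent.Lib.Fusion.ZJConstrained
import Cfsg.Agent.Lib.Solvable.Cores

/-!
# Normal subgroups with a single non-central class size
-/

set_option autoImplicit false

namespace CfsgLib.Solvable.ClassSizeRigid

open Subgroup CfsgLib
open scoped commutatorElement

variable {G : Type*} [Group G]

/-- An element whose order is a power of `p`. -/
def IsPElt (p : ℕ) (a : G) : Prop := ∃ k : ℕ, a ^ p ^ k = 1

theorem IsPElt.coprime {p q : ℕ} (hp : p.Prime) (hq : q.Prime) (hpq : p ≠ q) {a b : G}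
    (ha : IsPElt p a) (hb : IsPElt q b) : (orderOf a).Coprime (orderOf b) := by
  obtain ⟨i, hi⟩ := ha
  obtain ⟨j, hj⟩ := hb
  exact (((Nat.coprime_primes hp hq).2 hpq).pow i j).coprime_dvd_left (orderOf_dvd_of_pow_eq_one hi)
    |>.coprime_dvd_right (orderOf_dvd_of_pow_eq_one hj)

theorem IsPElt.coprime_prime {p q : ℕ} (hp : p.Prime) (hq : q.Prime) (hpq : p ≠ q) {a : G}
    (ha : IsPElt p a) : (orderOf a).Coprime q := by
  obtain ⟨i, hi⟩ := ha
  exact (((Nat.coprime_primes hp hq).2 hpq).pow_left i).coprime_dvd_left (orderOf_dvd_of_pow_eq_one hi)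

theorem IsPElt.conj {p : ℕ} {a : G} (ha : IsPElt p a) (g : G) : IsPElt p (g * a * g⁻¹) := by
  obtain ⟨i, hi⟩ := ha
  exact ⟨i, by rw [conj_pow, hi, mul_one, mul_inv_cancel]⟩

theorem isPElt_of_mem {p : ℕ} {H : Subgroup G} (hH : IsPGroup p H) {a : G} (ha : a ∈ H) :
    IsPElt p a := by
  obtain ⟨k, hk⟩ := hH ⟨a, ha⟩
  exact ⟨k, congrArg Subtype.val hk⟩

theorem IsPElt.isPGroup {p : ℕ} {a : G} (ha : IsPElt p a) : IsPGroup p (zpowers a) := by
  obtain ⟨k, hk⟩ := ha
  rintro ⟨_, i, rfl⟩
  refine ⟨k, Subtype.ext ?_⟩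
  show (a ^ i) ^ p ^ k = 1
  rw [← zpow_natCast, ← zpow_mul, mul_comm, zpow_mul, zpow_natCast, hk, one_zpow]

section Basic

variable [Finite G]

/-- The centre meets a subgroup with index divisible by `p` iff there is a non-central `p`-element. -/
theorem dvd_relIndex_center_iff {p : ℕ} [hp : Fact p.Prime] (H : Subgroup G) :
    p ∣ (center G).relIndex H ↔ ∃ a ∈ H, a ∉ center G ∧ IsPElt p a := by
  constructor
  · intro h
    by_contra hno
    push Not at hno
    obtain ⟨P⟩ : Nonempty (Sylow p H) := inferInstance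
    refine P.not_dvd_index (h.trans (index_dvd_of_le fun a ha => ?_))
    by_contra hac
    exact hno a a.2 hac (isPElt_of_mem (P.isPGroup'.map H.subtype) (mem_map_of_mem _ ha))
  · rintro ⟨a, ha, hac, k, hk⟩
    by_contra hn
    have h1 : (⟨a, ha⟩ : H) ^ ((center G).subgroupOf H).index ∈ (center G).subgroupOf H :=
      pow_index_mem _ _
    have hc : ((center G).relIndex H).Coprime (orderOf a) :=
      ((hp.out.coprime_iff_not_dvd.2 hn).symm.pow_right k).coprime_dvd_right
        (orderOf_dvd_of_pow_eq_one hk)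
    obtain ⟨m, hm⟩ := exists_pow_eq_self_of_coprime hc
    exact hac (hm ▸ pow_mem h1 m)

/-- A noncentral element has a noncentral power of prime power order. -/
theorem exists_primePower {g : G} (hg : g ∉ center G) :
    ∃ a ∈ zpowers g, a ∉ center G ∧ ∃ p : ℕ, p.Prime ∧ IsPElt p a := by
  by_contra hno
  push Not at hno
  refine hg ?_
  have h : (center G).subgroupOf (zpowers g) = ⊤ := by
    refine Cores.eq_top_of_sylow_le _ fun p hp => ?_
    haveI := Fact.mk hp
    obtain ⟨P⟩ : Nonempty (Sylow p (zpowers g)) := inferInstance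
    refine ⟨P, fun a ha => ?_⟩
    by_contra hac
    exact hno a a.2 hac p hp (isPElt_of_mem (P.isPGroup'.map (zpowers g).subtype) (mem_map_of_mem _ ha))
  exact (subgroupOf_eq_top.1 h) (mem_zpowers g)

/-- The hypothesis: all non-central classes inside `N` have size `m`. -/
def Rigid (N : Subgroup G) (m : ℕ) : Prop :=
  ∀ x ∈ N, x ∉ center G → (centralizer ({x} : Set G)).index = m

/-- The centralizer of `g` in `N`. -/
def D (N : Subgroup G) (g : G) : Subgroup G := N ⊓ centralizer ({g} : Set G)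

variable {N : Subgroup G} [hNn : N.Normal] {m : ℕ}

theorem centralizer_le_of_mem_zpowers {g a : G} (ha : a ∈ zpowers g) :
    centralizer ({g} : Set G) ≤ centralizer ({a} : Set G) := by
  intro c hc
  obtain ⟨i, rfl⟩ := mem_zpowers_iff.1 ha
  exact mem_centralizer_singleton_iff.2
    ((show Commute c g from mem_centralizer_singleton_iff.1 hc).zpow_right i).eq

theorem Rigid.eq_of_le (h : Rigid N m) {g a : G} (hg : g ∈ N) (hgc : g ∉ center G) (ha : a ∈ N)
    (hac : a ∉ center G) (hle : centralizer ({g} : Set G) ≤ centralizer ({a} : Set G)) :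
    centralizer ({g} : Set G) = centralizer ({a} : Set G) := by
  refine eq_of_le_of_card_ge hle (le_of_eq ?_)
  have h1 := card_mul_index (centralizer ({g} : Set G))
  have h2 := card_mul_index (centralizer ({a} : Set G))
  rw [h g hg hgc] at h1
  rw [h a ha hac] at h2
  exact Nat.eq_of_mul_eq_mul_right (Nat.pos_of_ne_zero fun h0 => by
    rw [h0, mul_zero] at h1; exact Nat.card_pos.ne h1) (h2.trans h1.symm)

theorem Rigid.eq_of_coprime (h : Rigid N m) {a b : G} (ha : a ∈ N) (hac : a ∉ center G) (hb : b ∈ N)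
    (hbc : b ∉ center G) (hab : Commute a b) (hcop : (orderOf a).Coprime (orderOf b)) :
    centralizer ({a} : Set G) = centralizer ({b} : Set G) := by
  have hmem : a ∈ zpowers (a * b) ∧ b ∈ zpowers (a * b) := by
    constructor
    · have h1 : (a * b) ^ orderOf b = a ^ orderOf b := by rw [hab.mul_pow, pow_orderOf_eq_one, mul_one]
      obtain ⟨n, hn⟩ := exists_pow_eq_self_of_coprime hcop.symm
      have h2 := pow_mem (pow_mem (mem_zpowers (a * b)) (orderOf b)) n
      rwa [h1, hn] at h2
    · have h1 : (a * b) ^ orderOf a = b ^ orderOf a := by rw [hab.mul_pow, pow_orderOf_eq_one, one_mul]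
      obtain ⟨n, hn⟩ := exists_pow_eq_self_of_coprime hcop
      have h2 := pow_mem (pow_mem (mem_zpowers (a * b)) (orderOf a)) n
      rwa [h1, hn] at h2
  have habc : a * b ∉ center G := fun hc => hac ((zpowers_le.2 hc) hmem.1)
  rw [← h.eq_of_le (N.mul_mem ha hb) habc ha hac (centralizer_le_of_mem_zpowers hmem.1),
    ← h.eq_of_le (N.mul_mem ha hb) habc hb hbc (centralizer_le_of_mem_zpowers hmem.2)]

/-- A noncentral element with a noncentral commuting element of coprime order has abelian
centralizer in `N`, all of whose noncentral elements have the same centralizer. -/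
theorem Rigid.eq_of_mem_D (h : Rigid N m) {g : G} (hg : g ∈ N) (hgc : g ∉ center G)
    (hmix : ∀ a ∈ N, a ∉ center G → ∀ p : ℕ, p.Prime → IsPElt p a →
      ∃ b ∈ D N a, b ∉ center G ∧ ∃ q : ℕ, q.Prime ∧ q ≠ p ∧ IsPElt q b)
    {c : G} (hc : c ∈ D N g) (hcc : c ∉ center G) :
    centralizer ({c} : Set G) = centralizer ({g} : Set G) := by
  obtain ⟨a, hag, hac, p, hp, hap⟩ := exists_primePower hgc
  have haN : a ∈ N := zpowers_le.2 hg hag
  have hga := h.eq_of_le hg hgc haN hac (centralizer_le_of_mem_zpowers hag)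
  obtain ⟨b, ⟨hbN, hba⟩, hbc, q, hq, hqp, hbq⟩ := hmix a haN hac p hp hap
  have hab : centralizer ({a} : Set G) = centralizer ({b} : Set G) :=
    h.eq_of_coprime haN hac hbN hbc (mem_centralizer_singleton_iff.1 hba).symm
      (hap.coprime hp hq hqp.symm hbq)
  obtain ⟨d, hdc, hdnc, s, hs, hds⟩ := exists_primePower hcc
  have hdN : d ∈ N := zpowers_le.2 hc.1 hdc
  have hda : d ∈ centralizer ({a} : Set G) := hga ▸ zpowers_le.2 hc.2 hdc
  rw [h.eq_of_le hc.1 hcc hdN hdnc (centralizer_le_of_mem_zpowers hdc), hga]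
  by_cases hsp : s = p
  · subst hsp
    rw [hab]
    exact h.eq_of_coprime hdN hdnc hbN hbc (mem_centralizer_singleton_iff.1 (hab ▸ hda))
      (hds.coprime hs hq hqp.symm hbq)
  · exact h.eq_of_coprime hdN hdnc haN hac (mem_centralizer_singleton_iff.1 hda)
      (hds.coprime hs hp hsp hap)

theorem relIndex_dvd_index_of_normal_right (C : Subgroup G) : C.relIndex N ∣ C.index := by
  have h1 : C.relIndex N = C.relIndex (C ⊔ N) := by
    have h2 := relIndex_mul_relIndex (C ⊓ N) C (C ⊔ N) inf_le_left le_sup_left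
    have h3 := relIndex_mul_relIndex (C ⊓ N) N (C ⊔ N) inf_le_right le_sup_right
    rw [inf_relIndex_left] at h2
    rw [inf_relIndex_right, relIndex_sup_right] at h3
    rw [← h2, mul_comm (C.relIndex N)] at h3
    exact Nat.eq_of_mul_eq_mul_left (n := N.relIndex C) (Nat.pos_of_ne_zero (by
      simpa [relIndex] using index_ne_zero_of_finite (H := N.subgroupOf C))) h3
  rw [h1]
  exact relIndex_dvd_index_of_le le_sup_left

theorem relIndex_D_dvd (g : G) : (D N g).relIndex N ∣ (centralizer ({g} : Set G)).index := by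
  rw [D, inf_comm, inf_relIndex_right]
  exact relIndex_dvd_index_of_normal_right _

omit [Finite G] in
theorem center_le_centralizer (g : G) : center G ≤ centralizer ({g} : Set G) := fun _ hz =>
  mem_centralizer_singleton_iff.2 (mem_center_iff.1 hz g).symm

theorem relIndex_center_mul (g : G) :
    (center G).relIndex (D N g) * (D N g).relIndex N = (center G).relIndex N := by
  have h1 : center G ⊓ D N g = center G ⊓ N :=
    le_antisymm (inf_le_inf_left _ inf_le_left)
      (le_inf inf_le_left (le_inf inf_le_right (inf_le_left.trans (center_le_centralizer g))))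
  rw [← inf_relIndex_right (center G) (D N g), h1, ← inf_relIndex_right (center G) N]
  exact relIndex_mul_relIndex _ _ _ (h1 ▸ inf_le_right) inf_le_left

theorem relIndex_center_ne_zero (H : Subgroup G) : (center G).relIndex H ≠ 0 :=
  index_ne_zero_of_finite

theorem card_D (g : G) :
    Nat.card (D N g) = (center G).relIndex (D N g) * Nat.card (center G ⊓ N : Subgroup G) := by
  have h1 : center G ⊓ D N g = center G ⊓ N :=
    le_antisymm (inf_le_inf_left _ inf_le_left)
      (le_inf inf_le_left (le_inf inf_le_right (inf_le_left.trans (center_le_centralizer g))))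
  rw [← inf_relIndex_right (center G) (D N g), h1, ← relIndex_bot_left (center G ⊓ N : Subgroup G),
    ← relIndex_bot_left (D N g), mul_comm,
    relIndex_mul_relIndex _ _ _ bot_le (h1 ▸ inf_le_right)]

omit [Finite G] in
theorem self_mem_D {g : G} (hg : g ∈ N) : g ∈ D N g :=
  ⟨hg, mem_centralizer_singleton_iff.2 rfl⟩

/-- All centralizers of noncentral elements contain noncentral `r`-elements. -/
theorem Rigid.dvd_of_sylow (h : Rigid N m) {r : ℕ} [hr : Fact r.Prime] (hNr : ¬ r ∣ N.index)
    (hx : r ∣ (center G).relIndex N) {g : G} (hg : g ∈ N) (hgc : g ∉ center G) :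
    r ∣ (center G).relIndex (D N g) := by
  obtain ⟨x, hxN, hxc, hxr⟩ := (dvd_relIndex_center_iff N).1 hx
  have h1 : r ∣ (center G).relIndex (D N x) :=
    (dvd_relIndex_center_iff _).2 ⟨x, self_mem_D hxN, hxc, hxr⟩
  have hv : ∀ a : G, (Nat.card (centralizer ({a} : Set G))).factorization r =
      (Nat.card (D N a)).factorization r := by
    intro a
    have e : Nat.card (D N a) * N.relIndex (centralizer ({a} : Set G)) =
        Nat.card (centralizer ({a} : Set G)) := by
      rw [← inf_relIndex_right N, ← relIndex_bot_left (D N a), ← relIndex_bot_left (centralizer ({a} : Set G))]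
      exact relIndex_mul_relIndex _ _ _ bot_le inf_le_right
    have hn : ¬ r ∣ N.relIndex (centralizer ({a} : Set G)) := fun hd =>
      hNr (hd.trans (relIndex_dvd_index_of_normal N _))
    rw [← e, Nat.factorization_mul Nat.card_pos.ne' (fun h0 => hn (by rw [h0]; exact dvd_zero r)), Finsupp.add_apply,
      Nat.factorization_eq_zero_of_not_dvd hn, add_zero]
  have h2 : (Nat.card (D N g)).factorization r = (Nat.card (D N x)).factorization r := by
    rw [← hv, ← hv]
    have e1 := card_mul_index (centralizer ({g} : Set G))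
    have e2 := card_mul_index (centralizer ({x} : Set G))
    rw [h g hg hgc] at e1
    rw [h x hxN hxc] at e2
    rw [Nat.eq_of_mul_eq_mul_right (Nat.pos_of_ne_zero fun h0 => by
      rw [h0, mul_zero] at e1; exact Nat.card_pos.ne e1) (e1.trans e2.symm)]
  rw [card_D, card_D, Nat.factorization_mul ((relIndex_center_ne_zero _)) Nat.card_pos.ne',
    Nat.factorization_mul ((relIndex_center_ne_zero _)) Nat.card_pos.ne', Finsupp.add_apply,
    Finsupp.add_apply, add_left_inj] at h2
  by_contra hno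
  rw [Nat.factorization_eq_zero_of_not_dvd hno] at h2
  exact (hr.out.factorization_pos_of_dvd (relIndex_center_ne_zero _) h1).ne h2

end Basic

/-- A group of automorphisms of exponent `p` acting fixed point freely modulo `F` has order at most `p`. -/
theorem card_le_of_fpf {E : Type*} [CommGroup E] {p : ℕ} [hp : Fact p.Prime] [Finite E] {B : Subgroup (MulAut E)}
    (hexp : ∀ b ∈ B, b ^ p = 1) (F : Subgroup E) (hFfix : ∀ b ∈ B, ∀ e ∈ F, b e = e)
    (hfix : ∀ b ∈ B, b ≠ 1 → ∀ e, b e = e → e ∈ F) {e₀ : E} (he : e₀ ∉ F)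
    (hcop : (orderOf e₀).Coprime p) : Nat.card B ≤ p := by
  classical
  rcases subsingleton_or_nontrivial B with hB | hB
  · rw [Nat.card_eq_one_iff_unique.2 ⟨hB, inferInstance⟩]; exact hp.out.one_le
  have hBp : IsPGroup p B := fun b => ⟨1, Subtype.ext (by rw [pow_one]; exact hexp b b.2)⟩
  haveI := hBp.center_nontrivial
  obtain ⟨⟨⟨b, hb⟩, hbz⟩, hb1⟩ := exists_ne (1 : center B)
  have hb1' : b ≠ 1 := fun e => hb1 (Subtype.ext (Subtype.ext e))
  suffices hall : B ≤ zpowers b by
    refine (card_le_of_le hall).trans (Nat.le_of_dvd hp.out.pos ?_)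
    rw [Nat.card_zpowers]
    exact orderOf_dvd_of_pow_eq_one (hexp b hb)
  intro c hc
  by_contra hcb
  have hbc : Commute b c := (congrArg Subtype.val (mem_center_iff.1 hbz ⟨c, hc⟩)).symm
  have hbp : b ^ p = 1 := hexp b hb
  have hnorm : ∀ l ∈ B, l ≠ 1 → ∀ e : E, (∏ i : ZMod p, (l ^ i.val) e) ∈ F := by
    intro l hl hl1 e
    refine hfix l hl hl1 _ ?_
    rw [map_prod]
    refine Fintype.prod_equiv (Equiv.addRight (1 : ZMod p)) _ _ fun i => ?_
    show l ((l ^ i.val) e) = (l ^ (i + 1).val) e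
    rw [← MulAut.mul_apply, ← pow_succ', ZMod.val_add, ZMod.val_one, ← pow_mod_orderOf,
      ← pow_mod_orderOf l ((i.val + 1) % p), orderOf_eq_prime (hexp l hl) hl1, Nat.mod_mod]
  have hne : ∀ j : ZMod p, b ^ j.val * c ≠ 1 := fun j hj => hcb (by
    rw [eq_inv_of_mul_eq_one_right hj]
    exact inv_mem (pow_mem (mem_zpowers b) _))
  have hkey : (∏ j : ZMod p, ∏ i : ZMod p, ((b ^ j.val * c) ^ i.val) e₀) ∈ F :=
    prod_mem fun j _ => hnorm _ (B.mul_mem (B.pow_mem hb _) hc) (hne j) e₀
  rw [Finset.prod_comm, ← Finset.mul_prod_erase _ _ (Finset.mem_univ (0 : ZMod p))] at hkey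
  have hrest : (∏ i ∈ Finset.univ.erase (0 : ZMod p), ∏ j : ZMod p, ((b ^ j.val * c) ^ i.val) e₀) ∈ F := by
    refine prod_mem fun i hi => ?_
    have hi0 : i ≠ 0 := Finset.ne_of_mem_erase hi
    have he' : (∏ j : ZMod p, ((b ^ j.val * c) ^ i.val) e₀) = ∏ l : ZMod p, (b ^ l.val) ((c ^ i.val) e₀) := by
      refine Fintype.prod_equiv (Equiv.mulLeft₀ i hi0) _ _ fun j => ?_
      rw [← MulAut.mul_apply, (hbc.pow_left j.val).mul_pow, ← pow_mul]
      show (b ^ (j.val * i.val) * c ^ i.val) e₀ = (b ^ (i * j).val * c ^ i.val) e₀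
      rw [ZMod.val_mul, mul_comm j.val, ← pow_eq_pow_mod _ hbp]
    rw [he']
    exact hnorm b hb hb1' _
  have h0 : (∏ _j : ZMod p, e₀) ∈ F := by
    have h1 := (F.mul_mem_cancel_right hrest).1 hkey
    simpa [ZMod.val_zero] using h1
  rw [Finset.prod_const, Finset.card_univ, ZMod.card] at h0
  obtain ⟨n, hn⟩ := exists_pow_eq_self_of_coprime hcop.symm
  exact he (hn ▸ pow_mem h0 n)

section Main

variable {G : Type*} [Group G] [Finite G] {N : Subgroup G} [hNn : N.Normal] {m : ℕ}

/-- The class size has no square divisor `q ^ 2` for the primes `q` met outside the centre. -/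
theorem Rigid.not_sq_dvd (h : Rigid N m) {q : ℕ} [hq : Fact q.Prime] (hN : q ∣ (center G).relIndex N)
    (hmix : ∀ a ∈ N, a ∉ center G → IsPElt q a →
      ∃ b ∈ D N a, b ∉ center G ∧ (orderOf b).Coprime q) : ¬ q ^ 2 ∣ m := by
  classical
  intro hm2
  obtain ⟨a, haN, hac, haq⟩ := (dvd_relIndex_center_iff N).1 hN
  obtain ⟨P, hP⟩ := haq.isPGroup.exists_le_sylow
  have haP : a ∈ (P : Subgroup G) := hP (mem_zpowers a)
  haveI : ((center G).subgroupOf (P : Subgroup G)).Normal := inferInstance
  haveI : (N.subgroupOf (P : Subgroup G)).Normal := inferInstance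
  obtain ⟨⟨y, hyP⟩, hyN, hyc, hyp, hycen⟩ := Fusion.NormalRankTwo.exists_central_of_lt P.isPGroup'
    (M := (center G).subgroupOf (P : Subgroup G)) (N := N.subgroupOf (P : Subgroup G))
    (fun hle => hac (hle (show (⟨a, haP⟩ : (P : Subgroup G)) ∈ N.subgroupOf _ from haN)))
  have hyN' : y ∈ N := hyN
  have hyc' : y ∉ center G := hyc
  have hyq : y ^ q ∈ center G := hyp
  set C := centralizer ({y} : Set G) with hC
  obtain ⟨b, hbD, hbc, hbq⟩ := hmix y hyN' hyc' (isPElt_of_mem P.isPGroup' hyP)
  have hby : centralizer ({b} : Set G) = C := by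
    obtain ⟨k, hk⟩ := isPElt_of_mem P.isPGroup' hyP
    exact h.eq_of_coprime hbD.1 hbc hyN' hyc' (mem_centralizer_singleton_iff.1 hbD.2)
      ((hbq.pow_right k).coprime_dvd_right (orderOf_dvd_of_pow_eq_one hk))
  -- `P` permutes the centralizer and its `q'`-part
  have hcen : ∀ v : (P : Subgroup G), ∃ z ∈ center G, (v : G) * y * (v : G)⁻¹ = z * y ∧ z ^ q = 1 := by
    intro v
    refine ⟨⁅(v : G), y⁆, hycen v, by rw [commutatorElement_def]; group, ?_⟩
    have h1 : (v : G) * y * (v : G)⁻¹ = ⁅(v : G), y⁆ * y := by rw [commutatorElement_def]; group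
    have h2 : ((v : G) * y * (v : G)⁻¹) ^ q = y ^ q := by
      rw [conj_pow, mem_center_iff.1 hyq, mul_inv_cancel_right]
    rw [h1, (show Commute ⁅(v : G), y⁆ y from (mem_center_iff.1 (hycen v) y).symm).mul_pow,
      mul_eq_right] at h2
    exact h2
  have hnorm : (P : Subgroup G) ≤ normalizer (C : Set G) := by
    intro v hv
    obtain ⟨z, hz, hzy, -⟩ := hcen ⟨v, hv⟩
    refine mem_normalizer_iff.2 fun c => ?_
    rw [mem_centralizer_singleton_iff, mem_centralizer_singleton_iff]
    have h1 : Commute (v * c * v⁻¹) (z * y) ↔ Commute c y := by rw [← hzy]; exact Commute.conj_iff v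
    have hzc : Commute (v * c * v⁻¹) z := mem_center_iff.1 hz _
    refine ⟨fun hc => ?_, fun hc => h1.1 (hzc.mul_right hc)⟩
    have h2 := (hzc.inv_right).mul_right (h1.2 hc)
    rwa [inv_mul_cancel_left] at h2
  have hmix' : ∀ a ∈ N, a ∉ center G → a ∈ C → (orderOf a).Coprime q →
      centralizer ({a} : Set G) = C := by
    intro a ha hac haC haq
    obtain ⟨k, hk⟩ := isPElt_of_mem P.isPGroup' hyP
    exact h.eq_of_coprime ha hac hyN' hyc' (mem_centralizer_singleton_iff.1 haC)
      ((haq.pow_right k).coprime_dvd_right (orderOf_dvd_of_pow_eq_one hk))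
  have hcomm : ∀ a ∈ N, a ∈ C → (orderOf a).Coprime q → ∀ c ∈ C, c * a = a * c := by
    intro a ha haC haq c hc
    by_cases hac : a ∈ center G
    · exact mem_center_iff.1 hac c
    · rw [← hmix' a ha hac haC haq] at hc
      exact mem_centralizer_singleton_iff.1 hc
  let E : Subgroup G :=
    { carrier := {a | a ∈ N ∧ a ∈ C ∧ (orderOf a).Coprime q}
      one_mem' := ⟨one_mem _, one_mem _, by rw [orderOf_one]; exact Nat.coprime_one_left q⟩
      mul_mem' := fun {a b} ha hb => ⟨mul_mem ha.1 hb.1, mul_mem ha.2.1 hb.2.1,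
        (Nat.Coprime.mul_left ha.2.2 hb.2.2).coprime_dvd_left
          ((show Commute a b from hcomm b hb.1 hb.2.1 hb.2.2 a ha.2.1).orderOf_mul_dvd_mul_orderOf)⟩
      inv_mem' := fun {a} ha => ⟨inv_mem ha.1, inv_mem ha.2.1, by rw [orderOf_inv]; exact ha.2.2⟩ }
  haveI : IsMulCommutative E := isMulCommutative_iff.2 fun a b =>
    Subtype.ext (hcomm b b.2.1 b.2.2.1 b.2.2.2 a a.2.2.1)
  letI : CommGroup E := { (inferInstance : Group E) with mul_comm := mul_comm' }
  have hPE : (P : Subgroup G) ≤ normalizer (E : Set G) := by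
    refine le_normalizer_iff.2 fun v hv a ha => ⟨hNn.conj_mem a ha.1 v,
      (mem_normalizer_iff.1 (hnorm hv) a).1 ha.2.1, ?_⟩
    rw [show v * a * v⁻¹ = MulAut.conj v a from rfl, MulEquiv.orderOf_eq]
    exact ha.2.2
  let φ : (P : Subgroup G) →* MulAut E := E.normalizerMonoidHom.comp (inclusion hPE)
  have hφ : ∀ (v : (P : Subgroup G)) (e : E), ((φ v e : E) : G) = v * e * (v : G)⁻¹ := fun v e => rfl
  have hbE : b ∈ E := ⟨hbD.1, hbD.2, hbq⟩
  have hker : φ.ker = C.subgroupOf (P : Subgroup G) := by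
    ext v
    rw [MonoidHom.mem_ker, mem_subgroupOf]
    constructor
    · intro hv
      rw [← hby, mem_centralizer_singleton_iff]
      have h1 := hφ v ⟨b, hbE⟩
      rw [hv] at h1
      exact (mul_inv_eq_iff_eq_mul.1 h1.symm)
    · intro hv
      refine MulEquiv.ext fun e => Subtype.ext ?_
      rw [hφ, MulAut.one_apply, hcomm e e.2.1 e.2.2.1 e.2.2.2 _ hv, mul_inv_cancel_right]
  have hB : Nat.card φ.range ≤ q := by
    refine card_le_of_fpf (p := q) ?_ ((center G).subgroupOf E) ?_ ?_ (e₀ := ⟨b, hbE⟩) hbc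
      (by rw [orderOf_mk]; exact hbq)
    · rintro _ ⟨v, rfl⟩
      rw [← map_pow, ← MonoidHom.mem_ker, hker, mem_subgroupOf, SubmonoidClass.coe_pow,
        mem_centralizer_singleton_iff]
      obtain ⟨z, hz, hzy, hzq⟩ := hcen v
      have hit : ∀ i : ℕ, (v : G) ^ i * y = z ^ i * y * (v : G) ^ i := by
        intro i
        induction i with
        | zero => simp
        | succ i ih =>
          rw [pow_succ', mul_assoc, ih, ← mul_assoc, ← mul_assoc, mem_center_iff.1 (pow_mem hz i) (v : G),
            mul_assoc (z ^ i), mul_inv_eq_iff_eq_mul.1 hzy, pow_succ z]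
          simp only [mul_assoc]
      rw [hit, hzq, one_mul]
    · rintro _ ⟨v, rfl⟩ e he
      exact Subtype.ext (by rw [hφ, show (v : G) * e = e * v from mem_center_iff.1 he v, mul_inv_cancel_right])
    · rintro _ ⟨v, rfl⟩ hv e he
      by_contra hec
      refine hv ?_
      rw [← MonoidHom.mem_ker, hker, mem_subgroupOf, ← hmix' e e.2.1 hec e.2.2.1 e.2.2.2,
        mem_centralizer_singleton_iff]
      exact mul_inv_eq_iff_eq_mul.1 ((hφ v e).symm.trans (congrArg Subtype.val he))
  have hrel : C.relIndex (P : Subgroup G) ∣ q := by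
    rw [show C.relIndex (P : Subgroup G) = Nat.card φ.range by rw [← index_ker, hker]; rfl]
    obtain ⟨i, hi⟩ := IsPGroup.iff_card.mp (P.isPGroup'.of_surjective φ.rangeRestrict
      φ.rangeRestrict_surjective)
    rw [hi] at hB ⊢
    exact pow_dvd_pow q (show i ≤ 1 from (Nat.pow_le_pow_iff_right hq.out.one_lt).1 (by rwa [pow_one])) |>.trans
      (pow_one q).dvd
  refine P.not_dvd_index ?_
  have hdvd : q ^ 2 ∣ q * (P : Subgroup G).index := by
    refine hm2.trans ?_
    rw [← h y hyN' hyc', ← hC]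
    refine (index_dvd_of_le (inf_le_left : C ⊓ (P : Subgroup G) ≤ C)).trans ?_
    rw [← relIndex_mul_index (inf_le_right : C ⊓ (P : Subgroup G) ≤ (P : Subgroup G)), inf_relIndex_right]
    exact mul_dvd_mul_right hrel _
  rw [sq] at hdvd
  exact Nat.dvd_of_mul_dvd_mul_left hq.out.pos hdvd

end Main

end CfsgLib.Solvable.ClassSizeRigid
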