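import Cfsg.Prelude.Def_SolvableStructure
import Cfsg.Agent.Lib.Solvable.Hall
import Cfsg.Agent.Lib.Solvable.FrattiniFitting

/-!
Core-free maximal subgroups, groups in which all maximal subgroups are Hall subgroups, and
subgroups of every order in direct products with abelian groups.
-/

open scoped Pointwise commutatorElement
set_option linter.style.haveILetI false

namespace CfsgLib.Solvable.CoreFreeMaximal

open CfsgLib.Solvable.Basic

universe u

variable {G : Type u} [Group G]

theorem inf_eq_bot_of_core {U X : Subgroup G} (hcore : U.normalCore = ⊥) (hXU : X ≤ U)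
    (hX : X.Normal) : X = ⊥ :=
  le_bot_iff.mp (hcore ▸ (haveI := hX; Subgroup.normal_le_normalCore.mpr hXU))

theorem sup_eq_top {U A : Subgroup G} (hU : IsCoatom U) (hcore : U.normalCore = ⊥) [A.Normal]
    (hA : A ≠ ⊥) : A ⊔ U = ⊤ :=
  hU.2 _ (lt_of_le_of_ne le_sup_right fun e =>
    hA (inf_eq_bot_of_core hcore (le_sup_left.trans e.ge) inferInstance))

/-- A subgroup of `U` normalised by `U` and centralised by a supplement is trivial. -/
theorem eq_bot_of_supplement {U B X : Subgroup G} (hcore : U.normalCore = ⊥) (hXU : X ≤ U)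
    (hsup : B ⊔ U = ⊤) (hB : B ≤ Subgroup.normalizer (X : Set G))
    (hU : U ≤ Subgroup.normalizer (X : Set G)) : X = ⊥ :=
  inf_eq_bot_of_core hcore hXU
    (Subgroup.normalizer_eq_top_iff.mp (top_le_iff.mp (hsup ▸ sup_le hB hU)))

theorem le_centralizer_of_inf_eq_bot (A B : Subgroup G) [A.Normal] [B.Normal] (h : A ⊓ B = ⊥) :
    A ≤ Subgroup.centralizer (B : Set G) := fun a ha => by
  rw [Subgroup.mem_centralizer_iff]
  exact fun b hb => (Subgroup.commute_of_normal_of_disjoint A B inferInstance inferInstance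
    (disjoint_iff.mpr h) a b ha hb).eq.symm

theorem isComplement'_of_inf {A U : Subgroup G} [A.Normal] (hs : A ⊔ U = ⊤) (hi : A ⊓ U = ⊥) :
    Subgroup.IsComplement' A U :=
  Subgroup.isComplement'_of_disjoint_and_mul_eq_univ (disjoint_iff.mpr hi)
    (by rw [← Subgroup.normal_mul, hs, Subgroup.coe_top])

theorem two_minimal_normal [Finite G] (U : Subgroup G) (hU : IsCoatom U) (hcore : U.normalCore = ⊥)
    (A B : Subgroup G) [A.Normal] [B.Normal] (hA : A ≠ ⊥) (hB : B ≠ ⊥)
    (hAmin : ∀ K : Subgroup G, K.Normal → K ≤ A → K = ⊥ ∨ K = A)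
    (hBmin : ∀ K : Subgroup G, K.Normal → K ≤ B → K = ⊥ ∨ K = B) (hAB : A ≠ B) :
    Subgroup.centralizer (B : Set G) = A ∧ Subgroup.centralizer (A : Set G) = B ∧
      Subgroup.IsComplement' A U ∧ Subgroup.IsComplement' B U ∧ ¬ IsMulCommutative A ∧
      Nonempty (A ≃* B) ∧ Nonempty (A ≃* ↥((A ⊔ B) ⊓ U)) := by
  have key : ∀ A B : Subgroup G, A.Normal → B.Normal → A ≠ ⊥ → B ≠ ⊥ → A ⊓ B = ⊥ →
      A ⊓ U = ⊥ ∧ Subgroup.centralizer (A : Set G) = B ∧
      Nonempty (A ≃* ↥((A ⊔ B) ⊓ U)) := by
    intro A B _ _ hA hB hi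
    have hBA : B ≤ Subgroup.centralizer (A : Set G) :=
      le_centralizer_of_inf_eq_bot B A (by rwa [inf_comm])
    have hAU : A ⊓ U = ⊥ := by
      refine eq_bot_of_supplement hcore inf_le_right (sup_eq_top hU hcore hB) ?_ ?_
      · refine le_trans ?_ (Subgroup.centralizer_le_normalizer _)
        exact hBA.trans (Subgroup.centralizer_le inf_le_left)
      · exact le_trans (le_inf (by rw [Subgroup.normalizer_eq_top]; exact le_top)
          Subgroup.le_normalizer) (Subgroup.inf_normalizer_le_normalizer_inf (H := A) (K := U))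
    have hBU : B ⊓ U = ⊥ := by
      refine eq_bot_of_supplement hcore inf_le_right (sup_eq_top hU hcore hA) ?_ ?_
      · refine le_trans ?_ (Subgroup.centralizer_le_normalizer _)
        exact (le_centralizer_of_inf_eq_bot A B hi).trans (Subgroup.centralizer_le inf_le_left)
      · exact le_trans (le_inf (by rw [Subgroup.normalizer_eq_top]; exact le_top)
          Subgroup.le_normalizer) (Subgroup.inf_normalizer_le_normalizer_inf (H := B) (K := U))
    refine ⟨hAU, ?_, ?_⟩
    · set C := Subgroup.centralizer (A : Set G)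
      have hCU : C ⊓ U = ⊥ := by
        refine eq_bot_of_supplement hcore inf_le_right (sup_eq_top hU hcore hA) ?_ ?_
        · refine le_trans ?_ (Subgroup.centralizer_le_normalizer _)
          exact Subgroup.le_centralizer_iff.mp inf_le_left
        · exact le_trans (le_inf (by rw [Subgroup.normalizer_eq_top]; exact le_top)
            Subgroup.le_normalizer) (Subgroup.inf_normalizer_le_normalizer_inf (H := C) (K := U))
      refine le_antisymm (fun c hc => ?_) hBA
      have hc' : c ∈ (B : Set G) * (U : Set G) := by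
        rw [← Subgroup.normal_mul, sup_eq_top hU hcore hB]; trivial
      obtain ⟨b, hb, u, hu, rfl⟩ := hc'
      have : u ∈ C ⊓ U := ⟨by simpa using C.mul_mem (C.inv_mem (hBA hb)) hc, hu⟩
      rw [hCU, Subgroup.mem_bot] at this
      subst this
      simpa using hb
    · set D := (A ⊔ B) ⊓ U
      set q := QuotientGroup.mk' B
      have hinjA : Function.Injective (q.comp A.subtype) := by
        rw [← MonoidHom.ker_eq_bot_iff, eq_bot_iff]
        intro x hx
        rw [Subgroup.mem_bot]
        apply Subtype.ext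
        have h : (x : G) ∈ A ⊓ B := ⟨x.2, (QuotientGroup.eq_one_iff _).mp hx⟩
        rw [hi] at h
        exact Subgroup.mem_bot.mp h
      have hinjD : Function.Injective (q.comp D.subtype) := by
        rw [← MonoidHom.ker_eq_bot_iff, eq_bot_iff]
        intro x hx
        rw [Subgroup.mem_bot]
        apply Subtype.ext
        have h : (x : G) ∈ B ⊓ U := ⟨(QuotientGroup.eq_one_iff _).mp hx, x.2.2⟩
        rw [hBU] at h
        exact Subgroup.mem_bot.mp h
      have hrange : (q.comp A.subtype).range = (q.comp D.subtype).range := by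
        rw [MonoidHom.range_comp, MonoidHom.range_comp, Subgroup.range_subtype,
          Subgroup.range_subtype, Subgroup.map_eq_map_iff, QuotientGroup.ker_mk']
        refine le_antisymm (sup_le ?_ le_sup_right) (sup_le inf_le_left le_sup_right)
        intro a ha
        have ha' : a ∈ (B : Set G) * (U : Set G) := by
          rw [← Subgroup.normal_mul, sup_eq_top hU hcore hB]; trivial
        obtain ⟨b, hb, u, hu, rfl⟩ := ha'
        refine mul_mem (Subgroup.mem_sup_right hb) (Subgroup.mem_sup_left ⟨?_, hu⟩)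
        simpa using (A ⊔ B).mul_mem ((A ⊔ B).inv_mem (Subgroup.mem_sup_right hb))
          (Subgroup.mem_sup_left ha)
      exact ⟨(MonoidHom.ofInjective hinjA).trans ((MulEquiv.subgroupCongr hrange).trans
        (MonoidHom.ofInjective hinjD).symm)⟩
  have hi : A ⊓ B = ⊥ := by
    refine (hAmin _ inferInstance inf_le_left).resolve_right fun e => ?_
    exact hAB ((hBmin A inferInstance (inf_eq_left.mp e)).resolve_left hA)
  obtain ⟨hAU, hCA, ⟨eA⟩⟩ := key A B inferInstance inferInstance hA hB hi
  obtain ⟨hBU, hCB, ⟨eB⟩⟩ := key B A inferInstance inferInstance hB hA (by rwa [inf_comm])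
  refine ⟨hCB, hCA, isComplement'_of_inf (sup_eq_top hU hcore hA) hAU,
    isComplement'_of_inf (sup_eq_top hU hcore hB) hBU, fun hc => ?_, ?_, ⟨eA⟩⟩
  · refine hA (le_bot_iff.mp (hi ▸ le_inf le_rfl ?_))
    rw [← hCA]
    intro a ha
    rw [Subgroup.mem_centralizer_iff]
    exact fun b hb => (isMulCommutative_subgroup_iff.mp hc) b hb a ha
  · exact ⟨eA.trans ((MulEquiv.subgroupCongr (by rw [sup_comm A B])).trans eB.symm)⟩

theorem conj_of_solvable [Finite G] [Group.IsSolvable G] (U V : Subgroup G) (hU : IsCoatom U)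
    (hV : IsCoatom V) (hUc : U.normalCore = ⊥) (hVc : V.normalCore = ⊥) :
    ∃ g : G, MulAut.conj g • U = V := by
  have htop : (⊤ : Subgroup G) ≠ ⊥ := fun e => hU.1 (top_le_iff.mp (e ▸ bot_le))
  obtain ⟨A, p, hp, hAn, hA, -, hAc, hAp, hAmin⟩ := exists_minimal_normal_pgroup htop
  haveI := hAn
  haveI := Fact.mk hp
  have hAc' : A ≤ Subgroup.centralizer (A : Set G) := fun a ha =>
    Subgroup.mem_centralizer_iff.mpr fun b hb => (isMulCommutative_subgroup_iff.mp hAc) b hb a ha
  have hinf : ∀ W : Subgroup G, IsCoatom W → W.normalCore = ⊥ →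
      A ⊓ W = ⊥ ∧ Subgroup.centralizer (A : Set G) ⊓ W = ⊥ := by
    intro W hW hWc
    have h2 : Subgroup.centralizer (A : Set G) ⊓ W = ⊥ := by
      refine eq_bot_of_supplement hWc inf_le_right (sup_eq_top hW hWc hA) ?_ ?_
      · refine le_trans ?_ (Subgroup.centralizer_le_normalizer _)
        exact Subgroup.le_centralizer_iff.mp inf_le_left
      · exact le_trans (le_inf (by rw [Subgroup.normalizer_eq_top]; exact le_top)
          Subgroup.le_normalizer)
          (Subgroup.inf_normalizer_le_normalizer_inf (H := Subgroup.centralizer (A : Set G)) (K := W))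
    exact ⟨le_bot_iff.mp (h2 ▸ inf_le_inf_right _ hAc'), h2⟩
  by_cases hAtop : A = ⊤
  · have e : ∀ W : Subgroup G, IsCoatom W → W.normalCore = ⊥ → W = ⊥ := fun W hW hWc => by
      simpa [hAtop] using (hinf W hW hWc).1
    exact ⟨1, by rw [e U hU hUc, e V hV hVc, map_one, one_smul]⟩
  haveI : Nontrivial (G ⧸ A) := QuotientGroup.nontrivial_iff.mpr hAtop
  obtain ⟨M', r, hr, hM'n, hM', -, -, hM'r, -⟩ :=
    exists_minimal_normal_pgroup (H := (⊤ : Subgroup (G ⧸ A))) top_ne_bot
  haveI := hM'n
  haveI := Fact.mk hr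
  set q := QuotientGroup.mk' A
  set M := M'.comap q with hMdef
  haveI : M.Normal := hM'n.comap q
  have hAM : A ≤ M := QuotientGroup.le_comap_mk' A M'
  have hsplit : ∀ W : Subgroup G, IsCoatom W → W.normalCore = ⊥ →
      Nat.card (M ⊓ W : Subgroup G) = Nat.card M' ∧ (M ⊓ W) ⊔ A = M := by
    intro W hW hWc
    have h1 : A ⊔ (M ⊓ W) = M := by
      refine le_antisymm (sup_le hAM inf_le_left) fun m hm => ?_
      have hm' : m ∈ (A : Set G) * (W : Set G) := by
        rw [← Subgroup.normal_mul, sup_eq_top hW hWc hA]; trivial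
      obtain ⟨a, ha, w, hw, rfl⟩ := hm'
      refine mul_mem (Subgroup.mem_sup_left ha) (Subgroup.mem_sup_right ⟨?_, hw⟩)
      simpa using M.mul_mem (M.inv_mem (hAM ha)) hm
    refine ⟨?_, by rwa [sup_comm]⟩
    have h2 := card_sup_of_disjoint A (M ⊓ W)
      (le_bot_iff.mp ((hinf W hW hWc).1 ▸ le_inf inf_le_left (inf_le_right.trans inf_le_right)))
    rw [sup_comm, h1, hMdef, card_comap_mk] at h2
    exact (Nat.eq_of_mul_eq_mul_right Nat.card_pos h2).symm
  have hrp : r ≠ p := by
    intro e
    subst e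
    have hMp : IsPGroup r M := hM'r.comap_of_ker_isPGroup q (by rwa [QuotientGroup.ker_mk'])
    haveI := hMp.isNilpotent
    haveI : (A.subgroupOf M).Normal := inferInstance
    have hZ := FrattiniFitting.inf_center_ne_bot (A.subgroupOf M) fun e => hA (by
      rwa [Subgroup.subgroupOf_eq_bot, disjoint_iff, inf_eq_left.mpr hAM] at e)
    haveI : ((Subgroup.center M).map M.subtype).Normal := inferInstance
    have hle : A ≤ (Subgroup.center M).map M.subtype := by
      refine inf_eq_left.mp ((hAmin (A ⊓ (Subgroup.center M).map M.subtype) inferInstance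
        inf_le_left).resolve_left fun e => hZ ?_)
      rw [eq_bot_iff]
      rintro x ⟨hx1, hx2⟩
      rw [Subgroup.mem_bot]
      apply Subtype.ext
      have : (x : G) ∈ A ⊓ (Subgroup.center M).map M.subtype :=
        ⟨hx1, Subgroup.mem_map_of_mem _ hx2⟩
      rw [e] at this
      exact Subgroup.mem_bot.mp this
    obtain ⟨hc, hMU⟩ := hsplit U hU hUc
    have hbot : M ⊓ U = ⊥ := by
      refine le_bot_iff.mp ((hinf U hU hUc).2 ▸ le_inf ?_ inf_le_right)
      intro m hm
      rw [Subgroup.mem_centralizer_iff]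
      intro a ha
      obtain ⟨z, hz, rfl⟩ := hle ha
      exact congrArg Subtype.val (Subgroup.mem_center_iff.mp hz ⟨m, hm.1⟩).symm
    rw [hbot, Subgroup.card_bot] at hc
    exact hM' (Subgroup.card_eq_one.mp hc.symm)
  obtain ⟨hcU, hMU⟩ := hsplit U hU hUc
  obtain ⟨hcV, -⟩ := hsplit V hV hVc
  have hcop : (Nat.card M').Coprime (Nat.card A) := by
    obtain ⟨i, hi⟩ := IsPGroup.iff_card.mp hM'r
    obtain ⟨j, hj⟩ := IsPGroup.iff_card.mp hAp
    rw [hi, hj]
    exact ((Nat.coprime_primes hr hp).mpr hrp).pow i j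
  have hcU' : Nat.card ((M ⊓ U).subgroupOf M) = Nat.card M' := by
    rw [Nat.card_congr (Subgroup.subgroupOfEquivOfLe inf_le_left).toEquiv, hcU]
  obtain ⟨m, hm⟩ := Hall.conj_eq_of_coprime_index
    (H := (M ⊓ U).subgroupOf M) (K := (M ⊓ V).subgroupOf M)
    (by
      rw [hcU']
      have e := ((M ⊓ U).subgroupOf M).card_mul_index
      rw [hcU', hMdef, card_comap_mk] at e
      rwa [Nat.eq_of_mul_eq_mul_left Nat.card_pos e])
    (by rw [hcU', Nat.card_congr (Subgroup.subgroupOfEquivOfLe inf_le_left).toEquiv, hcV])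
  have hm' := congrArg (Subgroup.map M.subtype) hm
  rw [map_subtype_conj_smul, Subgroup.map_subgroupOf_eq_of_le inf_le_left,
    Subgroup.map_subgroupOf_eq_of_le inf_le_left] at hm'
  have hnorm : ∀ W : Subgroup G, IsCoatom W → W.normalCore = ⊥ →
      Subgroup.normalizer ((M ⊓ W : Subgroup G) : Set G) = W := by
    intro W hW hWc
    have hle : W ≤ Subgroup.normalizer ((M ⊓ W : Subgroup G) : Set G) :=
      le_trans (le_inf (by rw [Subgroup.normalizer_eq_top]; exact le_top)
        Subgroup.le_normalizer) (Subgroup.inf_normalizer_le_normalizer_inf (H := M) (K := W))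
    refine (hW.le_iff.mp hle).resolve_left fun e => ?_
    have h1 := inf_eq_bot_of_core hWc inf_le_right (Subgroup.normalizer_eq_top_iff.mp e)
    have h2 := (hsplit W hW hWc).1
    rw [h1, Subgroup.card_bot] at h2
    exact hM' (Subgroup.card_eq_one.mp h2.symm)
  refine ⟨m, ?_⟩
  rw [← hnorm U hU hUc, conj_smul_eq_map, Subgroup.map_equiv_normalizer_eq, ← conj_smul_eq_map,
    hm', hnorm V hV hVc]

theorem normal_sylow_aux : ∀ (n : ℕ) (G : Type u) [Group G] [Finite G] [Group.IsSolvable G],
    Nat.card G = n → Nontrivial G →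
    (∀ M : Subgroup G, IsCoatom M → (Nat.card M).Coprime M.index) →
    ∃ p : ℕ, p.Prime ∧ p ∣ Nat.card G ∧ ∀ P : Sylow p G, (P : Subgroup G).Normal := by
  intro n
  induction n using Nat.strong_induction_on with | _ n ih => ?_
  intro G _ _ _ hn _ h
  subst hn
  obtain ⟨N, p, hp, hNn, hN, -, hNc, hNp, hNmin⟩ :=
    exists_minimal_normal_pgroup (H := (⊤ : Subgroup G)) top_ne_bot
  haveI := hNn
  haveI := Fact.mk hp
  have hpd : p ∣ Nat.card G := by
    obtain ⟨k, hk⟩ := IsPGroup.iff_card.mp hNp
    refine dvd_trans ?_ N.card_subgroup_dvd_card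
    rw [hk]
    exact dvd_pow_self p fun h0 => hN (Subgroup.card_eq_one.mp (by rw [hk, h0, pow_zero]))
  set q := QuotientGroup.mk' N with hq
  have hqs := QuotientGroup.mk'_surjective N
  by_cases hNtop : N = ⊤
  · refine ⟨p, hp, hpd, fun P => ?_⟩
    have : (P : Subgroup G) = ⊤ :=
      (P.3 ((hNtop ▸ hNp : IsPGroup p (⊤ : Subgroup G))) le_top).symm
    rw [this]; infer_instance
  obtain ⟨r, hr, hrd, hR⟩ := ih _ (card_quotient_lt N hN) (G ⧸ N) rfl
    (QuotientGroup.nontrivial_iff.mpr hNtop) (fun X hX => by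
      have hco := h _ (Subgroup.isCoatom_comap_of_surjective hqs hX)
      rw [Subgroup.index_comap_of_surjective _ hqs, card_comap_mk] at hco
      exact hco.coprime_dvd_left (Dvd.intro _ rfl))
  haveI := Fact.mk hr
  by_cases hrp : r = p
  · subst hrp
    refine ⟨r, hr, hpd, fun P => ?_⟩
    have hNP : N ≤ (P : Subgroup G) := hNp.le_sylow_of_normal P
    have hn' := hR (P.mapSurjective hqs)
    rw [Sylow.coe_mapSurjective] at hn'
    have e : (P : Subgroup G) = ((P : Subgroup G).map q).comap q := by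
      rw [Subgroup.comap_map_eq_self]; rw [QuotientGroup.ker_mk']; exact hNP
    rw [e]
    exact hn'.comap q
  obtain ⟨R⟩ : Nonempty (Sylow r G) := inferInstance
  by_cases hRn : (R : Subgroup G).Normal
  · refine ⟨r, hr, hrd.trans (Subgroup.index_eq_card N ▸ N.index_dvd_card), fun P => ?_⟩
    haveI := Sylow.unique_of_normal R hRn
    rw [Subsingleton.elim P R]; exact hRn
  refine ⟨p, hp, hpd, ?_⟩
  -- Frattini argument for `N R`
  set M := ((R : Subgroup G).map q).comap q with hMdef
  haveI : M.Normal := (Sylow.coe_mapSurjective hqs R ▸ hR (R.mapSurjective hqs)).comap q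
  have hRM : (R : Subgroup G) ≤ M := Subgroup.le_comap_map q _
  have hfr := Sylow.normalizer_sup_eq_top (R.subtype hRM)
  rw [Sylow.coe_subtype, Subgroup.map_subgroupOf_eq_of_le hRM] at hfr
  have hne : Subgroup.normalizer ((R : Subgroup G) : Set G) ≠ ⊤ :=
    fun e => hRn (Subgroup.normalizer_eq_top_iff.mp e)
  obtain ⟨U, hU, hRU⟩ := (eq_top_or_exists_le_coatom _).resolve_left hne
  have hNU : N ⊔ U = ⊤ := by
    rw [eq_top_iff, ← hfr, hMdef, Subgroup.comap_map_eq, QuotientGroup.ker_mk']
    exact sup_le (hRU.trans le_sup_right)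
      (sup_le ((Subgroup.le_normalizer.trans hRU).trans le_sup_right) le_sup_left)
  have hint : N ⊓ U = ⊥ := by
    have hn' := FrattiniFitting.inf_normal_of_abelian hNc hNU
    refine (hNmin _ hn' inf_le_left).resolve_right fun e => hU.1 ?_
    rw [← hNU]
    exact (sup_eq_right.mpr (inf_eq_left.mp e)).symm
  have hidx : U.index = Nat.card N := by
    have h1 := card_sup_of_disjoint N U hint
    rw [sup_comm, hNU, Subgroup.card_top, ← U.card_mul_index] at h1
    exact Nat.eq_of_mul_eq_mul_left Nat.card_pos h1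
  intro P
  have hle := hNp.le_sylow_of_normal P
  have heq : N = (P : Subgroup G) := by
    refine Subgroup.eq_of_le_of_card_ge hle (Nat.le_of_dvd Nat.card_pos ?_)
    obtain ⟨j, hj⟩ := IsPGroup.iff_card.mp P.isPGroup'
    have hco := h U hU
    rw [hidx] at hco
    have hpN : p ∣ Nat.card N := by
      obtain ⟨k, hk⟩ := IsPGroup.iff_card.mp hNp
      rw [hk]
      exact dvd_pow_self p fun h0 => hN (Subgroup.card_eq_one.mp (by rw [hk, h0, pow_zero]))
    refine Nat.Coprime.dvd_of_dvd_mul_left (m := Nat.card U) ?_ ?_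
    · rw [hj]
      exact ((hco.symm.coprime_dvd_left hpN)).pow_left j
    · rw [← hidx, U.card_mul_index]
      exact Subgroup.card_subgroup_dvd_card _
  rw [← heq]; exact hNn

theorem exists_normal_sylow [Finite G] [Group.IsSolvable G] [Nontrivial G]
    (h : ∀ M : Subgroup G, IsCoatom M → (Nat.card M).Coprime M.index) :
    ∃ p : ℕ, p.Prime ∧ p ∣ Nat.card G ∧ ∀ P : Sylow p G, (P : Subgroup G).Normal :=
  normal_sylow_aux _ G rfl ‹_› h

/-- A finite abelian group has a subgroup of each order dividing its order. -/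
theorem exists_card_of_comm : ∀ (d : ℕ) (A : Type u) [CommGroup A] [Finite A],
    d ∣ Nat.card A → ∃ H : Subgroup A, Nat.card H = d := by
  intro d
  induction d using Nat.strong_induction_on with | _ d ih => ?_
  intro A _ _ hd
  by_cases h1 : d = 1
  · exact ⟨⊥, by rw [h1, Subgroup.card_bot]⟩
  obtain ⟨p, hp, hpd⟩ := Nat.exists_prime_and_dvd h1
  haveI := Fact.mk hp
  obtain ⟨x, hx⟩ := exists_prime_orderOf_dvd_card' p (hpd.trans hd)
  obtain ⟨d', rfl⟩ := hpd
  have hd0 : 0 < d' := Nat.pos_of_ne_zero fun e => by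
    subst e; rw [mul_zero, zero_dvd_iff] at hd; exact Nat.card_pos.ne' hd
  have hc : Nat.card (A ⧸ Subgroup.zpowers x) * p = Nat.card A := by
    rw [← Subgroup.index_eq_card, ← hx, ← Nat.card_zpowers, Subgroup.index_mul_card]
  obtain ⟨H, hH⟩ := ih d' (lt_mul_of_one_lt_left hd0 hp.one_lt) (A ⧸ Subgroup.zpowers x)
    (Nat.dvd_of_mul_dvd_mul_left hp.pos (by rwa [mul_comm p (Nat.card _), hc]))
  refine ⟨H.comap (QuotientGroup.mk' _), ?_⟩
  rw [card_comap_mk, hH, Nat.card_zpowers, hx, mul_comm]

theorem hasSubgroupOfEveryOrder_prod {G A : Type*} [Group G] [CommGroup A] [Finite G] [Finite A]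
    [Group.IsSolvable G] (hA : ∀ p : ℕ, p.Prime → p ∣ Nat.card A → p ∣ Nat.card G)
    (hexp : ∀ p : ℕ, p.Prime → p ∣ Nat.card G →
      (Nat.card A).factorization p + 1 = (Nat.card G).factorization p) :
    Cfsg.HasSubgroupOfEveryOrder (G × A) := by
  classical
  intro d hd
  rw [Nat.card_prod] at hd
  have hG0 : Nat.card G ≠ 0 := Nat.card_pos.ne'
  have hA0 : Nat.card A ≠ 0 := Nat.card_pos.ne'
  have hd0 : d ≠ 0 := fun e => by subst e; simp [hG0, hA0] at hd
  set g := (Nat.card G).factorization
  set a := (Nat.card A).factorization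
  set S := (Nat.card G).primeFactors.filter fun p => a p < d.factorization p
  set m := ∏ p ∈ S, p ^ g p
  have hmG : m ∣ Nat.card G := by
    conv_rhs => rw [← Nat.prod_factorization_pow_eq_self hG0]
    rw [Finsupp.prod, Nat.support_factorization]
    exact Finset.prod_dvd_prod_of_subset _ _ _ (Finset.filter_subset _ _)
  have hS : ∀ p ∈ S, p.Prime := fun p hp =>
    (Nat.mem_primeFactors.mp (Finset.mem_filter.mp hp).1).1
  have hm0 : m ≠ 0 := fun e => hG0 (by rw [e, zero_dvd_iff] at hmG; exact hmG)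
  have hmfac : ∀ p : ℕ, m.factorization p = if p ∈ S then g p else 0 := by
    intro p
    have : m.factorization = ∑ q ∈ S, Finsupp.single q (g q) := by
      rw [show m = ∏ q ∈ S, q ^ g q from rfl,
        Nat.factorization_prod fun q hq => pow_ne_zero _ (hS q hq).ne_zero]
      exact Finset.sum_congr rfl fun q hq => (hS q hq).factorization_pow
    rw [this, Finset.sum_apply']
    simp [Finsupp.single_apply]
  obtain ⟨n, hn⟩ := hmG
  have hcop : m.Coprime n := by
    refine Nat.coprime_of_dvd fun p hp h1 h2 => ?_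
    have hn0 : n ≠ 0 := fun e => hG0 (by rw [hn, e, mul_zero])
    have hf : g p = m.factorization p + n.factorization p := by
      show (Nat.card G).factorization p = _
      rw [hn, Nat.factorization_mul hm0 hn0, Finsupp.add_apply]
    have hm1 := (hp.dvd_iff_one_le_factorization hm0).mp h1
    have hn1 := (hp.dvd_iff_one_le_factorization hn0).mp h2
    rw [hmfac] at hm1 hf
    split_ifs at hm1 hf <;> omega
  obtain ⟨H, hH⟩ := Hall.exists_card_eq hn hcop
  have hbound : ∀ p : ℕ, p.Prime → d.factorization p ≤ g p + a p := by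
    intro p _
    have h := (Nat.factorization_le_iff_dvd hd0 (mul_ne_zero hG0 hA0)).mpr hd p
    rwa [Nat.factorization_mul hG0 hA0, Finsupp.add_apply] at h
  have hmd : m ∣ d := by
    refine (Nat.factorization_le_iff_dvd hm0 hd0).mp fun p => ?_
    rw [hmfac]
    split_ifs with h
    · have hp := Nat.mem_primeFactors.mp (Finset.mem_filter.mp h).1
      have e : a p + 1 = g p := hexp p hp.1 hp.2.1
      have := (Finset.mem_filter.mp h).2
      omega
    · exact Nat.zero_le _
  obtain ⟨e, he⟩ := hmd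
  have he0 : e ≠ 0 := fun h => hd0 (by rw [he, h, mul_zero])
  have hedvd : e ∣ Nat.card A := by
    refine (Nat.factorization_le_iff_dvd he0 hA0).mp fun p => ?_
    by_cases hp : p.Prime
    swap
    · rw [Nat.factorization_eq_zero_of_not_prime _ hp]; exact Nat.zero_le _
    have hf : d.factorization p = m.factorization p + e.factorization p := by
      rw [he, Nat.factorization_mul hm0 he0, Finsupp.add_apply]
    have hb := hbound p hp
    rw [hmfac] at hf
    show e.factorization p ≤ a p
    by_cases hpG : p ∣ Nat.card G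
    · have hadd : a p + 1 = g p := hexp p hp hpG
      have hmem : p ∈ S ↔ a p < d.factorization p :=
        ⟨fun h => (Finset.mem_filter.mp h).2,
          fun h => Finset.mem_filter.mpr ⟨Nat.mem_primeFactors.mpr ⟨hp, hpG, hG0⟩, h⟩⟩
      split_ifs at hf with h
      · omega
      · rw [hmem, not_lt] at h
        omega
    · have h1 : g p = 0 := Nat.factorization_eq_zero_of_not_dvd hpG
      have h2 : a p = 0 := Nat.factorization_eq_zero_of_not_dvd fun h => hpG (hA p hp h)
      omega
  obtain ⟨K, hK⟩ := exists_card_of_comm e A hedvd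
  exact ⟨H.prod K, by rw [Nat.card_congr (H.prodEquiv K).toEquiv, Nat.card_prod, hH, hK, he]⟩

/-- Inner automorphisms induced by a subgroup of the Frattini subgroup. -/
theorem inner_le_frattini [Finite G] (H : Subgroup G) [H.Normal] (hH : H ≤ frattini G) :
    (MulAut.conj : ↥H →* MulAut ↥H).range ≤ frattini (MulAut ↥H) := by
  refine le_iInf₂ fun M hM => ?_
  by_contra hle
  set I := (MulAut.conj : ↥H →* MulAut ↥H).range
  have hIn : I.Normal := ⟨by
    rintro _ ⟨h, rfl⟩ α
    exact ⟨α h, MulEquiv.ext fun x => by simp [MulAut.mul_apply, MulAut.conj_apply]⟩⟩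
  have hsup : I ⊔ M = ⊤ := hM.2 _ (lt_of_le_of_ne le_sup_right fun e => hle (sup_eq_right.mp e.symm))
  let φ : G →* MulAut ↥H := MulAut.conjNormal
  have hφ : ∀ h : H, φ h = MulAut.conj h := fun h => MulEquiv.ext fun x => Subtype.ext rfl
  have hG : H ⊔ M.comap φ = ⊤ := by
    rw [eq_top_iff]
    intro g _
    have hg : φ g ∈ (I : Set (MulAut ↥H)) * (M : Set (MulAut ↥H)) := by
      rw [← Subgroup.normal_mul, hsup]; trivial
    obtain ⟨_, ⟨h, rfl⟩, m, hm, hgm⟩ := hg
    have hgm' : MulAut.conj h * m = φ g := hgm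
    have hmem : (h : G)⁻¹ * g ∈ M.comap φ := by
      show φ ((h : G)⁻¹ * g) ∈ M
      rw [map_mul, map_inv, hφ, ← hgm', inv_mul_cancel_left]
      exact hm
    rw [show g = (h : G) * ((h : G)⁻¹ * g) by group]
    exact mul_mem (Subgroup.mem_sup_left h.2) (Subgroup.mem_sup_right hmem)
  have htop : M.comap φ = ⊤ := frattini_nongenerating (by
    rw [eq_top_iff, ← hG, sup_comm]; exact sup_le_sup_left hH _)
  exact hle fun _ ⟨h, hh⟩ => hh ▸ hφ h ▸ (htop ▸ Subgroup.mem_top (h : G) : (h : G) ∈ M.comap φ)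

end CfsgLib.Solvable.CoreFreeMaximal
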