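import Cfsg.Agent.Lib.Components.Signalizer.Basic
import Cfsg.Agent.Lib.Coprime.Sylow
import Cfsg.Agent.Lib.Solvable.FrattiniFitting
import Cfsg.Prelude.Def_Transfer
import Mathlib

/-!
# A `3`-element moving only a four-group, and odd subgroups of rank three

`x` acts on the elementary abelian normal `2`-subgroup `M` with `[M, x] = W` a four-group.  If `x`
normalises an odd elementary abelian group of rank three, or a `p`-group of rank three for `p ≥ 5`,
then a hyperplane of such an elementary abelian group centralises `W`.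
-/

set_option autoImplicit false
set_option linter.unusedSectionVars false
set_option linter.style.haveILetI false

namespace CfsgLib.Solvable.CyclicThreeMover

open Subgroup
open scoped commutatorElement

variable {S : Type*} [Group S] [Finite S]

theorem rel_ne_zero {A B : Subgroup S} : A.relIndex B ≠ 0 := Subgroup.index_ne_zero_of_finite

/-- `[g, m]`. -/
def psi (g m : S) : S := g * m * g⁻¹ * m⁻¹

theorem psi_conj (c g m : S) : c * psi g m * c⁻¹ = psi (c * g * c⁻¹) (c * m * c⁻¹) := by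
  simp only [psi]; group

theorem psi_eq_one_iff {g m : S} : psi g m = 1 ↔ g * m = m * g := by
  rw [psi, mul_inv_eq_one, mul_inv_eq_iff_eq_mul]

/-- The hypotheses. -/
structure Hyp (M W : Subgroup S) (x : S) : Prop where
  normal : M.Normal
  comm : ∀ a ∈ M, ∀ b ∈ M, a * b = b * a
  two : ∀ a ∈ M, a * a = 1
  psi_mem : ∀ m ∈ M, psi x m ∈ W
  exists_psi : ∀ w ∈ W, ∃ m ∈ M, psi x m = w
  card : Nat.card W = 4
  cube : x ^ 3 ∈ centralizer (M : Set S)

variable {M W : Subgroup S} {x : S}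

theorem psi_mem_M (h : Hyp M W x) (g : S) {m : S} (hm : m ∈ M) : psi g m ∈ M :=
  mul_mem (h.normal.conj_mem m hm g) (inv_mem hm)

theorem Hyp.le_M (h : Hyp M W x) : W ≤ M := fun w hw => by
  obtain ⟨m, hm, rfl⟩ := h.exists_psi w hw
  exact psi_mem_M h x hm

theorem psi_mul_left (h : Hyp M W x) (g g' : S) {m : S} (hm : m ∈ M) :
    psi (g * g') m = psi g' m * psi g (g' * m * g'⁻¹) := by
  rw [h.comm _ (psi_mem_M h g' hm) _ (psi_mem_M h g (h.normal.conj_mem m hm g'))]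
  simp only [psi]; group

theorem psi_mul_right (h : Hyp M W x) (g : S) {m n : S} (hm : m ∈ M) (hn : n ∈ M) :
    psi g (m * n) = psi g m * psi g n := by
  have e : psi g (m * n) = g * m * g⁻¹ * psi g n * m⁻¹ := by simp only [psi]; group
  rw [e, mul_assoc, h.comm _ (psi_mem_M h g hn) _ (inv_mem hm), ← mul_assoc]
  rfl

theorem conj_eq_of_mem_centralizer (h : Hyp M W x) {g g' : S}
    (hg : g⁻¹ * g' ∈ centralizer (M : Set S)) {m : S} (hm : m ∈ M) :
    g' * m * g'⁻¹ = g * m * g⁻¹ := by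
  have e := mem_centralizer_iff.1 hg m hm
  calc g' * m * g'⁻¹ = g * ((g⁻¹ * g') * m) * (g⁻¹ * g')⁻¹ * g⁻¹ := by group
    _ = g * (m * (g⁻¹ * g')) * (g⁻¹ * g')⁻¹ * g⁻¹ := by rw [e]
    _ = _ := by group

/-- If the commutator with `a` is fixed by `a` and the order of `a` on it is odd, it is trivial. -/
theorem psi_eq_one_of_fixed (h : Hyp M W x) {a e : S} (he : e ∈ M) {n : ℕ} (hn : Odd n)
    (han : a ^ n ∈ centralizer (M : Set S)) (hfix : a * psi a e * a⁻¹ = psi a e) : psi a e = 1 := by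
  have key : ∀ i : ℕ, a ^ i * e * (a ^ i)⁻¹ = psi a e ^ i * e := by
    intro i
    induction i with
    | zero => simp
    | succ i ih =>
      have hp : a * psi a e ^ i * a⁻¹ = psi a e ^ i := by rw [← conj_pow, hfix]
      calc a ^ (i + 1) * e * (a ^ (i + 1))⁻¹ = a * (a ^ i * e * (a ^ i)⁻¹) * a⁻¹ := by
            rw [pow_succ']; group
        _ = (a * psi a e ^ i * a⁻¹) * (psi a e * e) := by rw [ih]; simp only [psi]; group
        _ = _ := by rw [hp, ← mul_assoc, ← pow_succ]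
  have h1 := key n
  rw [← mem_centralizer_iff.1 han e he, mul_assoc, mul_inv_cancel, mul_one] at h1
  have h2 : psi a e ^ n = 1 := mul_eq_right.1 h1.symm
  obtain ⟨k, rfl⟩ := hn
  have h3 : psi a e ^ 2 = 1 := by rw [pow_two]; exact h.two _ (psi_mem_M h a he)
  rwa [pow_succ, pow_mul, h3, one_pow, one_mul] at h2

theorem eq_one_of_fixed (h : Hyp M W x) {w : S} (hw : w ∈ W) (hfix : x * w * x⁻¹ = w) : w = 1 := by
  obtain ⟨m, hm, rfl⟩ := h.exists_psi w hw
  exact psi_eq_one_of_fixed h hm (by decide : Odd 3) h.cube hfix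

theorem conj_mem_W (h : Hyp M W x) {w : S} (hw : w ∈ W) : x * w * x⁻¹ ∈ W := by
  have e : x * w * x⁻¹ = psi x w * w := by simp only [psi]; group
  rw [e]
  exact mul_mem (h.psi_mem w (h.le_M hw)) hw

theorem conj_cube (h : Hyp M W x) {m : S} (hm : m ∈ M) : x * (x * (x * m * x⁻¹) * x⁻¹) * x⁻¹ = m := by
  calc _ = x ^ 3 * m * (x ^ 3)⁻¹ := by
        simp only [pow_succ, pow_zero, one_mul]; group
    _ = m := by rw [← mem_centralizer_iff.1 h.cube m hm, mul_inv_cancel_right]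

theorem conj_sq_ne (h : Hyp M W x) {w : S} (hw : w ∈ W) (hw1 : w ≠ 1) :
    x * (x * w * x⁻¹) * x⁻¹ ≠ w := fun e => hw1 (eq_one_of_fixed h hw (by
  have := conj_cube h (h.le_M hw)
  rwa [e] at this))

theorem cycle_dvd {g a b c : S} (e : g * a * g⁻¹ = b) (e1 : g * b * g⁻¹ = c) (e2 : g * c * g⁻¹ = a)
    (hab : b ≠ a) (hac : c ≠ a) {N : ℕ} (hN : g ^ N = 1) : 3 ∣ N := by
  have key : ∀ i : ℕ, g ^ (3 * i) * a * (g ^ (3 * i))⁻¹ = a := by
    intro i
    induction i with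
    | zero => simp
    | succ i ih =>
      calc g ^ (3 * (i + 1)) * a * (g ^ (3 * (i + 1)))⁻¹
          = g * (g * (g * (g ^ (3 * i) * a * (g ^ (3 * i))⁻¹) * g⁻¹) * g⁻¹) * g⁻¹ := by
            rw [show 3 * (i + 1) = (((3 * i) + 1) + 1) + 1 by ring, pow_succ', pow_succ', pow_succ']
            group
        _ = a := by rw [ih, e, e1, e2]
  have hN3 : N % 3 = 0 ∨ N % 3 = 1 ∨ N % 3 = 2 := by omega
  rcases hN3 with r | r | r
  · omega
  all_goals exfalso
  · apply hab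
    calc b = g * (g ^ (3 * (N / 3)) * a * (g ^ (3 * (N / 3)))⁻¹) * g⁻¹ := by rw [key, e]
      _ = g ^ N * a * (g ^ N)⁻¹ := by
          rw [show N = 3 * (N / 3) + 1 by omega, pow_succ']
          rw [show (3 * (N / 3) + 1) / 3 = N / 3 by omega]
          group
      _ = a := by rw [hN]; group
  · apply hac
    calc c = g * (g * (g ^ (3 * (N / 3)) * a * (g ^ (3 * (N / 3)))⁻¹) * g⁻¹) * g⁻¹ := by
            rw [key, e, e1]
      _ = g ^ N * a * (g ^ N)⁻¹ := by
          rw [show N = 3 * (N / 3) + 1 + 1 by omega, pow_succ', pow_succ']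
          rw [show (3 * (N / 3) + 1 + 1) / 3 = N / 3 by omega]
          group
      _ = a := by rw [hN]; group

/-- The nontrivial elements of `W`. -/
theorem mem_cases (h : Hyp M W x) {w : S} (hw : w ∈ W) (hw1 : w ≠ 1) {u : S} (hu : u ∈ W) :
    u = 1 ∨ u = w ∨ u = x * w * x⁻¹ ∨ u = x * (x * w * x⁻¹) * x⁻¹ := by
  classical
  set w₁ := x * w * x⁻¹ with hw₁d
  set w₂ := x * w₁ * x⁻¹ with hw₂d
  have m1 : w₁ ∈ W := conj_mem_W h hw
  have m2 : w₂ ∈ W := conj_mem_W h m1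
  have n1 : w₁ ≠ 1 := fun e => hw1 (conj_eq_one_iff.1 e)
  have n2 : w₂ ≠ 1 := fun e => n1 (conj_eq_one_iff.1 e)
  have d1 : w₁ ≠ w := fun e => hw1 (eq_one_of_fixed h hw e)
  have d2 : w₂ ≠ w₁ := fun e => n1 (eq_one_of_fixed h m1 e)
  have d3 : w₂ ≠ w := fun e => d1 (by
    have := conj_cube h (h.le_M hw)
    rw [← hw₁d, ← hw₂d, e, ← hw₁d] at this
    exact this)
  by_contra hne
  push Not at hne
  obtain ⟨u1, u2, u3, u4⟩ := hne
  haveI := Fintype.ofFinite W
  have hsub : ({⟨1, one_mem W⟩, ⟨w, hw⟩, ⟨w₁, m1⟩, ⟨w₂, m2⟩, ⟨u, hu⟩} : Finset W).card = 5 := by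
    rw [Finset.card_insert_of_notMem (by simp [Ne.symm hw1, Ne.symm n1, Ne.symm n2, Ne.symm u1]),
      Finset.card_insert_of_notMem (by simp [Ne.symm d1, Ne.symm d3, Ne.symm u2]),
      Finset.card_insert_of_notMem (by simp [Ne.symm d2, Ne.symm u3]),
      Finset.card_insert_of_notMem (by simp [Ne.symm u4]), Finset.card_singleton]
  have hle := Finset.card_le_univ ({⟨1, one_mem W⟩, ⟨w, hw⟩, ⟨w₁, m1⟩, ⟨w₂, m2⟩, ⟨u, hu⟩} : Finset W)
  rw [hsub] at hle
  rw [← Nat.card_eq_fintype_card, h.card] at hle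
  omega

/-- An `x`-invariant subgroup of `M` moved by `x` contains `W`. -/
theorem le_of_moved (h : Hyp M W x) {T : Subgroup S} (hTM : T ≤ M)
    (hinv : ∀ t ∈ T, x * t * x⁻¹ ∈ T) {t : S} (ht : t ∈ T) (hne : psi x t ≠ 1) : W ≤ T := by
  intro u hu
  have hwT : psi x t ∈ T := mul_mem (hinv t ht) (inv_mem ht)
  rcases mem_cases h (h.psi_mem t (hTM ht)) hne hu with rfl | rfl | rfl | rfl
  · exact one_mem _
  · exact hwT
  · exact hinv _ hwT
  · exact hinv _ (hinv _ hwT)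

/-- The conclusion. -/
def Good (W : Subgroup S) : Prop :=
  ∃ (r : ℕ) (F : Subgroup S), r.Prime ∧ r ≠ 2 ∧ Cfsg.IsElementaryAbelian r F ∧ Nat.card F = r ^ 3 ∧
    ¬ IsCyclic ↥(F ⊓ centralizer (W : Set S))

theorem good_of_relIndex {r : ℕ} (hr : r.Prime) (hr2 : r ≠ 2) {A : Subgroup S}
    (hA : Cfsg.IsElementaryAbelian r A) (hA3 : r ^ 3 ≤ Nat.card A)
    (hidx : (centralizer (W : Set S)).relIndex A ≤ r) : Good W := by
  haveI : Fact r.Prime := ⟨hr⟩
  obtain ⟨n, hn⟩ := (Components.Signalizer.isPGroup_of_elementary hA).exists_card_eq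
  have h3 : 3 ≤ n := (Nat.pow_le_pow_iff_right hr.one_lt).1 (hn ▸ hA3)
  obtain ⟨F₀, hF₀⟩ := Sylow.exists_subgroup_card_pow_prime (G := A) r (n := 3)
    (hn ▸ pow_dvd_pow r h3)
  set F := F₀.map A.subtype with hF
  have hFA : F ≤ A := map_subtype_le F₀
  have hFc : Nat.card F = r ^ 3 := by rw [hF, Coprime.card_map_subtype, hF₀]
  have hFe : Cfsg.IsElementaryAbelian r F := by
    refine ⟨isMulCommutative_iff.2 fun a b => Subtype.ext ?_, fun a ha => hA.2 a (hFA ha)⟩
    have e := congrArg Subtype.val (isMulCommutative_iff.1 hA.1 ⟨a, hFA a.2⟩ ⟨b, hFA b.2⟩)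
    simpa using e
  refine ⟨r, F, hr, hr2, hFe, hFc, fun hcyc => ?_⟩
  set C := centralizer (W : Set S)
  have h1 : C.relIndex F ≤ r :=
    le_trans (Subgroup.relIndex_le_of_le_right hFA rel_ne_zero) hidx
  have h2 : Nat.card ↥(F ⊓ C) * C.relIndex F = r ^ 3 := by
    rw [← hFc, ← Coprime.card_mul_relIndex' (inf_le_left : F ⊓ C ≤ F), inf_relIndex_left]
  obtain ⟨g, hg⟩ := hcyc.exists_generator
  have h4 : Nat.card ↥(F ⊓ C) ≤ r := by
    rw [← orderOf_eq_card_of_forall_mem_zpowers hg]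
    exact orderOf_le_of_pow_eq_one hr.pos (Subtype.ext (hFe.2 _ g.2.1))
  have h5 : r ^ 3 ≤ r * r := h2 ▸ Nat.mul_le_mul h4 h1
  have h6 : r * r < r ^ 3 := by
    have := hr.two_le
    calc r * r = r * r * 1 := (mul_one _).symm
      _ < r * r * r := Nat.mul_lt_mul_of_pos_left hr.one_lt (Nat.mul_pos hr.pos hr.pos)
      _ = r ^ 3 := by ring
  omega

/-- `x` normalises an elementary abelian group of rank three. -/
theorem good_of_abelian (h : Hyp M W x) {r : ℕ} [hr : Fact r.Prime] (hr2 : r ≠ 2) {A : Subgroup S}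
    (hA : Cfsg.IsElementaryAbelian r A) (hA3 : r ^ 3 ≤ Nat.card A)
    (hAx : x ∈ normalizer (A : Set S)) : Good W := by
  haveI := h.normal
  by_contra hbad
  have hodd : Odd r := hr.1.odd_of_ne_two hr2
  have hpow : ∀ a ∈ A, a ^ r ∈ centralizer (M : Set S) := fun a ha => by
    rw [hA.2 a ha]; exact one_mem _
  -- no invariant moved fixed-point group
  have hstab : ∀ D ≤ A, D.relIndex A ≤ r →
      (∀ t ∈ M ⊓ centralizer (D : Set S), x * t * x⁻¹ ∈ M ⊓ centralizer (D : Set S)) →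
      ∀ t ∈ M ⊓ centralizer (D : Set S), psi x t = 1 := by
    intro D hDA hD hinv t ht
    by_contra hne
    have hW := le_of_moved h inf_le_left hinv ht hne
    refine hbad (good_of_relIndex hr.1 hr2 hA hA3 (le_trans ?_ hD))
    refine Nat.le_of_dvd (Nat.pos_of_ne_zero rel_ne_zero)
      (relIndex_dvd_of_le_left A ?_)
    intro d hd
    exact mem_centralizer_iff.2 fun w hw => (mem_centralizer_iff.1 (hW hw).2 d hd).symm
  have hconj : ∀ D : Subgroup S, ∀ t ∈ M ⊓ centralizer (D : Set S),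
      x * t * x⁻¹ ∈ M ⊓ centralizer ((D.map (MulAut.conj x).toMonoidHom : Subgroup S) : Set S) := by
    intro D t ht
    refine ⟨h.normal.conj_mem t ht.1 x, mem_centralizer_iff.2 ?_⟩
    rintro _ ⟨d, hd, rfl⟩
    have e := mem_centralizer_iff.1 ht.2 d hd
    simp only [MulEquiv.coe_toMonoidHom, MulAut.conj_apply]
    calc x * d * x⁻¹ * (x * t * x⁻¹) = x * (d * t) * x⁻¹ := by group
      _ = x * (t * d) * x⁻¹ := by rw [e]
      _ = _ := by group
  have hC0 : ∀ t ∈ M ⊓ centralizer (A : Set S), psi x t = 1 := by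
    refine hstab A le_rfl (by rw [relIndex_self]; exact hr.1.one_le) fun t ht => ?_
    have := hconj A t ht
    rwa [Coprime.conj_map_eq_self_of_mem_normalizer hAx] at this
  -- a moved fixed-point group
  have hgen := Components.Signalizer.le_iSup_centralizer_hyperplanes hA (X := M) le_rfl
    (fun hd => hr2 ((Nat.prime_dvd_prime_iff_eq hr.1 Nat.prime_two).1 (by
      obtain ⟨k, hk⟩ := (IsPGroup.exists_card_eq (p := 2) (fun m : M =>
        ⟨1, Subtype.ext (by simpa [pow_two] using h.two _ m.2)⟩))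
      rw [hk] at hd
      exact hr.1.dvd_of_dvd_pow hd)))
    (le_normalizer_of_normal)
  obtain ⟨D, m, hm, hne⟩ : ∃ D : {D : Subgroup S // D ≤ A ∧ D.relIndex A ≤ r},
      ∃ m ∈ M ⊓ centralizer ((D : Subgroup S) : Set S), psi x m ≠ 1 := by
    by_contra hall
    push Not at hall
    let K : Subgroup S := M ⊓ centralizer ({x} : Set S)
    have hK : M ≤ K := hgen.trans (iSup_le fun D t ht =>
      ⟨ht.1, mem_centralizer_singleton_iff.2 ((psi_eq_one_iff.1 (hall D t ht)).symm)⟩)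
    have hW1 : W ≤ ⊥ := fun w hw => by
      obtain ⟨m, hm, rfl⟩ := h.exists_psi w hw
      exact mem_bot.2 (psi_eq_one_iff.2 (mem_centralizer_singleton_iff.1 (hK hm).2).symm)
    have := card_le_of_le hW1
    rw [h.card, card_bot] at this
    omega
  obtain ⟨D₁, hD₁A, hD₁r⟩ := D
  set D₂ := D₁.map (MulAut.conj x).toMonoidHom with hD₂
  set D₃ := D₂.map (MulAut.conj x).toMonoidHom with hD₃
  set M₁ := M ⊓ centralizer (D₁ : Set S) with hM₁
  set M₂ := M ⊓ centralizer (D₂ : Set S) with hM₂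
  set M₃ := M ⊓ centralizer (D₃ : Set S) with hM₃
  have hD₂A : D₂ ≤ A := (map_mono hD₁A).trans (Coprime.conj_map_eq_self_of_mem_normalizer hAx).le
  have hD₃A : D₃ ≤ A := (map_mono hD₂A).trans (Coprime.conj_map_eq_self_of_mem_normalizer hAx).le
  have hc2 : Nat.card D₂ = Nat.card D₁ := card_map_of_injective (MulAut.conj x).injective
  have hc3 : Nat.card D₃ = Nat.card D₁ :=
    (card_map_of_injective (MulAut.conj x).injective).trans hc2
  -- two distinct hyperplanes generate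
  have hhyp : D₁.relIndex A = r ∧ D₁ ≠ A := by
    have hne' : D₁ ≠ A := fun e => hne (hC0 m (e ▸ hm))
    refine ⟨le_antisymm hD₁r ?_, hne'⟩
    obtain ⟨i, -, hi⟩ := (Nat.dvd_prime_pow hr.1).1
      ((Components.Signalizer.isPGroup_of_elementary hA).exists_card_eq.choose_spec ▸
        Dvd.intro_left _ (Coprime.card_mul_relIndex' hD₁A) :
        D₁.relIndex A ∣ r ^ (Components.Signalizer.isPGroup_of_elementary hA).exists_card_eq.choose)
    rcases Nat.eq_zero_or_pos i with rfl | hi0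
    · exact absurd (le_antisymm hD₁A (relIndex_eq_one.1 (by simpa using hi))) hne'
    · rw [hi]; exact Nat.le_self_pow hi0.ne' r
  have hjoin : ∀ {X Y : Subgroup S}, X ≤ A → Y ≤ A → Nat.card X = Nat.card D₁ →
      Nat.card Y = Nat.card D₁ → X ≠ Y → X ⊔ Y = A := by
    intro X Y hX hY cX cY hXY
    have hlt : X < X ⊔ Y := lt_of_le_of_ne le_sup_left fun e =>
      hXY (eq_of_le_of_card_ge (le_sup_right.trans e.symm.le) (by rw [cX, cY])).symm
    have hle : X ⊔ Y ≤ A := sup_le hX hY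
    have e1 := relIndex_mul_relIndex X (X ⊔ Y) A le_sup_left hle
    have e2 : X.relIndex A = r := by
      have a1 := Coprime.card_mul_relIndex' hX
      have a2 := Coprime.card_mul_relIndex' hD₁A
      rw [cX, ← a2, hhyp.1] at a1
      exact Nat.eq_of_mul_eq_mul_left Nat.card_pos a1
    rw [e2] at e1
    rcases (Nat.dvd_prime hr.1).1 (Dvd.intro _ e1) with e | e
    · exact absurd (relIndex_eq_one.1 e) (not_le_of_gt hlt)
    · refine le_antisymm hle (relIndex_eq_one.1 ?_)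
      rw [e] at e1
      exact (Nat.mul_eq_left hr.1.ne_zero).1 e1
  have hinter : ∀ {X Y : Subgroup S}, X ⊔ Y = A → ∀ t, t ∈ centralizer (X : Set S) →
      t ∈ centralizer (Y : Set S) → t ∈ centralizer (A : Set S) := by
    intro X Y e t hX hY
    rw [← e]
    refine mem_centralizer_iff.2 fun a ha => ?_
    have : X ⊔ Y ≤ centralizer ({t} : Set S) := sup_le
      (fun a ha => mem_centralizer_singleton_iff.2 (mem_centralizer_iff.1 hX a ha))
      (fun a ha => mem_centralizer_singleton_iff.2 (mem_centralizer_iff.1 hY a ha))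
    exact mem_centralizer_singleton_iff.1 (this ha)
  have h12 : D₁ ≠ D₂ := fun e => hne (hstab D₁ hD₁A hD₁r (fun t ht => by
    have := hconj D₁ t ht
    rwa [← hD₂, ← e] at this) m hm)
  have h23 : D₂ ≠ D₃ := fun e => h12 (map_injective (MulAut.conj x).injective (hD₂.symm.trans (e.trans hD₃)))
  have h13 : D₁ ≠ D₃ := by
    intro e
    refine hne (hstab D₁ hD₁A hD₁r (fun t ht => ?_) m hm)
    -- `x²` stabilises the fixed points, so `x = x⁴` does
    have s1 : ∀ t ∈ M₁, x * (x * t * x⁻¹) * x⁻¹ ∈ M₁ := fun t ht => by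
      have := hconj D₂ _ (hconj D₁ t ht)
      rw [← hD₃, ← e] at this
      exact this
    have := s1 _ (s1 t ht)
    rwa [conj_cube h (h.normal.conj_mem t ht.1 x)] at this
  -- commutators with `A`
  have hfixA : ∀ {e : S} (_ : e ∈ M) {a : S} (_ : a ∈ A),
      psi a e ∈ centralizer (A : Set S) → psi a e = 1 := fun he a ha hc =>
    psi_eq_one_of_fixed h he hodd (hpow a ha) (by
      rw [mem_centralizer_iff.1 hc a ha, mul_inv_cancel_right])
  have hAinv : ∀ {X : Subgroup S}, X ≤ A → ∀ a ∈ A, ∀ t ∈ M ⊓ centralizer (X : Set S),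
      a * t * a⁻¹ ∈ M ⊓ centralizer (X : Set S) := by
    intro X hX a ha t ht
    refine ⟨h.normal.conj_mem t ht.1 a, mem_centralizer_iff.2 fun d hd => ?_⟩
    have e1 := mem_centralizer_iff.1 ht.2 d hd
    have e2 : d * a = a * d :=
      congrArg Subtype.val (isMulCommutative_iff.1 hA.1 ⟨d, hX hd⟩ ⟨a, ha⟩)
    calc d * (a * t * a⁻¹) = (d * a) * t * a⁻¹ := by group
      _ = a * (d * t) * a⁻¹ := by rw [e2]; group
      _ = a * (t * d) * a⁻¹ := by rw [e1]
      _ = a * t * a⁻¹ * (a * d * a⁻¹) := by group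
      _ = a * t * a⁻¹ * d := by rw [← e2, mul_inv_cancel_right]
  have hinj : ∀ t ∈ M₁, psi x t = 1 → t ∈ centralizer (A : Set S) := by
    intro t ht ht1
    have hx2 := hconj D₁ t ht
    rw [psi, mul_inv_eq_one] at ht1
    rw [ht1] at hx2
    exact hinter (hjoin hD₁A hD₂A rfl hc2 h12) t ht.2 hx2.2
  -- every element of `W` is a commutator with `M₁`
  obtain ⟨a, ha, ham⟩ : ∃ a ∈ A, psi a m ≠ 1 := by
    by_contra hall
    push Not at hall
    exact hne (hC0 m ⟨hm.1, mem_centralizer_iff.2 fun a ha => psi_eq_one_iff.1 (hall a ha)⟩)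
  set n := a * m * a⁻¹ with hn
  have hn1 : n ∈ M₁ := hAinv hD₁A a ha m hm
  have hmn : psi x n ≠ psi x m := by
    intro e
    have hq : psi x (psi a m) = 1 := by
      have e1 : psi a m * m = n := by simp only [hn, psi]; group
      have e2 := psi_mul_right h x (psi_mem_M h a hm.1) hm.1
      rw [e1, e] at e2
      exact mul_eq_right.1 e2.symm
    exact ham (hfixA hm.1 ha (hinj _ (mul_mem hn1 (inv_mem hm)) hq))
  have hn0 : psi x n ≠ 1 := by
    intro e
    have hc := hinj n hn1 e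
    refine ham (psi_eq_one_iff.2 ?_)
    have e1 := mem_centralizer_iff.1 hc a ha
    rw [hn] at e1
    have e2 : a * (a * m * a⁻¹) * a = a * m * a⁻¹ * a * a := by rw [e1]
    have e3 : a * (a * m) = a * (m * a) := by
      calc a * (a * m) = a * (a * m * a⁻¹) * a := by group
        _ = a * m * a⁻¹ * a * a := e2
        _ = a * (m * a) := by group
    exact mul_left_cancel e3
  have hW1 : ∀ u ∈ W, ∃ t ∈ M₁, psi x t = u := by
    intro u hu
    let R : Subgroup S :=
      { carrier := {u | ∃ t ∈ M₁, psi x t = u}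
        one_mem' := ⟨1, one_mem _, by simp [psi]⟩
        mul_mem' := by
          rintro _ _ ⟨s, hs, rfl⟩ ⟨t, ht, rfl⟩
          exact ⟨s * t, mul_mem hs ht, psi_mul_right h x hs.1 ht.1⟩
        inv_mem' := by
          rintro _ ⟨s, hs, rfl⟩
          refine ⟨s⁻¹, inv_mem hs, ?_⟩
          rw [eq_inv_iff_mul_eq_one, ← psi_mul_right h x (inv_mem hs.1) hs.1, inv_mul_cancel]
          simp [psi] }
    have hRW : R ≤ W := by rintro _ ⟨t, ht, rfl⟩; exact h.psi_mem t ht.1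
    have h3 : 3 ≤ Nat.card R := by
      classical
      haveI := Fintype.ofFinite R
      rw [Nat.card_eq_fintype_card]
      let a1 : R := ⟨psi x m, ⟨m, hm, rfl⟩⟩
      let a2 : R := ⟨psi x n, ⟨n, hn1, rfl⟩⟩
      have : ({1, a1, a2} : Finset R).card = 3 := by
        rw [Finset.card_insert_of_notMem, Finset.card_insert_of_notMem, Finset.card_singleton]
        · simpa [a1, a2, Subtype.ext_iff] using hmn.symm
        · simpa [a1, a2, Subtype.ext_iff] using ⟨Ne.symm hne, Ne.symm hn0⟩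
      exact this ▸ Finset.card_le_univ _
    have hd : Nat.card R ∣ 4 := h.card ▸ card_dvd_of_le hRW
    have h4 : Nat.card R = 4 := by
      have := Nat.le_of_dvd (by norm_num) hd
      interval_cases hh : Nat.card R <;> simp_all
    have : R = W := eq_of_le_of_card_ge hRW (by rw [h4, h.card])
    exact (this.ge hu : u ∈ R)
  -- the contradiction
  set w := psi x m with hw
  obtain ⟨m₁, hm₁, hm₁w⟩ := hW1 _ (conj_mem_W h (h.psi_mem m hm.1))
  rw [← hw] at hm₁w
  set b₂ := x * m⁻¹ * x⁻¹ with hb₂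
  set b₃ := x * (x * m * x⁻¹) * x⁻¹ with hb₃
  set b₂' := x * m₁ * x⁻¹ with hb₂'
  have hb2 : b₂ ∈ M₂ := hconj D₁ _ (inv_mem hm)
  have hb3 : b₃ ∈ M₃ := hconj D₂ _ (hconj D₁ _ hm)
  have hb2' : b₂' ∈ M₂ := hconj D₁ _ hm₁
  have hsplit : m₁⁻¹ = b₂'⁻¹ * b₂ * b₃ := by
    have e1 : x * w * x⁻¹ = b₃ * b₂ := by simp only [hw, hb₃, hb₂, psi]; group
    rw [mul_assoc, h.comm _ hb2.1 _ hb3.1, ← e1, ← hm₁w, psi, ← hb₂', inv_mul_cancel_left]
  have hmem : ∀ a ∈ D₂, psi a m₁⁻¹ = 1 := by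
    intro a ha
    refine hfixA (inv_mem hm₁.1) (hD₂A ha) ?_
    have hin1 : psi a m₁⁻¹ ∈ M₁ :=
      mul_mem (hAinv hD₁A a (hD₂A ha) _ (inv_mem hm₁)) (inv_mem (inv_mem hm₁))
    have hin3 : psi a m₁⁻¹ ∈ M₃ := by
      have hz : psi a (b₂'⁻¹ * b₂) = 1 :=
        psi_eq_one_iff.2 (mem_centralizer_iff.1 (mul_mem (inv_mem hb2') hb2).2 a ha)
      rw [hsplit, psi_mul_right h a (mul_mem (inv_mem hb2'.1) hb2.1) hb3.1, hz, one_mul]
      exact mul_mem (hAinv hD₃A a (hD₂A ha) _ hb3) (inv_mem hb3)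
    exact hinter (hjoin hD₁A hD₃A rfl hc3 h13) _ hin1.2 hin3.2
  have hm₁A : m₁ ∈ M ⊓ centralizer (A : Set S) := by
    refine ⟨hm₁.1, (inv_mem_iff (H := centralizer (A : Set S))).1 (hinter (hjoin hD₁A hD₂A rfl hc2 h12) _ (inv_mem hm₁.2) ?_)⟩
    exact mem_centralizer_iff.2 fun a ha => psi_eq_one_iff.1 (hmem a ha)
  have h1 := hC0 m₁ hm₁A
  rw [hm₁w, conj_eq_one_iff] at h1
  exact hne h1

/-- `x` normalises a `p`-group of rank three, `p ≥ 5`. -/
theorem good_of_pGroup (h : Hyp M W x) {p : ℕ} [hp : Fact p.Prime] (hp5 : 5 ≤ p) {P E : Subgroup S}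
    (hP : IsPGroup p P) (hxP : x ∈ normalizer (P : Set S)) (hEP : E ≤ P)
    (hE : Cfsg.IsElementaryAbelian p E) (hE3 : p ^ 3 ≤ Nat.card E) : Good W := by
  classical
  haveI := h.normal
  have hp2 : p ≠ 2 := by omega
  have hodd : Odd p := hp.1.odd_of_ne_two hp2
  set C := centralizer (M : Set S) with hC
  haveI : C.Normal := inferInstance
  set π := QuotientGroup.mk' C with hπ
  have hπ1 : ∀ {g : S}, π g = 1 ↔ g ∈ C := fun {g} => QuotientGroup.eq_one_iff g
  have heq : ∀ {g g' : S}, π g = π g' → ∀ m ∈ M, g' * m * g'⁻¹ = g * m * g⁻¹ := fun {g g'} e m hm =>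
    conj_eq_of_mem_centralizer h (by rw [← hπ1, map_mul, map_inv, e, inv_mul_cancel]) hm
  have hPodd : ∀ {g : S}, g ∈ P → ∃ n : ℕ, Odd n ∧ g ^ n = 1 := fun {g} hg => by
    obtain ⟨k, hk⟩ := hP ⟨g, hg⟩
    exact ⟨p ^ k, hodd.pow, congrArg Subtype.val hk⟩
  -- trivial action on a chain
  have hchain : ∀ {U : Subgroup S} {g : S}, g ∈ P → (∀ u ∈ U, g * u * g⁻¹ = u) →
      (∀ m ∈ M, psi g m ∈ U) → g ∈ C := by
    intro U g hg hfix hmem
    refine mem_centralizer_iff.2 fun m hm => ?_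
    obtain ⟨n, hn, hgn⟩ := hPodd hg
    exact (psi_eq_one_iff.1 (psi_eq_one_of_fixed h hm hn (by rw [hgn]; exact one_mem _)
      (hfix _ (hmem m hm)))).symm
  -- `P`-elements commuting with `x` on `M` centralise `W`
  have hcent : ∀ {g : S}, g ∈ P → Commute (π g) (π x) → g ∈ centralizer (W : Set S) := by
    intro g hg hgx
    have hswap : ∀ m ∈ M, g * (x * m * x⁻¹) * g⁻¹ = x * (g * m * g⁻¹) * x⁻¹ := by
      intro m hm
      have := heq (g := g * x) (g' := x * g) (by rw [map_mul, map_mul]; exact hgx.eq) m hm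
      calc g * (x * m * x⁻¹) * g⁻¹ = g * x * m * (g * x)⁻¹ := by group
        _ = x * g * m * (x * g)⁻¹ := this.symm
        _ = _ := by group
    have hgW : ∀ w ∈ W, g * w * g⁻¹ ∈ W := by
      intro w hw
      obtain ⟨m, hm, rfl⟩ := h.exists_psi w hw
      have : g * psi x m * g⁻¹ = psi x (g * m * g⁻¹) := by
        calc g * psi x m * g⁻¹ = (g * (x * m * x⁻¹) * g⁻¹) * (g * m⁻¹ * g⁻¹) := by
              simp only [psi]; group
          _ = _ := by rw [hswap m hm]; simp only [psi]; group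
      rw [this]
      exact h.psi_mem _ (h.normal.conj_mem m hm g)
    obtain ⟨k, hk⟩ := hP ⟨g, hg⟩
    have hgk : g ^ p ^ k = 1 := congrArg Subtype.val hk
    have hn3 : ¬ 3 ∣ p ^ k := fun hd => by
      have := (Nat.prime_dvd_prime_iff_eq Nat.prime_three hp.1).1 (Nat.prime_three.dvd_of_dvd_pow hd)
      omega
    refine mem_centralizer_iff.2 fun w hw => ?_
    by_cases hw1 : w = 1
    · rw [hw1]; simp
    suffices e : g * w * g⁻¹ = w by rw [mul_inv_eq_iff_eq_mul] at e; exact e.symm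
    have mw := h.le_M hw
    have d1 : x * w * x⁻¹ ≠ w := fun e => hw1 (eq_one_of_fixed h hw e)
    have d2 := conj_sq_ne h hw hw1
    rcases mem_cases h hw hw1 (hgW w hw) with e | e | e | e
    · exact absurd (conj_eq_one_iff.1 e) hw1
    · exact e
    · have e1 : g * (x * w * x⁻¹) * g⁻¹ = x * (x * w * x⁻¹) * x⁻¹ := by rw [hswap w mw, e]
      have e2 : g * (x * (x * w * x⁻¹) * x⁻¹) * g⁻¹ = w := by
        rw [hswap _ (h.normal.conj_mem w mw x), e1]
        exact conj_cube h mw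
      exact absurd (cycle_dvd e e1 e2 d1 d2 hgk) hn3
    · have e2 : g * (x * w * x⁻¹) * g⁻¹ = w := by
        rw [hswap w mw, e]
        exact conj_cube h mw
      have e1 : g * (x * (x * w * x⁻¹) * x⁻¹) * g⁻¹ = x * w * x⁻¹ := by
        rw [hswap _ (h.normal.conj_mem w mw x), e2]
      exact absurd (cycle_dvd e e1 e2 d2 d1 hgk) hn3
  -- reduction to a subgroup of `P` centralising `W` of index at most `p`
  have hfin : ∀ D : Subgroup S, D ≤ centralizer (W : Set S) → D.relIndex P ≤ p → Good W := by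
    intro D hD hDp
    refine good_of_relIndex hp.1 hp2 hE hE3 (le_trans ?_ hDp)
    refine le_trans ?_ (Nat.le_of_dvd
      (Nat.pos_of_ne_zero rel_ne_zero)
      (relIndex_dvd_of_le_left P hD))
    exact Subgroup.relIndex_le_of_le_right hEP rel_ne_zero
  set Pb := P.map π with hPb
  set Z := P ⊓ (centralizer (Pb : Set (S ⧸ C))).comap π with hZ
  have hZcomm : ∀ {z c : S}, z ∈ Z → c ∈ P → π c * π z = π z * π c := fun hz hc =>
    mem_centralizer_iff.1 hz.2 _ ⟨_, hc, rfl⟩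
  have hxP1 : ∀ c ∈ P, x * c * x⁻¹ ∈ P := fun c hc => (mem_normalizer_iff.1 hxP c).1 hc
  have hxP2 : ∀ c ∈ P, x⁻¹ * c * x ∈ P := fun c hc => (mem_normalizer_iff''.1 hxP c).1 hc
  have hxZ : ∀ z ∈ Z, x * z * x⁻¹ ∈ Z := by
    intro z hz
    refine ⟨hxP1 z hz.1, mem_centralizer_iff.2 ?_⟩
    rintro _ ⟨c, hc, rfl⟩
    have := hZcomm hz (hxP2 c hc)
    simp only [map_mul, map_inv] at this ⊢
    calc π c * (π x * π z * (π x)⁻¹) = π x * ((π x)⁻¹ * π c * π x * π z) * (π x)⁻¹ := by group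
      _ = π x * (π z * ((π x)⁻¹ * π c * π x)) * (π x)⁻¹ := by rw [this]
      _ = _ := by group
  by_cases hP1 : ∀ c ∈ P, Commute (π c) (π x)
  · exact hfin P (fun c hc => hcent hc (hP1 c hc)) (by rw [relIndex_self]; exact hp.1.one_le)
  by_cases hZ1 : ∀ z ∈ Z, Commute (π z) (π x)
  · -- impossible: an element of the centre acts trivially
    exfalso
    push Not at hP1
    obtain ⟨c₀, hc₀, hc₀x⟩ := hP1
    set U := M ⊓ centralizer (Z : Set S) with hU
    have hUc : ∀ g : S, (∀ z ∈ Z, ∃ z' ∈ Z, π (g * z') = π (z * g)) → ∀ u ∈ U, g * u * g⁻¹ ∈ U := by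
      intro g hg u hu
      refine ⟨h.normal.conj_mem u hu.1 g, mem_centralizer_iff.2 fun z hz => ?_⟩
      obtain ⟨z', hz', e⟩ := hg z hz
      have e1 := heq e u hu.1
      have e2 : z' * u * z'⁻¹ = u := by
        rw [mem_centralizer_iff.1 hu.2 z' hz', mul_inv_cancel_right]
      calc z * (g * u * g⁻¹) = (z * g * u * (z * g)⁻¹) * z := by group
        _ = (g * z' * u * (g * z')⁻¹) * z := by rw [e1]
        _ = g * (z' * u * z'⁻¹) * g⁻¹ * z := by group
        _ = _ := by rw [e2]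
    have hUP : ∀ g ∈ P, ∀ u ∈ U, g * u * g⁻¹ ∈ U := fun g hg =>
      hUc g fun z hz => ⟨z, hz, by rw [map_mul, map_mul]; exact hZcomm hz hg⟩
    have hWU : W ≤ U := fun w hw => ⟨h.le_M hw, mem_centralizer_iff.2 fun z hz =>
      (mem_centralizer_iff.1 (hcent hz.1 (hZ1 z hz)) w hw).symm⟩
    let L : Subgroup S :=
      { carrier := {g | g ∈ P ∧ ∀ m ∈ M, psi g m ∈ U}
        one_mem' := ⟨one_mem _, fun m _ => by simp [psi]⟩
        mul_mem' := by
          rintro g g' ⟨hg, hgU⟩ ⟨hg', hg'U⟩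
          refine ⟨mul_mem hg hg', fun m hm => ?_⟩
          rw [psi_mul_left h g g' hm]
          exact mul_mem (hg'U m hm) (hgU _ (h.normal.conj_mem m hm g'))
        inv_mem' := by
          rintro g ⟨hg, hgU⟩
          refine ⟨inv_mem hg, fun m hm => ?_⟩
          have e : psi g⁻¹ m = (psi g (g⁻¹ * m * g⁻¹⁻¹))⁻¹ := by simp only [psi]; group
          rw [e]
          exact inv_mem (hgU _ (h.normal.conj_mem m hm g⁻¹)) }
    have hLP : L ≤ P := fun g hg => hg.1
    have hLn : ∀ c ∈ P, ∀ g ∈ L, c * g * c⁻¹ ∈ L := by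
      rintro c hc g ⟨hg, hgU⟩
      refine ⟨mul_mem (mul_mem hc hg) (inv_mem hc), fun m hm => ?_⟩
      have e : m = c * (c⁻¹ * m * c⁻¹⁻¹) * c⁻¹ := by group
      rw [e, ← psi_conj]
      exact hUP c hc _ (hgU _ (h.normal.conj_mem m hm c⁻¹))
    -- a commutator with `x` lies in `L`
    set g₀ := c₀ * (x * c₀⁻¹ * x⁻¹) with hg₀
    have hg₀L : g₀ ∈ L := by
      refine ⟨mul_mem hc₀ (hxP1 _ (inv_mem hc₀)), fun m hm => ?_⟩
      have hxU : ∀ m ∈ M, psi x m ∈ U := fun m hm => hWU (h.psi_mem m hm)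
      have hxU' : ∀ m ∈ M, psi x⁻¹ m ∈ U := fun m hm => by
        have e : psi x⁻¹ m = (psi x (x⁻¹ * m * x⁻¹⁻¹))⁻¹ := by simp only [psi]; group
        rw [e]
        exact inv_mem (hxU _ (h.normal.conj_mem m hm x⁻¹))
      have e0 : g₀ = c₀ * x * c₀⁻¹ * x⁻¹ := by rw [hg₀]; group
      rw [e0, psi_mul_left h _ _ hm]
      refine mul_mem (hxU' m hm) ?_
      set m' := x⁻¹ * m * x⁻¹⁻¹ with hm'
      have hm'M : m' ∈ M := h.normal.conj_mem m hm x⁻¹
      have e : m' = c₀ * (c₀⁻¹ * m' * c₀⁻¹⁻¹) * c₀⁻¹ := by group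
      rw [e, ← psi_conj]
      exact hUP c₀ hc₀ _ (hxU _ (h.normal.conj_mem m' hm'M c₀⁻¹))
    have hg₀1 : π g₀ ≠ 1 := by
      intro e
      refine hc₀x ?_
      rw [hg₀, map_mul, map_mul, map_mul, map_inv, map_inv, ← mul_assoc, ← mul_assoc, mul_inv_eq_one,
        mul_inv_eq_iff_eq_mul] at e
      exact e
    -- it meets the centre
    set Lb := (L.map π).subgroupOf Pb with hLb
    haveI : Lb.Normal := ⟨fun a ha b => by
      obtain ⟨g, hg, eg⟩ := mem_subgroupOf.1 ha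
      obtain ⟨c, hc, ec⟩ := b.2
      refine mem_subgroupOf.2 ⟨c * g * c⁻¹, hLn c hc g hg, ?_⟩
      simp [eg, ec]⟩
    haveI : Group.IsNilpotent Pb := (hP.map π).isNilpotent
    have hne : Lb ≠ ⊥ := fun e => hg₀1 (by
      have : (⟨π g₀, g₀, hg₀L.1, rfl⟩ : Pb) ∈ Lb := mem_subgroupOf.2 ⟨g₀, hg₀L, rfl⟩
      rw [e, mem_bot] at this
      exact congrArg Subtype.val this)
    obtain ⟨⟨_, hbP⟩, ⟨hbL, hbZ⟩, hb1⟩ := (Subgroup.bot_or_exists_ne_one _).resolve_left
      (Solvable.FrattiniFitting.inf_center_ne_bot Lb hne)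
    obtain ⟨g, hg, rfl⟩ := mem_subgroupOf.1 hbL
    have hgZ : g ∈ Z := ⟨hg.1, mem_centralizer_iff.2 fun q hq =>
      congrArg Subtype.val (mem_center_iff.1 hbZ ⟨q, hq⟩)⟩
    have hgC := hchain hg.1 (U := U) (fun u hu => by
      rw [mem_centralizer_iff.1 hu.2 g hgZ, mul_inv_cancel_right]) hg.2
    exact hb1 (Subtype.ext (hπ1.2 hgC))
  push Not at hZ1
  obtain ⟨z, hz, hzx⟩ := hZ1
  obtain ⟨g, hg⟩ : ∃ g, g = z * (x * z⁻¹ * x⁻¹) := ⟨_, rfl⟩
  have hgZ : g ∈ Z := hg ▸ mul_mem hz (hxZ _ (inv_mem hz))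
  have hgC : π g ≠ 1 := by
    intro e
    refine hzx ?_
    rw [hg, map_mul, map_mul, map_mul, map_inv, map_inv, ← mul_assoc, ← mul_assoc, mul_inv_eq_one,
      mul_inv_eq_iff_eq_mul] at e
    exact e
  let V : Subgroup S :=
    { carrier := {v | ∃ m ∈ M, psi g m = v}
      one_mem' := ⟨1, one_mem _, by simp [psi]⟩
      mul_mem' := by
        rintro _ _ ⟨s, hs, rfl⟩ ⟨t, ht, rfl⟩
        exact ⟨s * t, mul_mem hs ht, psi_mul_right h g hs ht⟩
      inv_mem' := by
        rintro _ ⟨s, hs, rfl⟩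
        refine ⟨s⁻¹, inv_mem hs, ?_⟩
        rw [eq_inv_iff_mul_eq_one, ← psi_mul_right h g (inv_mem hs) hs, inv_mul_cancel]
        simp [psi] }
  have hVM : V ≤ M := by rintro _ ⟨m, hm, rfl⟩; exact psi_mem_M h g hm
  have hgmem : ∀ m ∈ M, psi g m ∈ V := fun m hm => ⟨m, hm, rfl⟩
  have hVP : ∀ c ∈ P, ∀ v ∈ V, c * v * c⁻¹ ∈ V := by
    rintro c hc _ ⟨m, hm, rfl⟩
    refine ⟨c * m * c⁻¹, h.normal.conj_mem m hm c, ?_⟩
    rw [psi_conj, psi, psi, heq (g := g) (g' := c * g * c⁻¹) (by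
      rw [map_mul, map_mul, map_inv, hZcomm hgZ hc, mul_inv_cancel_right])
      (c * m * c⁻¹) (h.normal.conj_mem m hm c)]
  have hV16 : Nat.card V ≤ 16 := by
    have hle : (V : Set S) ⊆ Set.range (fun t : W × W => (t.1 : S) * (z * (t.2 : S) * z⁻¹)) := by
      rintro _ ⟨m, hm, rfl⟩
      have hm' : x⁻¹ * m * x⁻¹⁻¹ ∈ M := h.normal.conj_mem m hm x⁻¹
      have e : psi g m = psi x⁻¹ m * (z * psi x (z⁻¹ * (x⁻¹ * m * x⁻¹⁻¹) * z⁻¹⁻¹) * z⁻¹) := by
        rw [show g = z * x * z⁻¹ * x⁻¹ by rw [hg]; group, psi_mul_left h _ _ hm, psi_conj]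
        congr 2
        group
      have e2 : psi x⁻¹ m = (psi x (x⁻¹ * m * x⁻¹⁻¹))⁻¹ := by simp only [psi]; group
      exact ⟨(⟨psi x⁻¹ m, e2 ▸ inv_mem (h.psi_mem _ hm')⟩,
        ⟨_, h.psi_mem _ (h.normal.conj_mem _ hm' z⁻¹)⟩), e.symm⟩
    calc Nat.card V ≤ (Set.range _).ncard := Set.ncard_le_ncard hle
      _ ≤ Nat.card (W × W) := Finite.card_range_le _
      _ = 16 := by rw [Nat.card_prod, h.card]
  obtain ⟨ng, hng, hgng⟩ := hPodd hgZ.1
  have hfpf : ∀ v ∈ V, g * v * g⁻¹ = v → v = 1 := by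
    rintro _ ⟨m, hm, rfl⟩ e
    exact psi_eq_one_of_fixed h hm hng (by rw [hgng]; exact one_mem _) e
  have hV2 : IsPGroup 2 V := fun v =>
    ⟨1, Subtype.ext (by simpa [pow_two] using h.two _ (hVM v.2))⟩
  have hgV : ∀ v ∈ V, g * v * g⁻¹ ∈ V := hVP g hgZ.1
  have horb : ∀ T : Subgroup S, T ≤ V → (∀ t ∈ T, g * t * g⁻¹ ∈ T) → p ∣ Nat.card T - 1 := by
    intro T hT hgT
    have hgN : g ∈ normalizer (T : Set S) := Coprime.mem_normalizer_of_conj_map_le hgT
    let φ := Coprime.conjHom (A := zpowers g) (V := T) (zpowers_le.2 hgN)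
    letI : MulAction (zpowers g) T := MulAction.compHom T φ
    have hPg : IsPGroup p (zpowers g) := hP.to_le (zpowers_le.2 hgZ.1)
    have hfix : MulAction.fixedPoints (zpowers g) T = {1} := by
      ext t
      refine ⟨fun ht => Subtype.ext (hfpf t (hT t.2) ?_), fun ht a => ?_⟩
      · exact congrArg Subtype.val (ht ⟨g, mem_zpowers g⟩)
      · rw [Set.mem_singleton_iff] at ht
        subst ht
        exact map_one (φ a)
    have := hPg.card_modEq_card_fixedPoints T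
    rw [hfix, Nat.card_coe_set_eq, Set.ncard_singleton] at this
    exact (Nat.modEq_iff_dvd' Nat.card_pos).1 this.symm
  have hsize : ∀ T : Subgroup S, T ≤ V → (∀ t ∈ T, g * t * g⁻¹ ∈ T) → T ≠ ⊥ →
      8 ≤ Nat.card T ∧ T = V := by
    intro T hT hgT hT1
    obtain ⟨i, hi⟩ := (hV2.to_le hT).exists_card_eq
    obtain ⟨j, hj⟩ := hV2.exists_card_eq
    have hij : i ≤ j := (Nat.pow_le_pow_iff_right one_lt_two).1 (by
      rw [← hi, ← hj]; exact card_le_of_le hT)
    have hj4 : j ≤ 4 := (Nat.pow_le_pow_iff_right one_lt_two).1 (by rw [← hj]; exact hV16)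
    have hi0 : i ≠ 0 := fun e => hT1 (eq_bot_of_card_eq _ (by rw [hi, e, pow_zero]))
    have di := horb T hT hgT
    have dj := horb V le_rfl hgV
    rw [hi] at di
    rw [hj] at dj
    have hpne : ∀ d : ℕ, 0 < d → d < 5 → ¬ p ∣ d := fun d hd hd5 hdvd => by
      have := Nat.le_of_dvd hd hdvd; omega
    have h15 : p ∣ 15 → p = 5 := fun hd => by
      rcases (Nat.Prime.dvd_mul hp.1).1 (show p ∣ 3 * 5 from hd) with e | e
      · exact absurd e (hpne 3 (by norm_num) (by norm_num))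
      · exact (Nat.prime_dvd_prime_iff_eq hp.1 Nat.prime_five).1 e
    have h7 : p ∣ 7 → p = 7 := fun hd =>
      (Nat.prime_dvd_prime_iff_eq hp.1 (by norm_num)).1 hd
    have hcase : (i = 3 ∧ j = 3) ∨ (i = 4 ∧ j = 4) := by
      have hi3 : i ≠ 1 ∧ i ≠ 2 := by
        refine ⟨fun e => ?_, fun e => ?_⟩
        · rw [e] at di; exact absurd di (hpne 1 (by norm_num) (by norm_num))
        · rw [e] at di; exact absurd di (hpne 3 (by norm_num) (by norm_num))
      rcases (show i = 3 ∧ j = 3 ∨ i = 4 ∧ j = 4 ∨ i = 3 ∧ j = 4 by omega) with e | e | ⟨e1, e2⟩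
      · exact Or.inl e
      · exact Or.inr e
      · rw [e1] at di; rw [e2] at dj
        have := h7 di; have := h15 dj; omega
    refine ⟨?_, eq_of_le_of_card_ge hT ?_⟩ <;> rcases hcase with ⟨e1, e2⟩ | ⟨e1, e2⟩ <;>
      simp [hi, hj, e1, e2]
  have hV1 : V ≠ ⊥ := fun e => hgC (hπ1.2 (mem_centralizer_iff.2 fun m hm => by
    have := hgmem m hm
    rw [e, mem_bot] at this
    exact (psi_eq_one_iff.1 this).symm))
  have hV8 := (hsize V le_rfl hgV hV1).1
  -- `x` normalises `V`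
  set V' := V.map (MulAut.conj x).toMonoidHom with hV'
  have hV'P : ∀ c ∈ P, ∀ v ∈ V', c * v * c⁻¹ ∈ V' := by
    rintro c hc _ ⟨v, hv, rfl⟩
    refine ⟨(x⁻¹ * c * x) * v * (x⁻¹ * c * x)⁻¹, hVP _ (hxP2 c hc) v hv, ?_⟩
    simp only [MulEquiv.coe_toMonoidHom, MulAut.conj_apply]
    group
  have hxV : ∀ v ∈ V, x * v * x⁻¹ ∈ V := by
    by_cases hb : V ⊓ V' = ⊥
    · -- then `v ↦ [x, v]` embeds `V` into `W`
      exfalso
      have hinj : Function.Injective (fun v : V => (⟨psi x v, h.psi_mem v (hVM v.2)⟩ : W)) := by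
        intro v v' e
        have e1 : psi x (v : S) = psi x (v' : S) := congrArg Subtype.val e
        have hd : psi x ((v : S) * (v' : S)⁻¹) = 1 := by
          have e3 := psi_mul_right h x (hVM ((V : Subgroup S).mul_mem v.2 (V.inv_mem v'.2))) (hVM v'.2)
          rw [inv_mul_cancel_right, e1] at e3
          exact mul_eq_right.1 e3.symm
        rw [psi, mul_inv_eq_one] at hd
        have hdd : (v : S) * (v' : S)⁻¹ ∈ V := mul_mem v.2 (inv_mem v'.2)
        have : (v : S) * (v' : S)⁻¹ ∈ V ⊓ V' := ⟨hdd, ⟨_, hdd, hd⟩⟩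
        rw [hb, mem_bot, mul_inv_eq_one] at this
        exact Subtype.ext this
      have := Nat.card_le_card_of_injective _ hinj
      rw [h.card] at this
      omega
    · have e := (hsize (V ⊓ V') inf_le_left (fun t ht => ⟨hgV t ht.1, hV'P g hgZ.1 t ht.2⟩) hb).2
      have e' : V = V' := eq_of_le_of_card_ge (inf_eq_left.1 e)
        (card_map_of_injective (MulAut.conj x).injective).le
      intro v hv
      rw [e']
      exact ⟨v, hv, rfl⟩
  -- `W ≤ V`
  obtain ⟨v₀, hv₀, hv₀x⟩ : ∃ v ∈ V, psi x v ≠ 1 := by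
    by_contra hall
    push Not at hall
    have hxv : ∀ v ∈ V, x * v * x⁻¹ = v := fun v hv => by
      have := hall v hv; rwa [psi, mul_inv_eq_one] at this
    obtain ⟨k, hk⟩ : ∃ k, k = g⁻¹ * (x * g * x⁻¹) := ⟨_, rfl⟩
    have hkZ : k ∈ Z := hk ▸ mul_mem (inv_mem hgZ) (hxZ g hgZ)
    have hxv' : ∀ v ∈ V, x⁻¹ * v * x = v := fun v hv => by
      conv_lhs => rw [← hxv v hv]
      group
    have hkV : ∀ v ∈ V, k * v * k⁻¹ = v := fun v hv => by
      calc k * v * k⁻¹ = g⁻¹ * (x * (g * (x⁻¹ * v * x) * g⁻¹) * x⁻¹) * g := by rw [hk]; group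
        _ = v := by rw [hxv' v hv, hxv _ (hgV v hv)]; group
    have hkmem : ∀ m ∈ M, psi k m ∈ V := fun m hm => by
      have hm1 := h.normal.conj_mem m hm x⁻¹
      have a1 : psi (x * g * x⁻¹) m = x * psi g (x⁻¹ * m * x⁻¹⁻¹) * x⁻¹ := by
        simp only [psi]; group
      have hm2 : x * g * x⁻¹ * m * (x * g * x⁻¹)⁻¹ ∈ M := h.normal.conj_mem m hm _
      have a2 : psi g⁻¹ (x * g * x⁻¹ * m * (x * g * x⁻¹)⁻¹) ∈ V := by
        have e : ∀ n : S, psi g⁻¹ n = (psi g (g⁻¹ * n * g⁻¹⁻¹))⁻¹ := fun n => by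
          simp only [psi]; group
        rw [e]
        exact inv_mem (hgmem _ (h.normal.conj_mem _ hm2 g⁻¹))
      rw [hk, psi_mul_left h _ _ hm, a1]
      exact mul_mem (hxV _ (hgmem _ hm1)) a2
    have hkC : π k = 1 := hπ1.2 (hchain hkZ.1 (U := V) hkV hkmem)
    have hgx : Commute (π g) (π x) := by
      rw [hk, map_mul, map_mul, map_mul, map_inv, map_inv, inv_mul_eq_one, eq_mul_inv_iff_mul_eq] at hkC
      exact hkC
    have hX3 : π x ^ 3 = 1 := by rw [← map_pow]; exact hπ1.2 h.cube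
    have e1 : π z * π x * (π z)⁻¹ = π g * π x := by
      rw [hg, map_mul, map_mul, map_mul, map_inv, map_inv]; group
    have e2 : π g ^ 3 = 1 := by
      have e4 : (π z * π x * (π z)⁻¹) ^ 3 = (π g * π x) ^ 3 := congrArg (· ^ 3) e1
      rw [conj_pow, hX3, hgx.mul_pow, hX3, mul_one, mul_one, mul_inv_cancel] at e4
      exact e4.symm
    obtain ⟨i, hi⟩ := hP ⟨g, hgZ.1⟩
    have hi' : π g ^ p ^ i = 1 := by
      have hgi : g ^ p ^ i = 1 := congrArg Subtype.val hi
      rw [← map_pow, hgi, map_one]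
    refine hgC (orderOf_eq_one_iff.1 (Nat.eq_one_of_dvd_coprimes ?_ (orderOf_dvd_of_pow_eq_one hi')
      (orderOf_dvd_of_pow_eq_one e2)))
    exact Nat.Coprime.pow_left i ((Nat.coprime_primes hp.1 Nat.prime_three).2 (by omega))
  have hWV : W ≤ V := le_of_moved h hVM hxV hv₀ hv₀x
  -- a point stabiliser of index at most `p` centralises `V`
  obtain ⟨v, hv, hv1⟩ := V.bot_or_exists_ne_one.resolve_left hV1
  set D := P ⊓ centralizer ({v} : Set S) with hD
  have hDV : ∀ u ∈ V, u ∈ centralizer (D : Set S) := by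
    have e : V ⊓ centralizer (D : Set S) = V := by
      refine (hsize _ inf_le_left (fun t ht => ⟨hgV t ht.1, mem_centralizer_iff.2 fun d hd => ?_⟩)
        fun e => hv1 ?_).2
      · have e1 : g * d * t * (g * d)⁻¹ = d * g * t * (d * g)⁻¹ :=
          heq (g := d * g) (g' := g * d) (by rw [map_mul, map_mul]; exact hZcomm hgZ hd.1) t (hVM ht.1)
        have e2 : d * t * d⁻¹ = t := by rw [mem_centralizer_iff.1 ht.2 d hd, mul_inv_cancel_right]
        calc d * (g * t * g⁻¹) = d * g * t * (d * g)⁻¹ * d := by group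
          _ = g * d * t * (g * d)⁻¹ * d := by rw [e1]
          _ = g * (d * t * d⁻¹) * g⁻¹ * d := by group
          _ = _ := by rw [e2]
      · rw [← mem_bot (G := S), ← e]
        exact ⟨hv, mem_centralizer_iff.2 fun d hd => mem_centralizer_singleton_iff.1 hd.2⟩
    exact fun u hu => (e.ge hu).2
  refine hfin D (fun d hd => mem_centralizer_iff.2 fun w hw =>
    (mem_centralizer_iff.1 (hDV w (hWV hw)) d hd).symm) ?_
  -- orbit size
  obtain ⟨j, hj⟩ := hP.exists_card_eq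
  obtain ⟨i, -, hi⟩ := (Nat.dvd_prime_pow hp.1).1
    (hj ▸ Dvd.intro_left _ (Coprime.card_mul_relIndex' (inf_le_left : D ≤ P)) : D.relIndex P ∣ p ^ j)
  have h16 : D.relIndex P ≤ 16 := by
    refine le_trans ?_ hV16
    have : D.relIndex P = Nat.card (P ⧸ D.subgroupOf P) := rfl
    rw [this]
    refine Nat.card_le_card_of_injective
      (fun c => (⟨(c.out : S) * v * (c.out : S)⁻¹, hVP _ c.out.2 v hv⟩ : V)) fun c d e => ?_
    have e1 : (c.out : S) * v * (c.out : S)⁻¹ = (d.out : S) * v * (d.out : S)⁻¹ := congrArg Subtype.val e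
    rw [← c.out_eq, ← d.out_eq]
    refine QuotientGroup.eq.2 (mem_subgroupOf.2 ⟨(c.out⁻¹ * d.out).2, ?_⟩)
    refine mem_centralizer_singleton_iff.2 ?_
    show (c.out : S)⁻¹ * (d.out : S) * v = v * ((c.out : S)⁻¹ * (d.out : S))
    calc (c.out : S)⁻¹ * (d.out : S) * v
        = (c.out : S)⁻¹ * ((d.out : S) * v * (d.out : S)⁻¹) * (d.out : S) := by group
      _ = (c.out : S)⁻¹ * ((c.out : S) * v * (c.out : S)⁻¹) * (d.out : S) := by rw [e1]
      _ = _ := by group
  rw [hi] at h16 ⊢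
  have hi1 : i ≤ 1 := by
    by_contra hi2
    push Not at hi2
    have : 5 ^ 2 ≤ p ^ i :=
      (Nat.pow_le_pow_left hp5 2).trans (Nat.pow_le_pow_right hp.1.pos hi2)
    omega
  calc p ^ i ≤ p ^ 1 := Nat.pow_le_pow_right hp.1.pos hi1
    _ = p := pow_one p

end CfsgLib.Solvable.CyclicThreeMover
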