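import Cfsg.Agent.Lib.Solvable.KegelWielandt
import Cfsg.Agent.Lib.Solvable.FrattiniFitting

/-!
# Proper normal subgroups of products of nilpotent groups
-/

set_option autoImplicit false

namespace CfsgLib.Solvable.FactorisedNilpotent

open Subgroup CfsgLib CfsgLib.Solvable.Basic CfsgLib.Solvable.KegelWielandt
open scoped Pointwise

universe u

theorem exists_normal_of_isNilpotent {G : Type u} [Group G] [Finite G] (hG : Group.IsNilpotent G)
    {A : Subgroup G} (hA : A ≠ ⊤) : ∃ N : Subgroup G, N.Normal ∧ N ≠ ⊤ ∧ A ≤ N := by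
  obtain ⟨N, hN, hle⟩ := (eq_top_or_exists_le_coatom A).resolve_left hA
  exact ⟨N, (Group.normalizerCondition_of_isNilpotent).normal_of_coatom N hN, hN.1, hle⟩

theorem exists_aux (n : ℕ) : ∀ (G : Type u) [Group G] [Finite G], Nat.card G ≤ n →
    ∀ A B : Subgroup G, Group.IsNilpotent A → Group.IsNilpotent B →
      (∀ g : G, ∃ a ∈ A, ∃ b ∈ B, g = a * b) → (A ≠ ⊤ ∨ B ≠ ⊤) →
      ∃ N : Subgroup G, N.Normal ∧ N ≠ ⊤ ∧ (A ≤ N ∨ B ≤ N) := by
  induction n using Nat.strong_induction_on with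
  | _ n ih =>
  intro G _ _ hn A B hA hB hAB hprop
  by_cases hnil : Group.IsNilpotent G
  · rcases hprop with h | h
    · obtain ⟨N, h1, h2, h3⟩ := exists_normal_of_isNilpotent hnil h
      exact ⟨N, h1, h2, Or.inl h3⟩
    · obtain ⟨N, h1, h2, h3⟩ := exists_normal_of_isNilpotent hnil h
      exact ⟨N, h1, h2, Or.inr h3⟩
  have hAt : A ≠ ⊤ := fun e => hnil (Group.isNilpotent_top.1 (e ▸ hA))
  have hBt : B ≠ ⊤ := fun e => hnil (Group.isNilpotent_top.1 (e ▸ hB))
  haveI := isSolvable A B hA hB hAB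
  rcases subsingleton_or_nontrivial G with hs | hs
  · exact absurd (Subsingleton.elim A ⊤) hAt
  obtain ⟨N, p, hp, hN, hNne, -, hNc, hNp, -⟩ :=
    exists_minimal_normal_pgroup (G := G) (H := ⊤) top_ne_bot
  haveI := Fact.mk hp
  haveI := hN
  obtain ⟨N, hNn, hNne, hNle, hmin⟩ := exists_minimal_normal_le hNne
  replace hNp : IsPGroup p N := hNp.to_le hNle
  have hNc' : ∀ x ∈ N, ∀ y ∈ N, x * y = y * x := fun x hx y hy =>
    isMulCommutative_subgroup_iff.mp hNc x (hNle hx) y (hNle hy)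
  clear hN hNle hNc
  haveI := hNn
  -- the images in the quotient
  by_cases hq : A ⊔ N ≠ ⊤ ∨ B ⊔ N ≠ ⊤
  · have hmap : ∀ C : Subgroup G, C ⊔ N ≠ ⊤ → C.map (QuotientGroup.mk' N) ≠ ⊤ := by
      intro C hC e
      apply hC
      have := congrArg (comap (QuotientGroup.mk' N)) e
      rwa [comap_map_eq, QuotientGroup.ker_mk', comap_top] at this
    obtain ⟨K, hK, hKt, hor⟩ := ih (Nat.card (G ⧸ N)) ((card_quotient_lt N hNne).trans_le hn) (G ⧸ N)
      le_rfl (A.map (QuotientGroup.mk' N)) (B.map (QuotientGroup.mk' N))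
      (Group.nilpotent_of_surjective _ (MonoidHom.subgroupMap_surjective _ A))
      (Group.nilpotent_of_surjective _ (MonoidHom.subgroupMap_surjective _ B))
      (fun x => by
        obtain ⟨g, rfl⟩ := QuotientGroup.mk'_surjective N x
        obtain ⟨a, ha, b, hb, rfl⟩ := hAB g
        exact ⟨_, mem_map_of_mem _ ha, _, mem_map_of_mem _ hb, map_mul _ _ _⟩)
      (hq.imp (hmap A) (hmap B))
    refine ⟨K.comap (QuotientGroup.mk' N), inferInstance, fun e => hKt ?_,
      hor.imp (map_le_iff_le_comap.1 ·) (map_le_iff_le_comap.1 ·)⟩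
    rw [← map_comap_eq_self_of_surjective (QuotientGroup.mk'_surjective N) K, e,
      ← MonoidHom.range_eq_map, MonoidHom.range_eq_top.2 (QuotientGroup.mk'_surjective N)]
  push Not at hq
  obtain ⟨hAN, hBN⟩ := hq
  exfalso
  -- a subgroup supplementing the minimal normal subgroup is a complement
  have hdec : ∀ {C : Subgroup G}, C ⊔ N = ⊤ → ∀ g : G, ∃ c ∈ C, ∃ m ∈ N, c * m = g :=
    fun {C} hC g => mem_sup_of_normal_right.1 (hC ▸ mem_top g)
  have hinv : ∀ {C : Subgroup G}, C ⊔ N = ⊤ → C ≠ ⊤ → C ⊓ N = ⊥ := by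
    intro C hC hCt
    have hnorm : (C ⊓ N).Normal := by
      refine ⟨fun x hx g => ?_⟩
      obtain ⟨c, hc, m, hm, rfl⟩ := hdec hC g
      rw [show c * m * x * (c * m)⁻¹ = c * (m * x * m⁻¹) * c⁻¹ by group, hNc' m hm x hx.2,
        mul_inv_cancel_right]
      exact Subgroup.mem_inf.2 ⟨mul_mem (mul_mem hc hx.1) (inv_mem hc), hNn.conj_mem x hx.2 c⟩
    refine (hmin _ hnorm inf_le_right).resolve_right fun e => hCt ?_
    rw [← hC]
    exact (sup_eq_left.2 (e.ge.trans inf_le_left)).symm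
  have hA0 := hinv hAN hAt
  have hB0 := hinv hBN hBt
  have hcardA : Nat.card G = Nat.card A * Nat.card N := by
    rw [← card_top (G := G), ← hAN, card_sup_of_disjoint N A (by rw [inf_comm]; exact hA0)]
  have hcardB : Nat.card G = Nat.card B * Nat.card N := by
    rw [← card_top (G := G), ← hBN, card_sup_of_disjoint N B (by rw [inf_comm]; exact hB0)]
  -- fixed points of the components
  have hC : ∀ q : ℕ, (N ⊓ centralizer (comp A q : Set G)).Normal := by
    intro q
    refine ⟨fun x hx g => ?_⟩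
    obtain ⟨a, ha, m, hm, rfl⟩ := hdec hAN g
    rw [show a * m * x * (a * m)⁻¹ = a * (m * x * m⁻¹) * a⁻¹ by group, hNc' m hm x hx.1,
      mul_inv_cancel_right]
    refine ⟨hNn.conj_mem x hx.1 a, mem_centralizer_iff.2 fun y hy => ?_⟩
    have hy' : a⁻¹ * y * a ∈ comp A q := by
      have := (mem_normalizer_iff.1 (le_normalizer_comp A q (inv_mem ha)) y).1 hy
      rwa [inv_inv] at this
    have h5 := mem_centralizer_iff.1 hx.2 _ hy'
    calc y * (a * x * a⁻¹) = a * ((a⁻¹ * y * a) * x) * a⁻¹ := by group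
      _ = a * (x * (a⁻¹ * y * a)) * a⁻¹ := by rw [h5]
      _ = a * x * a⁻¹ * y := by group
  by_cases hall : ∀ q : ℕ, [Fact q.Prime] → q ∣ Nat.card A → N ≤ centralizer (comp A q : Set G)
  · -- then the minimal normal subgroup is central
    have hAc : A ≤ centralizer (N : Set G) := le_of_comps hA fun q _ hq x hx =>
      mem_centralizer_iff.2 fun y hy => (mem_centralizer_iff.1 (hall q hq hy) x hx).symm
    have hcen : N ≤ center G := fun x hx => mem_center_iff.2 fun g => by
      obtain ⟨a, ha, m, hm, rfl⟩ := hdec hAN g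
      rw [mul_assoc, hNc' m hm x hx, ← mul_assoc, ← mem_centralizer_iff.1 (hAc ha) x hx, mul_assoc]
    refine hnil ?_
    haveI : Group.IsNilpotent (G ⧸ N) := by
      let f : A →* G ⧸ N := (QuotientGroup.mk' N).comp A.subtype
      haveI := hA
      refine Group.nilpotent_of_surjective f fun x => ?_
      obtain ⟨g, rfl⟩ := QuotientGroup.mk'_surjective N x
      obtain ⟨a, ha, m, hm, rfl⟩ := hdec hAN g
      exact ⟨⟨a, ha⟩, (QuotientGroup.eq).2 (by simpa using hm)⟩
    exact Subgroup.isNilpotent_of_ker_le_center (QuotientGroup.mk' N) (by rwa [QuotientGroup.ker_mk'])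
  push Not at hall
  obtain ⟨q, hqF, hqA, hqN⟩ := hall
  haveI := hqF
  have hbot : N ⊓ centralizer (comp A q : Set G) = ⊥ :=
    (hmin _ (hC q) inf_le_left).resolve_right fun e => hqN (e.ge.trans inf_le_right)
  -- the prime is not the characteristic of the minimal normal subgroup
  have hqp : q ≠ p := by
    intro e
    subst e
    have hsup : IsPGroup q ↥(comp A q ⊔ N) :=
      IsPGroup.to_sup_of_normal_right (comp_isPGroup A q) hNp
    have hnt : Nontrivial ↥(comp A q ⊔ N) := (nontrivial_iff_ne_bot _).2 fun e =>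
      hNne (le_bot_iff.1 (le_sup_right.trans e.le))
    haveI := hnt
    haveI := hsup.isNilpotent
    obtain ⟨z, hz, hz1⟩ := (N.subgroupOf (comp A q ⊔ N) ⊓ center ↥(comp A q ⊔ N)).bot_or_exists_ne_one.resolve_left
      (FrattiniFitting.inf_center_ne_bot _ fun e => hNne (by
        rw [subgroupOf_eq_bot, disjoint_iff, inf_eq_left.2 le_sup_right] at e
        exact e))
    refine hz1 (Subtype.ext (mem_bot.1 (hbot ▸ ⟨hz.1, mem_centralizer_iff.2 fun y hy => ?_⟩)))
    exact congrArg Subtype.val (mem_center_iff.1 hz.2 ⟨y, mem_sup_left hy⟩)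
  -- the components are Sylow subgroups
  obtain ⟨k, hk⟩ := hNp.exists_card_eq
  have hfac : (Nat.card G).factorization q = (Nat.card A).factorization q := by
    rw [hcardA, Nat.factorization_mul Nat.card_pos.ne' Nat.card_pos.ne', Finsupp.coe_add,
      Pi.add_apply, Nat.factorization_eq_zero_of_not_dvd (n := Nat.card N), add_zero]
    rw [hk]
    exact fun h => hqp ((Nat.prime_dvd_prime_iff_eq Fact.out hp).1 ((Fact.out : q.Prime).dvd_of_dvd_pow h))
  have hcardAB : Nat.card A = Nat.card B :=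
    Nat.eq_of_mul_eq_mul_right Nat.card_pos (hcardA.symm.trans hcardB)
  let P : Sylow q G := Sylow.ofCard (comp A q) (by rw [card_comp hA, hfac])
  let Q : Sylow q G := Sylow.ofCard (comp B q) (by rw [card_comp hB, hfac, hcardAB])
  obtain ⟨x, hx⟩ := MulAction.exists_smul_eq G P Q
  have hx' : MulAut.conj x • comp A q = comp B q := congrArg Sylow.toSubgroup hx
  have hNA : normalizer (comp A q : Set G) ≤ A := by
    intro g hg
    obtain ⟨a, ha, m, hm, rfl⟩ := hdec hAN g
    have hmN : m ∈ normalizer (comp A q : Set G) := by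
      simpa using mul_mem (inv_mem (le_normalizer_comp A q ha)) hg
    have : m ∈ N ⊓ centralizer (comp A q : Set G) := by
      refine ⟨hm, mem_centralizer_iff.2 fun y hy => ?_⟩
      have h1 : m * y * m⁻¹ * y⁻¹ ∈ comp A q := mul_mem ((mem_normalizer_iff.1 hmN y).1 hy) (inv_mem hy)
      have h2 : m * y * m⁻¹ * y⁻¹ ∈ N := by
        rw [mul_assoc, mul_assoc, ← mul_assoc y]
        exact mul_mem hm (hNn.conj_mem _ (inv_mem hm) y)
      have h3 : m * y * m⁻¹ * y⁻¹ ∈ A ⊓ N := ⟨comp_le A q h1, h2⟩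
      rw [hA0, mem_bot, mul_inv_eq_one, mul_inv_eq_iff_eq_mul] at h3
      exact h3.symm
    rw [hbot, mem_bot] at this
    rw [this, mul_one]
    exact ha
  have hBA : B ≤ MulAut.conj x • A := by
    intro b hb
    refine mem_conj_smul.2 (hNA (mem_normalizer_iff_map_conj_eq.2 ?_))
    show MulAut.conj (x⁻¹ * b * x) • comp A q = comp A q
    rw [← conj_smul_conj_smul, hx', ← conj_smul_conj_smul, conj_comp hb, ← hx', conj_smul_conj_smul,
      inv_mul_cancel, map_one, one_smul]
  have hBA' : B = MulAut.conj x • A :=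
    eq_of_le_of_card_ge hBA (by rw [card_conj_smul, hcardAB])
  obtain ⟨a, ha, b, hb, e⟩ := hAB x⁻¹
  have hxe : x = b⁻¹ * a⁻¹ := by rw [← mul_inv_rev, ← e, inv_inv]
  rw [hxe, ← conj_smul_conj_smul, conj_smul_eq_self_of_mem (inv_mem ha)] at hBA'
  have hAB' : A = B := by
    have h5 := congrArg (MulAut.conj b • ·) hBA'
    simp only [conj_smul_conj_smul, mul_inv_cancel, map_one, one_smul,
      conj_smul_eq_self_of_mem hb] at h5
    exact h5.symm
  refine hAt (eq_top_iff.2 fun g _ => ?_)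
  obtain ⟨a', ha', b', hb', rfl⟩ := hAB g
  exact mul_mem ha' (hAB'.ge hb')

end CfsgLib.Solvable.FactorisedNilpotent
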