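import Cfsg.Agent.Lib.Solvable.Basic
import Cfsg.Agent.Lib.Solvable.Cores
import Cfsg.Agent.Lib.OddOrder.Basic
import Cfsg.Agent.Lib.Solvable.Ito
import Cfsg.Agent.Lib.Fusion.Alperin

/-!
# Brodkey's theorem, nilpotent normal complements, products of abelian groups
-/

set_option autoImplicit false

namespace CfsgLib.Solvable.FactorisedSmall

open Subgroup CfsgLib CfsgLib.Solvable.Basic
open scoped Pointwise commutatorElement

variable {G : Type*} [Group G] [Finite G]

/-- Brodkey's theorem. -/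
theorem exists_inf_conj_eq_bot (p : ℕ) [Fact p.Prime] (S : Sylow p G) (hS : IsMulCommutative S)
    (hOp : Cfsg.pCore p G = ⊥) : ∃ g : G, (S : Subgroup G) ⊓ MulAut.conj g • (S : Subgroup G) = ⊥ := by
  obtain ⟨g, -, hg⟩ := Set.Finite.exists_minimalFor
    (fun g : G => Nat.card ↥((S : Subgroup G) ⊓ MulAut.conj g • (S : Subgroup G))) Set.univ
    (Set.toFinite _) ⟨1, trivial⟩
  refine ⟨g, ?_⟩
  set D := (S : Subgroup G) ⊓ MulAut.conj g • (S : Subgroup G) with hD
  set C := centralizer (D : Set G) with hC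
  have hSC : (S : Subgroup G) ≤ C := fun x hx => mem_centralizer_iff.2 fun d hd =>
    congrArg Subtype.val (hS.is_comm.comm ⟨d, hd.1⟩ ⟨x, hx⟩)
  rw [eq_bot_iff, ← hOp, Cores.pCore_eq_iInf]
  refine le_iInf fun R => ?_
  obtain ⟨c, hc⟩ : ∃ c ∈ C, (R : Subgroup G) ⊓ C ≤ MulAut.conj c • (S : Subgroup G) := by
    obtain ⟨T, hT⟩ := ((R.isPGroup'.to_le (inf_le_left : (R : Subgroup G) ⊓ C ≤ R)).comap_of_injective
      C.subtype C.subtype_injective).exists_le_sylow
    obtain ⟨c, hc⟩ := MulAction.exists_smul_eq C (S.subtype hSC) T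
    refine ⟨c, c.2, fun x hx => ?_⟩
    have h1 : (⟨x, hx.2⟩ : C) ∈ (T : Subgroup C) := hT hx
    rw [← hc, Sylow.coe_subgroup_smul] at h1
    have h2 := Subgroup.mem_map_of_mem C.subtype h1
    rw [show ((MulAut.conj c • (S.subtype hSC : Subgroup C)).map C.subtype) =
      MulAut.conj (c : G) • (S : Subgroup G) by
      rw [map_subtype_conj_smul, Sylow.coe_subtype, map_subgroupOf_eq_of_le hSC]] at h2
    exact h2
  obtain ⟨hcC, hle⟩ := hc
  obtain ⟨w, hw⟩ := MulAction.exists_smul_eq G S R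
  have hwR : (R : Subgroup G) = MulAut.conj w • (S : Subgroup G) := by
    rw [← hw, Sylow.coe_subgroup_smul]
  set h := c⁻¹ * w with hh
  have hgC : MulAut.conj g • (S : Subgroup G) ≤ C := fun x hx => mem_centralizer_iff.2 fun d hd => by
    have h1 : g⁻¹ * d * g ∈ (S : Subgroup G) := mem_conj_smul.1 hd.2
    have h2 : g⁻¹ * x * g ∈ (S : Subgroup G) := mem_conj_smul.1 hx
    have h3 : (g⁻¹ * d * g) * (g⁻¹ * x * g) = (g⁻¹ * x * g) * (g⁻¹ * d * g) :=
      congrArg Subtype.val (hS.is_comm.comm ⟨_, h1⟩ ⟨_, h2⟩)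
    calc d * x = g * ((g⁻¹ * d * g) * (g⁻¹ * x * g)) * g⁻¹ := by group
      _ = g * ((g⁻¹ * x * g) * (g⁻¹ * d * g)) * g⁻¹ := by rw [h3]
      _ = x * d := by group
  have hsub : MulAut.conj h • (S : Subgroup G) ⊓ MulAut.conj g • (S : Subgroup G) ≤ D := by
    intro x hx
    refine ⟨?_, hx.2⟩
    have hxC := hgC hx.2
    have h1 : c * x * c⁻¹ ∈ (R : Subgroup G) ⊓ C := by
      refine Subgroup.mem_inf.2 ⟨?_, mul_mem (mul_mem hcC hxC) (inv_mem hcC)⟩
      show c * x * c⁻¹ ∈ (R : Subgroup G)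
      rw [hwR, mem_conj_smul]
      have := mem_conj_smul.1 hx.1
      rw [hh] at this
      rwa [mul_inv_rev, inv_inv, show w⁻¹ * c * x * (c⁻¹ * w) = w⁻¹ * (c * x * c⁻¹) * w by group] at this
    have h2 := mem_conj_smul.1 (hle h1)
    rwa [show c⁻¹ * (c * x * c⁻¹) * c = x by group] at h2
  have heq : MulAut.conj h • (S : Subgroup G) ⊓ MulAut.conj g • (S : Subgroup G) = D := by
    refine eq_of_le_of_card_ge hsub ((hg (Set.mem_univ (h⁻¹ * g)) ?_).trans (le_of_eq ?_))
    · refine le_trans (le_of_eq ?_) (Subgroup.card_le_of_le hsub)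
      show Nat.card ↥((S : Subgroup G) ⊓ MulAut.conj (h⁻¹ * g) • (S : Subgroup G)) = _
      rw [← card_conj_smul h ((S : Subgroup G) ⊓ MulAut.conj (h⁻¹ * g) • (S : Subgroup G)),
        Subgroup.smul_inf, conj_smul_conj_smul, mul_inv_cancel_left]
    · show Nat.card ↥((S : Subgroup G) ⊓ MulAut.conj (h⁻¹ * g) • (S : Subgroup G)) = _
      rw [← card_conj_smul h ((S : Subgroup G) ⊓ MulAut.conj (h⁻¹ * g) • (S : Subgroup G)),
        Subgroup.smul_inf, conj_smul_conj_smul, mul_inv_cancel_left]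
  intro d hd
  have h1 : d ∈ MulAut.conj h • (S : Subgroup G) := (heq.ge hd).1
  rw [hwR, mem_conj_smul]
  have h2 : c⁻¹ * d * c = d := by
    rw [mul_assoc, mem_centralizer_iff.1 hcC d hd, inv_mul_cancel_left]
  have h3 := mem_conj_smul.1 h1
  rw [hh, mul_inv_rev, inv_inv] at h3
  rwa [show w⁻¹ * c * d * (c⁻¹ * w) = w⁻¹ * (c * d * c⁻¹) * w by group,
    show c * d * c⁻¹ = d by rw [← mem_centralizer_iff.1 hcC d hd, mul_inv_cancel_right]] at h3

/-- A subgroup which is the normaliser of each of its Sylow subgroups, but not a Sylow subgroup. -/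
theorem exists_normal_complement (H : Subgroup G)
    (hnot : ∀ p : ℕ, p.Prime → ∀ P : Sylow p G, (P : Subgroup G) ≠ H)
    (hnorm : ∀ p : ℕ, p.Prime → p ∣ Nat.card H → ∀ P : Sylow p H,
      normalizer (((P : Subgroup H).map H.subtype : Subgroup G) : Set G) = H) :
    ∃ N : Subgroup G, N.Normal ∧ Subgroup.IsComplement' N H := by
  classical
  have hSyl : ∀ p : ℕ, [Fact p.Prime] → p ∣ Nat.card H → ∀ P : Sylow p H,
      ∃ P' : Sylow p G, (P' : Subgroup G) = (P : Subgroup H).map H.subtype := by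
    intro p _ hd P
    obtain ⟨P', hP'⟩ := (P.isPGroup'.map H.subtype).exists_le_sylow
    refine ⟨P', hP'.antisymm' ?_⟩
    by_contra hne
    set Pm := (P : Subgroup H).map H.subtype with hPm
    haveI : Group.IsNilpotent ↥(P' : Subgroup G) := P'.isPGroup'.isNilpotent
    have hlt : Pm.subgroupOf (P' : Subgroup G) < ⊤ := lt_top_iff_ne_top.2 fun e =>
      hne (Subgroup.subgroupOf_eq_top.1 e)
    obtain ⟨x, hx, hxn⟩ := SetLike.exists_of_lt (Group.normalizerCondition_of_isNilpotent _ hlt)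
    have hxN : (x : G) ∈ normalizer (Pm : Set G) := by
      refine Subgroup.mem_normalizer_iff.2 fun z => ?_
      constructor
      · intro hz
        exact (Subgroup.mem_normalizer_iff.1 hx ⟨z, hP' hz⟩).1 hz
      · intro hz
        have hzP : z ∈ (P' : Subgroup G) := by
          have := (P' : Subgroup G).mul_mem ((P' : Subgroup G).mul_mem ((P' : Subgroup G).inv_mem x.2)
            (hP' hz)) x.2
          rwa [show (x : G)⁻¹ * (x * z * (x : G)⁻¹) * x = z by group] at this
        exact (Subgroup.mem_normalizer_iff.1 hx ⟨z, hzP⟩).2 hz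
    rw [hnorm p Fact.out hd P] at hxN
    -- `x` generates a larger `p`-subgroup of `H`
    have hle : Pm ⊔ zpowers (x : G) ≤ H ⊓ (P' : Subgroup G) :=
      sup_le (le_inf (map_subtype_le _) hP') (zpowers_le.2 ⟨hxN, x.2⟩)
    have hQ : IsPGroup p ↥((Pm ⊔ zpowers (x : G)).subgroupOf H) :=
      (P'.isPGroup'.to_le (hle.trans inf_le_right)).comap_of_injective H.subtype H.subtype_injective
    have h3 := P.3 hQ (by
      intro z hz
      exact Subgroup.mem_subgroupOf.2 (mem_sup_left ⟨z, hz, rfl⟩))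
    refine hxn (Subgroup.mem_subgroupOf.2 ⟨⟨x, hxN⟩, ?_, rfl⟩)
    show (⟨(x : G), hxN⟩ : H) ∈ (P : Subgroup H)
    rw [← h3]
    exact Subgroup.mem_subgroupOf.2 (mem_sup_right (mem_zpowers (x : G)))
  -- `H` has at least two primes
  have hfull : ∀ p : ℕ, p.Prime → ∀ P : Sylow p H, (P : Subgroup H) = ⊤ → False := by
    intro p hp P hP
    haveI := Fact.mk hp
    by_cases hd : p ∣ Nat.card H
    · obtain ⟨P', hP'⟩ := hSyl p hd P
      exact hnot p hp P' (hP'.trans (by rw [hP, ← MonoidHom.range_eq_map, range_subtype]))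
    · -- then `H` is trivial
      have hH : H = ⊥ := by
        rw [← Subgroup.card_eq_one]
        obtain ⟨k, hk⟩ := IsPGroup.iff_card.1 P.isPGroup'
        rw [hP, Subgroup.card_top] at hk
        rcases Nat.eq_zero_or_pos k with h0 | h0
        · rw [hk, h0, pow_zero]
        · exact absurd (hk ▸ dvd_pow_self p h0.ne') hd
      obtain ⟨q, hq, hqp⟩ := Nat.exists_infinite_primes (Nat.card G + 1)
      haveI := Fact.mk hqp
      obtain ⟨P'⟩ : Nonempty (Sylow q G) := inferInstance
      refine hnot q hqp P' ?_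
      rw [hH, ← Subgroup.card_eq_one]
      obtain ⟨k, hk⟩ := IsPGroup.iff_card.1 P'.isPGroup'
      rcases Nat.eq_zero_or_pos k with h0 | h0
      · rw [hk, h0, pow_zero]
      · have := Nat.le_of_dvd Nat.card_pos ((hk ▸ dvd_pow_self q h0.ne').trans (card_subgroup_dvd_card _))
        omega
  -- every prime of `H` has a normal complement
  have hnpc : ∀ p : (Nat.card H).primeFactors, ∃ (P : Sylow p.1 G) (N : Subgroup G),
      (P : Subgroup G) ≤ H ∧ N.Normal ∧ N.IsComplement' (P : Subgroup G) := by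
    rintro ⟨p, hp⟩
    obtain ⟨hpp, hd, -⟩ := Nat.mem_primeFactors.1 hp
    haveI := Fact.mk hpp
    obtain ⟨P⟩ : Nonempty (Sylow p H) := inferInstance
    obtain ⟨P', hP'⟩ := hSyl p hd P
    -- another prime
    obtain ⟨q, hq, hdq, hqp⟩ : ∃ q, q.Prime ∧ q ∣ Nat.card H ∧ q ≠ p := by
      by_contra hno
      push Not at hno
      refine hfull p hpp P (eq_top_of_card_eq _ ?_)
      rw [P.card_eq_multiplicity]
      have h := Nat.prod_factorization_pow_eq_self (n := Nat.card H) Nat.card_pos.ne'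
      conv_rhs => rw [← h]
      rw [Finsupp.prod, Finset.prod_eq_single p]
      · intro b hb hbp
        rw [Nat.support_factorization] at hb
        exact absurd (hno b (Nat.mem_primeFactors.1 hb).1 (Nat.mem_primeFactors.1 hb).2.1) hbp
      · intro hb
        rw [Finsupp.notMem_support_iff.1 hb, pow_zero]
    haveI := Fact.mk hq
    obtain ⟨Q⟩ : Nonempty (Sylow q H) := inferInstance
    obtain ⟨Q', hQ'⟩ := hSyl q hdq Q
    have hNQ := hnorm q hq hdq Q
    rw [← hQ'] at hNQ
    have hPH : (P' : Subgroup G) ≤ H := hP' ▸ map_subtype_le _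
    have hQH : (Q' : Subgroup G) ≤ H := hQ' ▸ map_subtype_le _
    -- both are normal in `H`, so commute
    have hPn : H ≤ normalizer ((P' : Subgroup G) : Set G) := by rw [hP', hnorm p hpp hd P]
    have hQn : H ≤ normalizer ((Q' : Subgroup G) : Set G) := hNQ.ge
    have hcomm : ∀ a ∈ (P' : Subgroup G), ∀ b ∈ (Q' : Subgroup G), a * b = b * a := by
      intro a ha b hb
      have h1 : a * b * a⁻¹ * b⁻¹ ∈ (P' : Subgroup G) := by
        rw [mul_assoc, mul_assoc, ← mul_assoc b]
        exact mul_mem ha ((mem_normalizer_iff.1 (hPn (hQH hb)) _).1 (inv_mem ha))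
      have h2 : a * b * a⁻¹ * b⁻¹ ∈ (Q' : Subgroup G) :=
        mul_mem ((mem_normalizer_iff.1 (hQn (hPH ha)) _).1 hb) (inv_mem hb)
      have h3 : a * b * a⁻¹ * b⁻¹ ∈ (P' : Subgroup G) ⊓ (Q' : Subgroup G) := ⟨h1, h2⟩
      rw [disjoint_iff.1 (IsPGroup.disjoint_of_ne p q hqp.symm _ _ P'.isPGroup' Q'.isPGroup'),
        mem_bot, mul_inv_eq_one, mul_inv_eq_iff_eq_mul] at h3
      exact h3
    obtain ⟨P'', N, hN, hc⟩ := Fusion.Alperin.npc_of_frobenius P' fun R hR g hg hgp => by
      -- a Sylow `q`-subgroup centralises `R`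
      set C := centralizer (R : Set G) with hC
      set L := normalizer (R : Set G) with hL
      have hQC : (Q' : Subgroup G) ≤ C := fun b hb => mem_centralizer_iff.2 fun r hr =>
        hcomm r (hR hr) b hb
      have hgC : MulAut.conj g • (Q' : Subgroup G) ≤ C := by
        rintro _ ⟨b, hb, rfl⟩
        refine mem_centralizer_iff.2 fun r hr => ?_
        have hr' : g⁻¹ * r * g ∈ R := by
          have := (mem_normalizer_iff.1 (inv_mem hg) r).1 hr
          rwa [inv_inv] at this
        have h5 := mem_centralizer_iff.1 (hQC hb) _ hr'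
        show r * (g * b * g⁻¹) = g * b * g⁻¹ * r
        calc r * (g * b * g⁻¹) = g * ((g⁻¹ * r * g) * b) * g⁻¹ := by group
          _ = g * (b * (g⁻¹ * r * g)) * g⁻¹ := by rw [h5]
          _ = g * b * g⁻¹ * r := by group
      obtain ⟨c, hc⟩ := MulAction.exists_smul_eq C (Q'.subtype hQC)
        ((g • Q').subtype (by rw [Sylow.coe_subgroup_smul]; exact hgC))
      have hc' := congrArg (fun T : Sylow q C => (T : Subgroup C).map C.subtype) hc
      simp only [Sylow.coe_subgroup_smul, Sylow.coe_subtype, map_subtype_conj_smul] at hc'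
      rw [map_subgroupOf_eq_of_le hQC, map_subgroupOf_eq_of_le hgC] at hc'
      have hn : (c : G)⁻¹ * g ∈ H := by
        rw [← hNQ]
        refine Subgroup.mem_normalizer_iff_map_conj_eq.2 ?_
        show MulAut.conj ((c : G)⁻¹ * g) • (Q' : Subgroup G) = (Q' : Subgroup G)
        rw [← conj_smul_conj_smul, ← hc', conj_smul_conj_smul, inv_mul_cancel,
          map_one, one_smul]
      -- the action on `R` is that of a `p`-element
      set n := (c : G)⁻¹ * g
      have hnR : n ∈ L := mul_mem (inv_mem (Subgroup.centralizer_le_normalizer _ c.2)) hg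
      haveI hCn : (C.subgroupOf L).Normal := (normal_subgroupOf_iff_le_normalizer
        (Subgroup.centralizer_le_normalizer _)).2 fun x hx => Subgroup.mem_normalizer_iff.2 fun z => by
          have key : ∀ x ∈ L, ∀ z ∈ C, x * z * x⁻¹ ∈ C := fun x hx z hz =>
            mem_centralizer_iff.2 fun r hr => by
              have hr' : x⁻¹ * r * x ∈ R := by
                have := (mem_normalizer_iff.1 (inv_mem hx) r).1 hr
                rwa [inv_inv] at this
              have h5 := mem_centralizer_iff.1 hz _ hr'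
              calc r * (x * z * x⁻¹) = x * ((x⁻¹ * r * x) * z) * x⁻¹ := by group
                _ = x * (z * (x⁻¹ * r * x)) * x⁻¹ := by rw [h5]
                _ = x * z * x⁻¹ * r := by group
          exact ⟨key x hx z, fun h => by
            have := key x⁻¹ (inv_mem hx) _ h
            rwa [show x⁻¹ * (x * z * x⁻¹) * x⁻¹⁻¹ = z by group] at this⟩
      let mk := QuotientGroup.mk' (C.subgroupOf L)
      -- the image of `g` in `N(R)/C(R)` is the image of `n`, a power of which is an element of `P'`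
      have hgn : mk ⟨g, hg⟩ = mk ⟨n, hnR⟩ := by
        refine (QuotientGroup.eq.2 ?_).symm
        show ((c : G)⁻¹ * g)⁻¹ * g ∈ C
        rw [mul_inv_rev, inv_inv]
        have hcC : (c : G) ∈ C := c.2
        have := (hCn.conj_mem ⟨(c : G), Subgroup.centralizer_le_normalizer _ hcC⟩ hcC
          ⟨g⁻¹, inv_mem hg⟩)
        have h6 : g⁻¹ * c * g⁻¹⁻¹ ∈ C := this
        rwa [inv_inv] at h6
      obtain ⟨t, ht, htn⟩ : ∃ t, t.Coprime p ∧ (mk ⟨n, hnR⟩) ^ t = 1 :=
        ⟨orderOf g, hgp, by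
          rw [← hgn, ← map_pow, show (⟨g, hg⟩ : L) ^ orderOf g = 1 from
            Subtype.ext (pow_orderOf_eq_one g), map_one]⟩
      -- `n` modulo the centraliser has `p`-power order
      obtain ⟨e, u, hu, hou⟩ := Nat.exists_eq_pow_mul_and_not_dvd (orderOf_pos n).ne' p hpp.ne_one
      have hnpe : n ^ p ^ e ∈ C := by
        -- a `p'`-element of `H` centralises the Sylow subgroup
        have hord : orderOf (n ^ p ^ e) = u := by
          rw [orderOf_pow_of_dvd (pow_ne_zero e hpp.ne_zero) (hou ▸ dvd_mul_right _ _), hou,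
            Nat.mul_div_cancel_left _ (pow_pos hpp.pos e)]
        refine mem_centralizer_iff.2 fun r hr => ?_
        have hnilH : Group.IsNilpotent H := by
          refine ((Group.isNilpotent_of_finite_tfae (G := H)).out 0 3 rfl rfl).mpr fun s hs T => ?_
          by_cases hds : s ∣ Nat.card H
          · obtain ⟨T', hT'⟩ := hSyl s hds T
            refine ⟨fun x hx h => ?_⟩
            have h7 : (h : G) ∈ normalizer (((T : Subgroup H).map H.subtype : Subgroup G) : Set G) := by
              rw [hnorm s hs.out hds T]; exact h.2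
            obtain ⟨y, hy, hye⟩ := (mem_normalizer_iff.1 h7 _).1 (Subgroup.mem_map_of_mem H.subtype hx)
            rwa [show h * x * h⁻¹ = y from Subtype.ext hye.symm]
          · have : (T : Subgroup H) = ⊥ := by
              rw [← Subgroup.card_eq_one]
              obtain ⟨k, hk⟩ := IsPGroup.iff_card.1 T.isPGroup'
              rcases Nat.eq_zero_or_pos k with h0 | h0
              · rw [hk, h0, pow_zero]
              · exact absurd ((hk ▸ dvd_pow_self s h0.ne').trans (card_subgroup_dvd_card _)) hds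
            rw [this]; infer_instance
        haveI := hnilH
        refine (OddOrder.Basic.commute_of_mem_nilpotent (K := H) (hPH (hR hr)) (pow_mem hn _) ?_)
        obtain ⟨k, hk⟩ := P'.isPGroup' ⟨r, hR hr⟩
        rw [hord]
        exact (((hpp.coprime_iff_not_dvd).2 hu).pow_left k).coprime_dvd_left
          (orderOf_dvd_of_pow_eq_one (congrArg Subtype.val hk))
      have h8 : (mk ⟨n, hnR⟩) ^ p ^ e = 1 := by
        rw [← map_pow]; exact (QuotientGroup.eq_one_iff _).2 hnpe
      have h9 := pow_gcd_eq_one.2 ⟨h8, htn⟩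
      rw [((ht.pow_right e).symm).gcd_eq_one, pow_one, ← hgn] at h9
      exact Subgroup.mem_subgroupOf.1 ((QuotientGroup.eq_one_iff _).1 h9)
    obtain ⟨w, hw⟩ := MulAction.exists_smul_eq G P'' P'
    refine ⟨P', N, hPH, hN, ?_⟩
    refine Subgroup.isComplement'_of_coprime (?_ : Nat.card N * Nat.card P' = Nat.card G) ?_
    · rw [← hc.card_mul_card, ← hw, Sylow.coe_subgroup_smul]
      congr 1
      exact card_conj_smul w _
    · rw [← hc.index_eq_card, P'.card_eq_multiplicity]
      exact ((hpp.coprime_iff_not_dvd.2 P''.not_dvd_index).symm).pow_right _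
  choose P N hPH hNn hNc using hnpc
  refine ⟨⨅ p, N p, ⟨fun x hx g => ?_⟩, ?_⟩
  · rw [mem_iInf] at hx ⊢
    exact fun p => (hNn p).conj_mem x (hx p) g
  have hidx : ∀ p, (N p).index = Nat.card (P p) := fun p => (hNc p).symm.index_eq_card
  have hinf : ∀ p, ¬ p.1 ∣ Nat.card (N p) := fun p => by
    haveI := Fact.mk (Nat.mem_primeFactors.1 p.2).1
    rw [← (hNc p).index_eq_card]
    exact (P p).not_dvd_index
  have hdisj : Disjoint (⨅ p, N p) H := by
    rw [disjoint_iff]
    rw [← Subgroup.card_eq_one]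
    refine Nat.eq_one_iff_not_exists_prime_dvd.2 fun s hs hd => ?_
    have h1 : s ∣ Nat.card H := hd.trans (card_dvd_of_le inf_le_right)
    exact hinf ⟨s, Nat.mem_primeFactors.2 ⟨hs, h1, Nat.card_pos.ne'⟩⟩
      (hd.trans (card_dvd_of_le (inf_le_left.trans (iInf_le _ _))))
  refine Subgroup.isComplement'_of_disjoint_and_mul_eq_univ hdisj ?_
  haveI : (⨅ p, N p).Normal := ⟨fun x hx g => by
    rw [mem_iInf] at hx ⊢
    exact fun p => (hNn p).conj_mem x (hx p) g⟩
  rw [← Subgroup.normal_mul]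
  rw [Subgroup.coe_eq_univ]
  -- orders
  have hcard : (⨅ p, N p).index ∣ Nat.card H := by
    have h1 : (⨅ p, N p).index ≤ ∏ p, (N p).index := index_iInf_le N
    have h2 : ∏ p, (N p).index = Nat.card H := by
      calc ∏ p, (N p).index = ∏ p : (Nat.card H).primeFactors, p.1 ^ (Nat.card H).factorization p.1 := by
            refine Finset.prod_congr rfl fun p _ => ?_
            haveI := Fact.mk (Nat.mem_primeFactors.1 p.2).1
            rw [hidx]
            obtain ⟨T⟩ : Nonempty (Sylow p.1 H) := inferInstance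
            obtain ⟨T', hT'⟩ := hSyl p.1 (Nat.mem_primeFactors.1 p.2).2.1 T
            rw [(P p).card_eq_multiplicity, ← T'.card_eq_multiplicity, hT',
              Subgroup.card_map_of_injective H.subtype_injective, T.card_eq_multiplicity]
        _ = Nat.card H := by
            rw [Finset.prod_coe_sort (Nat.card H).primeFactors fun p => p ^ (Nat.card H).factorization p,
              ← Nat.prod_factorization_eq_prod_primeFactors]
            exact Nat.prod_factorization_pow_eq_self Nat.card_pos.ne'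
    have h3 : Nat.card H ≤ (⨅ p, N p).index := by
      have := Subgroup.index_ne_zero_of_finite (H := ⨅ p, N p)
      have h4 : Nat.card ↥H = (⨅ p, N p).relIndex H := by
        rw [← Subgroup.inf_relIndex_right, hdisj.eq_bot, Subgroup.relIndex_bot_left]
      refine h4.le.trans ?_
      exact Nat.le_of_dvd (Nat.pos_of_ne_zero this) (Subgroup.relIndex_dvd_index_of_normal _ _)
    rw [le_antisymm (h1.trans h2.le) h3]
  refine eq_top_of_card_eq _ (Nat.dvd_antisymm (card_subgroup_dvd_card _) ?_)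
  have h5 := card_sup_of_disjoint (⨅ p, N p) H hdisj.eq_bot
  rw [sup_comm, h5, ← (⨅ p, N p).card_mul_index, mul_comm (Nat.card H)]
  exact mul_dvd_mul_left _ hcard

/-- A product of two abelian groups has a nontrivial normal subgroup inside one of them. -/
theorem exists_normal_le [Nontrivial G] (A B : Subgroup G) [IsMulCommutative A] [IsMulCommutative B]
    (hAB : ∀ g : G, ∃ a ∈ A, ∃ b ∈ B, g = a * b) :
    ∃ N : Subgroup G, N.Normal ∧ N ≠ ⊥ ∧ (N ≤ A ∨ N ≤ B) := by
  classical
  have cA := isMulCommutative_subgroup_iff.mp (inferInstance : IsMulCommutative A)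
  have cB := isMulCommutative_subgroup_iff.mp (inferInstance : IsMulCommutative B)
  have hcen : ∀ x : G, (∀ a ∈ A, a * x = x * a) → (∀ b ∈ B, b * x = x * b) → x ∈ center G := by
    intro x hxa hxb
    refine mem_center_iff.2 fun g => ?_
    obtain ⟨a, ha, b, hb, rfl⟩ := hAB g
    rw [mul_assoc, hxb b hb, ← mul_assoc, hxa a ha, mul_assoc]
  have hzn : ∀ x ∈ center G, (zpowers x).Normal := fun x hx => ⟨fun y hy g => by
    rw [mem_center_iff.1 (zpowers_le.2 hx hy) g, mul_inv_cancel_right]; exact hy⟩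
  by_cases hZ : center G = ⊥
  swap
  · obtain ⟨z, hz, hz1⟩ := (center G).bot_or_exists_ne_one.resolve_left hZ
    obtain ⟨a, ha, b, hb, rfl⟩ := hAB z
    have hzc := mem_center_iff.1 hz
    have hbA : ∀ a' ∈ A, a' * b = b * a' := fun a' ha' => by
      have h := hzc a'
      rw [← mul_assoc, cA a' ha' a ha, mul_assoc, mul_assoc] at h
      exact mul_left_cancel h
    have hbc : b ∈ center G := hcen b hbA fun b' hb' => cB b' hb' b hb
    have hac : a ∈ center G := by
      have := mul_mem hz (inv_mem hbc)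
      rwa [mul_inv_cancel_right] at this
    by_cases ha1 : a = 1
    · exact ⟨zpowers b, hzn b hbc, fun h => hz1 (by rw [ha1, zpowers_eq_bot.1 h, one_mul]),
        Or.inr (zpowers_le.2 hb)⟩
    · exact ⟨zpowers a, hzn a hac, fun h => ha1 (zpowers_eq_bot.1 h), Or.inl (zpowers_le.2 ha)⟩
  -- trivial centre
  have hAB1 : ∀ x, x ∈ A → x ∈ B → x = 1 := fun x hxA hxB => by
    have := hcen x (fun a ha => cA a ha x hxA) (fun b hb => cB b hb x hxB)
    rwa [hZ, mem_bot] at this
  set D := commutator G with hD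
  have hDc : ∀ x ∈ D, ∀ y ∈ D, x * y = y * x := by
    intro x hx y hy
    have h2 := Ito.derivedSeries_two_eq_bot A B inferInstance inferInstance hAB
    rw [← commutatorElement_eq_one_iff_mul_comm, ← mem_bot, ← h2]
    rw [show derivedSeries G 2 = ⁅derivedSeries G 1, derivedSeries G 1⁆ from rfl, derivedSeries_one]
    exact commutator_mem_commutator hx hy
  have hDmem : ∀ x y : G, ⁅x, y⁆ ∈ D := fun x y => commutator_mem_commutator (mem_top x) (mem_top y)
  haveI : D.Normal := inferInstance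
  set H := (A ⊔ D) ⊓ (B ⊔ D) with hH
  haveI hHn : H.Normal := by
    have h1 : (A ⊔ D).Normal := Subgroup.Normal.of_commutator_le _ le_sup_right
    have h2 : (B ⊔ D).Normal := Subgroup.Normal.of_commutator_le _ le_sup_right
    exact Subgroup.normal_inf_normal _ _
  have hDH : D ≤ H := le_inf le_sup_right le_sup_right
  have hsplit : ∀ h ∈ H, ∀ a ∈ A, ∀ b ∈ B, h = a * b → a ∈ H ∧ b ∈ H := by
    rintro h ⟨hA', hB'⟩ a ha b hb rfl
    have hb' : b ∈ H := ⟨by simpa [← mul_assoc] using mul_mem (inv_mem (mem_sup_left ha)) hA',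
      mem_sup_left hb⟩
    exact ⟨by simpa using mul_mem (show a * b ∈ H from ⟨hA', hB'⟩) (inv_mem hb'), hb'⟩
  -- the maps `g ↦ [a, g]` on the derived group
  let f : G → D → D := fun a g => ⟨⁅a, (g : G)⁆, hDmem _ _⟩
  have hfhom : ∀ a x y, f a (x * y) = f a x * f a y := fun a x y => Subtype.ext (by
    show ⁅a, (x : G) * y⁆ = ⁅a, (x : G)⁆ * ⁅a, (y : G)⁆
    rw [commutatorElement_def, commutatorElement_def, commutatorElement_def]
    have h1 : a * (y : G) * a⁻¹ * (y : G)⁻¹ ∈ D := hDmem a y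
    calc a * ((x : G) * y) * a⁻¹ * ((x : G) * y)⁻¹
        = a * x * a⁻¹ * ((a * y * a⁻¹ * (y : G)⁻¹) * (x : G)⁻¹) := by group
      _ = a * x * a⁻¹ * ((x : G)⁻¹ * (a * y * a⁻¹ * (y : G)⁻¹)) := by rw [hDc _ h1 _ (inv_mem x.2)]
      _ = a * x * a⁻¹ * (x : G)⁻¹ * (a * y * a⁻¹ * (y : G)⁻¹) := by group)
  have hfcomm : ∀ a ∈ A, ∀ a' ∈ A, ∀ x, f a (f a' x) = f a' (f a x) := by
    intro a ha a' ha' x
    apply Subtype.ext
    show ⁅a, ⁅a', (x : G)⁆⁆ = ⁅a', ⁅a, (x : G)⁆⁆
    have e : ∀ a ∈ A, ∀ a' ∈ A, ⁅a, ⁅a', (x : G)⁆⁆ =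
        (a * a' * x * (a * a')⁻¹) * (a * x * a⁻¹)⁻¹ * ((x : G) * (a' * x * a'⁻¹)⁻¹) := by
      intro a _ a' _; simp only [commutatorElement_def]; group
    rw [e a ha a' ha', e a' ha' a ha, cA a' ha' a ha]
    have c1 : ∀ g : G, g * x * g⁻¹ ∈ D := fun g => (inferInstance : D.Normal).conj_mem _ x.2 g
    have h3 := c1 (a * a')
    generalize a * a' * (x : G) * (a * a')⁻¹ = u at h3 ⊢
    have h1 := c1 a
    generalize a * (x : G) * a⁻¹ = v at h1 ⊢
    have h2 := c1 a'
    generalize a' * (x : G) * a'⁻¹ = w at h2 ⊢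
    have hx := x.2
    have key : v⁻¹ * ((x : G) * w⁻¹) = w⁻¹ * ((x : G) * v⁻¹) := by
      rw [hDc _ hx _ (inv_mem h2), hDc _ hx _ (inv_mem h1), ← mul_assoc, ← mul_assoc,
        hDc _ (inv_mem h1) _ (inv_mem h2)]
    rw [mul_assoc, key, mul_assoc]
  -- partners
  have hpart : ∀ a ∈ A, a ∈ H → ∃ b ∈ B, a * b ∈ D := by
    intro a _ haH
    obtain ⟨b, hb, d, hd, hbd⟩ := Subgroup.mem_sup_of_normal_right.mp haH.2
    refine ⟨b⁻¹, inv_mem hb, ?_⟩
    rw [← hbd]
    exact (inferInstance : D.Normal).conj_mem d hd b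
  have hrel : ∀ a ∈ A, ∀ b ∈ B, ∀ a' ∈ A, ∀ b' ∈ B, ∀ (h1 : a * b ∈ D) (h2 : a' * b' ∈ D),
      f a ⟨a' * b', h2⟩ = f a' ⟨a * b, h1⟩ := by
    intro a ha b hb a' ha' b' hb' h1 h2
    apply Subtype.ext
    show ⁅a, a' * b'⁆ = ⁅a', a * b⁆
    have h3 := hDc _ h1 _ h2
    rw [commutatorElement_def, commutatorElement_def]
    have e1 : a * (a' * b') * a⁻¹ * (a' * b')⁻¹ = a' * (a * b' * a⁻¹ * b'⁻¹) * a'⁻¹ := by
      calc a * (a' * b') * a⁻¹ * (a' * b')⁻¹ = (a * a') * b' * a⁻¹ * b'⁻¹ * a'⁻¹ := by group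
        _ = _ := by rw [cA a ha a' ha']; group
    have e2 : a' * (a * b) * a'⁻¹ * (a * b)⁻¹ = a * (a' * b * a'⁻¹ * b⁻¹) * a⁻¹ := by
      calc a' * (a * b) * a'⁻¹ * (a * b)⁻¹ = (a' * a) * b * a'⁻¹ * b⁻¹ * a⁻¹ := by group
        _ = _ := by rw [cA a' ha' a ha]; group
    have h4 : a * (b * a') * b' = a' * (b' * a) * b := by
      have := h3
      simp only [← mul_assoc] at this ⊢
      exact this
    rw [e1, e2]
    -- both sides through `b * a'` and `b' * a`
    have e3 : a' * (a * b' * a⁻¹ * b'⁻¹) * a'⁻¹ = (a' * a) * b' * ((b' * a))⁻¹ * a'⁻¹ := by group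
    have e4 : a * (a' * b * a'⁻¹ * b⁻¹) * a⁻¹ = (a * a') * b * ((b * a'))⁻¹ * a⁻¹ := by group
    have e5 : b' * a = a'⁻¹ * (a * (b * a') * b') * b⁻¹ := by rw [h4]; group
    rw [e3, e4, e5, cA a' ha' a ha]
    calc a * a' * b' * (a'⁻¹ * (a * (b * a') * b') * b⁻¹)⁻¹ * a'⁻¹
        = a * a' * b' * b * b'⁻¹ * (b * a')⁻¹ * a⁻¹ := by group
      _ = a * a' * (b' * b) * b'⁻¹ * (b * a')⁻¹ * a⁻¹ := by group
      _ = a * a' * (b * b') * b'⁻¹ * (b * a')⁻¹ * a⁻¹ := by rw [cB b' hb' b hb]
      _ = a * a' * b * (b * a')⁻¹ * a⁻¹ := by group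
  -- the maps are nilpotent
  have hfc : ∀ a ∈ A, ∀ a' ∈ A, ∀ k z, (f a)^[k] (f a' z) = f a' ((f a)^[k] z) := by
    intro a ha a' ha' k
    induction k with
    | zero => intro z; rfl
    | succ k ihk =>
      intro z
      rw [Function.iterate_succ_apply', ihk, hfcomm a ha a' ha', Function.iterate_succ_apply']
  have hf1 : ∀ a, f a 1 = 1 := fun a => Subtype.ext (commutatorElement_one_right a)
  have hnil : ∀ a ∈ A, a ∈ H → ∃ e, ∀ z : D, (f a)^[e] z = 1 := by
    intro a ha haH
    let F : D →* D := MonoidHom.mk' (f a) (hfhom a)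
    obtain ⟨e, he1, he2⟩ : ∃ e, 0 < e ∧ ∀ z : D, (f a)^[e] ((f a)^[e] z) = (f a)^[e] z := by
      obtain ⟨i, j, hij, he⟩ := Finite.exists_ne_map_eq_of_infinite fun k : ℕ => (f a)^[k]
      have key3 : ∀ i j : ℕ, i < j → (f a)^[i] = (f a)^[j] →
          ∃ e, 0 < e ∧ ∀ z : D, (f a)^[e] ((f a)^[e] z) = (f a)^[e] z := by
        intro i j hij he
        have hper : ∀ k ≥ i, ∀ t, (f a)^[k + t * (j - i)] = (f a)^[k] := by
          intro k hk t
          induction t with
          | zero => rw [zero_mul, add_zero]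
          | succ t iht =>
            funext z
            rw [show k + (t + 1) * (j - i) = (k - i + t * (j - i)) + j by
                  rw [add_one_mul]; omega, Function.iterate_add_apply, ← congrFun he z,
              ← Function.iterate_add_apply, show k - i + t * (j - i) + i = k + t * (j - i) by omega,
              congrFun iht z]
        have h2 : i + 1 ≤ (i + 1) * (j - i) := Nat.le_mul_of_pos_right _ (by omega)
        refine ⟨(i + 1) * (j - i), by omega, fun z => ?_⟩
        rw [← Function.iterate_add_apply]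
        exact congrFun (hper _ (by omega) (i + 1)) z
      rcases Nat.lt_or_gt_of_ne hij with h | h
      · exact key3 i j h he
      · exact key3 j i h he.symm
    obtain ⟨b, hb, hab⟩ := hpart a ha haH
    set y : D := (f a)^[e] ((f a)^[e - 1] ⟨a * b, hab⟩) with hy
    have hval : ∀ g : D, ∃ a' ∈ A, (f a)^[e] g = f a' y := by
      intro g
      obtain ⟨a₂, ha₂, b₂, hb₂, hg₂⟩ := hAB g
      refine ⟨a₂, ha₂, ?_⟩
      have h := hrel a ha b hb a₂ ha₂ b₂ hb₂ hab (hg₂ ▸ g.2)
      rw [show (⟨a₂ * b₂, hg₂ ▸ g.2⟩ : D) = g from Subtype.ext hg₂.symm] at h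
      obtain ⟨e', rfl⟩ : ∃ e', e = e' + 1 := ⟨e - 1, by omega⟩
      rw [← he2 g, Function.iterate_succ_apply (f a) e' g, h, hfc a ha a₂ ha₂, hfc a ha a₂ ha₂, hy]
      rfl
    have hy1 : y = 1 := by
      obtain ⟨a₂, ha₂, h⟩ := hval y⁻¹
      have hfix : (f a)^[e] y⁻¹ = y⁻¹ := by
        rw [show f a = ⇑F from rfl, iterate_map_inv, show ⇑F = f a from rfl, hy, he2]
      rw [hfix] at h
      have h2 : ((y : G))⁻¹ = a₂ * (y : G) * a₂⁻¹ * (y : G)⁻¹ := congrArg Subtype.val h
      apply Subtype.ext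
      rw [right_eq_mul, mul_inv_eq_one, mul_eq_left] at h2
      exact h2
    refine ⟨e, fun z => ?_⟩
    obtain ⟨a₂, ha₂, h⟩ := hval z
    rw [h, hy1, hf1]
  -- a common fixed point
  obtain ⟨W, ⟨hWne, hWinv⟩, hWmin⟩ := Set.Finite.exists_minimal
    (s := {W : Subgroup D | W ≠ ⊥ ∧ ∀ a ∈ A, a ∈ H → ∀ x ∈ W, f a x ∈ W}) (Set.toFinite _)
    ⟨⊤, fun h => by
      have h3 : D = ⊥ := by
        rw [eq_bot_iff]
        intro x hx
        have := h.le (mem_top (⟨x, hx⟩ : D))
        exact congrArg Subtype.val (mem_bot.1 this)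
      have h4 : center G = ⊤ := eq_top_iff.2 fun g _ => mem_center_iff.2 fun g' =>
        commutatorElement_eq_one_iff_mul_comm.1 (mem_bot.1 (h3.le (hDmem g' g)))
      exact top_ne_bot (h4.symm.trans hZ), fun a _ _ x _ => mem_top _⟩
  have hWfix : ∀ a ∈ A, a ∈ H → ∀ x ∈ W, f a x = 1 := by
    intro a ha haH
    set K : Subgroup D := W ⊓ (MonoidHom.mk' (f a) (hfhom a)).ker with hK
    have hKne : K ≠ ⊥ := by
      obtain ⟨x, hx, hx1⟩ := W.bot_or_exists_ne_one.resolve_left hWne
      obtain ⟨e, he⟩ := hnil a ha haH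
      have hmem : ∀ k, (f a)^[k] x ∈ W := by
        intro k
        induction k with
        | zero => exact hx
        | succ k ihk => rw [Function.iterate_succ_apply']; exact hWinv a ha haH _ ihk
      have hex : ∃ n, (f a)^[n] x = 1 := ⟨e, he x⟩
      have hspec := Nat.find_spec hex
      obtain ⟨m, hm⟩ : ∃ m, Nat.find hex = m + 1 := by
        refine ⟨Nat.find hex - 1, (Nat.succ_pred_eq_of_pos (Nat.pos_of_ne_zero fun h => ?_)).symm⟩
        rw [h] at hspec
        exact hx1 hspec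
      intro hK'
      have hmK : (f a)^[m] x ∈ K := by
        refine ⟨hmem m, ?_⟩
        show f a ((f a)^[m] x) = 1
        rw [← Function.iterate_succ_apply' (f a) m x, Nat.succ_eq_add_one, ← hm]
        exact hspec
      rw [hK', mem_bot] at hmK
      exact Nat.find_min hex (by omega) hmK
    have hle : W ≤ K := hWmin ⟨hKne, fun a' ha' ha'H x hx => ⟨hWinv a' ha' ha'H x hx.1, by
      show f a (f a' x) = 1
      rw [hfcomm a ha a' ha', show f a x = 1 from hx.2, hf1]⟩⟩ inf_le_left
    exact fun x hx => (hle hx).2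
  obtain ⟨z, hz, hz1⟩ := W.bot_or_exists_ne_one.resolve_left hWne
  have hzA : ∀ a ∈ A, a ∈ H → a * z = (z : G) * a := fun a ha haH =>
    commutatorElement_eq_one_iff_mul_comm.1 (congrArg Subtype.val (hWfix a ha haH z hz))
  have hzB : ∀ b ∈ B, b ∈ H → b * z = (z : G) * b := by
    intro b hb hbH
    obtain ⟨a, ha, d, hd, rfl⟩ := Subgroup.mem_sup_of_normal_right.mp hbH.1
    have haH : a ∈ H := by
      have := mul_mem hbH (inv_mem (hDH hd))
      rwa [mul_inv_cancel_right] at this
    rw [mul_assoc, hDc d hd _ z.2, ← mul_assoc, hzA a ha haH, mul_assoc]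
  obtain ⟨x, hx, y, hy, hxy⟩ := hAB z
  obtain ⟨hxH, hyH⟩ := hsplit _ (hDH z.2) x hx y hy hxy
  have hyc : ∀ h ∈ H, h * y = y * h := by
    intro h hh
    obtain ⟨a, ha, b, hb, rfl⟩ := hAB h
    obtain ⟨haH, -⟩ := hsplit _ hh a ha b hb rfl
    have h1 : a * y = y * a := by
      have := hzA a ha haH
      rw [hxy, ← mul_assoc, cA a ha x hx, mul_assoc, mul_assoc] at this
      exact mul_left_cancel this
    rw [mul_assoc, cB b hb y hy, ← mul_assoc, h1, mul_assoc]
  have hxc : ∀ h ∈ H, h * x = x * h := by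
    intro h hh
    obtain ⟨a, ha, b, hb, rfl⟩ := hAB h
    obtain ⟨-, hbH⟩ := hsplit _ hh a ha b hb rfl
    have h1 : b * x = x * b := by
      have := hzB b hb hbH
      rw [hxy, ← mul_assoc, mul_assoc x y b, ← cB b hb y hy, ← mul_assoc] at this
      exact mul_right_cancel this
    rw [mul_assoc, h1, ← mul_assoc, cA a ha x hx, mul_assoc]
  have hnormal : ∀ A' : Subgroup G, (H ⊓ centralizer (H : Set G) ⊓ centralizer (A' : Set G)).Normal := by
    intro A'
    refine ⟨fun u hu g => ⟨⟨hHn.conj_mem u hu.1.1 g, ?_⟩, ?_⟩⟩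
    · refine mem_centralizer_iff.2 fun h hh => ?_
      have h5 := mem_centralizer_iff.1 hu.1.2 _ (by simpa using hHn.conj_mem h hh g⁻¹)
      calc h * (g * u * g⁻¹) = g * ((g⁻¹ * h * g) * u) * g⁻¹ := by group
        _ = g * (u * (g⁻¹ * h * g)) * g⁻¹ := by rw [h5]
        _ = g * u * g⁻¹ * h := by group
    · refine mem_centralizer_iff.2 fun a ha => ?_
      have h6 := mem_centralizer_iff.1 hu.1.2 _ (hDH (hDmem a⁻¹ g⁻¹))
      have h7 := mem_centralizer_iff.1 hu.2 a ha
      have h8 : a * ⁅a⁻¹, g⁻¹⁆ * u = u * (a * ⁅a⁻¹, g⁻¹⁆) := by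
        rw [mul_assoc, h6, ← mul_assoc, h7, mul_assoc]
      calc a * (g * u * g⁻¹) = g * (a * ⁅a⁻¹, g⁻¹⁆ * u) * g⁻¹ := by rw [commutatorElement_def]; group
        _ = g * (u * (a * ⁅a⁻¹, g⁻¹⁆)) * g⁻¹ := by rw [h8]
        _ = g * u * g⁻¹ * a := by rw [commutatorElement_def]; group
  by_cases hx1 : x = 1
  · refine ⟨_, hnormal B, fun h => hz1 (Subtype.ext ?_), Or.inr fun u hu => ?_⟩
    · have : y ∈ (⊥ : Subgroup G) := h ▸ ⟨⟨hyH, mem_centralizer_iff.2 hyc⟩,
        mem_centralizer_iff.2 fun b hb => cB b hb y hy⟩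
      rw [hxy, hx1, mem_bot.1 this, one_mul]
      rfl
    · obtain ⟨a, ha, b, hb, rfl⟩ := hAB u
      have : a ∈ center G := hcen a (fun a' ha' => cA a' ha' a ha) fun b' hb' => by
        have := mem_centralizer_iff.1 hu.2 b' hb'
        rw [← mul_assoc, mul_assoc a b b', cB b hb b' hb', ← mul_assoc] at this
        exact mul_right_cancel this
      rw [hZ, mem_bot] at this
      rw [this, one_mul]
      exact hb
  · refine ⟨_, hnormal A, fun h => hx1 (mem_bot.1 (h ▸ ⟨⟨hxH, mem_centralizer_iff.2 hxc⟩,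
      mem_centralizer_iff.2 fun a ha => cA a ha x hx⟩)), Or.inl fun u hu => ?_⟩
    obtain ⟨a, ha, b, hb, rfl⟩ := hAB u
    have : b ∈ center G := hcen b (fun a' ha' => by
      have := mem_centralizer_iff.1 hu.2 a' ha'
      rw [← mul_assoc, cA a' ha' a ha, mul_assoc, mul_assoc] at this
      exact mul_left_cancel this) fun b' hb' => cB b' hb' b hb
    rw [hZ, mem_bot] at this
    rw [this, mul_one]
    exact ha

end CfsgLib.Solvable.FactorisedSmall
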