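import Mathlib

/-!
Fixed points of a `2`-subgroup on a characteristic two module, through the eigencharacters of an
abelian normal subgroup of odd order.
-/

set_option autoImplicit false

namespace CfsgLib.Solvable.FixedOrbits

open scoped TensorProduct

variable {S : Type*} [Group S] [Finite S]

/-- A `2`-group acting linearly in characteristic two fixes a nonzero vector in every nonzero
invariant subspace. -/
theorem exists_fixed {T V : Type*} [Group T] [Finite T] [AddCommGroup V] [Module (ZMod 2) V]
    (hT : IsPGroup 2 T) (σ : Representation (ZMod 2) T V) (W : Submodule (ZMod 2) V)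
    (hW : ∀ t, ∀ w ∈ W, σ t w ∈ W) {w : V} (hw : w ∈ W) (hw0 : w ≠ 0) :
    ∃ v ∈ W, v ≠ 0 ∧ ∀ t, σ t v = v := by
  classical
  set M : Submodule (ZMod 2) V := Submodule.span (ZMod 2) (Set.range fun t => σ t w) with hM
  have hMinv : ∀ t, ∀ v ∈ M, σ t v ∈ M := by
    intro t v hv
    have hle : M ≤ M.comap (σ t) := by
      rw [hM, Submodule.span_le]
      rintro _ ⟨u, rfl⟩
      show σ t (σ u w) ∈ M
      rw [← Module.End.mul_apply, ← map_mul]
      exact Submodule.subset_span ⟨t * u, rfl⟩
    exact hle hv
  have hMW : M ≤ W := Submodule.span_le.mpr (by rintro _ ⟨u, rfl⟩; exact hW u w hw)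
  have hwM : w ∈ M := Submodule.subset_span ⟨1, by simp⟩
  haveI : Module.Finite (ZMod 2) M := Module.Finite.span_of_finite (ZMod 2) (Set.finite_range _)
  haveI : Finite M := Module.finite_of_finite (ZMod 2)
  haveI : Nontrivial M := ⟨⟨⟨w, hwM⟩, 0, fun h => hw0 (congrArg Subtype.val h)⟩⟩
  let _ : MulAction T M :=
    { smul := fun t v => ⟨σ t v, hMinv t v v.2⟩
      one_smul := fun v => Subtype.ext (by show σ 1 (v : V) = v; simp)
      mul_smul := fun t u v => Subtype.ext (by
        show σ (t * u) (v : V) = σ t (σ u v)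
        rw [map_mul]; rfl) }
  haveI : Fact (Nat.Prime 2) := ⟨Nat.prime_two⟩
  have hd : 2 ∣ Nat.card M := by
    rw [Module.natCard_eq_pow_finrank (K := ZMod 2) (V := M), Nat.card_zmod]
    exact dvd_pow_self 2 (Module.finrank_pos (R := ZMod 2) (M := M)).ne'
  obtain ⟨v, hv, hv0⟩ := hT.exists_fixed_point_of_prime_dvd_card_of_fixed_point
    (α := M) hd (a := 0) (fun t => Subtype.ext (map_zero (σ t)))
  exact ⟨v, hMW v.2, fun h => hv0 (Subtype.ext h.symm), fun t => congrArg Subtype.val (hv t)⟩

/-- The action of the group on the characters of a normal subgroup. -/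
@[reducible] def charAction (A : Subgroup S) [A.Normal] (k : Type*) [CommMonoid k] :
    MulAction S (A →* k) where
  smul g l := l.comp (MulAut.conjNormal g⁻¹ : A ≃* A).toMonoidHom
  one_smul l := by
    refine MonoidHom.ext fun a => ?_
    show l _ = l a
    simp
  mul_smul g g' l := by
    refine MonoidHom.ext fun a => ?_
    show l _ = l _
    congr 1
    simp [mul_inv_rev, map_mul, MulAut.mul_apply]

end CfsgLib.Solvable.FixedOrbits
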