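import Cfsg.Agent.Lib.Solvable.SupersolvableCriteria

/-!
Huppert's criterion, the converse of Lagrange in all subgroups, conjugacy of supersolvable
Hall subgroups.
-/

open scoped Pointwise commutatorElement
set_option linter.style.haveILetI false

namespace CfsgLib.Solvable.Huppert

open CfsgLib.Solvable.Basic CfsgLib.Solvable.Supersolvable CfsgLib.Solvable.SupersolvableCriteria
open CfsgLib.Solvable.Cores CfsgLib.Solvable.FrattiniFitting

universe u

theorem huppert_aux : ∀ (N : ℕ) (G : Type u) [Group G] [Finite G], Nat.card G = N →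
    (∀ M : Subgroup G, IsCoatom M → M.index.Prime) → Cfsg.IsSupersolvable G := by
  intro n
  induction n using Nat.strong_induction_on with
  | _ n ih =>
    intro G _ _ hn hmax
    rcases subsingleton_or_nontrivial G with hs | hs
    · exact of_subsingleton
    haveI := solvable_of_max_index_aux _ G rfl hmax
    obtain ⟨N, p, hp, hNn, hN, -, hNc, hNp, hNmin⟩ :=
      exists_minimal_normal_pgroup (H := (⊤ : Subgroup G)) top_ne_bot
    haveI := hNn
    haveI := Fact.mk hp
    have hexp : ∀ x ∈ N, x ^ p = 1 := by
      obtain ⟨-, q, hq, hexp, -⟩ := minimal_normal_solvable N hN hNmin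
      obtain ⟨x, hx, hx1⟩ := (Subgroup.bot_or_exists_ne_one N).resolve_left hN
      have hxq : orderOf x = q := @orderOf_eq_prime _ _ x q (Fact.mk hq) (hexp x hx) hx1
      obtain ⟨k, hk⟩ := IsPGroup.iff_orderOf.mp hNp ⟨x, hx⟩
      rw [← Subgroup.orderOf_coe, hxq] at hk
      have : q = p := (Nat.prime_dvd_prime_iff_eq hq hp).mp (hq.dvd_of_dvd_pow hk.dvd)
      exact this ▸ hexp
    have hquot : ∀ M : Subgroup G, [M.Normal] → M ≠ ⊥ → Cfsg.IsSupersolvable (G ⧸ M) :=
      fun M _ hM => ih _ (hn ▸ card_quotient_lt M hM) (G ⧸ M) rfl (max_index_quotient hmax M)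
    have hN' : Cfsg.IsSupersolvable (G ⧸ N) := hquot N hN
    by_cases hprime : (Nat.card N).Prime
    · haveI := isCyclic_of_prime_card_subgroup hprime
      exact of_isCyclic_normal N hN'
    have hNΦ : N ≤ frattini G := by
      refine le_iInf₂ fun M hM => ?_
      by_contra hle
      have hsup : N ⊔ M = ⊤ := hM.2 _ (right_lt_sup.mpr hle)
      haveI := inf_normal_of_abelian hNc hsup
      have hbot : N ⊓ M = ⊥ := (hNmin _ inferInstance inf_le_left).resolve_right
        fun h => hle (h ▸ inf_le_right)
      exact hprime ((isComplement'_of_sup_inf hsup hbot).index_eq_card ▸ hmax M hM)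
    by_cases hother : ∃ M : Subgroup G, M.Normal ∧ M ≠ ⊥ ∧ N ⊓ M = ⊥
    · obtain ⟨M, hMn, hM, hNM⟩ := hother
      haveI := hMn
      let f : G →* (G ⧸ N) × (G ⧸ M) := (QuotientGroup.mk' N).prod (QuotientGroup.mk' M)
      have hf : Function.Injective f := by
        rw [← MonoidHom.ker_eq_bot_iff, eq_bot_iff, ← hNM]
        intro x hx
        have h1 := congrArg Prod.fst (MonoidHom.mem_ker.mp hx)
        have h2 := congrArg Prod.snd (MonoidHom.mem_ker.mp hx)
        exact ⟨(QuotientGroup.eq_one_iff x).mp h1, (QuotientGroup.eq_one_iff x).mp h2⟩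
      exact of_mulEquiv (MonoidHom.ofInjective hf).symm
        (Supersolvable.subgroup f.range (Supersolvable.prod hN' (hquot M hM)))
    push Not at hother
    have huniq : ∀ M : Subgroup G, M.Normal → M ≠ ⊥ → N ≤ M := by
      intro M hM hM0
      haveI := hM
      exact ((hNmin (N ⊓ M) inferInstance inf_le_left).resolve_left (hother M hM hM0)) ▸ inf_le_right
    -- the Fitting subgroup is the `p`-core
    have hpp : Cfsg.pPrimeCore p G = ⊥ := by
      by_contra h
      obtain ⟨k, hk⟩ := IsPGroup.iff_card.mp hNp
      have h1 : (Nat.card N).Coprime p :=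
        (coprime_card_pPrimeCore p).coprime_dvd_left (Subgroup.card_dvd_of_le (huniq _ inferInstance h))
      rw [hk] at h1
      rcases Nat.eq_zero_or_pos k with h0 | h0
      · subst h0; exact hN (Subgroup.card_eq_one.mp (by simpa using hk))
      · rw [Nat.coprime_pow_left_iff h0, Nat.coprime_self] at h1; exact hp.ne_one h1
    have hFP := fittingSubgroup_eq_pCore p hpp
    set P := Cfsg.pCore p G with hPdef
    have hΦP : frattini G ≤ P := hFP ▸ le_fittingSubgroup frattini_nilpotent
    have hcP : commutator G ≤ P := by
      set A := commutator G ⊔ frattini G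
      let g : G ⧸ N →* G ⧸ frattini G :=
        QuotientGroup.map N (frattini G) (MonoidHom.id G) (by simpa using hNΦ)
      have hg : Function.Surjective g := by
        intro x
        obtain ⟨y, rfl⟩ := QuotientGroup.mk'_surjective (frattini G) x
        exact ⟨QuotientGroup.mk y, rfl⟩
      have hnil := Supersolvable.commutator_isNilpotent_aux _ (G ⧸ frattini G) rfl
        (of_surjective g hg hN')
      haveI := hnil
      set q := QuotientGroup.mk' (frattini G)
      have hmap : A.map q ≤ commutator (G ⧸ frattini G) := by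
        rw [Subgroup.map_sup, (Subgroup.map_eq_bot_iff _).mpr (QuotientGroup.ker_mk' _).ge, sup_bot_eq,
          commutator_def, commutator_def, Subgroup.map_commutator]
        exact Subgroup.commutator_mono le_top le_top
      let f := q.subgroupMap A
      have hker : f.ker = (frattini G).subgroupOf A := by
        ext x
        rw [MonoidHom.mem_ker, Subgroup.mem_subgroupOf, ← QuotientGroup.eq_one_iff,
          ← OneMemClass.coe_eq_one]
        rfl
      haveI : Group.IsNilpotent (A.map q) :=
        Group.nilpotent_of_mulEquiv (Subgroup.subgroupOfEquivOfLe hmap)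
      haveI : Group.IsNilpotent (A ⧸ (frattini G).subgroupOf A) :=
        Group.nilpotent_of_mulEquiv ((QuotientGroup.quotientKerEquivOfSurjective f
          (q.subgroupMap_surjective A)).symm.trans (QuotientGroup.quotientMulEquivOfEq hker))
      exact le_trans (le_sup_left : commutator G ≤ A)
        (hFP ▸ le_fittingSubgroup (isNilpotent_of_quotient_frattini A (frattini G) le_sup_right le_rfl))
    have hPp : IsPGroup p P := isPGroup_pCore p
    obtain ⟨S⟩ : Nonempty (Sylow p G) := inferInstance
    have hPS : (S : Subgroup G) = P := by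
      haveI : (S : Subgroup G).Normal := by
        refine ⟨fun x hx g => ?_⟩
        have : g * x * g⁻¹ * x⁻¹ ∈ P := hcP (by
          rw [← commutatorElement_def]
          exact Subgroup.commutator_mem_commutator (Subgroup.mem_top g) (Subgroup.mem_top x))
        simpa using mul_mem (pCore_le_sylow S this) hx
      exact le_antisymm (le_pCore S.isPGroup') (pCore_le_sylow S)
    have hidx : ¬ p ∣ P.index := hPS ▸ S.not_dvd_index
    obtain ⟨j, hj⟩ := IsPGroup.iff_card.mp hPp
    have hPcop : (Nat.card P).Coprime P.index := by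
      rw [hj]; exact (hp.coprime_iff_not_dvd.mpr hidx).pow_left j
    obtain ⟨A, hA⟩ := Subgroup.exists_right_complement'_of_coprime (N := P) hPcop
    have hNP : N ≤ P := hNΦ.trans hΦP
    -- `N` lies in the Frattini subgroup of `P`
    have hNΦP : N ≤ (frattini P).map P.subtype := by
      by_cases h0 : frattini P = ⊥
      · exfalso
        haveI : IsMulCommutative (N.subgroupOf P) := by
          rw [isMulCommutative_subgroup_iff]
          intro a ha b hb
          exact Subtype.ext (isMulCommutative_subgroup_iff.mp hNc a ha b hb)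
        obtain ⟨H, hH⟩ := exists_complement_of_inf_frattini (N.subgroupOf P) inferInstance
          (by rw [h0, inf_bot_eq])
        haveI := hNc
        have hd : H.map P.subtype ⊓ N = ⊥ := by
          rw [eq_bot_iff]
          rintro x ⟨⟨y, hy, rfl⟩, hxN⟩
          exact congrArg Subtype.val (Subgroup.disjoint_def.mp hH.disjoint hxN hy)
        have hs : N ⊔ H.map P.subtype = P := by
          conv_lhs => rw [← Subgroup.map_subgroupOf_eq_of_le hNP]
          rw [← Subgroup.map_sup, hH.sup_eq_top, ← MonoidHom.range_eq_map, Subgroup.range_subtype]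
        obtain ⟨C, hC⟩ := Gaschutz.exists_complement N P hNP
          (hPcop.coprime_dvd_left (Subgroup.card_dvd_of_le hNP)) (H.map P.subtype) hd hs
        have h1 : C = ⊤ := frattini_nongenerating (top_le_iff.mp
          (hC.symm.sup_eq_top ▸ sup_le_sup_left hNΦ C))
        apply hN
        rw [eq_bot_iff]
        intro x hx
        exact Subgroup.disjoint_def.mp hC.disjoint hx (h1 ▸ Subgroup.mem_top x) ▸ one_mem _
      · exact huniq _ inferInstance fun h =>
          h0 ((Subgroup.map_eq_bot_iff_of_injective _ P.subtype_injective).mp h)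
    -- the exponent of the complement divides `p - 1`
    have hAexp : ∀ a ∈ A, a ^ (p - 1) = 1 := by
      intro a ha
      set b := a ^ (p - 1) with hb
      have hoa : (orderOf a).Coprime p := by
        refine Nat.Coprime.coprime_dvd_left (Subgroup.orderOf_dvd_natCard A ha) ?_
        rw [← hA.symm.index_eq_card]
        exact (hp.coprime_iff_not_dvd.mpr hidx).symm
      set q := QuotientGroup.mk' N
      have hcomm : ∀ x ∈ P, Commute (q b) (q x) := by
        intro x hx
        rw [hb, map_pow]
        exact pow_commute_aux p _ (G ⧸ N) rfl hN' (P.map q)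
          ((inferInstance : P.Normal).map q (QuotientGroup.mk'_surjective N)) (hPp.map q) (q a)
          (hoa.coprime_dvd_left (orderOf_map_dvd q a)) (q x) (Subgroup.mem_map_of_mem q hx)
      have hcent : Subgroup.zpowers b ≤ Subgroup.centralizer (P : Set G) := by
        refine CfsgLib.Coprime.le_centralizer_of_frattini ?_ ?_ ?_
        · rw [Subgroup.normalizer_eq_top_iff.mpr (inferInstance : P.Normal)]; exact le_top
        · rw [Nat.card_zpowers]
          obtain ⟨i, hi⟩ := IsPGroup.iff_card.mp (hPp.to_subgroup (frattini P))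
          rw [hi]
          exact ((hoa.coprime_dvd_left (orderOf_pow_dvd _)).pow_right i)
        · intro c hc x hx
          refine hNΦP ?_
          obtain ⟨i, rfl⟩ := Subgroup.mem_zpowers_iff.mp hc
          rw [← QuotientGroup.eq_one_iff]
          show q ⁅b ^ i, x⁆ = 1
          rw [map_commutatorElement, commutatorElement_eq_one_iff_mul_comm, map_zpow]
          exact ((hcomm x hx).zpow_left i).eq
      have hbP : b ∈ P := by
        have h1 : Subgroup.centralizer (Cfsg.fittingSubgroup G : Set G) ≤ Cfsg.fittingSubgroup G :=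
          centralizer_fittingSubgroup_le
        rw [hFP] at h1
        exact h1 (hcent (Subgroup.mem_zpowers b))
      exact Subgroup.disjoint_def.mp hA.disjoint hbP (pow_mem ha _)
    have hAc : ∀ a ∈ A, ∀ a' ∈ A, a * a' = a' * a := by
      intro a ha a' ha'
      rw [← commutatorElement_eq_one_iff_mul_comm]
      exact Subgroup.disjoint_def.mp hA.disjoint
        (hcP (Subgroup.commutator_mem_commutator (Subgroup.mem_top a) (Subgroup.mem_top a')))
        (by rw [commutatorElement_def]; exact mul_mem (mul_mem (mul_mem ha ha') (inv_mem ha)) (inv_mem ha'))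
    have hdec : ∀ g : G, ∃ a ∈ A, ∀ x ∈ N, g * x * g⁻¹ = a * x * a⁻¹ := by
      intro g
      obtain ⟨⟨⟨u, hu⟩, ⟨a, ha⟩⟩, rfl⟩ := hA.2 g
      refine ⟨a, ha, fun x hx => ?_⟩
      have hc := fittingSubgroup_le_centralizer N hNmin
      rw [hFP] at hc
      have hax : a * x * a⁻¹ ∈ N := hNn.conj_mem x hx a
      calc u * a * x * (u * a)⁻¹ = u * (a * x * a⁻¹) * u⁻¹ := by group
        _ = a * x * a⁻¹ := by
            rw [← Subgroup.mem_centralizer_iff.mp (hc hu) _ hax, mul_inv_cancel_right]
    refine absurd (card_prime_of_minimal_normal N hN hNmin hexp ?_ ?_) hprime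
    · intro g h x hx
      obtain ⟨a, ha, hga⟩ := hdec g
      obtain ⟨c, hc, hhc⟩ := hdec h
      rw [hga _ (hNn.conj_mem x hx h), hga x hx, hhc x hx,
        hhc _ (hNn.conj_mem x hx a)]
      calc a * (c * x * c⁻¹) * a⁻¹ = (a * c) * x * (a * c)⁻¹ := by group
        _ = c * (a * x * a⁻¹) * c⁻¹ := by rw [hAc a ha c hc]; group
    · intro g x hx
      obtain ⟨a, ha, hga⟩ := hdec g
      have key : ∀ (k : ℕ), ∀ y ∈ N, g ^ k * y * (g ^ k)⁻¹ = a ^ k * y * (a ^ k)⁻¹ := by
        intro k
        induction k with
        | zero => simp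
        | succ k ihk =>
          intro y hy
          calc g ^ (k + 1) * y * (g ^ (k + 1))⁻¹ = g * (g ^ k * y * (g ^ k)⁻¹) * g⁻¹ := by
                rw [pow_succ']; group
            _ = a * (a ^ k * y * (a ^ k)⁻¹) * a⁻¹ := by
                rw [ihk y hy, hga _ (hNn.conj_mem y hy (a ^ k))]
            _ = a ^ (k + 1) * y * (a ^ (k + 1))⁻¹ := by rw [pow_succ']; group
      rw [key _ x hx, hAexp a ha]; group

theorem huppert {G : Type*} [Group G] [Finite G]
    (h : ∀ M : Subgroup G, IsCoatom M → M.index.Prime) : Cfsg.IsSupersolvable G :=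
  huppert_aux _ G rfl h

end CfsgLib.Solvable.Huppert
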