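import Cfsg.Agent.Lib.Solvable.Basic
import Cfsg.Agent.Lib.Solvable.Cores
import Cfsg.Agent.Lib.LocalEvenB.CentrallyLarge

/-!
# Kegel's lemmas on subgroups permutable with all conjugates
-/

set_option autoImplicit false

namespace CfsgLib.Solvable.KegelPermutable

open Subgroup CfsgLib CfsgLib.Solvable.Basic
open scoped Pointwise

variable {G : Type*} [Group G]

/-- The product set of `A` and `B` is a subgroup. -/
def Perm (A B : Subgroup G) : Prop := ∃ S : Subgroup G, (S : Set G) = (A : Set G) * (B : Set G)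

theorem Perm.coe_sup {A B : Subgroup G} (h : Perm A B) :
    ((A ⊔ B : Subgroup G) : Set G) = (A : Set G) * (B : Set G) := by
  obtain ⟨S, hS⟩ := h
  have : A ⊔ B = S := by
    refine le_antisymm (sup_le ?_ ?_) ?_
    · exact fun a ha => SetLike.mem_coe.1 (hS ▸ ⟨a, ha, 1, B.one_mem, mul_one a⟩)
    · exact fun b hb => SetLike.mem_coe.1 (hS ▸ ⟨1, A.one_mem, b, hb, one_mul b⟩)
    · intro x hx
      obtain ⟨a, ha, b, hb, rfl⟩ := hS.le hx
      exact mul_mem_sup ha hb
  rw [this, hS]

theorem Perm.swap {A B : Subgroup G} (h : Perm A B) {b a : G} (hb : b ∈ B) (ha : a ∈ A) :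
    b * a ∈ (A : Set G) * (B : Set G) := by
  rw [← h.coe_sup]
  exact mul_mem (mem_sup_right hb) (mem_sup_left ha)

theorem perm_of_swap {A B : Subgroup G}
    (h : ∀ b ∈ B, ∀ a ∈ A, b * a ∈ (A : Set G) * (B : Set G)) : Perm A B := by
  refine ⟨{ carrier := (A : Set G) * (B : Set G), one_mem' := ⟨1, A.one_mem, 1, B.one_mem, mul_one 1⟩,
            mul_mem' := ?_, inv_mem' := ?_ }, rfl⟩
  · rintro _ _ ⟨a, ha, b, hb, rfl⟩ ⟨a', ha', b', hb', rfl⟩
    obtain ⟨a'', ha'', b'', hb'', e⟩ := h b hb a' ha'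
    refine ⟨a * a'', mul_mem ha ha'', b'' * b', mul_mem hb'' hb', ?_⟩
    dsimp only at e ⊢
    calc a * a'' * (b'' * b') = a * (a'' * b'') * b' := by group
      _ = a * (b * a') * b' := by rw [e]
      _ = a * b * (a' * b') := by group
  · rintro _ ⟨a, ha, b, hb, rfl⟩
    rw [mul_inv_rev]
    exact h _ (inv_mem hb) _ (inv_mem ha)

theorem perm_sup [Finite G] {A A₂ C : Subgroup G} (h₁ : Perm A C) (h₂ : Perm A₂ C) :
    Perm (A ⊔ A₂) C := by
  refine perm_of_swap fun c hc x hx => ?_
  revert c
  rw [sup_eq_closure] at hx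
  have key : ∀ {x : G}, x ∈ (A : Set G) ∪ A₂ → ∀ c ∈ C,
      c * x ∈ ((A ⊔ A₂ : Subgroup G) : Set G) * (C : Set G) := by
    rintro x (hx | hx) c hc
    · obtain ⟨a, ha, c', hc', e⟩ := h₁.swap hc hx
      exact ⟨a, mem_sup_left ha, c', hc', e⟩
    · obtain ⟨a, ha, c', hc', e⟩ := h₂.swap hc hx
      exact ⟨a, mem_sup_right ha, c', hc', e⟩
  induction hx using Subgroup.closure_induction with
  | mem x hx => exact key hx
  | one => exact fun c hc => ⟨1, one_mem _, c, hc, by simp⟩
  | mul x y _ _ hx hy =>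
    intro c hc
    obtain ⟨a, ha, c', hc', e⟩ := hx c hc
    obtain ⟨a', ha', c'', hc'', e'⟩ := hy c' hc'
    refine ⟨a * a', mul_mem ha ha', c'', hc'', ?_⟩
    dsimp only at e e' ⊢
    rw [mul_assoc, e', ← mul_assoc, e, mul_assoc]
  | inv x _ hx =>
    have hn : ∀ n : ℕ, ∀ c ∈ C, c * x ^ n ∈ ((A ⊔ A₂ : Subgroup G) : Set G) * (C : Set G) := by
      intro n
      induction n with
      | zero => exact fun c hc => ⟨1, one_mem _, c, hc, by simp⟩
      | succ n ih =>
        intro c hc
        obtain ⟨a, ha, c', hc', e⟩ := hx c hc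
        obtain ⟨a', ha', c'', hc'', e'⟩ := ih c' hc'
        refine ⟨a * a', mul_mem ha ha', c'', hc'', ?_⟩
        dsimp only at e e' ⊢
        rw [mul_assoc, e', ← mul_assoc, e, mul_assoc, ← pow_succ']
    have e : x⁻¹ = x ^ (orderOf x - 1) := by
      rw [eq_comm, eq_inv_iff_mul_eq_one, ← pow_succ, Nat.sub_add_cancel (orderOf_pos x),
        pow_orderOf_eq_one]
    intro c hc
    rw [e]
    exact hn _ c hc

theorem coe_conj_smul_mul (g : G) (A B : Subgroup G) :
    MulAut.conj g • ((A : Set G) * (B : Set G)) =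
      ((MulAut.conj g • A : Subgroup G) : Set G) * ((MulAut.conj g • B : Subgroup G) : Set G) := by
  rw [smul_mul', Subgroup.coe_pointwise_smul, Subgroup.coe_pointwise_smul]

theorem Perm.conj {A B : Subgroup G} (h : Perm A B) (g : G) :
    Perm (MulAut.conj g • A) (MulAut.conj g • B) := by
  obtain ⟨S, hS⟩ := h
  exact ⟨MulAut.conj g • S, by rw [Subgroup.coe_pointwise_smul, hS, coe_conj_smul_mul]⟩

/-- Enlarging a subgroup permutable with all conjugates of `B`. -/
theorem exists_step [Finite G] {A B : Subgroup G} (h : ∀ x : G, Perm A (MulAut.conj x • B))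
    (hn : ¬ ∀ x : G, MulAut.conj x • B ≤ normalizer (A : Set G)) :
    ∃ (A' : Subgroup G) (x : G), A < A' ∧ (∀ z : G, Perm A' (MulAut.conj z • B)) ∧
      A' ≤ A ⊔ MulAut.conj x • B := by
  push Not at hn
  obtain ⟨x, hx⟩ := hn
  obtain ⟨b, hb, hbn⟩ := SetLike.not_le_iff_exists.1 hx
  refine ⟨A ⊔ MulAut.conj b • A, x, lt_of_le_of_ne le_sup_left fun e => hbn ?_, fun z => ?_,
    sup_le le_sup_left ?_⟩
  · refine Subgroup.mem_normalizer_iff_map_conj_eq.2 (eq_of_le_of_card_ge ?_
      (by rw [card_map_of_injective (MulAut.conj b).injective]))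
    exact (le_sup_right : MulAut.conj b • A ≤ A ⊔ MulAut.conj b • A).trans e.ge
  · refine perm_sup (h z) ?_
    have := (h (b⁻¹ * z)).conj b
    rwa [conj_smul_conj_smul, mul_inv_cancel_left] at this
  · rintro _ ⟨a, ha, rfl⟩
    exact mul_mem (mul_mem (mem_sup_right hb) (mem_sup_left ha)) (inv_mem (mem_sup_right hb))

/-- Kegel's lemma. -/
theorem exists_proper_normal [Finite G] (A : Subgroup G) : ∀ {B : Subgroup G},
    (∀ x : G, Perm A (MulAut.conj x • B) ∧ A ⊔ MulAut.conj x • B ≠ ⊤) →
    ∃ N : Subgroup G, N.Normal ∧ N ≠ ⊤ ∧ (A ≤ N ∨ B ≤ N) := by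
  induction A using WellFoundedGT.induction with
  | _ A ih =>
    intro B h
    by_cases hn : ∀ x : G, MulAut.conj x • B ≤ normalizer (A : Set G)
    · by_cases hB : normalClosure (B : Set G) = ⊤
      · refine ⟨A, normalizer_eq_top_iff.1 (top_le_iff.1 (hB ▸ ?_)), fun e => (h 1).2 ?_, Or.inl le_rfl⟩
        · rw [normalClosure, closure_le]
          intro y hy
          obtain ⟨b, hb, hby⟩ := Group.mem_conjugatesOfSet_iff.1 hy
          obtain ⟨c, rfl⟩ := isConj_iff.1 hby
          exact hn c (conj_mem_conj_smul hb)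
        · rw [e, top_sup_eq]
      · exact ⟨_, normalClosure_normal, hB, Or.inr le_normalClosure⟩
    · obtain ⟨A', x, hlt, hperm, hle⟩ := exists_step (fun x => (h x).1) hn
      have hprop : ∀ z : G, A' ⊔ MulAut.conj z • B ≠ ⊤ := by
        intro z htop
        refine (h x).2 ?_
        -- all products with the enlarged subgroup are conjugate
        rw [eq_top_iff]
        intro g _
        have hz := (hperm z).coe_sup
        rw [htop] at hz
        obtain ⟨a, ha, c, hc, hac⟩ := hz.le (Set.mem_univ (x * z⁻¹))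
        dsimp only at hac
        have e : MulAut.conj x • B = MulAut.conj a • MulAut.conj z • B := by
          have hcfix : MulAut.conj c • MulAut.conj z • B = MulAut.conj z • B :=
            Subgroup.conjAct_pointwise_smul_eq_self (le_normalizer hc)
          rw [← hcfix, conj_smul_conj_smul a, hac, conj_smul_conj_smul, inv_mul_cancel_right]
        have hfix : MulAut.conj a • A' = A' :=
          Subgroup.conjAct_pointwise_smul_eq_self (le_normalizer ha)
        have h1 : MulAut.conj a • (A' ⊔ MulAut.conj z • B) ≤ A ⊔ MulAut.conj x • B := by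
          rw [Subgroup.smul_sup, hfix, ← e]
          exact sup_le hle le_sup_right
        rw [htop] at h1
        exact h1 (mem_conj_smul.2 (mem_top _))
      obtain ⟨N, hN, hne, hor⟩ := ih A' hlt fun z => ⟨hperm z, hprop z⟩
      exact ⟨N, hN, hne, hor.imp_left (hlt.le.trans ·)⟩

/-- Kegel's lemma for `p`-groups: without normal `p`-subgroups the normal closures commute. -/
theorem commute_closures [Finite G] {p : ℕ} [Fact p.Prime] (hO : Cfsg.pCore p G = ⊥) (A : Subgroup G) :
    ∀ {B : Subgroup G},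
    (∀ x : G, Perm A (MulAut.conj x • B) ∧ IsPGroup p ↥(A ⊔ MulAut.conj x • B)) →
    normalClosure (A : Set G) ≤ centralizer (normalClosure (B : Set G) : Set G) := by
  induction A using WellFoundedGT.induction with
  | _ A ih =>
    intro B h
    by_cases hn : ∀ x : G, MulAut.conj x • B ≤ normalizer (A : Set G)
    · set D := normalClosure (B : Set G) with hD
      haveI hDn : D.Normal := normalClosure_normal
      have hDA : D ≤ normalizer (A : Set G) := by
        rw [hD, normalClosure, closure_le]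
        intro y hy
        obtain ⟨b, hb, hby⟩ := Group.mem_conjugatesOfSet_iff.1 hy
        obtain ⟨c, rfl⟩ := isConj_iff.1 hby
        exact hn c (conj_mem_conj_smul hb)
      haveI hnorm : (A.subgroupOf D).Normal :=
        ⟨fun a ha d => (mem_normalizer_iff.1 (hDA d.2) _).1 ha⟩
      have hAp : IsPGroup p A := (h 1).2.to_le le_sup_left
      have hAD : ∀ x, x ∈ A → x ∈ D → x = 1 := by
        intro x hxA hxD
        have h1 : A.subgroupOf D ≤ Cfsg.pCore p D :=
          Cores.le_pCore (hAp.comap_of_injective D.subtype D.subtype_injective)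
        have h2 := Cores.map_pCore_le p D (Subgroup.mem_map_of_mem D.subtype (h1 (show
          (⟨x, hxD⟩ : D) ∈ A.subgroupOf D from hxA)))
        rw [hO, mem_bot] at h2
        exact h2
      refine normalClosure_le_normal fun a ha => mem_centralizer_iff.2 fun d hd => ?_
      have h3 := hAD (a * d * a⁻¹ * d⁻¹) ?_ (D.mul_mem (hDn.conj_mem d hd a) (D.inv_mem hd))
      · rw [mul_inv_eq_one, mul_inv_eq_iff_eq_mul] at h3
        exact h3.symm
      · rw [mul_assoc, mul_assoc, ← mul_assoc d]
        exact A.mul_mem ha ((mem_normalizer_iff.1 (hDA hd) _).1 (A.inv_mem ha))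
    · obtain ⟨A', x, hlt, hperm, hle⟩ := exists_step (fun x => (h x).1) hn
      refine (normalClosure_mono (SetLike.coe_subset_coe.2 hlt.le)).trans
        (ih A' hlt fun z => ⟨hperm z, ?_⟩)
      have hA' : IsPGroup p A' := (h x).2.to_le hle
      have hB' : IsPGroup p ↥(MulAut.conj z • B : Subgroup G) := (h z).2.to_le le_sup_right
      obtain ⟨i, hi⟩ := IsPGroup.iff_card.1 hA'
      obtain ⟨j, hj⟩ := IsPGroup.iff_card.1 hB'
      set C := MulAut.conj z • B
      have hcard := LocalEvenB.CentrallyLarge.card_of_set_mul (hperm z).coe_sup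
      refine IsPGroup.of_card_dvd_pow (n := i + j) ?_
      exact ⟨_, by rw [pow_add, ← hi, ← hj, ← hcard]⟩

end CfsgLib.Solvable.KegelPermutable
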