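import Cfsg.Agent.Lib.Solvable.FrattiniFitting

/-!
Maximal subgroups of finite solvable groups have prime power index.
-/

set_option linter.style.haveILetI false

namespace CfsgLib.Solvable.MaxIndex

open CfsgLib.Solvable.Basic

universe u

theorem isPrimePow_index_aux : ∀ (N : ℕ) (G : Type u) [Group G] [Finite G] [Group.IsSolvable G],
    Nat.card G = N → ∀ M : Subgroup G, IsCoatom M → IsPrimePow M.index := by
  intro N
  induction N using Nat.strong_induction_on with
  | _ N ih =>
    intro G _ _ _ hN M hM
    have hG1 : (⊤ : Subgroup G) ≠ ⊥ := fun h =>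
      hM.1 (top_le_iff.mp (h.trans_le bot_le))
    obtain ⟨A, p, hp, hAn, hA, -, hAc, hAp, hAmin⟩ := exists_minimal_normal_pgroup hG1
    by_cases hle : A ≤ M
    · have hker : (QuotientGroup.mk' A).ker ≤ M := by rwa [QuotientGroup.ker_mk']
      have hc : IsCoatom (M.map (QuotientGroup.mk' A)) := by
        refine ⟨fun h => hM.1 ?_, fun L hL => ?_⟩
        · rw [← Subgroup.comap_map_eq_self hker, h, Subgroup.comap_top]
        · have h1 : M < L.comap (QuotientGroup.mk' A) := by
            rw [← Subgroup.comap_map_eq_self hker]
            exact (Subgroup.comap_lt_comap_of_surjective (QuotientGroup.mk'_surjective A)).mpr hL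
          rw [← Subgroup.map_comap_eq_self_of_surjective (QuotientGroup.mk'_surjective A) L,
            hM.2 _ h1, Subgroup.map_top_of_surjective _ (QuotientGroup.mk'_surjective A)]
      have := ih _ (hN ▸ card_quotient_lt A hA) (G ⧸ A) rfl _ hc
      rwa [Subgroup.index_map_eq _ (QuotientGroup.mk'_surjective A) hker] at this
    · have hsup : A ⊔ M = ⊤ := hM.2 _ (right_lt_sup.mpr hle)
      haveI := FrattiniFitting.inf_normal_of_abelian hAc hsup
      have hbot : A ⊓ M = ⊥ := (hAmin _ inferInstance inf_le_left).resolve_right
        fun h => hle (h ▸ inf_le_right)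
      have hc := FrattiniFitting.isComplement'_of_sup_inf hsup hbot
      rw [hc.index_eq_card, isPrimePow_nat_iff]
      haveI := Fact.mk hp
      obtain ⟨k, hk⟩ := IsPGroup.iff_card.mp hAp
      refine ⟨p, k, hp, ?_, hk.symm⟩
      rcases Nat.eq_zero_or_pos k with h | h
      · subst h; exact absurd (Subgroup.card_eq_one.mp (by simpa using hk)) hA
      · exact h

theorem isPrimePow_index {G : Type*} [Group G] [Finite G] [Group.IsSolvable G] {M : Subgroup G}
    (hM : IsCoatom M) : IsPrimePow M.index :=
  isPrimePow_index_aux _ G rfl M hM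

end CfsgLib.Solvable.MaxIndex
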