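import Cfsg.Agent.Lib.Fusion.PSolvable
import Cfsg.Agent.Lib.Solvable.Basic
import Cfsg.Agent.Lib.Solvable.FrattiniFitting
import Cfsg.Agent.Lib.Coprime.SchurZassenhaus

/-!
# Groups all of whose maximal subgroups are `p`-nilpotent or of prime index

A `p`-solvable group of this kind has a normal chain with factors `p'`, `p`, `p'`, `p`.
-/

set_option autoImplicit false
set_option linter.style.haveILetI false

namespace CfsgLib.Solvable.MaxNpc

open Subgroup
open scoped Pointwise

universe u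

/-- Every maximal subgroup has a normal `p`-complement or prime index. -/
def MaxHyp (p : ℕ) (G : Type u) [Group G] : Prop :=
  ∀ M : Subgroup G, IsCoatom M →
    (∃ K : Subgroup ↥M, K.Normal ∧ ¬ p ∣ Nat.card K ∧ ∃ k : ℕ, K.index = p ^ k) ∨ (M.index).Prime

/-- The chain `p'`, `p`, `p'`, `p`. -/
def HasChain (p : ℕ) (G : Type u) [Group G] : Prop :=
  ∃ A B C : Subgroup G, A.Normal ∧ B.Normal ∧ C.Normal ∧ A ≤ B ∧ B ≤ C ∧ ¬ p ∣ Nat.card A ∧
    (∃ k : ℕ, A.relIndex B = p ^ k) ∧ ¬ p ∣ B.relIndex C ∧ ∃ k : ℕ, C.index = p ^ k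

variable {G : Type u} [Group G] [Finite G] {p : ℕ} [hp : Fact p.Prime]

theorem maxHyp_quotient (h : MaxHyp p G) (N : Subgroup G) [N.Normal] : MaxHyp p (G ⧸ N) := by
  intro M hM
  set f := QuotientGroup.mk' N
  have hf : Function.Surjective f := QuotientGroup.mk'_surjective N
  have hco : IsCoatom (M.comap f) := isCoatom_comap_of_surjective hf hM
  rcases h _ hco with ⟨K, hKn, hKp, k, hk⟩ | hpr
  · left
    let g : ↥(M.comap f) →* M := (f.comp (M.comap f).subtype).codRestrict M fun x => x.2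
    have hg : Function.Surjective g := fun m => by
      obtain ⟨x, hx⟩ := hf m.1
      exact ⟨⟨x, show f x ∈ M from hx ▸ m.2⟩, Subtype.ext hx⟩
    have hd : (K.map g).index ∣ p ^ k := by
      rw [← hk]; exact index_map_dvd (H := K) hg
    obtain ⟨j, -, hj⟩ := (Nat.dvd_prime_pow hp.out).1 hd
    exact ⟨K.map g, hKn.map g hg, fun hd' => hKp (hd'.trans (card_map_dvd K g)), j, hj⟩
  · right
    rwa [index_comap_of_surjective M hf] at hpr

theorem relIndex_dvd_relIndex_of_le {X Y Y₁ : Subgroup G} [X.Normal] (h : Y ≤ Y₁) :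
    X.relIndex Y ∣ X.relIndex Y₁ := by
  conv_lhs => rw [← QuotientGroup.ker_mk' X]
  conv_rhs => rw [← QuotientGroup.ker_mk' X]
  rw [relIndex_ker, relIndex_ker]
  exact card_dvd_of_le (map_mono h)

theorem relIndex_inf_dvd {X₁ X₂ Y₁ Y₂ : Subgroup G} [X₁.Normal] [X₂.Normal] :
    (X₁ ⊓ X₂).relIndex (Y₁ ⊓ Y₂) ∣ X₁.relIndex Y₁ * X₂.relIndex Y₂ := by
  set Y := Y₁ ⊓ Y₂
  have h1 : (X₁ ⊓ X₂).relIndex Y = (X₁ ⊓ X₂ ⊓ Y).relIndex (X₁ ⊓ Y) * (X₁ ⊓ Y).relIndex Y := by
    rw [relIndex_mul_relIndex _ _ _ (inf_le_inf_right Y inf_le_left) inf_le_right, inf_relIndex_right]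
  rw [h1, mul_comm (X₁.relIndex Y₁)]
  refine mul_dvd_mul ?_ ?_
  · have h2 : (X₁ ⊓ X₂ ⊓ Y).relIndex (X₁ ⊓ Y) = X₂.relIndex (X₁ ⊓ Y) := by
      rw [← inf_relIndex_right X₂ (X₁ ⊓ Y)]
      congr 1
      rw [inf_comm X₁ X₂, inf_assoc]
    rw [h2]
    exact relIndex_dvd_relIndex_of_le (inf_le_right.trans inf_le_right)
  · rw [inf_relIndex_right]
    exact relIndex_dvd_relIndex_of_le inf_le_left

theorem prime_pow_of_dvd_mul {a b c : ℕ} {i j : ℕ} (h : a ∣ b * c) (hb : b = p ^ i) (hc : c = p ^ j) :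
    ∃ k, a = p ^ k := by
  rw [hb, hc, ← pow_add] at h
  obtain ⟨k, -, hk⟩ := (Nat.dvd_prime_pow hp.out).1 h
  exact ⟨k, hk⟩

theorem not_dvd_of_dvd_mul {a b c : ℕ} (h : a ∣ b * c) (hb : ¬ p ∣ b) (hc : ¬ p ∣ c) : ¬ p ∣ a :=
  fun ha => (hp.out.dvd_mul.1 (ha.trans h)).elim hb hc

theorem hasChain_of_pprime (N : Subgroup G) [N.Normal] (hN : ¬ p ∣ Nat.card N)
    (h : HasChain p (G ⧸ N)) : HasChain p G := by
  obtain ⟨A, B, C, hA, hB, hC, hAB, hBC, hcA, ⟨k, hk⟩, hBC', j, hj⟩ := h
  have hf : Function.Surjective (QuotientGroup.mk' N) := QuotientGroup.mk'_surjective N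
  refine ⟨A.comap (QuotientGroup.mk' N), B.comap (QuotientGroup.mk' N), C.comap (QuotientGroup.mk' N),
    hA.comap _, hB.comap _, hC.comap _, comap_mono hAB, comap_mono hBC, ?_, ⟨k, ?_⟩, ?_, j, ?_⟩
  · refine not_dvd_of_dvd_mul ?_ hN hcA
    rw [Basic.card_comap_mk, mul_comm]
  · rw [relIndex_comap, map_comap_eq_self_of_surjective hf, hk]
  · rwa [relIndex_comap, map_comap_eq_self_of_surjective hf]
  · rw [index_comap_of_surjective _ hf, hj]

theorem hasChain_of_two (N₁ N₂ : Subgroup G) [N₁.Normal] [N₂.Normal] (hb : N₁ ⊓ N₂ = ⊥)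
    (h₁ : HasChain p (G ⧸ N₁)) (h₂ : HasChain p (G ⧸ N₂)) : HasChain p G := by
  obtain ⟨A, B, C, hA, hB, hC, hAB, hBC, hcA, ⟨k, hk⟩, hBC', j, hj⟩ := h₁
  obtain ⟨A', B', C', hA', hB', hC', hAB', hBC'', hcA', ⟨k', hk'⟩, hBC2, j', hj'⟩ := h₂
  set f := QuotientGroup.mk' N₁
  set f' := QuotientGroup.mk' N₂
  have hf : Function.Surjective f := QuotientGroup.mk'_surjective N₁
  have hf' : Function.Surjective f' := QuotientGroup.mk'_surjective N₂
  haveI := hA.comap f
  haveI := hB.comap f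
  haveI := hC.comap f
  haveI := hA'.comap f'
  haveI := hB'.comap f'
  haveI := hC'.comap f'
  refine ⟨A.comap f ⊓ A'.comap f', B.comap f ⊓ B'.comap f', C.comap f ⊓ C'.comap f',
    inferInstance, inferInstance, inferInstance, inf_le_inf (comap_mono hAB) (comap_mono hAB'),
    inf_le_inf (comap_mono hBC) (comap_mono hBC''), ?_, ?_, ?_, ?_⟩
  · refine not_dvd_of_dvd_mul (b := Nat.card A) (c := Nat.card A') ?_ hcA hcA'
    rw [← Nat.card_prod]
    let φ : ↥(A.comap f ⊓ A'.comap f') →* A × A' :=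
      ((f.comp (A.comap f ⊓ A'.comap f').subtype).codRestrict A fun x => x.2.1).prod
        ((f'.comp (A.comap f ⊓ A'.comap f').subtype).codRestrict A' fun x => x.2.2)
    refine card_dvd_of_injective φ ((injective_iff_map_eq_one φ).2 fun x hx => Subtype.ext ?_)
    have h1 := congrArg Prod.fst hx
    have h2 := congrArg Prod.snd hx
    have hm : (x : G) ∈ N₁ ⊓ N₂ :=
      ⟨(QuotientGroup.eq_one_iff _).1 (congrArg Subtype.val h1),
        (QuotientGroup.eq_one_iff _).1 (congrArg Subtype.val h2)⟩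
    rwa [hb, mem_bot] at hm
  · refine prime_pow_of_dvd_mul (relIndex_inf_dvd (X₁ := A.comap f) (X₂ := A'.comap f')
      (Y₁ := B.comap f) (Y₂ := B'.comap f')) (i := k) (j := k') ?_ ?_
    · rw [relIndex_comap, map_comap_eq_self_of_surjective hf, hk]
    · rw [relIndex_comap, map_comap_eq_self_of_surjective hf', hk']
  · refine not_dvd_of_dvd_mul (relIndex_inf_dvd (X₁ := B.comap f) (X₂ := B'.comap f')
      (Y₁ := C.comap f) (Y₂ := C'.comap f')) ?_ ?_
    · rwa [relIndex_comap, map_comap_eq_self_of_surjective hf]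
    · rwa [relIndex_comap, map_comap_eq_self_of_surjective hf']
  · rw [← relIndex_top_right, ← inf_top_eq (⊤ : Subgroup G)]
    refine prime_pow_of_dvd_mul (relIndex_inf_dvd (X₁ := C.comap f) (X₂ := C'.comap f')
      (Y₁ := ⊤) (Y₂ := ⊤)) (i := j) (j := j') ?_ ?_
    · rw [relIndex_top_right, index_comap_of_surjective _ hf, hj]
    · rw [relIndex_top_right, index_comap_of_surjective _ hf', hj']

theorem hasChain_of_frattini (N : Subgroup G) [N.Normal] (hNp : IsPGroup p N)
    (hNc : IsMulCommutative N) (hNΦ : N ≤ frattini G) (hO : Cfsg.pPrimeCore p G = ⊥)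
    (h : HasChain p (G ⧸ N)) : HasChain p G := by
  obtain ⟨A, B, C, hA, hB, hC, hAB, hBC, hcA, ⟨k, hk⟩, hBC', j, hj⟩ := h
  set f := QuotientGroup.mk' N
  have hf : Function.Surjective f := QuotientGroup.mk'_surjective N
  set A₁ := A.comap f
  haveI hA₁ : A₁.Normal := hA.comap f
  have hNA : N ≤ A₁ := fun x hx => by
    change f x ∈ A
    rw [show f x = 1 from (QuotientGroup.eq_one_iff x).2 hx]
    exact one_mem _
  obtain ⟨i, hi⟩ := hNp.exists_card_eq
  have hcA₁ : Nat.card A₁ = Nat.card N * Nat.card A := by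
    rw [Basic.card_comap_mk, mul_comm]
  have hcop : (Nat.card N).Coprime (Nat.card A) := by
    rw [hi]; exact Nat.Coprime.pow_left _ ((Nat.Prime.coprime_iff_not_dvd hp.out).2 hcA)
  haveI : (N.subgroupOf A₁).Normal := inferInstance
  have hNsub : Nat.card (N.subgroupOf A₁) = Nat.card N := Nat.card_congr (subgroupOfEquivOfLe hNA).toEquiv
  have hidx : (N.subgroupOf A₁).index = Nat.card A := by
    have h1 := (N.subgroupOf A₁).card_mul_index
    rw [hNsub, hcA₁] at h1
    exact Nat.eq_of_mul_eq_mul_left Nat.card_pos h1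
  obtain ⟨K', hK'⟩ := exists_right_complement'_of_coprime (N := N.subgroupOf A₁) (by rwa [hNsub, hidx])
  set K := K'.map A₁.subtype with hK
  have hKA : K ≤ A₁ := map_subtype_le K'
  have hKc : Nat.card K = Nat.card A := by
    rw [hK, card_map_of_injective A₁.subtype_injective, ← hidx]
    exact hK'.symm.index_eq_card.symm
  have hNK : N ⊔ K = A₁ := by
    have h1 := hK'.sup_eq_top
    apply_fun Subgroup.map A₁.subtype at h1
    rwa [Subgroup.map_sup, map_subgroupOf_eq_of_le hNA, ← MonoidHom.range_eq_map, range_subtype] at h1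
  have hd : Disjoint N K := disjoint_iff.2 <| eq_bot_iff.2 fun x hx => by
    have h1 : Nat.card ↥(N ⊓ K) ∣ Nat.gcd (Nat.card N) (Nat.card K) :=
      Nat.dvd_gcd (card_dvd_of_le inf_le_left) (card_dvd_of_le inf_le_right)
    rw [hKc, hcop.gcd_eq_one, Nat.dvd_one, card_eq_one] at h1
    rwa [h1] at hx
  have hNN : ⁅N, N⁆ = ⊥ := commutator_eq_bot_iff_le_centralizer.2 fun a ha =>
    mem_centralizer_iff.2 fun b hb => congrArg Subtype.val (hNc.is_comm.comm ⟨b, hb⟩ ⟨a, ha⟩)
  have hKn : normalizer (K : Set G) = ⊤ := by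
    apply frattini_nongenerating
    refine eq_top_iff.2 fun g _ => ?_
    have hgA : K.map (MulAut.conj g).toMonoidHom ≤ A₁ :=
      Coprime.conj_map_le_iff.2 fun x hx => hA₁.conj_mem x (hKA hx) g
    have htriv : ∀ H : Subgroup G, H ≤ normalizer (N : Set G) := fun H => by
      rw [normalizer_eq_top]; exact le_top
    obtain ⟨n, hn, hle⟩ := Coprime.exists_conj_le_sup_of_commutator_le (M := ⊥) bot_le hNN.le
      (htriv (K.map (MulAut.conj g).toMonoidHom)) (htriv K)
      (by rw [normalizer_eq_top]; exact le_top) (hgA.trans hNK.ge) hd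
      (by rw [Coprime.card_conj_map, hKc]; exact hcop)
    rw [bot_sup_eq, Coprime.conj_map_map] at hle
    have hmem : n * g ∈ normalizer (K : Set G) :=
      Coprime.mem_normalizer_of_conj_map_le fun x hx => Coprime.conj_map_le_iff.1 hle x hx
    have : g = n⁻¹ * (n * g) := by group
    rw [this]
    exact mul_mem (mem_sup_right (hNΦ (inv_mem hn))) (mem_sup_left hmem)
  haveI : K.Normal := normalizer_eq_top_iff.1 hKn
  have hKbot : K = ⊥ := le_bot_iff.1 (hO ▸ Cores.le_pPrimeCore
    (hKc ▸ ((Nat.Prime.coprime_iff_not_dvd hp.out).2 hcA).symm))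
  have hA1 : Nat.card A = 1 := by rw [← hKc, hKbot, card_bot]
  refine ⟨⊥, B.comap f, C.comap f, inferInstance, hB.comap _, hC.comap _, bot_le, comap_mono hBC, ?_,
    ⟨i + k, ?_⟩, ?_, j, ?_⟩
  · rw [card_bot]; exact hp.out.not_dvd_one
  · rw [relIndex_bot_left, Basic.card_comap_mk, pow_add, ← hi, ← hk,
      Subgroup.card_eq_one.1 hA1, relIndex_bot_left, mul_comm]
  · rwa [relIndex_comap, map_comap_eq_self_of_surjective hf]
  · rw [index_comap_of_surjective _ hf, hj]

theorem hasChain_of_primitive (N M : Subgroup G) [N.Normal] (hNp : IsPGroup p N)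
    (hNc : IsMulCommutative N) (hs : N ⊔ M = ⊤) (hd : N ⊓ M = ⊥) (hcore : M.normalCore = ⊥)
    (hM : (∃ K : Subgroup ↥M, K.Normal ∧ ¬ p ∣ Nat.card K ∧ ∃ k : ℕ, K.index = p ^ k) ∨ (M.index).Prime) :
    HasChain p G := by
  obtain ⟨i, hi⟩ := hNp.exists_card_eq
  have hcmp := FrattiniFitting.isComplement'_of_sup_inf hs hd
  have hcard : Nat.card N * Nat.card M = Nat.card G := hcmp.card_mul
  have hbot : ¬ p ∣ Nat.card (⊥ : Subgroup G) := by rw [card_bot]; exact hp.out.not_dvd_one
  rcases hM with ⟨K, hKn, hKp, k, hk⟩ | hpr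
  · set K₁ := K.map M.subtype with hK₁
    have hK₁M : K₁ ≤ M := map_subtype_le K
    have hMK : M ≤ normalizer (K₁ : Set G) := fun m hm =>
      Coprime.mem_normalizer_of_conj_map_le <| by
        rintro _ ⟨x, hx, rfl⟩
        exact ⟨_, hKn.conj_mem x hx ⟨m, hm⟩, rfl⟩
    haveI hC : (N ⊔ K₁).Normal := by
      rw [← normalizer_eq_top_iff, eq_top_iff, ← hs]
      refine sup_le ((le_sup_left (b := K₁)).trans Subgroup.le_normalizer) fun m hm =>
        Coprime.mem_normalizer_of_conj_map_le fun x hx => ?_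
      have h1 : (N ⊔ K₁).map (MulAut.conj m).toMonoidHom = N ⊔ K₁ := by
        rw [Subgroup.map_sup, Coprime.conj_map_eq_self_of_mem_normalizer (hMK hm),
          Coprime.conj_map_eq_self_of_mem_normalizer (show m ∈ normalizer (N : Set G) by
            rw [normalizer_eq_top]; exact mem_top m)]
      exact h1 ▸ ⟨x, hx, rfl⟩
    have hd' : Disjoint N K₁ := disjoint_iff.2 (le_bot_iff.1 (hd ▸ inf_le_inf_left N hK₁M))
    have hcK : Nat.card K₁ = Nat.card K := card_map_of_injective M.subtype_injective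
    have hcC : Nat.card ↥(N ⊔ K₁) = Nat.card N * Nat.card K := by
      rw [Coprime.card_sup_of_le_normalizer (by rw [normalizer_eq_top]; exact le_top) hd', hcK]
    refine ⟨⊥, N, N ⊔ K₁, inferInstance, inferInstance, hC, bot_le, le_sup_left, hbot,
      ⟨i, by rw [relIndex_bot_left, hi]⟩, ?_, k, ?_⟩
    · have h1 := Coprime.card_mul_relIndex' (le_sup_left : N ≤ N ⊔ K₁)
      rw [hcC] at h1
      rwa [Nat.eq_of_mul_eq_mul_left Nat.card_pos h1]
    · have h1 := (N ⊔ K₁).card_mul_index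
      have h2 := K.card_mul_index
      rw [hcC, ← hcard, ← h2, hk, mul_assoc] at h1
      exact Nat.eq_of_mul_eq_mul_left Nat.card_pos (Nat.eq_of_mul_eq_mul_left Nat.card_pos h1)
  · have hidx : M.index = Nat.card N := hcmp.index_eq_card
    rw [hidx, hi] at hpr
    have hNcard : Nat.card N = p := by
      rcases i with _ | _ | i
      · simp at hpr; exact absurd hpr Nat.not_prime_one
      · rw [hi, pow_one]
      · exact absurd hpr (Nat.Prime.not_prime_pow (n := i + 2) (by omega))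
    haveI : IsCyclic N := isCyclic_of_prime_card hNcard
    let φ : M →* MulAut N := (MulAut.conjNormal (H := N)).comp M.subtype
    have hφ : Function.Injective φ := by
      refine (injective_iff_map_eq_one φ).2 fun m hm => Subtype.ext ?_
      have hsub : φ.ker.map M.subtype ≤ M.normalCore := by
        haveI : (φ.ker.map M.subtype).Normal := by
          rw [← normalizer_eq_top_iff, eq_top_iff, ← hs]
          refine sup_le (fun n hn => Subgroup.centralizer_le_normalizer _ (mem_centralizer_iff.2 ?_))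
            fun x hx => Coprime.mem_normalizer_of_conj_map_le ?_
          · rintro _ ⟨y, hy, rfl⟩
            have h1 : ((φ y) ⟨n, hn⟩ : N) = ⟨n, hn⟩ := by rw [MonoidHom.mem_ker.1 hy]; rfl
            exact mul_inv_eq_iff_eq_mul.1 (congrArg Subtype.val h1)
          · rintro _ ⟨y, hy, rfl⟩
            exact ⟨_, φ.normal_ker.conj_mem y hy ⟨x, hx⟩, rfl⟩
        exact normal_le_normalCore.2 (map_subtype_le _)
      have h1 : (m : G) ∈ M.normalCore := hsub ⟨m, hm, rfl⟩
      rwa [hcore, mem_bot] at h1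
    have hMd : Nat.card M ∣ p - 1 := by
      have h1 := card_dvd_of_injective φ hφ
      rwa [IsCyclic.card_mulAut, hNcard, Nat.totient_prime hp.out] at h1
    refine ⟨⊥, N, ⊤, inferInstance, inferInstance, inferInstance, bot_le, le_top, hbot,
      ⟨i, by rw [relIndex_bot_left, hi]⟩, ?_, 0, by rw [index_top, pow_zero]⟩
    rw [relIndex_top_right, hcmp.symm.index_eq_card]
    intro hd
    have h2 := hp.out.two_le
    have := Nat.le_of_dvd (by omega) (hd.trans hMd)
    omega

omit [Finite G] in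
theorem hasChain_main : ∀ (n : ℕ) (H : Type u) [Group H] [Finite H], Nat.card H ≤ n →
    Cfsg.IsPSolvable p H → MaxHyp p H → HasChain p H := by
  intro n
  induction n with
  | zero =>
    intro H _ _ hn
    have := Nat.card_pos (α := H)
    omega
  | succ n ih =>
    intro H _ _ hn hs hmax
    have hrec : ∀ N : Subgroup H, N.Normal → N ≠ ⊥ → ∀ [N.Normal], HasChain p (H ⧸ N) :=
      fun N _ hne _ => ih (H ⧸ N)
        (by have := Basic.card_quotient_lt N hne; omega)
        (Fusion.PSolvable.psolvable_quotient hs N) (maxHyp_quotient hmax N)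
    rcases subsingleton_or_nontrivial H with hss | hnt
    · refine ⟨⊥, ⊥, ⊤, inferInstance, inferInstance, inferInstance, le_rfl, bot_le, ?_, ⟨0, ?_⟩, ?_, 0, ?_⟩
      · rw [card_bot]; exact hp.out.not_dvd_one
      · rw [relIndex_self, pow_zero]
      · rw [relIndex_bot_left, card_top, Nat.card_of_subsingleton (1 : H)]; exact hp.out.not_dvd_one
      · rw [index_top, pow_zero]
    by_cases hO : Cfsg.pPrimeCore p H = ⊥
    swap
    · refine hasChain_of_pprime _ (fun hd => hp.out.not_dvd_one ?_) (hrec _ inferInstance hO)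
      have h1 := Cores.coprime_card_pPrimeCore (G := H) p
      rw [← h1.gcd_eq_one]
      exact Nat.dvd_gcd hd dvd_rfl
    obtain ⟨N, hN, hNne, -, hNmin⟩ := Basic.exists_minimal_normal_le (G := H) (H := ⊤) top_ne_bot
    have hNp : ∀ L : Subgroup H, L.Normal → L ≠ ⊥ →
        (∀ K : Subgroup H, K.Normal → K ≤ L → K = ⊥ ∨ K = L) → IsPGroup p L := by
      intro L hL hLne hLmin
      refine (Fusion.PSolvable.minimal_normal_dichotomy hs L hLmin).resolve_right fun hc => ?_
      exact hLne (le_bot_iff.1 (hO ▸ Cores.le_pPrimeCore hc))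
    have hNpg := hNp N hN hNne hNmin
    haveI : Group.IsNilpotent N := hNpg.isNilpotent
    obtain ⟨hNc, -⟩ := Basic.minimal_normal_solvable N hNne hNmin
    by_cases hNΦ : N ≤ frattini H
    · exact hasChain_of_frattini N hNpg hNc hNΦ hO (hrec N hN hNne)
    obtain ⟨M, hM, hNM⟩ : ∃ M : Subgroup H, IsCoatom M ∧ ¬ N ≤ M := by
      by_contra hc
      push Not at hc
      exact hNΦ (le_iInf₂ fun M hM => hc M hM)
    have hsup : N ⊔ M = ⊤ := hM.2 _ (lt_of_le_not_ge le_sup_right fun h => hNM (le_sup_left.trans h))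
    have hdis : N ⊓ M = ⊥ :=
      (hNmin _ (FrattiniFitting.inf_normal_of_abelian hNc hsup) inf_le_left).resolve_right
        fun h => hNM (h ▸ inf_le_right)
    by_cases hcore : M.normalCore = ⊥
    · exact hasChain_of_primitive N M hNpg hNc hsup hdis hcore (hmax M hM)
    · refine hasChain_of_two N M.normalCore ?_ (hrec N hN hNne) (hrec _ inferInstance hcore)
      exact le_bot_iff.1 (hdis ▸ inf_le_inf_left N M.normalCore_le)

theorem hasChain (hs : Cfsg.IsPSolvable p G) (hmax : MaxHyp p G) : HasChain p G :=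
  hasChain_main (p := p) (Nat.card G) G le_rfl hs hmax

end CfsgLib.Solvable.MaxNpc
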