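import Mathlib

/-!
# The principal ideal theorem

The transfer from a finite group into the abelianised commutator subgroup is trivial.
-/

set_option autoImplicit false

namespace CfsgLib.Solvable.PrincipalIdeal

open Subgroup
open scoped Pointwise

universe u

variable (G : Type u) [Group G] [Finite G]

/-- The coefficient group. -/
abbrev CoA := Additive (Abelianization ↥(commutator G))

/-- The group ring of the abelianised group. -/
abbrev RQ := MonoidAlgebra ℤ (Abelianization G)

/-- The module receiving the derivation. -/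
abbrev Mod := (Abelianization G → CoA G) × RQ G

/-- The translation action. -/
noncomputable def act : Abelianization G →* Module.End ℤ (Mod G) where
  toFun q :=
    { toFun := fun x => (fun p => x.1 (q⁻¹ * p), MonoidAlgebra.of ℤ _ q * x.2)
      map_add' := fun x y => Prod.ext rfl (mul_add _ _ _)
      map_smul' := fun c x => Prod.ext rfl (mul_smul_comm _ _ _) }
  map_one' := LinearMap.ext fun x => Prod.ext (funext fun p => by simp)
    (show MonoidAlgebra.of ℤ _ 1 * x.2 = x.2 by rw [map_one, one_mul])
  map_mul' q r := LinearMap.ext fun x => Prod.ext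
    (funext fun p => congrArg x.1 (by simp [mul_assoc]))
    (show MonoidAlgebra.of ℤ _ (q * r) * x.2 =
      MonoidAlgebra.of ℤ _ q * (MonoidAlgebra.of ℤ _ r * x.2) by rw [map_mul, mul_assoc])

/-- The group ring action. -/
noncomputable def Φ : RQ G →ₐ[ℤ] Module.End ℤ (Mod G) :=
  MonoidAlgebra.lift ℤ (Module.End ℤ (Mod G)) (Abelianization G) (act G)

/-- A fixed transversal. -/
noncomputable def rep (p : G ⧸ commutator G) : G :=
  ((default : (commutator G).LeftTransversal).2.leftQuotientEquiv p : G)

variable {G}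

theorem rep_mk (p : G ⧸ commutator G) : (rep G p : G ⧸ commutator G) = p :=
  (default : (commutator G).LeftTransversal).2.quotientGroupMk_leftQuotientEquiv p

theorem cocycle_mem (g : G) (p : G ⧸ commutator G) :
    (rep G p)⁻¹ * g * rep G (g⁻¹ • p) ∈ commutator G := by
  rw [mul_assoc, ← QuotientGroup.eq, rep_mk]
  change p = g • (rep G (g⁻¹ • p) : G ⧸ commutator G)
  rw [rep_mk, smul_inv_smul]

theorem inv_smul_eq (g : G) (p : G ⧸ commutator G) :
    g⁻¹ • p = (Abelianization.of g)⁻¹ * (show Abelianization G from p) := by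
  induction p using QuotientGroup.induction_on with
  | H x => rfl

/-- The derivation. -/
noncomputable def delta (g : G) : Mod G :=
  (fun p => Additive.ofMul (Abelianization.of
      (⟨(rep G p)⁻¹ * g * rep G (g⁻¹ • (show G ⧸ commutator G from p)), cocycle_mem g p⟩ :
        ↥(commutator G))),
    MonoidAlgebra.of ℤ _ (Abelianization.of g) - 1)

theorem delta_mul (g h : G) :
    delta (g * h) = delta g + act G (Abelianization.of g) (delta h) := by
  refine Prod.ext (funext fun p => ?_) ?_
  · change Additive.ofMul (Abelianization.of (_ : ↥(commutator G))) =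
      Additive.ofMul (Abelianization.of _) + Additive.ofMul (Abelianization.of _)
    rw [← ofMul_mul, ← map_mul]
    congr 2
    apply Subtype.ext
    change (rep G p)⁻¹ * (g * h) * rep G ((g * h)⁻¹ • (show G ⧸ commutator G from p)) =
      (rep G p)⁻¹ * g * rep G (g⁻¹ • (show G ⧸ commutator G from p)) *
        ((rep G (show G ⧸ commutator G from (Abelianization.of g)⁻¹ * p))⁻¹ * h *
          rep G (h⁻¹ • (show G ⧸ commutator G from (Abelianization.of g)⁻¹ * p)))
    rw [show (show G ⧸ commutator G from (Abelianization.of g)⁻¹ * p)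
      = g⁻¹ • (show G ⧸ commutator G from p) from (inv_smul_eq g p).symm, mul_inv_rev, mul_smul]
    group
  · change MonoidAlgebra.of ℤ _ (Abelianization.of (g * h)) - 1 =
      MonoidAlgebra.of ℤ _ (Abelianization.of g) - 1 +
        MonoidAlgebra.of ℤ _ (Abelianization.of g) * (MonoidAlgebra.of ℤ _ (Abelianization.of h) - 1)
    rw [map_mul, map_mul]
    ring

/-- The augmentation. -/
noncomputable def aug : RQ G →ₐ[ℤ] ℤ := MonoidAlgebra.lift ℤ ℤ (Abelianization G) 1

theorem Φ_snd (r : RQ G) (x : Mod G) : (Φ G r x).2 = r * x.2 := by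
  induction r using MonoidAlgebra.induction_on with
  | of q => rw [Φ, MonoidAlgebra.lift_of]; rfl
  | add a b ha hb => rw [map_add, LinearMap.add_apply, Prod.snd_add, ha, hb, add_mul]
  | smul c a ha => rw [map_smul, LinearMap.smul_apply, Prod.smul_snd, ha, smul_mul_assoc]

theorem Φ_fst [Fintype (Abelianization G)] (r : RQ G) (x : Mod G) (p : Abelianization G) :
    (Φ G r x).1 p = ∑ q, r.coeff q • x.1 (q⁻¹ * p) := by
  rw [Φ, MonoidAlgebra.lift_apply, Finsupp.sum_fintype _ _ (by simp),
    LinearMap.sum_apply, Prod.fst_sum, Finset.sum_apply]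
  rfl

theorem aug_eq_sum [Fintype (Abelianization G)] (r : RQ G) : aug r = ∑ q, r.coeff q := by
  rw [aug, MonoidAlgebra.lift_apply, Finsupp.sum_fintype _ _ (by simp)]
  simp

theorem exists_kills [Fintype G] :
    ∃ d : RQ G, (aug d).natAbs = Nat.card (Abelianization G) ∧ ∀ g : G, Φ G d (delta g) = 0 := by
  classical
  -- combinations with coefficients of augmentation zero
  let S : AddSubgroup (Mod G) :=
    { carrier := {x | ∃ w : G → RQ G, (∀ g, aug (w g) = 0) ∧ ∑ g, Φ G (w g) (delta g) = x}
      zero_mem' := ⟨0, fun g => map_zero _, by simp⟩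
      add_mem' := by
        rintro _ _ ⟨w, hw, rfl⟩ ⟨v, hv, rfl⟩
        exact ⟨w + v, fun g => by simp [hw g, hv g], by simp [Finset.sum_add_distrib]⟩
      neg_mem' := by
        rintro _ ⟨w, hw, rfl⟩
        exact ⟨-w, fun g => by simp [hw g], by simp⟩ }
  have hS : ∀ g h : G, delta (g * h) - (delta g + delta h) ∈ S := fun g h => by
    refine ⟨Pi.single h (MonoidAlgebra.of ℤ _ (Abelianization.of g) - 1), fun x => ?_, ?_⟩
    · rcases eq_or_ne x h with rfl | hx
      · rw [Pi.single_eq_same, map_sub, map_one, aug, MonoidAlgebra.lift_of]; simp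
      · rw [Pi.single_eq_of_ne hx, map_zero]
    · rw [Finset.sum_eq_single h (fun x _ hx => by simp [Pi.single_eq_of_ne hx]) (by simp),
        Pi.single_eq_same, map_sub, map_one, LinearMap.sub_apply, Module.End.one_apply, delta_mul, Φ,
        MonoidAlgebra.lift_of]
      abel
  let f : G →* Multiplicative (Mod G ⧸ S) :=
    MonoidHom.mk' (fun g => Multiplicative.ofAdd (delta g : Mod G ⧸ S)) fun g h => by
      rw [← ofAdd_add]
      congr 1
      exact QuotientAddGroup.eq_iff_sub_mem.2 (hS g h)
  let F : Additive (Abelianization G) →+ Mod G ⧸ S :=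
    MonoidHom.toAdditiveLeft (Abelianization.lift f)
  -- the lattice of relations
  let π : (G → ℤ) →ₗ[ℤ] Additive (Abelianization G) :=
    Fintype.linearCombination ℤ fun g : G => Additive.ofMul (Abelianization.of g)
  have hπs : Function.Surjective π := fun y => by
    obtain ⟨g, hg⟩ := QuotientGroup.mk_surjective (s := commutator G) y.toMul
    refine ⟨Pi.single g 1, ?_⟩
    rw [Fintype.linearCombination_apply_single, one_smul]
    exact congrArg Additive.ofMul hg
  set K := LinearMap.ker π with hK
  have hm : 0 < Nat.card (Abelianization G) := Nat.card_pos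
  have hrank : Module.finrank ℤ K = Fintype.card G := by
    refine le_antisymm ((Submodule.finrank_le K).trans_eq (Module.finrank_fintype_fun_eq_card ℤ)) ?_
    rw [← Module.finrank_fintype_fun_eq_card ℤ (η := G)]
    refine LinearMap.finrank_le_finrank_of_injective
      (f := ((Nat.card (Abelianization G) : ℤ) • LinearMap.id).codRestrict K fun x => ?_) ?_
    · rw [hK, LinearMap.mem_ker, LinearMap.smul_apply, LinearMap.id_apply, map_smul]
      rw [← ofMul_toMul (π x), ← ofMul_zpow, zpow_natCast, pow_card_eq_one', ofMul_one]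
    · intro x y h
      have h' := congrArg Subtype.val h
      exact smul_right_injective (G → ℤ) (by exact_mod_cast hm.ne' : (Nat.card (Abelianization G) : ℤ) ≠ 0) h'
  let bK : Module.Basis G ℤ K :=
    (Module.finBasisOfFinrankEq ℤ K hrank).reindex (Fintype.equivFin G).symm
  let Mx : Matrix G G ℤ := Matrix.of fun i g => (bK i : G → ℤ) g
  have hdet : Mx.det.natAbs = Nat.card (Abelianization G) := by
    have h1 := Submodule.natAbs_det_basis_change (Pi.basisFun ℤ G) K bK
    have h2 : Mx.det = (Pi.basisFun ℤ G).det ((↑) ∘ bK) := by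
      rw [Module.Basis.det_apply, ← Matrix.det_transpose]
      congr 1
    rw [h2, h1]
    exact Nat.card_congr (LinearMap.quotKerEquivOfSurjective π hπs).toEquiv |>.trans
      (Nat.card_congr Additive.toMul)
  have hrel : ∀ i, ∃ w : G → RQ G, (∀ g, aug (w g) = 0) ∧
      ∑ g, Φ G ((Mx i g : ℤ) • 1 - w g) (delta g) = 0 := by
    intro i
    have hi : π (bK i : G → ℤ) = 0 := LinearMap.mem_ker.1 (bK i).2
    have h0 : ((∑ g, Mx i g • delta g : Mod G) : Mod G ⧸ S) = 0 := by
      rw [show (((∑ g, Mx i g • delta g : Mod G)) : Mod G ⧸ S) = F (π (bK i : G → ℤ)) from ?_, hi,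
        map_zero]
      rw [Fintype.linearCombination_apply, map_sum]
      change QuotientAddGroup.mk' S (∑ g, Mx i g • delta g) = _
      rw [map_sum]
      refine Finset.sum_congr rfl fun g _ => ?_
      rw [map_zsmul, map_zsmul]
      rfl
    obtain ⟨w, hw, he⟩ := (QuotientAddGroup.eq_zero_iff _).1 h0
    refine ⟨w, hw, ?_⟩
    simp only [map_sub, map_zsmul, map_one, LinearMap.sub_apply, LinearMap.smul_apply,
      Module.End.one_apply, Finset.sum_sub_distrib, he, sub_self]
  choose W hW hWe using hrel
  let P : Matrix G G (RQ G) := Matrix.of fun i g => (Mx i g : ℤ) • (1 : RQ G) - W i g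
  refine ⟨P.det, ?_, fun g0 => ?_⟩
  · rw [AlgHom.map_det, show aug.mapMatrix P = Mx from ?_, hdet]
    ext i g
    change aug ((Mx i g : ℤ) • (1 : RQ G) - W i g) = _
    rw [map_sub, map_zsmul, map_one, hW, sub_zero, smul_eq_mul, mul_one]
  · have h2 : ∑ i, Φ G (P.adjugate g0 i) (∑ g, Φ G (P i g) (delta g)) = 0 :=
      Finset.sum_eq_zero fun i _ => by
        rw [show ∑ g, Φ G (P i g) (delta g) = 0 from hWe i, map_zero]
    simp only [map_sum] at h2
    rw [Finset.sum_comm] at h2
    have h3 : ∀ g, ∑ i, Φ G (P.adjugate g0 i) (Φ G (P i g) (delta g)) =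
        Φ G ((P.adjugate * P) g0 g) (delta g) := fun g => by
      rw [Matrix.mul_apply, map_sum, LinearMap.sum_apply]
      exact Finset.sum_congr rfl fun i _ => by rw [map_mul]; rfl
    rw [Finset.sum_congr rfl (fun g _ => h3 g), Matrix.adjugate_mul,
      Finset.sum_eq_single g0 (fun g _ hg => by simp [Ne.symm hg]) (by simp)] at h2
    simpa using h2

theorem transfer_commutator_eq_one :
    MonoidHom.transfer (Abelianization.of : ↥(commutator G) →* Abelianization ↥(commutator G)) = 1 := by
  classical
  letI := Fintype.ofFinite G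
  letI := Fintype.ofFinite (Abelianization G)
  obtain ⟨d, hd, hk⟩ := exists_kills (G := G)
  have hc : ∀ q, d.coeff q = d.coeff 1 := by
    intro q
    obtain ⟨g, rfl⟩ := QuotientGroup.mk_surjective (s := commutator G) q
    have h := congrArg Prod.snd (hk g⁻¹)
    rw [Φ_snd, Prod.snd_zero] at h
    change d * (MonoidAlgebra.of ℤ _ (Abelianization.of g⁻¹) - 1) = 0 at h
    rw [mul_sub, mul_one, sub_eq_zero, map_inv] at h
    have h1 := congrArg (fun r : RQ G => r.coeff 1) h
    simp only [MonoidAlgebra.of_apply, MonoidAlgebra.coeff_mul_single_apply, inv_inv, one_mul,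
      mul_one] at h1
    exact h1
  have hc1 : (d.coeff 1).natAbs = 1 := by
    rw [aug_eq_sum, Finset.sum_congr rfl (fun q _ => hc q), Finset.sum_const, Finset.card_univ,
      nsmul_eq_mul, Int.natAbs_mul, Int.natAbs_natCast, ← Nat.card_eq_fintype_card] at hd
    exact (mul_eq_left₀ Nat.card_pos.ne').1 hd
  refine MonoidHom.ext fun g => ?_
  have h := congrFun (congrArg Prod.fst (hk g)) 1
  rw [Φ_fst, Finset.sum_congr rfl (fun q _ => by rw [hc q]), ← Finset.smul_sum, Prod.fst_zero,
    Pi.zero_apply, Fintype.sum_equiv (Equiv.inv _) (fun q => (delta g).1 (q⁻¹ * 1))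
      (fun q => (delta g).1 q) (fun q => by simp)] at h
  have hsum : ∑ q, (delta g).1 q = 0 := by
    rcases Int.natAbs_eq_iff.1 hc1 with e | e <;> simpa [e] using h
  rw [MonoidHom.transfer_def _ (default : (commutator G).LeftTransversal) g, MonoidHom.one_apply]
  refine Additive.ofMul.injective (Eq.trans ?_ hsum)
  rw [Subgroup.leftTransversals.diff, ofMul_prod]
  refine Finset.sum_congr (Finset.ext fun a => ⟨fun _ => @Finset.mem_univ _ (_) a, fun _ => @Finset.mem_univ _ (_) a⟩) fun q _ => ?_
  change Additive.ofMul (Abelianization.of _) = Additive.ofMul (Abelianization.of _)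
  congr 2
  refine Subtype.ext ?_
  change (rep G q)⁻¹ *
      (((g • (default : (commutator G).LeftTransversal)).2.leftQuotientEquiv q : G)) =
    (rep G q)⁻¹ * g * rep G (g⁻¹ • (show G ⧸ commutator G from q))
  rw [Subgroup.smul_apply_eq_smul_apply_inv_smul, smul_eq_mul, ← mul_assoc]
  rfl

end CfsgLib.Solvable.PrincipalIdeal
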