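import Cfsg.Agent.Lib.OddOrder.CharOmega
import Cfsg.Agent.Lib.KGroups.OmegaFaithful
import Cfsg.Agent.Lib.PGroup.CoprimeFix
import Cfsg.Agent.Lib.Fusion.PSolvable
import Cfsg.Agent.Lib.Components.PComponents

/-!
# Chief factors of a `p`-solvable group of `p`-rank at most two
-/

set_option autoImplicit false

namespace CfsgLib.Solvable.RankTwoChief

open Subgroup
open scoped commutatorElement

universe u

variable {p : ℕ} [hpf : Fact p.Prime]

theorem pow_mul_of_small {R : Type*} [Group R] [Finite R] (hp2 : p ≠ 2) {x y : R}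
    (hd : ∀ g : R, Commute g ⁅y⁻¹, x⁆) (hdp : ⁅y⁻¹, x⁆ ^ p = 1) :
    (x⁻¹ * y) ^ p = x⁻¹ ^ p * y ^ p := by
  have h := KGroups.OmegaFaithful.class_two_pow (x := x⁻¹) (y := y) (d := ⁅y⁻¹, x⁆)
    (by simp only [commutatorElement_def]; group) (hd _) (hd _) p
  rw [h]
  obtain ⟨m, hm⟩ := hpf.out.dvd_choose_self two_ne_zero
    (lt_of_le_of_ne hpf.out.two_le (Ne.symm hp2))
  rw [hm, pow_mul, hdp, one_pow, mul_one]

/-- If the elements of order `p` are central then they are central modulo themselves. -/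
theorem commutator_pow_eq_one (hp2 : p ≠ 2) : ∀ (n : ℕ) {R : Type u} [Group R] [Finite R],
    Nat.card R ≤ n → IsPGroup p R → (∀ z : R, z ^ p = 1 → ∀ g : R, Commute g z) →
    ∀ x : R, (x ^ p) ^ p = 1 → ∀ g : R, ⁅x, g⁆ ^ p = 1 := by
  intro n
  induction n with
  | zero => intro R _ _ hcard; exact absurd Nat.card_pos (not_lt.2 hcard)
  | succ n ih =>
    intro R _ _ hcard hR hcen
    suffices key : ∀ x : R, (x ^ p) ^ p = 1 → ∀ g : R, ⁅x⁻¹, g⁆ ^ p = 1 by
      intro x hx g
      have h := key x⁻¹ (by rw [inv_pow, inv_pow, hx, inv_one]) g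
      rwa [inv_inv] at h
    intro x hx g
    rcases eq_top_or_exists_le_coatom (zpowers x) with htop | ⟨M, hM, hxM⟩
    · obtain ⟨i, rfl⟩ := mem_zpowers_iff.1 (htop.ge (mem_top g))
      rw [commutatorElement_eq_one_iff_mul_comm.2 ((Commute.refl x).inv_left.zpow_right i).eq, one_pow]
    have hxM' : x ∈ M := hxM (mem_zpowers x)
    have hyM : g * x * g⁻¹ ∈ M := (PGroup.Frattini.normal_of_isCoatom hR hM).conj_mem x hxM' g
    have hlt : Nat.card M ≤ n := by
      have h2 : Nat.card M < Nat.card R := lt_of_le_of_ne (card_le_card_group M) fun he =>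
        hM.1 (eq_top_of_card_eq M he)
      omega
    set y : M := ⟨g * x * g⁻¹, hyM⟩ with hy
    have h3 := ih hlt (hR.to_subgroup M)
      (fun z hz w => Subtype.ext (hcen (z : R) (congrArg Subtype.val hz) (w : R)).eq)
      (⟨x, hxM'⟩ : M) (Subtype.ext hx) y⁻¹
    have h3' : ⁅x, (g * x * g⁻¹)⁻¹⁆ ^ p = 1 := by
      have h4 : M.subtype (⁅(⟨x, hxM'⟩ : M), y⁻¹⁆ ^ p) = 1 := by rw [h3, map_one]
      rwa [map_pow, map_commutatorElement, map_inv] at h4
    have hdp : ⁅(g * x * g⁻¹)⁻¹, x⁆ ^ p = 1 := by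
      rw [← commutatorElement_inv, inv_pow, h3', inv_one]
    have h5 := pow_mul_of_small hp2 (fun w => hcen _ hdp w) hdp
    rw [conj_pow, (hcen _ hx g).eq, mul_inv_cancel_right, inv_pow, inv_mul_cancel] at h5
    rw [show ⁅x⁻¹, g⁆ = x⁻¹ * (g * x * g⁻¹) by rw [commutatorElement_def, inv_inv]; group]
    exact h5

section Chief

variable {G : Type u} [Group G]

/-- `H / K` is a chief factor. -/
def IsChief (H K : Subgroup G) : Prop :=
  H.Normal ∧ K.Normal ∧ K < H ∧ ∀ L : Subgroup G, L.Normal → K ≤ L → L ≤ H → L = K ∨ L = H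

theorem IsChief.cases {H K : Subgroup G} (h : IsChief H K) (N : Subgroup G) [N.Normal] :
    H ⊓ N ≤ K ∨ K.relIndex H ∣ Nat.card N := by
  obtain ⟨hH, hK, hlt, hmax⟩ := h
  rcases hmax (H ⊓ N ⊔ K) inferInstance le_sup_right (sup_le inf_le_left hlt.le) with h | h
  · exact Or.inl (le_sup_left.trans h.le)
  · refine Or.inr ?_
    conv_lhs => rw [← h]
    rw [relIndex_sup_right]
    exact (relIndex_dvd_card _ _).trans (card_dvd_of_le inf_le_right)

theorem sup_ker_inf {H K N : Subgroup G} [K.Normal] (hKH : K ≤ H) (hN : H ⊓ N ≤ K) :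
    (K ⊔ N) ⊓ H = K := by
  refine le_antisymm ?_ (le_inf le_sup_left hKH)
  rintro x ⟨hx, hxH⟩
  obtain ⟨k, hk, v, hv, rfl⟩ := mem_sup_of_normal_left.1 hx
  refine mul_mem hk (hN ⟨?_, hv⟩)
  have := mul_mem (inv_mem (hKH hk)) hxH
  rwa [inv_mul_cancel_left] at this

theorem relIndex_map_of_inf_ker {A : Type*} [Group A] (f : G →* A) {H K : Subgroup G} [K.Normal]
    (hKH : K ≤ H) (hker : H ⊓ f.ker ≤ K) : (K.map f).relIndex (H.map f) = K.relIndex H := by
  rw [relIndex_map_map, ← inf_relIndex_right]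
  have h1 : H ⊔ f.ker = H ⊔ (K ⊔ f.ker) := by rw [← sup_assoc, sup_eq_left.2 hKH]
  rw [inf_relIndex_right, h1, relIndex_sup_right, ← inf_relIndex_right, sup_ker_inf hKH hker]

theorem IsChief.map [Finite G] {A : Type u} [Group A] (f : G →* A) (hf : Function.Surjective f)
    {H K : Subgroup G} (h : IsChief H K) (hker : H ⊓ f.ker ≤ K) :
    IsChief (H.map f) (K.map f) ∧ (K.map f).relIndex (H.map f) = K.relIndex H := by
  obtain ⟨hH, hK, hlt, hmax⟩ := h
  have hidx := relIndex_map_of_inf_ker f hlt.le hker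
  refine ⟨⟨hH.map f hf, hK.map f hf, lt_of_le_of_ne (map_mono hlt.le) fun he => ?_, ?_⟩, hidx⟩
  · rw [he, relIndex_self, eq_comm, relIndex_eq_one] at hidx
    exact hlt.not_ge hidx
  · intro L hL hKL hLH
    haveI := hL
    rcases hmax (L.comap f ⊓ H) inferInstance
      (le_inf (map_le_iff_le_comap.1 hKL) hlt.le) inf_le_right with h | h
    · left
      refine le_antisymm (fun l hl => ?_) hKL
      obtain ⟨x, hx, rfl⟩ := hLH hl
      exact mem_map_of_mem f (h.le ⟨hl, hx⟩)
    · right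
      refine le_antisymm hLH ?_
      rintro _ ⟨x, hx, rfl⟩
      exact (h.ge hx).1

end Chief

/-- Chief factors inside a `p`-subgroup with at most `p ^ 2` central elements of order `p`. -/
theorem chief_le_of_central_omega (hp2 : p ≠ 2) : ∀ (n : ℕ) {G : Type u} [Group G] [Finite G],
    Nat.card G ≤ n → ∀ (D H K : Subgroup G), D.Normal → IsPGroup p D →
    (∀ z ∈ D, z ^ p = 1 → ∀ x ∈ D, Commute x z) →
    Nat.card {x : G // x ∈ D ∧ x ^ p = 1} ≤ p ^ 2 → IsChief H K → ¬ H ⊓ D ≤ K →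
    K.relIndex H ≤ p ^ 2 := by
  intro n
  induction n with
  | zero => intro G _ _ hcard; exact absurd Nat.card_pos (not_lt.2 hcard)
  | succ n ih =>
    intro G _ _ hcard D H K hD hDp hcen hsmall hchief hnot
    let Z : Subgroup G :=
      { carrier := {x | x ∈ D ∧ x ^ p = 1}
        one_mem' := ⟨one_mem _, one_pow _⟩
        mul_mem' := fun {a b} ha hb => ⟨mul_mem ha.1 hb.1, by
          rw [(hcen b hb.1 hb.2 a ha.1).mul_pow, ha.2, hb.2, one_mul]⟩
        inv_mem' := fun {a} ha => ⟨inv_mem ha.1, by rw [inv_pow, ha.2, inv_one]⟩ }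
    haveI hZn : Z.Normal := ⟨fun x hx g => ⟨hD.conj_mem x hx.1 g, by
      rw [conj_pow, hx.2, mul_one, mul_inv_cancel]⟩⟩
    rcases hchief.cases Z with hHZ | hdvd
    swap
    · exact (Nat.le_of_dvd Nat.card_pos hdvd).trans hsmall
    have hZne : Z ≠ ⊥ := by
      intro hZ
      refine hnot ?_
      suffices hDb : D = ⊥ by rw [hDb, inf_bot_eq]; exact bot_le
      by_contra hne
      haveI : Nontrivial D := (nontrivial_iff_ne_bot _).2 hne
      obtain ⟨k, hk0, hk⟩ := hDp.nontrivial_iff_card.1 inferInstance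
      obtain ⟨x, hx⟩ := exists_prime_orderOf_dvd_card' (G := D) p (hk ▸ dvd_pow_self p hk0.ne')
      have hxZ : (x : G) ∈ Z := ⟨x.2, by
        have h1 := pow_orderOf_eq_one x
        rw [hx] at h1
        exact congrArg Subtype.val h1⟩
      rw [hZ, mem_bot] at hxZ
      rw [OneMemClass.coe_eq_one.1 hxZ, orderOf_one] at hx
      exact hpf.out.one_lt.ne hx
    set f := QuotientGroup.mk' Z with hf
    have hfs : Function.Surjective f := QuotientGroup.mk'_surjective Z
    have hker : H ⊓ f.ker ≤ K := by rwa [QuotientGroup.ker_mk']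
    obtain ⟨hchief', hidx⟩ := hchief.map f hfs hker
    rw [← hidx]
    have hcardq : Nat.card (G ⧸ Z) ≤ n := by
      have h1 : Nat.card G = Nat.card (G ⧸ Z) * Nat.card Z := card_eq_card_quotient_mul_card_subgroup Z
      have h2 : 1 < Nat.card Z := (one_lt_card_iff_ne_bot Z).2 hZne
      have h3 : Nat.card (G ⧸ Z) < Nat.card G := by
        rw [h1]; exact lt_mul_of_one_lt_right Nat.card_pos h2
      omega
    have hdata : ∀ z ∈ D, f z ^ p = 1 → z ^ p ∈ Z := fun z _ hz => by
      rw [← map_pow] at hz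
      exact (QuotientGroup.eq_one_iff _).1 hz
    have hcomm : ∀ z ∈ D, (z ^ p) ^ p = 1 → ∀ x ∈ D, ⁅z, x⁆ ∈ Z := by
      intro z hz hzp x hx
      refine ⟨mul_mem (mul_mem (mul_mem hz hx) (inv_mem hz)) (inv_mem hx), ?_⟩
      have h := commutator_pow_eq_one hp2 (Nat.card D) le_rfl hDp
        (fun w hw g => Subtype.ext (hcen (w : G) w.2 (congrArg Subtype.val hw) (g : G) g.2).eq)
        (⟨z, hz⟩ : D) (Subtype.ext hzp) ⟨x, hx⟩
      have h1 : D.subtype (⁅(⟨z, hz⟩ : D), ⟨x, hx⟩⁆ ^ p) = 1 := by rw [h, map_one]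
      rwa [map_pow, map_commutatorElement] at h1
    refine ih hcardq (D.map f) (H.map f) (K.map f) (hD.map f hfs) (hDp.map f) ?_ ?_ hchief' ?_
    · rintro _ ⟨z, hz, rfl⟩ hzp _ ⟨x, hx, rfl⟩
      refine (commutatorElement_eq_one_iff_mul_comm.1 ?_ : f z * f x = f x * f z).symm
      rw [← map_commutatorElement]
      exact (QuotientGroup.eq_one_iff _).2 (hcomm z hz (hdata z hz hzp).2 x hx)
    · refine le_trans ?_ hsmall
      have hex : ∀ q : {x : G ⧸ Z // x ∈ D.map f ∧ x ^ p = 1}, ∃ z ∈ D, f z = q.1 := fun q => q.2.1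
      choose z hzD hzq using hex
      have hzp : ∀ q, z q ^ p ∈ Z := fun q => hdata _ (hzD q) (by rw [hzq]; exact q.2.2)
      refine Nat.card_le_card_of_injective (fun q => (⟨z q ^ p, hzp q⟩ : {x : G // x ∈ D ∧ x ^ p = 1})) ?_
      intro q q' hqq
      have hpow : z q ^ p = z q' ^ p := congrArg Subtype.val hqq
      have hdZ : ⁅(z q')⁻¹, z q⁆ ∈ Z := by
        have h1 := hcomm (z q) (hzD q) (hzp q).2 (z q')⁻¹ (inv_mem (hzD q'))
        rw [← commutatorElement_inv]
        exact inv_mem h1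
      have hall : ∀ w ∈ D, Commute w ⁅(z q')⁻¹, z q⁆ := fun w hw => hcen _ hdZ.1 hdZ.2 w hw
      have h := KGroups.OmegaFaithful.class_two_pow (x := (z q)⁻¹) (y := z q') (d := ⁅(z q')⁻¹, z q⁆)
        (by simp only [commutatorElement_def]; group) (hall _ (inv_mem (hzD q))) (hall _ (hzD q')) p
      obtain ⟨m, hm⟩ := hpf.out.dvd_choose_self two_ne_zero
        (lt_of_le_of_ne hpf.out.two_le (Ne.symm hp2))
      rw [hm, pow_mul, hdZ.2, one_pow, mul_one, inv_pow, hpow, inv_mul_cancel] at h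
      apply Subtype.ext
      rw [← hzq q, ← hzq q']
      exact QuotientGroup.eq.2 (show (z q)⁻¹ * z q' ∈ Z from
        ⟨D.mul_mem (D.inv_mem (hzD q)) (hzD q'), h⟩)
    · intro hle
      refine hnot fun x hx => ?_
      have h1 : f x ∈ K.map f := hle ⟨mem_map_of_mem f hx.1, mem_map_of_mem f hx.2⟩
      obtain ⟨k, hk, hkx⟩ := h1
      have h2 : k⁻¹ * x ∈ Z := QuotientGroup.eq.1 hkx
      have h3 : k⁻¹ * x ∈ K := hHZ ⟨H.mul_mem (H.inv_mem (hchief.2.2.1.le hk)) hx.1, h2⟩
      simpa using mul_mem hk h3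

/-- A `p`-group of automorphisms of a group of order dividing `p ^ 2` has order dividing `p`. -/
theorem card_aut_le {Q : Type*} [Group Q] [Finite Q] {P : Subgroup (MulAut Q)} (hP : IsPGroup p P)
    (hQ : Nat.card Q ∣ p ^ 2) : Nat.card P ≤ p := by
  classical
  have hp : p.Prime := hpf.out
  rcases subsingleton_or_nontrivial Q with hQ1 | hQ1
  · haveI : Subsingleton P := ⟨fun a b => Subtype.ext (MulEquiv.ext fun x => Subsingleton.elim _ _)⟩
    rw [Nat.card_eq_one_iff_unique.2 ⟨inferInstance, inferInstance⟩]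
    exact hp.one_le
  obtain ⟨k, hk2, hk⟩ := (Nat.dvd_prime_pow hp).1 hQ
  have hk0 : k ≠ 0 := fun h0 => by
    rw [h0, pow_zero] at hk
    exact (Finite.one_lt_card (α := Q)).ne' hk
  have h1 : (1 : Q) ∈ MulAction.fixedPoints P Q := fun g => map_one (g : MulAut Q)
  obtain ⟨v, hv, hv1⟩ := hP.exists_fixed_point_of_prime_dvd_card_of_fixed_point Q
    (hk ▸ dvd_pow_self p hk0) h1
  by_cases hall : ∀ w : Q, w ∈ zpowers v
  · haveI : Subsingleton P := ⟨fun a b => Subtype.ext (MulEquiv.ext fun x => by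
      obtain ⟨i, rfl⟩ := mem_zpowers_iff.1 (hall x)
      rw [map_zpow, map_zpow, show (a : MulAut Q) v = v from hv a, show (b : MulAut Q) v = v from hv b])⟩
    rw [Nat.card_eq_one_iff_unique.2 ⟨inferInstance, inferInstance⟩]
    exact hp.one_le
  push Not at hall
  obtain ⟨w, hw⟩ := hall
  have hstab : MulAction.stabilizer P w = ⊥ := by
    refine (eq_bot_iff_forall _).2 fun a ha => Subtype.ext (MulEquiv.ext fun x => ?_)
    let F : Subgroup Q := MonoidHom.eqLocus (a : MulAut Q).toMonoidHom (MonoidHom.id Q)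
    have hvF : zpowers v ≤ F := zpowers_le.2 (hv a)
    have hwF : w ∈ F := MulAction.mem_stabilizer_iff.1 ha
    suffices hF : F = ⊤ from (hF.ge (mem_top x) : x ∈ F)
    refine eq_top_of_card_eq F ?_
    obtain ⟨i, hi, hiF⟩ := (Nat.dvd_prime_pow hp).1 ((card_subgroup_dvd_card F).trans hQ)
    obtain ⟨j, hj, hjv⟩ := (Nat.dvd_prime_pow hp).1 ((card_subgroup_dvd_card (zpowers v)).trans hQ)
    have hlt : Nat.card (zpowers v) < Nat.card F := lt_of_le_of_ne (card_le_of_le hvF) fun he =>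
      hw ((eq_of_le_of_card_ge hvF he.ge).ge hwF)
    have hv2 : 1 < Nat.card (zpowers v) :=
      (one_lt_card_iff_ne_bot _).2 fun hb => hv1 (zpowers_eq_bot.1 hb).symm
    rw [hjv] at hv2 hlt
    rw [hiF] at hlt ⊢
    have hj0 : j ≠ 0 := fun h0 => by rw [h0, pow_zero] at hv2; exact lt_irrefl _ hv2
    have hij := (Nat.pow_lt_pow_iff_right hp.one_lt).1 hlt
    have hki : i ≤ k := (Nat.pow_le_pow_iff_right hp.one_lt).1 (by
      rw [← hiF, ← hk]; exact card_le_card_group F)
    rw [hk, show i = k by omega]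
  have horb : Nat.card (MulAction.orbit P w) = Nat.card P := by
    have := Nat.card_congr (MulAction.orbitEquivQuotientStabilizer P w)
    rwa [hstab, ← index_eq_card, index_bot] at this
  have hne : MulAction.orbit P w ≠ Set.univ := by
    intro he
    obtain ⟨g, hg⟩ := he.ge (Set.mem_univ v)
    have : w = v := (g : MulAut Q).injective (hg.trans (hv g).symm)
    exact hw (this ▸ mem_zpowers v)
  have hlt : Nat.card (MulAction.orbit P w) < Nat.card Q := Finite.card_subtype_lt (p := fun x => x ∈ MulAction.orbit P w)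
    (x := v) fun hmem => by
      obtain ⟨g, hg⟩ := hmem
      have : w = v := (g : MulAut Q).injective (hg.trans (hv g).symm)
      exact hw (this ▸ mem_zpowers v)
  rw [horb, hk] at hlt
  obtain ⟨m, hm⟩ := IsPGroup.iff_card.mp hP
  rw [hm] at hlt ⊢
  have := (Nat.pow_lt_pow_iff_right hp.one_lt).1 hlt
  exact Nat.pow_le_pow_right hp.pos (show m ≤ 1 by omega) |>.trans_eq (pow_one p)

section Small

variable {G : Type u} [Group G] [Finite G]

/-- The order of a subgroup of exponent `p` and class two whose elementary abelian subgroups are small. -/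
theorem card_good_le {T : Subgroup G} (hTp : IsPGroup p T) (hexp : ∀ x ∈ T, x ^ p = 1)
    (hcomm : ∀ a ∈ T, ∀ b ∈ T, ∀ c ∈ T, Commute c ⁅a, b⁆)
    (hr : ∀ A : Subgroup G, A ≤ T → IsMulCommutative A → Nat.card A ≤ p ^ 2)
    (hne : ¬ IsMulCommutative T) :
    Nat.card T ≤ p ^ 3 ∧ Nat.card (T ⊓ centralizer (T : Set G) : Subgroup G) = p := by
  classical
  have hp : p.Prime := hpf.out
  set Z := T ⊓ centralizer (T : Set G) with hZ
  obtain ⟨a, ha, haZ⟩ : ∃ a ∈ T, a ∉ Z := by
    by_contra hno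
    push Not at hno
    exact hne (isMulCommutative_iff.2 fun x y => Subtype.ext
      (mem_centralizer_iff.1 (hno y y.2).2 x x.2))
  have hcloseC : ∀ s : Set G, s ⊆ T → (∀ x ∈ s, ∀ y ∈ s, x * y = y * x) →
      Nat.card (closure s) ≤ p ^ 2 := fun s hs hc =>
    hr _ ((closure_le T).2 hs) (Subgroup.isMulCommutative_closure hc)
  have hga : ∀ x ∈ (insert a (Z : Set G)), ∀ y ∈ (insert a (Z : Set G)), x * y = y * x := by
    rintro x (rfl | hx) y (rfl | hy)
    · rfl
    · exact mem_centralizer_iff.1 hy.2 _ ha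
    · exact (mem_centralizer_iff.1 hx.2 _ ha).symm
    · exact (mem_centralizer_iff.1 hx.2 y hy.1).symm
  have hB2 := hcloseC (insert a (Z : Set G)) (Set.insert_subset ha fun x hx => hx.1) hga
  set B := closure (insert a (Z : Set G)) with hB
  have hZB : Z < B := lt_of_le_of_ne (fun x hx => subset_closure (Set.mem_insert_of_mem _ hx))
    fun he => haZ (he ▸ subset_closure (Set.mem_insert a _))
  obtain ⟨i, hi⟩ := IsPGroup.iff_card.mp (hTp.to_le (inf_le_left : Z ≤ T))
  have hBT : B ≤ T := (closure_le T).2 (Set.insert_subset ha fun x hx => hx.1)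
  obtain ⟨j, hj⟩ := IsPGroup.iff_card.mp (hTp.to_le hBT)
  have hij : i < j := (Nat.pow_lt_pow_iff_right hp.one_lt).1 (by
    rw [← hi, ← hj]
    exact lt_of_le_of_ne (card_le_of_le hZB.le) fun he => hZB.ne (eq_of_le_of_card_ge hZB.le he.ge))
  have hj2 : j ≤ 2 := (Nat.pow_le_pow_iff_right hp.one_lt).1 (hj ▸ hB2)
  have hi1 : i ≠ 0 := by
    intro h0
    haveI : Nontrivial T := (nontrivial_iff_ne_bot _).2 fun hb => haZ (by
      rw [hb, mem_bot] at ha; rw [ha]; exact one_mem _)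
    haveI := hTp.center_nontrivial
    obtain ⟨⟨z, hz⟩, hz1⟩ := exists_ne (1 : center T)
    have hzZ : (z : G) ∈ Z := ⟨z.2, mem_centralizer_iff.2 fun x hx =>
      congrArg Subtype.val (mem_center_iff.1 hz ⟨x, hx⟩)⟩
    rw [show Z = ⊥ from eq_bot_of_card_eq _ (by rw [hi, h0, pow_zero]), mem_bot] at hzZ
    exact hz1 (Subtype.ext (Subtype.ext hzZ))
  have hi' : i = 1 := by omega
  have hj' : j = 2 := by omega
  refine ⟨?_, by rw [hi, hi', pow_one]⟩
  -- the commutator with `a`
  let φ : T →* Z := MonoidHom.mk' (fun x => ⟨⁅a, (x : G)⁆,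
      T.mul_mem (T.mul_mem (T.mul_mem ha x.2) (T.inv_mem ha)) (T.inv_mem x.2),
      mem_centralizer_iff.2 fun c hc => (hcomm a ha x x.2 c hc).eq⟩) fun x y => Subtype.ext (by
    show ⁅a, (x : G) * y⁆ = ⁅a, (x : G)⁆ * ⁅a, (y : G)⁆
    rw [show ⁅a, (x : G) * y⁆ = ⁅a, (x : G)⁆ * ((x : G) * ⁅a, (y : G)⁆ * (x : G)⁻¹) by
      simp only [commutatorElement_def]; group,
      (hcomm a ha y y.2 x x.2).eq, mul_inv_cancel_right])
  have hkerB : φ.ker.map T.subtype ≤ B := by
    rintro _ ⟨x, hx, rfl⟩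
    have hxa : a * (x : G) = x * a :=
      commutatorElement_eq_one_iff_mul_comm.1 (congrArg Subtype.val hx)
    by_contra hxB
    have hgx : ∀ u ∈ insert (x : G) (B : Set G), ∀ v ∈ insert (x : G) (B : Set G), u * v = v * u := by
      have hxc : ∀ v ∈ B, (x : G) * v = v * x := by
        intro v hv
        have : B ≤ centralizer ({(x : G)} : Set G) := (closure_le _).2 (Set.insert_subset
          (mem_centralizer_singleton_iff.2 hxa)
          fun z hz => mem_centralizer_singleton_iff.2 (mem_centralizer_iff.1 hz.2 _ x.2).symm)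
        exact (mem_centralizer_singleton_iff.1 (this hv)).symm
      haveI := Subgroup.isMulCommutative_closure hga
      rintro u (rfl | hu) v (rfl | hv)
      · rfl
      · exact hxc v hv
      · exact (hxc u hu).symm
      · exact congrArg Subtype.val (mul_comm' (⟨u, hu⟩ : B) ⟨v, hv⟩)
    have h2 := hcloseC _ (Set.insert_subset x.2 hBT) hgx
    have hlt : B < closure (insert (x : G) (B : Set G)) :=
      lt_of_le_of_ne (fun v hv => subset_closure (Set.mem_insert_of_mem _ hv))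
        fun he => hxB (he.ge (subset_closure (Set.mem_insert _ _)))
    have h3 : Nat.card B < Nat.card (closure (insert (x : G) (B : Set G))) :=
      lt_of_le_of_ne (card_le_of_le hlt.le) fun he => hlt.ne (eq_of_le_of_card_ge hlt.le he.ge)
    rw [hj, hj'] at h3
    omega
  rw [← card_mul_index φ.ker, index_ker, ← card_map_of_injective T.subtype_injective, pow_succ]
  refine Nat.mul_le_mul ((card_le_of_le hkerB).trans hB2) ?_
  calc Nat.card φ.range ≤ Nat.card Z := card_le_card_group _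
    _ = p := by rw [hi, hi', pow_one]

/-- A chief factor outside the kernel is bounded by the `p`-part of the image. -/
theorem chief_dvd_of_ker {A : Type*} [Group A] [Finite A] (f : G →* A) {H K : Subgroup G}
    (hKH : K ≤ H) [K.Normal] (hker : H ⊓ f.ker ≤ K) {n b : ℕ} (hn : K.relIndex H = p ^ n)
    (hb : ∀ P : Subgroup A, IsPGroup p P → P ≤ f.range → Nat.card P ≤ b) : p ^ n ≤ b := by
  have h1 : p ^ n ∣ Nat.card (H.map f) := by
    rw [← hn, ← relIndex_map_of_inf_ker f hKH hker]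
    exact relIndex_dvd_card _ _
  obtain ⟨P, hP⟩ := Sylow.exists_subgroup_card_pow_prime p h1
  have h2 := hb (P.map (H.map f).subtype) ((IsPGroup.of_card hP).map _)
    ((map_subtype_le P).trans (Subgroup.map_le_range f H))
  rwa [card_map_of_injective (H.map f).subtype_injective, hP] at h2

theorem card_sup_zpowers {a b : G} {T : Subgroup G} (hTp : IsPGroup p T) (ha : a ∈ T) (hb : b ∈ T)
    (hab : a * b ≠ b * a) : p ^ 3 ≤ Nat.card (closure ({a, b} : Set G)) := by
  have hp : p.Prime := hpf.out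
  have hle : closure ({a, b} : Set G) ≤ T := (closure_le T).2 (Set.insert_subset ha (Set.singleton_subset_iff.2 hb))
  obtain ⟨k, hk⟩ := IsPGroup.iff_card.mp (hTp.to_le hle)
  rw [hk]
  refine Nat.pow_le_pow_right hp.pos ?_
  by_contra hk3
  have hc := CfsgLib.OddOrder.CharOmega.commutative_of_card_le (R := closure ({a, b} : Set G))
    (T := ⊤) (hTp.to_le hle) (by rw [card_top, hk]; exact Nat.pow_le_pow_right hp.pos (by omega))
  exact hab (congrArg (fun z : (⊤ : Subgroup (closure ({a, b} : Set G))) => ((z : closure ({a, b} : Set G)) : G))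
    (isMulCommutative_iff.1 hc ⟨⟨a, subset_closure (Set.mem_insert _ _)⟩, mem_top _⟩
      ⟨⟨b, subset_closure (Set.mem_insert_of_mem _ rfl)⟩, mem_top _⟩))

/-- The case of a trivial `p'`-core. -/
theorem chief_le_core (hp2 : p ≠ 2) (hG : Cfsg.IsPSolvable p G) (hO : Cfsg.pPrimeCore p G = ⊥)
    (hr : ∀ A : Subgroup G, IsPGroup p A → IsMulCommutative A → (∀ a ∈ A, a ^ p = 1) →
      Nat.card A ≤ p ^ 2)
    {H K : Subgroup G} (hchief : IsChief H K) {n : ℕ} (hn : K.relIndex H = p ^ n) :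
    p ^ n ≤ p ^ 2 := by
  classical
  have hp : p.Prime := hpf.out
  haveI := hchief.2.1
  set R := Cfsg.pCore p G with hR
  have hRp : IsPGroup p R := Cores.isPGroup_pCore p
  obtain ⟨T₀, hTc, ⟨hTexp, hT2⟩, hmax⟩ := OddOrder.CharOmega.exists_maximal hp2 hRp
  haveI := hTc
  set T := T₀.map R.subtype with hT
  haveI hTn : T.Normal := ConjAct.normal_of_characteristic_of_normal
  have hTR : T ≤ R := map_subtype_le _
  have hTp : IsPGroup p T := hRp.to_le hTR
  have hexp : ∀ x ∈ T, x ^ p = 1 := by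
    rintro _ ⟨x, hx, rfl⟩
    rw [← map_pow, hTexp x hx, map_one]
  have hcomm : ∀ a ∈ T, ∀ b ∈ T, ∀ c ∈ T, Commute c ⁅a, b⁆ := by
    rintro _ ⟨a, ha, rfl⟩ _ ⟨b, hb, rfl⟩ _ ⟨c, hc, rfl⟩
    rw [← map_commutatorElement]
    exact (show Commute c ⁅a, b⁆ from mem_centralizer_iff.1 (hT2 a ha b hb) c hc).map R.subtype
  have hmax' : ∀ x ∈ R, (∀ t ∈ T, t * x = x * t) → x ^ p = 1 → x ∈ T := by
    intro x hx hxc hxp
    exact ⟨⟨x, hx⟩, hmax _ (mem_centralizer_iff.2 fun t ht =>
      Subtype.ext (hxc _ (mem_map_of_mem R.subtype ht))) (Subtype.ext hxp), rfl⟩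
  set D := centralizer (T : Set G) with hD
  haveI : D.Normal := normal_centralizer
  have hDp : IsPGroup p D := by
    have key : ∀ g ∈ D, (orderOf g).Coprime p → g = 1 := by
      intro g hg ho
      have hRC : g ∈ centralizer ((R ⊓ D : Subgroup G) : Set G) := by
        refine PGroup.CoprimeFix.centralizes_of_fix (hRp.to_le inf_le_left) ?_ ho fun x hx hxq => ?_
        · rw [normalizer_eq_top]; trivial
        · have hxp : x ^ p = 1 := by rwa [PGroup.CoprimeFix.qq, if_neg hp2] at hxq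
          exact (mem_centralizer_iff.1 hg x (hmax' x hx.1 (fun t ht =>
            mem_centralizer_iff.1 hx.2 t ht) hxp)).symm
      have hgR : g ∈ centralizer (R : Set G) := by
        refine mem_centralizer_iff.2 fun x hx => ?_
        have h1 := KGroups.OmegaFaithful.fix_of_coset (C := R ⊓ D) (hRp.to_le inf_le_left) (x := x) ho
          (fun c hc => by rw [mul_inv_eq_iff_eq_mul]; exact (mem_centralizer_iff.1 hRC c hc).symm) ?_
        · exact (mul_inv_eq_iff_eq_mul.1 h1).symm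
        refine ⟨R.mul_mem (R.inv_mem hx) ((inferInstance : R.Normal).conj_mem x hx g), ?_⟩
        have h2 : x⁻¹ * (g * x * g⁻¹) = (x⁻¹ * g * x) * g⁻¹ := by group
        rw [h2]
        exact D.mul_mem ((inferInstance : D.Normal).conj_mem' g hg x) (D.inv_mem hg)
      have hgR' : g ∈ R := Fusion.PSolvable.centralizer_pCore_le hG hO hgR
      obtain ⟨k, hk⟩ := hRp ⟨g, hgR'⟩
      exact orderOf_eq_one_iff.1 (Nat.eq_one_of_dvd_coprimes (ho.pow_right k) dvd_rfl
        (orderOf_dvd_of_pow_eq_one (congrArg Subtype.val hk)))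
    intro g
    obtain ⟨k, m, hm, hkm⟩ := Nat.exists_eq_pow_mul_and_not_dvd (orderOf_pos (g : G)).ne' p hp.ne_one
    refine ⟨k, Subtype.ext (key _ (pow_mem g.2 _) ?_)⟩
    rw [SubmonoidClass.coe_pow, orderOf_pow_of_dvd (pow_ne_zero _ hp.ne_zero) (hkm ▸ Dvd.intro _ rfl), hkm,
      Nat.mul_div_cancel_left _ (pow_pos hp.pos _)]
    exact ((hp.coprime_iff_not_dvd).mpr hm).symm
  have hDR : D ≤ R := Cores.le_pCore hDp
  have hsmallT : ∀ A : Subgroup G, A ≤ T → IsMulCommutative A → Nat.card A ≤ p ^ 2 := fun A hA hc =>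
    hr A (hTp.to_le hA) hc fun a ha => hexp a (hA ha)
  by_cases hHD : H ⊓ D ≤ K
  swap
  · rw [← hn]
    refine chief_le_of_central_omega hp2 (Nat.card G) le_rfl D H K inferInstance hDp ?_ ?_ hchief hHD
    · intro z hz hzp x hx
      exact (mem_centralizer_iff.1 hx z (hmax' z (hDR hz) (fun t ht => mem_centralizer_iff.1 hz t ht) hzp)).symm
    · have hZle : Nat.card (T ⊓ D : Subgroup G) ≤ p ^ 2 := hsmallT _ inf_le_left
        (isMulCommutative_iff.2 fun a b => Subtype.ext (mem_centralizer_iff.1 b.2.2 a a.2.1))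
      refine le_trans (Nat.card_le_card_of_injective (fun x => (⟨x.1, hmax' x.1 (hDR x.2.1)
        (fun t ht => mem_centralizer_iff.1 x.2.1 t ht) x.2.2, x.2.1⟩ : (T ⊓ D : Subgroup G))) ?_) hZle
      intro x y h
      exact Subtype.ext (congrArg (fun z : (T ⊓ D : Subgroup G) => (z : G)) h)
  let f₁ : G →* MulAut T := MulAut.conjNormal
  have hf₁ker : f₁.ker ≤ D := fun g hg => mem_centralizer_iff.2 fun t ht => by
    have h := congrArg Subtype.val (DFunLike.congr_fun (MonoidHom.mem_ker.1 hg) (⟨t, ht⟩ : T))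
    rw [MulAut.conjNormal_apply] at h
    exact (mul_inv_eq_iff_eq_mul.1 h).symm
  have hker₁ : H ⊓ f₁.ker ≤ K := le_trans (inf_le_inf_left H hf₁ker) hHD
  by_cases hTc' : IsMulCommutative T
  · refine (chief_dvd_of_ker f₁ hchief.2.2.1.le hker₁ hn fun P hP _ => ?_).trans
      (Nat.le_self_pow two_ne_zero p)
    refine card_aut_le hP ?_
    obtain ⟨k, hk⟩ := IsPGroup.iff_card.mp hTp
    rw [hk]
    exact pow_dvd_pow p ((Nat.pow_le_pow_iff_right hp.one_lt).1 (hk ▸ hsmallT T le_rfl hTc'))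
  obtain ⟨hT3, hZ⟩ := card_good_le hTp hexp hcomm hsmallT hTc'
  set Z := T ⊓ centralizer (T : Set G) with hZdef
  haveI : Z.Normal := inferInstance
  set mk := QuotientGroup.mk' Z with hmk
  haveI : (T.map mk).Normal := hTn.map mk (QuotientGroup.mk'_surjective Z)
  let f₂ : G →* MulAut (T.map mk) := MulAut.conjNormal.comp mk
  have hcardQ : Nat.card (T.map mk) ∣ p ^ 2 := by
    have h1 : Nat.card Z * Nat.card (T.map mk) = Nat.card T := by
      have h2 : Nat.card Z * Z.relIndex T = Nat.card T := by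
        rw [← relIndex_bot_left Z, relIndex_mul_relIndex _ _ _ bot_le inf_le_left, relIndex_bot_left]
      have h3 : Z.relIndex T = Nat.card (T.map mk) := by
        rw [← relIndex_bot_left (T.map mk), ← relIndex_comap (f := mk) ⊥ T, MonoidHom.comap_bot,
          QuotientGroup.ker_mk']
      rwa [h3] at h2
    obtain ⟨k, hk⟩ := IsPGroup.iff_card.mp hTp
    obtain ⟨j, hj⟩ := IsPGroup.iff_card.mp (hTp.map mk)
    rw [hZ, hj, hk, ← pow_succ'] at h1
    have hjk := Nat.pow_right_injective hp.two_le h1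
    have hk3 : k ≤ 3 := (Nat.pow_le_pow_iff_right hp.one_lt).1 (hk ▸ hT3)
    rw [hj]
    exact pow_dvd_pow p (by omega)
  haveI : f₂.ker.Normal := inferInstance
  by_cases hHK₁ : H ⊓ f₂.ker ≤ K
  · exact (chief_dvd_of_ker f₂ hchief.2.2.1.le hHK₁ hn fun P hP _ => card_aut_le hP hcardQ).trans
      (Nat.le_self_pow two_ne_zero p)
  -- inside the kernel of the action on `T / Z(T)`
  obtain ⟨hH, hK, hlt, hchmax⟩ := hchief
  haveI := hH
  rcases hchmax (H ⊓ f₂.ker ⊔ K) inferInstance le_sup_right (sup_le inf_le_left hlt.le) with h | h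
  · exact absurd (le_sup_left.trans h.le) hHK₁
  have hn' : (K ⊓ (H ⊓ f₂.ker)).relIndex (H ⊓ f₂.ker) = p ^ n := by
    rw [inf_relIndex_right, ← hn]
    conv_rhs => rw [← h]
    rw [relIndex_sup_right]
  refine chief_dvd_of_ker (f₁.comp (H ⊓ f₂.ker).subtype) (H := ⊤)
    (K := K.subgroupOf (H ⊓ f₂.ker)) le_top ?_ (by rw [relIndex_top_right, ← hn', inf_relIndex_right]; rfl) fun P _ hP => ?_
  · rintro x ⟨-, hx⟩
    exact hker₁ ⟨x.2.1, hx⟩
  refine (card_le_of_le hP).trans ?_
  obtain ⟨a, ha, b, hb, hab⟩ := OddOrder.CharOmega.not_isMulCommutative_iff hTc'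
  have hab' : a * b ≠ b * a := hab
  have hgen : closure ({a, b} : Set G) = T := eq_of_le_of_card_ge
    ((closure_le T).2 (Set.insert_subset ha (Set.singleton_subset_iff.2 hb)))
    (hT3.trans (card_sup_zpowers hTp ha hb hab'))
  set f := f₁.comp (H ⊓ f₂.ker).subtype with hf
  have hmove : ∀ φ ∈ f.range, ∀ t : T, ((φ t : T) : G) * (t : G)⁻¹ ∈ Z := by
    rintro _ ⟨g, rfl⟩ t
    have h1 := congrArg Subtype.val
      (DFunLike.congr_fun (MonoidHom.mem_ker.1 g.2.2) (⟨mk t, mem_map_of_mem mk t.2⟩ : T.map mk))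
    have h1' : mk ((g : G)) * mk (t : G) * (mk (g : G))⁻¹ = mk (t : G) := by
      have h2 := h1
      rw [MonoidHom.comp_apply, MulAut.conjNormal_apply] at h2
      exact h2
    rw [← map_inv, ← map_mul, ← map_mul] at h1'
    show ((MulAut.conjNormal (g : G) t : T) : G) * (t : G)⁻¹ ∈ Z
    rw [MulAut.conjNormal_apply, ← QuotientGroup.eq_one_iff, ← QuotientGroup.mk'_apply, map_mul, h1',
      map_inv, mul_inv_cancel]
  let Φ : f.range → Z × Z := fun φ =>
    (⟨_, hmove φ φ.2 ⟨a, ha⟩⟩, ⟨_, hmove φ φ.2 ⟨b, hb⟩⟩)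
  have hΦ : Function.Injective Φ := by
    intro φ φ' h
    have h1 : ((φ : MulAut T) ⟨a, ha⟩ : G) = ((φ' : MulAut T) ⟨a, ha⟩ : G) :=
      mul_right_cancel (congrArg (fun z : Z => (z : G)) (congrArg Prod.fst h))
    have h2 : ((φ : MulAut T) ⟨b, hb⟩ : G) = ((φ' : MulAut T) ⟨b, hb⟩ : G) :=
      mul_right_cancel (congrArg (fun z : Z => (z : G)) (congrArg Prod.snd h))
    refine Subtype.ext (MulEquiv.ext fun t => ?_)
    let E : Subgroup T := MonoidHom.eqLocus (φ : MulAut T).toMonoidHom (φ' : MulAut T).toMonoidHom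
    have hE : closure ({a, b} : Set G) ≤ E.map T.subtype := (closure_le _).2
      (Set.insert_subset ⟨⟨a, ha⟩, Subtype.ext h1, rfl⟩
        (Set.singleton_subset_iff.2 ⟨⟨b, hb⟩, Subtype.ext h2, rfl⟩))
    rw [hgen] at hE
    obtain ⟨t', ht', he⟩ := hE t.2
    rw [← T.subtype_injective he]
    exact ht'
  calc Nat.card f.range ≤ Nat.card (Z × Z) := Nat.card_le_card_of_injective Φ hΦ
    _ = p ^ 2 := by rw [Nat.card_prod, hZ, sq]

theorem isMulCommutative_map {A B : Type*} [Group A] [Group B] (f : A →* B) {S : Subgroup A}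
    (h : ∀ a ∈ S, ∀ b ∈ S, f a * f b = f b * f a) : IsMulCommutative (S.map f) := by
  refine isMulCommutative_iff.2 ?_
  rintro ⟨_, a, ha, rfl⟩ ⟨_, b, hb, rfl⟩
  exact Subtype.ext (h a ha b hb)

/-- In a `p`-solvable group of `p`-rank at most two a `p`-chief factor has order at most `p ^ 2`. -/
theorem chief_le (hp2 : p ≠ 2) (hG : Cfsg.IsPSolvable p G) (hr : Cfsg.PRankLE p 2 G)
    {H K : Subgroup G} (hchief : IsChief H K) {n : ℕ} (hn : K.relIndex H = p ^ n) : n ≤ 2 := by
  classical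
  have hp : p.Prime := hpf.out
  refine (Nat.pow_le_pow_iff_right hp.one_lt).1 ?_
  set O := Cfsg.pPrimeCore p G with hO
  rcases hchief.cases O with h | h
  swap
  · have h1 : p ^ n = 1 := Nat.eq_one_of_dvd_coprimes
      ((Cores.coprime_card_pPrimeCore (G := G) p).pow_right n) (hn ▸ h) dvd_rfl
    rw [h1]; exact Nat.one_le_pow _ _ hp.pos
  set f := QuotientGroup.mk' O with hf
  have hfs : Function.Surjective f := QuotientGroup.mk'_surjective O
  obtain ⟨hchief', hidx⟩ := hchief.map f hfs (by rwa [QuotientGroup.ker_mk'])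
  refine chief_le_core hp2 (Fusion.PSolvable.psolvable_quotient hG O)
    Components.pPrimeCore_quotient_eq_bot ?_ hchief' (by rw [hidx, hn])
  intro A hA hAc hAe
  obtain ⟨Q, hQ⟩ := hA.exists_le_sylow
  obtain ⟨S₀⟩ := (inferInstance : Nonempty (Sylow p G))
  obtain ⟨g, hg⟩ := MulAction.exists_smul_eq (G ⧸ O) (S₀.mapSurjective hfs) Q
  obtain ⟨g, rfl⟩ := hfs g
  set S : Subgroup G := ((g • S₀ : Sylow p G) : Subgroup G) with hS
  have hSA : A ≤ S.map f := by
    intro x hx
    have h1 := hQ hx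
    rw [← hg, Sylow.coe_subgroup_smul] at h1
    obtain ⟨y, hy, rfl⟩ := h1
    obtain ⟨z, hz, rfl⟩ := hy
    refine ⟨g * z * g⁻¹, ?_, ?_⟩
    · rw [hS, Sylow.coe_subgroup_smul]
      exact ⟨z, hz, rfl⟩
    · rw [map_mul, map_mul, map_inv]; rfl
  set B := S ⊓ A.comap f with hB
  have hinj : ∀ b ∈ B, f b = 1 → b = 1 := by
    intro b hb h1
    obtain ⟨k, hk⟩ := (g • S₀ : Sylow p G).isPGroup' ⟨b, hb.1⟩
    have hbO : b ∈ O := (QuotientGroup.eq_one_iff b).1 h1
    exact orderOf_eq_one_iff.1 (Nat.eq_one_of_dvd_coprimes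
      ((Cores.coprime_card_pPrimeCore (G := G) p).pow_right k)
      (by rw [← Subgroup.orderOf_mk b hbO]; exact orderOf_dvd_natCard _)
      (orderOf_dvd_of_pow_eq_one (congrArg Subtype.val hk)))
  have hmapB : B.map f = A := by
    refine le_antisymm ((map_mono inf_le_right).trans (map_comap_le _ _)) fun a ha => ?_
    obtain ⟨s, hs, rfl⟩ := hSA ha
    exact ⟨s, ⟨hs, ha⟩, rfl⟩
  have hBc : IsMulCommutative B := isMulCommutative_iff.2 fun a b => Subtype.ext (by
    refine commutatorElement_eq_one_iff_mul_comm.1 (hinj _ ?_ ?_)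
    · exact mul_mem (mul_mem (mul_mem a.2 b.2) (inv_mem a.2)) (inv_mem b.2)
    · rw [map_commutatorElement, commutatorElement_eq_one_iff_mul_comm]
      exact congrArg Subtype.val (isMulCommutative_iff.1 hAc ⟨_, a.2.2⟩ ⟨_, b.2.2⟩))
  calc Nat.card A = Nat.card (B.map f) := by rw [hmapB]
    _ ≤ Nat.card B := Nat.le_of_dvd Nat.card_pos (B.card_map_dvd f)
    _ ≤ p ^ 2 := hr B hBc fun b hb => hinj _ (pow_mem hb p) (by rw [map_pow]; exact hAe _ hb.2)

end Small

end CfsgLib.Solvable.RankTwoChief
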