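import Cfsg.Agent.Lib.Fusion.QuadStable
import Cfsg.Agent.Lib.Fusion.FailureFactor
import Cfsg.Agent.Lib.Coprime.Action
import Cfsg.Agent.Lib.Coprime.Abelian
import Cfsg.Agent.Lib.Coprime.Generation
import Cfsg.Agent.Lib.Solvable.Schmidt

/-!
# `p`-length one when a Sylow subgroup is the normal Sylow subgroup of a Schmidt group
-/

set_option autoImplicit false

namespace CfsgLib.Solvable.SchmidtSylow

open Subgroup CfsgLib
open scoped commutatorElement

/-- A `p`-group with an automorphism of prime order fixing every proper invariant normal subgroup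
pointwise, as the normal Sylow subgroup of a Schmidt group. -/
def HasRigidAut (p : ℕ) (P : Type*) [Group P] : Prop :=
  ∃ (α : MulAut P) (q : ℕ), q.Prime ∧ q ≠ p ∧ α ^ q = 1 ∧ α ≠ 1 ∧
    ∀ E : Subgroup P, E.Normal → (∀ x ∈ E, α x ∈ E) → E ≠ ⊤ → ∀ x ∈ E, α x = x

theorem HasRigidAut.congr {p : ℕ} {P P' : Type*} [Group P] [Group P'] (e : P ≃* P')
    (h : HasRigidAut p P) : HasRigidAut p P' := by
  obtain ⟨α, q, hq, hqp, hα, hα1, hE⟩ := h
  refine ⟨MulAut.congr e α, q, hq, hqp, by rw [← map_pow, hα, map_one],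
    fun h1 => hα1 ((MulAut.congr e).injective (by rw [h1, map_one])), fun E hEn hinv hne x hx => ?_⟩
  have h1 := hE (E.comap e.toMonoidHom) (hEn.comap _) (fun y hy => by
    show e (α y) ∈ E
    have := hinv (e y) hy
    rwa [show MulAut.congr e α (e y) = e (α (e.symm (e y))) from rfl, e.symm_apply_apply] at this)
    (fun htop => hne (top_le_iff.1 fun z _ => by
      have := htop.ge (mem_top (e.symm z))
      rwa [mem_comap, MulEquiv.coe_toMonoidHom, e.apply_symm_apply] at this))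
    (e.symm x) (by rw [mem_comap, MulEquiv.coe_toMonoidHom, e.apply_symm_apply]; exact hx)
  show e (α (e.symm x)) = x
  rw [h1, e.apply_symm_apply]

section Rigid

variable {p : ℕ} [hp : Fact p.Prime] {P : Type*} [Group P] [Finite P] {α : MulAut P} {q : ℕ}

theorem eq_top_of_moves (hP : IsPGroup p P) (hq : q.Prime) (hqp : q ≠ p) (hα : α ^ q = 1) (hα1 : α ≠ 1)
    (hE : ∀ E : Subgroup P, E.Normal → (∀ x ∈ E, α x ∈ E) → E ≠ ⊤ → ∀ x ∈ E, α x = x)
    {T : Subgroup P} [hT : T.Normal] (hinv : ∀ x ∈ T, α x ∈ T) (he : ∀ y : P, y⁻¹ * α y ∈ T) : T = ⊤ := by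
  by_contra hne
  refine hα1 (MulEquiv.ext fun y => ?_)
  have h1 := hE T hT hinv hne _ (he y)
  have hit : ∀ n : ℕ, (α ^ n) y = y * (y⁻¹ * α y) ^ n := by
    intro n
    induction n with
    | zero => simp
    | succ n ih =>
      rw [pow_succ' α, MulAut.mul_apply, ih, map_mul, map_pow, h1, pow_succ', ← mul_assoc,
        mul_inv_cancel_left]
  have h2 : (y⁻¹ * α y) ^ q = 1 := by
    have := hit q
    rw [hα, MulAut.one_apply] at this
    exact mul_eq_left.1 this.symm
  obtain ⟨k, hk⟩ := hP (y⁻¹ * α y)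
  have h3 : y⁻¹ * α y = 1 := orderOf_eq_one_iff.1 (Nat.eq_one_of_dvd_coprimes
    (((Nat.coprime_primes hq hp.out).2 hqp).pow_right k) (orderOf_dvd_of_pow_eq_one h2)
    (orderOf_dvd_of_pow_eq_one hk))
  exact (inv_mul_eq_one.1 h3).symm

/-- The consequences for a group with such an automorphism. -/
theorem HasRigidAut.facts (hP : IsPGroup p P) (h : HasRigidAut p P) :
    (∀ x y : P, ⁅x, y⁆ ∈ center P) ∧ (∀ x : P, x ^ p ∈ center P) ∧
    (∀ x, x ∉ center P → ∀ y z : P, ∃ w, ⁅y, z⁆ = ⁅x, w⁆) ∧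
    ((∀ x y : P, x * y = y * x) ∨ ∃ (α : MulAut P) (q : ℕ), q.Prime ∧ q ≠ p ∧ α ^ q = 1 ∧
      (∀ x ∈ center P, α x = x) ∧ (∀ x, α x * x⁻¹ ∈ center P → x ∈ center P) ∧
      (∀ x, x ∉ center P → α x ∉ center P ⊔ zpowers x)) := by
  obtain ⟨α, q, hq, hqp, hα, hα1, hE⟩ := h
  have hcentral : ∀ S : Subgroup P, S.Normal → (∀ x ∈ S, α x = x) → S ≤ center P := by
    intro S hS hfix s hs
    haveI := hS
    have hC : centralizer (S : Set P) = ⊤ := by
      refine eq_top_of_moves hP hq hqp hα hα1 hE (fun x hx => mem_centralizer_iff.2 fun t ht => ?_)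
        fun y => mem_centralizer_iff.2 fun t ht => ?_
      · rw [← hfix t ht, ← map_mul, ← map_mul, mem_centralizer_iff.1 hx t ht]
      · have h1 : α y * t * (α y)⁻¹ = y * t * y⁻¹ := by
          rw [← hfix _ (hS.conj_mem t ht y), map_mul, map_mul, map_inv, hfix t ht]
        calc t * (y⁻¹ * α y) = y⁻¹ * (y * t * y⁻¹) * α y := by group
          _ = y⁻¹ * α y * t := by rw [← h1]; group
    exact mem_center_iff.2 fun g => (mem_centralizer_iff.1 (hC.ge (mem_top g)) s hs).symm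
  haveI : Nontrivial P := by
    by_contra hn
    rw [not_nontrivial_iff_subsingleton] at hn
    exact hα1 (MulEquiv.ext fun x => Subsingleton.elim _ _)
  have hΦne : frattini P ≠ ⊤ := by
    intro htop
    have h1 : (⊥ : Subgroup P) = ⊤ := frattini_nongenerating (by rw [bot_sup_eq]; exact htop)
    exact bot_ne_top h1
  have hΦinv : ∀ x ∈ frattini P, α x ∈ frattini P := fun x hx =>
    ((characteristic_iff_comap_eq.1 (inferInstance : (frattini P).Characteristic) α).ge hx :)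
  have hΦfix := hE (frattini P) inferInstance hΦinv hΦne
  have hΦ : frattini P ≤ center P := hcentral _ inferInstance hΦfix
  have hcomm : ∀ x y : P, ⁅x, y⁆ ∈ center P := fun x y =>
    hΦ (PGroup.Frattini.commutatorElement_mem_frattini hP x y)
  have hcfix : ∀ x y : P, α ⁅x, y⁆ = ⁅x, y⁆ := fun x y =>
    hΦfix _ (PGroup.Frattini.commutatorElement_mem_frattini hP x y)
  -- the fixed points are central
  let F : Subgroup P := MonoidHom.eqLocus α.toMonoidHom (MonoidHom.id P)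
  have hFmem : ∀ x, x ∈ F ↔ α x = x := fun x => Iff.rfl
  haveI : F.Normal := ⟨fun x hx g => by
    rw [hFmem] at hx ⊢
    rw [show g * x * g⁻¹ = ⁅g, x⁆ * x by rw [commutatorElement_def]; group, map_mul, hcfix, hx]⟩
  have hF : F ≤ center P := hcentral F inferInstance fun x hx => hx
  have hmove : ∀ x, x ∉ center P → α x ≠ x := fun x hx hfix => hx (hF hfix)
  have hR2 : ∀ x, x ∉ center P → ∀ y z : P, ∃ w, ⁅y, z⁆ = ⁅x, w⁆ := by
    intro x hx y z
    let φ : P →* P := MonoidHom.mk' (fun w => ⁅x, w⁆) fun a b => by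
      show ⁅x, a * b⁆ = ⁅x, a⁆ * ⁅x, b⁆
      rw [show ⁅x, a * b⁆ = ⁅x, a⁆ * (a * ⁅x, b⁆ * a⁻¹) by simp only [commutatorElement_def]; group,
        mem_center_iff.1 (hcomm x b) a, mul_inv_cancel_right]
    have hmul : ∀ a b c : P, ⁅a * b, c⁆ = ⁅a, c⁆ * ⁅b, c⁆ := fun a b c => by
      rw [show ⁅a * b, c⁆ = (a * ⁅b, c⁆ * a⁻¹) * ⁅a, c⁆ by simp only [commutatorElement_def]; group,
        mem_center_iff.1 (hcomm b c) a, mul_inv_cancel_right, ← mem_center_iff.1 (hcomm b c) ⁅a, c⁆]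
    let C₀ : Subgroup P :=
      { carrier := {a | ∀ c, ⁅a, c⁆ ∈ φ.range}
        one_mem' := fun c => by rw [commutatorElement_one_left]; exact one_mem _
        mul_mem' := fun {a b} ha hb c => by rw [hmul]; exact mul_mem (ha c) (hb c)
        inv_mem' := fun {a} ha c => by
          have h1 := hmul a⁻¹ a c
          rw [inv_mul_cancel, commutatorElement_one_left] at h1
          rw [eq_inv_of_mul_eq_one_left h1.symm]
          exact inv_mem (ha c) }
    haveI : C₀.Normal := ⟨fun a ha g c => by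
      rw [show g * a * g⁻¹ = ⁅g, a⁆ * a by rw [commutatorElement_def]; group, hmul,
        commutatorElement_eq_one_iff_mul_comm.2 (mem_center_iff.1 (hcomm g a) c).symm, one_mul]
      exact ha c⟩
    have hC₀ : C₀ = ⊤ := by
      by_contra hne
      refine hmove x hx (hE C₀ inferInstance (fun a ha c => ?_) hne x fun c => ⟨c, rfl⟩)
      have h1 : ⁅α a, c⁆ = α ⁅a, α.symm c⁆ := by rw [map_commutatorElement, MulEquiv.apply_symm_apply]
      rw [h1, hcfix]
      exact ha _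
    obtain ⟨w, hw⟩ := hC₀.ge (mem_top y) z
    exact ⟨w, hw.symm⟩
  refine ⟨hcomm, fun x => hΦ (PGroup.Frattini.pow_mem_frattini hP x), hR2, ?_⟩
  by_cases hab : ∀ x y : P, x * y = y * x
  · exact Or.inl hab
  refine Or.inr ⟨α, q, hq, hqp, hα, ?_, ?_, ?_⟩
  · exact hE _ inferInstance (fun x hx => by
      refine mem_center_iff.2 fun g => ?_
      rw [← α.apply_symm_apply g, ← map_mul, ← map_mul, mem_center_iff.1 hx])
      fun htop => hab fun x y => mem_center_iff.1 (htop.ge (mem_top y)) x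
  · intro x hx
    set z := α x * x⁻¹ with hz
    have hzfix : α z = z := hE _ inferInstance (fun a ha => by
      refine mem_center_iff.2 fun g => ?_
      rw [← α.apply_symm_apply g, ← map_mul, ← map_mul, mem_center_iff.1 ha])
      (fun htop => hab fun x y => mem_center_iff.1 (htop.ge (mem_top y)) x) z hx
    have hit : ∀ n : ℕ, (α ^ n) x = z ^ n * x := by
      intro n
      induction n with
      | zero => simp
      | succ n ih =>
        rw [pow_succ' α, MulAut.mul_apply, ih, map_mul, map_pow, hzfix, pow_succ, mul_assoc,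
          show α x = z * x by rw [hz, inv_mul_cancel_right]]
    have h2 : z ^ q = 1 := by
      have := hit q
      rw [hα, MulAut.one_apply] at this
      exact mul_eq_right.1 this.symm
    obtain ⟨k, hk⟩ := hP z
    have h3 : z = 1 := orderOf_eq_one_iff.1 (Nat.eq_one_of_dvd_coprimes
      (((Nat.coprime_primes hq hp.out).2 hqp).pow_right k) (orderOf_dvd_of_pow_eq_one h2)
      (orderOf_dvd_of_pow_eq_one hk))
    exact hF ((hFmem x).2 (mul_inv_eq_one.1 h3))
  · intro x hx hmem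
    have hsupmem : ∀ a ∈ center P ⊔ zpowers x, ∃ z ∈ center P, ∃ i : ℤ, a = z * x ^ i := fun a ha => by
      obtain ⟨z, hz, w, hw, rfl⟩ := mem_sup_of_normal_left.1 ha
      obtain ⟨i, rfl⟩ := mem_zpowers_iff.1 hw
      exact ⟨z, hz, i, rfl⟩
    haveI : (center P ⊔ zpowers x).Normal := ⟨fun a ha g => by
      rw [show g * a * g⁻¹ = ⁅g, a⁆ * a by rw [commutatorElement_def]; group]
      exact mul_mem (mem_sup_left (hcomm g a)) ha⟩
    refine hmove x hx (hE (center P ⊔ zpowers x) inferInstance (fun a ha => ?_) (fun htop => hab fun a b => ?_) x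
      (mem_sup_right (mem_zpowers x)))
    · obtain ⟨z, hz, i, rfl⟩ := hsupmem a ha
      rw [map_mul, map_zpow]
      refine mul_mem (mem_sup_left (mem_center_iff.2 fun g => ?_)) (zpow_mem hmem i)
      rw [← α.apply_symm_apply g, ← map_mul, ← map_mul, mem_center_iff.1 hz]
    · obtain ⟨z, hz, i, rfl⟩ := hsupmem a (htop.ge (mem_top a))
      obtain ⟨z', hz', j, rfl⟩ := hsupmem b (htop.ge (mem_top b))
      exact ((((show Commute z z' from (mem_center_iff.1 hz z').symm).mul_right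
        (show Commute z (x ^ j) from (mem_center_iff.1 hz _).symm))).mul_left
        ((show Commute (x ^ i) z' from mem_center_iff.1 hz' _).mul_right
          ((Commute.refl x).zpow_zpow i j))).eq

end Rigid

section Main

variable {G : Type*} [Group G] [Finite G] {p : ℕ} [hp : Fact p.Prime]

omit [Finite G] hp in
theorem mem_centralizer_of_conj {W : Subgroup G} {c w : G} (hc : c ∈ centralizer (W : Set G)) (hw : w ∈ W) :
    c * w * c⁻¹ = w := by
  rw [← mem_centralizer_iff.1 hc w hw, mul_inv_cancel_right]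

/-- A `p`-subgroup normalising a `p'`-subgroup `Q` centralises it, when it is part of a Sylow
subgroup with a rigid automorphism over the self-centralising `p`-core. -/
theorem centralizes (hG : Cfsg.IsPSolvable p G)
    (hV : centralizer (Cfsg.pCore p G : Set G) ≤ Cfsg.pCore p G) (S : Sylow p G)
    (hrig : HasRigidAut p (S : Subgroup G))
    {S₀ Q : Subgroup G} (hS₀ : S₀ ≤ (S : Subgroup G))
    (hsup : ∀ x ∈ (S : Subgroup G), ∃ v ∈ Cfsg.pCore p G, ∃ s ∈ S₀, x = v * s)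
    (hS₀Q : S₀ ≤ normalizer (Q : Set G)) (hQ : (Nat.card Q).Coprime p) (hQsol : Group.IsSolvable Q) :
    S₀ ≤ centralizer (Q : Set G) := by
  classical
  by_contra hnot
  set V := Cfsg.pCore p G with hVdef
  haveI hVn : V.Normal := sSup_normal _ fun _ h => h.1
  have hVp : IsPGroup p V := Cores.isPGroup_pCore p
  have hVS : V ≤ (S : Subgroup G) := Cores.pCore_le_sylow S
  obtain ⟨hcomm, hpow, hR2, hR3⟩ := hrig.facts S.isPGroup'
  set Z := (center (S : Subgroup G)).map (S : Subgroup G).subtype with hZdef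
  have hZc : ∀ z ∈ Z, ∀ x ∈ (S : Subgroup G), x * z = z * x := by
    rintro _ ⟨z, hz, rfl⟩ x hx
    exact congrArg Subtype.val (mem_center_iff.1 hz ⟨x, hx⟩)
  have hZmem : ∀ z ∈ (S : Subgroup G), (∀ x ∈ (S : Subgroup G), x * z = z * x) → z ∈ Z := fun z hz h =>
    ⟨⟨z, hz⟩, mem_center_iff.2 fun x => Subtype.ext (h x x.2), rfl⟩
  have hZV : Z ≤ V := fun z hz => hV (mem_centralizer_iff.2 fun v hv => hZc z hz v (hVS hv))
  have hcomm' : ∀ x ∈ (S : Subgroup G), ∀ y ∈ (S : Subgroup G), ⁅x, y⁆ ∈ Z := fun x hx y hy =>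
    ⟨_, hcomm ⟨x, hx⟩ ⟨y, hy⟩, map_commutatorElement (S : Subgroup G).subtype _ _⟩
  set ZV := (center V).map V.subtype with hZVdef
  haveI hZVn : ZV.Normal := ConjAct.normal_of_characteristic_of_normal
  have hZVV : ZV ≤ V := map_subtype_le _
  have hZVc : ∀ w ∈ ZV, ∀ v ∈ V, v * w = w * v := by
    rintro _ ⟨w, hw, rfl⟩ v hv
    exact congrArg Subtype.val (mem_center_iff.1 hw ⟨v, hv⟩)
  have hZZV : Z ≤ ZV := fun z hz => ⟨⟨z, hZV hz⟩, mem_center_iff.2 fun v => Subtype.ext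
    (hZc z hz v (hVS v.2)), rfl⟩
  haveI hZVab : IsMulCommutative ZV := isMulCommutative_iff.2 fun a b =>
    Subtype.ext (hZVc b b.2 a (hZVV a.2))
  -- the action of `J`
  set J := ⁅Q, S₀⁆ with hJ
  have hJQ : J ≤ Q := le_normalizer_iff_commutator_le_left.1 hS₀Q
  have hcopJ : ∀ {W : Subgroup G}, W ≤ V → (Nat.card J).Coprime (Nat.card W) := by
    intro W hW
    obtain ⟨k, hk⟩ := IsPGroup.iff_card.mp (hVp.to_le hW)
    rw [hk]
    exact (hQ.coprime_dvd_left (card_dvd_of_le hJQ)).pow_right k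
  have hJsol : Group.IsSolvable J := Coprime.isSolvable_of_le hJQ hQsol
  have hS₀p : IsPGroup p S₀ := S.isPGroup'.to_le hS₀
  obtain ⟨e, he⟩ := IsPGroup.iff_card.mp hS₀p
  have hJJ : ⁅J, S₀⁆ = J := Coprime.commutator_commutator_self hS₀Q
    (by rw [he]; exact hQ.symm.pow_left e) (Or.inr hQsol)
  have hJne : J ≠ ⊥ := by
    rw [hJ, Ne, commutator_comm, commutator_eq_bot_iff_le_centralizer]
    exact hnot
  have hCJ : ∀ g ∈ J, g ∈ centralizer (V : Set G) → g = 1 := by
    intro g hgJ hgC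
    obtain ⟨k, hk⟩ := hVp ⟨g, hV hgC⟩
    exact orderOf_eq_one_iff.1 (Nat.eq_one_of_dvd_coprimes
      ((hQ.coprime_dvd_left (orderOf_dvd_natCard Q (hJQ hgJ))).pow_right k) dvd_rfl
      (orderOf_dvd_of_pow_eq_one (congrArg Subtype.val hk)))
  -- `V = Z(V) C_V(J)`
  have hJmod : ∀ g ∈ J, ∀ v ∈ V, ⁅g, v⁆ ∈ ZV := by
    have : J ≤ (centralizer ((V.map (QuotientGroup.mk' ZV)) : Set (G ⧸ ZV))).comap (QuotientGroup.mk' ZV) := by
      haveI : (V.map (QuotientGroup.mk' ZV)).Normal := hVn.map _ (QuotientGroup.mk'_surjective ZV)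
      set K := (centralizer ((V.map (QuotientGroup.mk' ZV)) : Set (G ⧸ ZV))).comap (QuotientGroup.mk' ZV)
      haveI : K.Normal := inferInstance
      have hSK : S₀ ≤ K := fun s hs => mem_comap.2 (mem_centralizer_iff.2 (by
        rintro _ ⟨v, hv, rfl⟩
        rw [← map_mul, ← map_mul]
        refine QuotientGroup.eq.2 ?_
        have h1 : ⁅v⁻¹, s⁻¹⁆ ∈ ZV := hZZV (hcomm' _ (inv_mem (hVS hv)) _ (inv_mem (hS₀ hs)))
        have h2 := inv_mem h1
        rw [commutatorElement_def] at h2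
        have h3 := hZVn.conj_mem _ h2 (1 : G)
        simpa [mul_assoc] using h3))
      exact (commutator_mono le_rfl hSK).trans (commutator_le_right Q K)
    intro g hg v hv
    rw [← QuotientGroup.eq_one_iff, ← QuotientGroup.mk'_apply, map_commutatorElement,
      commutatorElement_eq_one_iff_mul_comm]
    exact (mem_centralizer_iff.1 (this hg) _ (mem_map_of_mem _ hv)).symm
  have hJZV : J ≤ normalizer (ZV : Set G) := le_normalizer_of_normal
  have hdec : ∀ v ∈ V, ∃ w ∈ ZV, ∃ c ∈ V ⊓ centralizer (J : Set G), v = w * c := by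
    intro v hv
    obtain ⟨n, hn, hnv⟩ := Coprime.exists_mul_mem_centralizer hJZV (hcopJ hZVV)
      (Or.inl hJsol) (k := v) fun g hg => hJmod g hg v hv
    exact ⟨n⁻¹, inv_mem hn, n * v, ⟨mul_mem (hZVV hn) hv, hnv⟩, by group⟩
  set A := ⁅ZV, J⁆ with hA
  set C := V ⊓ centralizer (J : Set G) with hC
  have hAZ : A ≤ ZV := le_normalizer_iff_commutator_le_left.1 hJZV
  have hAC : ∀ a ∈ A, a ∈ C → a = 1 := fun a ha hac => mem_bot.1 <|
    (Coprime.centralizer_inf_commutator_eq_bot hJZV (hcopJ hZVV)).le ⟨⟨hAZ ha, hac.2⟩, ha⟩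
  have hS₀A : S₀ ≤ normalizer (A : Set G) := by
    have hS₀J : S₀ ≤ normalizer (J : Set G) := normalizer_commutator_ge_right Q S₀
    refine le_normalizer_iff.2 fun s hs x hx => ?_
    have h1 : A.map (MulAut.conj s).toMonoidHom ≤ A := by
      rw [hA, map_commutator]
      refine commutator_mono ?_ ?_
      · rintro _ ⟨w, hw, rfl⟩; exact hZVn.conj_mem w hw s
      · rintro _ ⟨j, hj, rfl⟩; exact (mem_normalizer_iff.1 (hS₀J hs) j).1 hj
    exact h1 ⟨x, hx, rfl⟩
  have hJfix : ∀ W : Subgroup G, J ≤ normalizer (W : Set G) → S₀ ≤ centralizer (W : Set G) →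
      J ≤ centralizer (W : Set G) := by
    intro W hJn hSW g hg
    rw [← hJJ] at hg
    have : ⁅J, S₀⁆ ≤ centralizer (W : Set G) := commutator_le.2 fun j hj s hs =>
      mem_centralizer_iff.2 fun x hx => by
        have h1 : j⁻¹ * x * j ∈ W := by
          simpa using (mem_normalizer_iff.1 ((normalizer (W : Set G)).inv_mem (hJn hj)) x).1 hx
        have h2 : ⁅j, s⁆ * x * ⁅j, s⁆⁻¹ = j * (s * (j⁻¹ * (s⁻¹ * x * s) * j) * s⁻¹) * j⁻¹ := by
          simp only [commutatorElement_def]; group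
        rw [show s⁻¹ * x * s = x by rw [mul_assoc, mem_centralizer_iff.1 (hSW hs) x hx, inv_mul_cancel_left],
          mem_centralizer_of_conj (hSW hs) h1] at h2
        have h3 : ⁅j, s⁆ * x * ⁅j, s⁆⁻¹ = x := by rw [h2]; group
        exact (mul_inv_eq_iff_eq_mul.1 h3).symm
    exact this hg
  -- some element of `A` is not central
  obtain ⟨a, haA, haZ⟩ : ∃ a ∈ A, a ∉ Z := by
    by_contra hno
    push Not at hno
    refine hJne ((eq_bot_iff_forall J).2 fun g hg => hCJ g hg ?_)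
    have hSA : S₀ ≤ centralizer (A : Set G) := fun s hs => mem_centralizer_iff.2 fun x hx =>
      (hZc x (hno x hx) s (hS₀ hs)).symm
    have hJA : J ≤ centralizer (A : Set G) := hJfix A (normalizer_commutator_ge_right ZV J) hSA
    refine mem_centralizer_iff.2 fun v hv => ?_
    obtain ⟨w, hw, c, hc, rfl⟩ := hdec v hv
    have hgw : w * g = g * w := by
      have h1 : ZV ≤ centralizer ({g} : Set G) := by
        rw [← Coprime.commutator_sup_centralizer hJZV (hcopJ hZVV) (Or.inl hJsol)]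
        refine sup_le (fun d hd => ?_) (fun r hr => ?_)
        · exact mem_centralizer_singleton_iff.2 (mem_centralizer_iff.1 (hJA hg) d hd)
        · exact mem_centralizer_singleton_iff.2 (mem_centralizer_iff.1 hr.2 g hg).symm
      exact mem_centralizer_singleton_iff.1 (h1 hw)
    exact ((show Commute w g from hgw).mul_left
      (show Commute c g from (mem_centralizer_iff.1 hc.2 g hg).symm)).eq
  have haS : a ∈ (S : Subgroup G) := hVS (hZVV (hAZ haA))
  -- every commutator is a commutator with `a`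
  have hgen : ∀ x ∈ (S : Subgroup G), x ∉ Z → ∀ y ∈ (S : Subgroup G), ∀ z ∈ (S : Subgroup G),
      ∃ w ∈ (S : Subgroup G), ⁅y, z⁆ = ⁅x, w⁆ := by
    intro x hx hxZ y hy z hz
    obtain ⟨w, hw⟩ := hR2 ⟨x, hx⟩ (fun hc => hxZ ⟨_, hc, rfl⟩) ⟨y, hy⟩ ⟨z, hz⟩
    refine ⟨w, w.2, ?_⟩
    have := congrArg (S : Subgroup G).subtype hw
    rwa [map_commutatorElement, map_commutatorElement] at this
  have haw : ∀ v ∈ V, ∀ s ∈ S₀, ⁅a, v * s⁆ = ⁅a, s⁆ := by
    intro v hv s hs
    have h1 : ⁅a, v⁆ = 1 := commutatorElement_eq_one_iff_mul_comm.2 (hZVc a (hAZ haA) v hv).symm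
    rw [show ⁅a, v * s⁆ = ⁅a, v⁆ * (v * ⁅a, s⁆ * v⁻¹) by simp only [commutatorElement_def]; group, h1,
      one_mul, hZc _ (hcomm' _ haS _ (hS₀ hs)) v (hVS hv), mul_inv_cancel_right]
  have hderA : ∀ y ∈ (S : Subgroup G), ∀ z ∈ (S : Subgroup G), ⁅y, z⁆ ∈ A := by
    intro y hy z hz
    obtain ⟨w, hw, hwe⟩ := hgen a haS haZ y hy z hz
    obtain ⟨v, hv, s, hs, rfl⟩ := hsup w hw
    rw [hwe, haw v hv s hs, commutatorElement_def,
      show a * s * a⁻¹ * s⁻¹ = a * (s * a⁻¹ * s⁻¹) by group]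
    exact mul_mem haA ((mem_normalizer_iff.1 (hS₀A hs) _).1 (inv_mem haA))
  have hCcomm : ∀ c ∈ C, ∀ c' ∈ C, ⁅c, c'⁆ ∈ C := fun c hc c' hc' =>
    C.mul_mem (C.mul_mem (C.mul_mem hc hc') (C.inv_mem hc)) (C.inv_mem hc')
  have hVab : ∀ v ∈ V, ∀ v' ∈ V, v * v' = v' * v := by
    intro v hv v' hv'
    obtain ⟨w, hw, c, hc, rfl⟩ := hdec v hv
    obtain ⟨w', hw', c', hc', rfl⟩ := hdec v' hv'
    have hcc : c * c' = c' * c := commutatorElement_eq_one_iff_mul_comm.1
      (hAC _ (hderA c (hVS hc.1) c' (hVS hc'.1)) (hCcomm c hc c' hc'))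
    exact (((show Commute w w' from (hZVc w hw w' (hZVV hw')).symm).mul_right
      (show Commute w c' from (hZVc w hw c' hc'.1).symm)).mul_left
      ((show Commute c w' from hZVc w' hw' c hc.1).mul_right hcc)).eq
  -- the complement is abelian
  have hS₀VQ : ∀ s ∈ S₀, s ∈ V → s ∈ centralizer (Q : Set G) := by
    intro s hs hsV
    refine mem_centralizer_iff.2 fun b hb => ?_
    have h1 : ⁅b, s⁆ ∈ V := V.mul_mem (hVn.conj_mem s hsV b) (V.inv_mem hsV)
    have h2 : ⁅b, s⁆ ∈ Q := by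
      rw [show ⁅b, s⁆ = b * (s * b⁻¹ * s⁻¹) by simp only [commutatorElement_def]; group]
      exact Q.mul_mem hb ((mem_normalizer_iff.1 (hS₀Q hs) _).1 (Q.inv_mem hb))
    obtain ⟨k, hk⟩ := hVp ⟨_, h1⟩
    exact commutatorElement_eq_one_iff_mul_comm.1 (orderOf_eq_one_iff.1 (Nat.eq_one_of_dvd_coprimes
      (hQ.pow_right k) (orderOf_dvd_natCard Q h2) (orderOf_dvd_of_pow_eq_one (congrArg Subtype.val hk))))
  haveI hS₀ab : IsMulCommutative S₀ := isMulCommutative_iff.2 fun s t => Subtype.ext (by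
    show (s : G) * t = t * s
    refine commutatorElement_eq_one_iff_mul_comm.1 (hAC _ (hderA _ (hS₀ s.2) _ (hS₀ t.2)) ⟨?_, ?_⟩)
    · exact hZV (hcomm' _ (hS₀ s.2) _ (hS₀ t.2))
    · refine (centralizer_le hJQ) (hS₀VQ _ ?_ (hZV (hcomm' _ (hS₀ s.2) _ (hS₀ t.2))))
      exact S₀.mul_mem (S₀.mul_mem (S₀.mul_mem s.2 t.2) (S₀.inv_mem s.2)) (S₀.inv_mem t.2))
  set D := closure {g : G | ∃ y ∈ (S : Subgroup G), ∃ z ∈ (S : Subgroup G), g = ⁅y, z⁆} with hD
  -- the case in which `Q` normalises the derived group of `S`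
  have hnorm : ¬ Q ≤ normalizer (D : Set G) := by
    intro hQD
    have hDV : D ≤ V := (closure_le V).2 (by rintro _ ⟨y, hy, z, hz, rfl⟩; exact hZV (hcomm' y hy z hz))
    have hSD : S₀ ≤ centralizer (D : Set G) := fun s hs => mem_centralizer_iff.2 fun d hd => by
      have hDZ : D ≤ Z := (closure_le Z).2 (by rintro _ ⟨y, hy, z, hz, rfl⟩; exact hcomm' y hy z hz)
      exact (hZc d (hDZ hd) s (hS₀ hs)).symm
    refine hJne ((eq_bot_iff_forall J).2 fun g hg => hCJ g hg ?_)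
    have hgD : ∀ g ∈ J, g ∈ centralizer (D : Set G) := fun g hg => hJfix D (hJQ.trans hQD) hSD hg
    have hgmod : ∀ v ∈ V, ⁅g, v⁆ ∈ D := by
      intro v hv
      have key : ∀ j ∈ Q, ∀ s ∈ S₀, ∀ v ∈ V, ⁅⁅j, s⁆, v⁆ ∈ D := by
        intro j hj s hs v hv
        have hjv : ∀ u ∈ V, ⁅s, u⁆ ∈ D := fun u hu => subset_closure ⟨s, hS₀ hs, u, hVS hu, rfl⟩
        set u := j⁻¹ * (s⁻¹ * v * s) * j with hu
        have huV : u ∈ V := by
          have := hVn.conj_mem' _ (hVn.conj_mem' v hv s) j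
          exact this
        have e : ⁅⁅j, s⁆, v⁆ = (j * ⁅s, u⁆ * j⁻¹) * (s⁻¹ * ⁅v, s⁆ * s) := by
          simp only [hu, commutatorElement_def]; group
        rw [e]
        refine D.mul_mem ((mem_normalizer_iff.1 (hQD hj) _).1 (hjv u huV)) ?_
        have h1 : ⁅v, s⁆ ∈ D := subset_closure ⟨v, hVS hv, s, hS₀ hs, rfl⟩
        rw [mul_assoc, mem_centralizer_iff.1 (hSD hs) _ h1, inv_mul_cancel_left]
        exact h1
      have hle : J ≤ centralizer (D : Set G) := hgD
      induction hg using closure_induction generalizing v with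
      | mem x hx =>
        obtain ⟨j, hj, s, hs, rfl⟩ := hx
        exact key j hj s hs v hv
      | one => rw [commutatorElement_one_left]; exact one_mem _
      | mul x y hxJ hyJ hx hy =>
        rw [show ⁅x * y, v⁆ = x * ⁅y, v⁆ * x⁻¹ * ⁅x, v⁆ by simp only [commutatorElement_def]; group,
          mem_centralizer_of_conj (hle hxJ) (hy v hv)]
        exact mul_mem (hy v hv) (hx v hv)
      | inv x hxJ hx =>
        rw [show ⁅x⁻¹, v⁆ = x⁻¹ * ⁅x, v⁆⁻¹ * x⁻¹⁻¹ by simp only [commutatorElement_def]; group,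
          mem_centralizer_of_conj (inv_mem (hle hxJ)) (inv_mem (hx v hv))]
        exact inv_mem (hx v hv)
    refine mem_centralizer_iff.2 fun v hv => ?_
    exact (Coprime.commute_of_stabilizes (N := D) ((hcopJ hDV).coprime_dvd_left (orderOf_dvd_natCard J hg))
      (hgD g hg) (hgmod v hv)).eq.symm
  -- hence `S₀` is cyclic modulo `V`
  obtain ⟨x, hxS₀, B, hBV, hBx⟩ : ∃ x ∈ S₀, ∃ B : Subgroup G, B ≤ V ∧ B ⊔ zpowers x = S₀ := by
    by_contra hno
    push Not at hno
    refine hnorm ?_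
    conv_lhs => rw [← Coprime.iSup_centralizer_of_cyclic_quotient hS₀Q (by rw [he]; exact hQ.symm.pow_left e)]
    refine iSup₂_le fun B hB => ?_
    obtain ⟨hBS, x, hx, hBx⟩ := hB
    obtain ⟨s, hsB, hsV⟩ : ∃ s ∈ B, s ∉ V := by
      by_contra hh
      push Not at hh
      exact hno x hx B hh hBx
    have hsS : s ∈ (S : Subgroup G) := hS₀ (hBS hsB)
    have hsZ : s ∉ Z := fun h => hsV (hZV h)
    set R := closure ((fun v => ⁅s, v⁆) '' (V : Set G)) with hR
    have hDR : D = R := by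
      refine le_antisymm ((closure_le _).2 ?_) ((closure_le _).2 ?_)
      · rintro _ ⟨y, hy, z, hz, rfl⟩
        obtain ⟨w, hw, hwe⟩ := hgen s hsS hsZ y hy z hz
        obtain ⟨v, hv, t, ht, rfl⟩ := hsup w hw
        refine subset_closure ⟨v, hv, ?_⟩
        rw [hwe, show ⁅s, v * t⁆ = ⁅s, v⁆ * (v * ⁅s, t⁆ * v⁻¹) by
          simp only [commutatorElement_def]; group,
          commutatorElement_eq_one_iff_mul_comm.2
            (congrArg Subtype.val (mul_comm' (⟨s, hBS hsB⟩ : S₀) ⟨t, ht⟩)), mul_one, mul_inv_cancel,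
          mul_one]
      · rintro _ ⟨v, hv, rfl⟩
        exact subset_closure ⟨s, hsS, v, hVS hv, rfl⟩
    intro c hc
    have hcs : c * s * c⁻¹ = s := by
      rw [← mem_centralizer_iff.1 hc.2 s hsB, mul_inv_cancel_right]
    refine mem_normalizer_iff.2 fun g => ?_
    have key : ∀ d : G, d * s * d⁻¹ = s → ∀ g ∈ D, d * g * d⁻¹ ∈ D := by
      intro d hd g hg
      rw [hDR] at hg ⊢
      have : R ≤ R.comap (MulAut.conj d).toMonoidHom := (closure_le _).2 (by
        rintro _ ⟨v, hv, rfl⟩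
        show d * ⁅s, v⁆ * d⁻¹ ∈ R
        rw [show d * ⁅s, v⁆ * d⁻¹ = ⁅d * s * d⁻¹, d * v * d⁻¹⁆ by
          simp only [commutatorElement_def]; group, hd]
        exact subset_closure ⟨_, hVn.conj_mem v hv d, rfl⟩)
      exact this hg
    refine ⟨key c hcs g, fun hg => ?_⟩
    have h1 := key c⁻¹ (by rw [inv_inv]; nth_rw 1 [← hcs]; group) _ hg
    simpa [mul_assoc] using h1
  have hsupx : ∀ y ∈ (S : Subgroup G), ∃ v ∈ V, ∃ i : ℤ, y = v * x ^ i := by
    intro y hy
    obtain ⟨v, hv, s, hs, rfl⟩ := hsup y hy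
    have h1 : S₀ ≤ V ⊔ zpowers x := hBx ▸ sup_le (hBV.trans le_sup_left) le_sup_right
    obtain ⟨w, hw, u, hu, rfl⟩ := mem_sup_of_normal_left.1 (h1 hs)
    obtain ⟨i, rfl⟩ := mem_zpowers_iff.1 hu
    exact ⟨v * w, mul_mem hv hw, i, by rw [mul_assoc]⟩
  have hxS : x ∈ (S : Subgroup G) := hS₀ hxS₀
  have hxV : x ∉ V := by
    intro hxV
    refine hnot fun s hs => hS₀VQ s hs ?_
    have : S₀ ≤ V := hBx ▸ sup_le hBV (zpowers_le.2 hxV)
    exact this hs
  have hxp : x ^ p ∈ Z := ⟨_, hpow ⟨x, hxS⟩, rfl⟩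
  -- the commutators with `x`
  set z₀ := ⁅a, x⁆ with hz₀
  have hz₀Z : z₀ ∈ Z := hcomm' a haS x hxS
  have hcz : ∀ i : ℤ, ⁅a, x ^ i⁆ = z₀ ^ i := by
    intro i
    have h1 : a * x * a⁻¹ = z₀ * x := by rw [hz₀, commutatorElement_def]; group
    rw [commutatorElement_def, ← conj_zpow, h1,
      (show Commute z₀ x from (hZc z₀ hz₀Z x hxS).symm).mul_zpow, mul_inv_cancel_right]
  have hz₀p : z₀ ^ p = 1 := by
    have h1 := hcz p
    rw [zpow_natCast, zpow_natCast, commutatorElement_eq_one_iff_mul_comm.2 (hZc _ hxp a haS)] at h1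
    exact h1.symm
  have hder : ∀ y ∈ (S : Subgroup G), ∀ z ∈ (S : Subgroup G), ⁅y, z⁆ ∈ zpowers z₀ := by
    intro y hy z hz
    obtain ⟨w, hw, hwe⟩ := hgen a haS haZ y hy z hz
    obtain ⟨v, hv, i, rfl⟩ := hsupx w hw
    refine mem_zpowers_iff.2 ⟨i, ?_⟩
    rw [hwe, haw v hv _ (zpow_mem hxS₀ i), hcz]
  by_cases hp5 : 5 ≤ p
  · -- quadratic action
    set Φ := (frattini ↥V).map V.subtype with hΦ
    have hstab := (Fusion.QuadStable.isActionPStable_of_psolvable (p := p) hp5 hG).2.1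
    obtain ⟨D', hD'n, hKD, ⟨j, hj⟩, hxD⟩ := hstab x (by
      refine le_trans (le_of_eq ?_) bot_le
      rw [commutator_eq_bot_iff_le_centralizer, commutator_le]
      intro v hv y hy
      refine mem_centralizer_iff.2 fun z hz => ?_
      exact hZc _ (hcomm' v (hVS hv) y (zpowers_le.2 hxS hy)) z (zpowers_le.2 hxS hz))
    set K := Cfsg.sectionKernel V Φ with hK
    refine hxV (Cores.le_pCore (hn := hD'n) ?_ hxD)
    have hKp : IsPGroup p K := by
      rintro ⟨c, hc⟩
      obtain ⟨c₁, b, hcb, ⟨i, hi⟩, hb, -, hbmem⟩ : ∃ c₁ b : G, c = c₁ * b ∧ (∃ i, orderOf c₁ = p ^ i) ∧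
          (orderOf b).Coprime p ∧ c₁ ∈ zpowers c ∧ b ∈ zpowers c :=
        Fusion.ZJConstrained.isPStableOn_quotient.exists_parts c
      have hbV : b ∈ centralizer (V : Set G) := by
        refine (Coprime.le_centralizer_of_frattini (A := zpowers b) (K := V)
          (by rw [normalizer_eq_top]; exact le_top) ?_ ?_) (mem_zpowers b)
        · obtain ⟨l, hl⟩ := IsPGroup.iff_card.mp (hVp.to_subgroup (frattini V))
          rw [Nat.card_zpowers, hl]
          exact hb.pow_right l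
        · intro d hd y hy
          have hdK : d ∈ K := zpowers_le.2 (zpowers_le.2 hc hbmem) hd
          rw [← hΦ, ← QuotientGroup.eq_one_iff]
          show QuotientGroup.mk' Φ ⁅d, y⁆ = 1
          rw [map_commutatorElement, commutatorElement_eq_one_iff_mul_comm]
          exact (mem_centralizer_iff.1 hdK _ (mem_map_of_mem _ hy)).symm
      obtain ⟨l, hl⟩ := hVp ⟨b, hV hbV⟩
      have hb1 : b = 1 := orderOf_eq_one_iff.1 (Nat.eq_one_of_dvd_coprimes (hb.pow_right l) dvd_rfl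
        (orderOf_dvd_of_pow_eq_one (congrArg Subtype.val hl)))
      exact ⟨i, Subtype.ext (by
        show c ^ p ^ i = 1
        rw [hcb, hb1, mul_one, ← hi, pow_orderOf_eq_one])⟩
    obtain ⟨l, hl⟩ := IsPGroup.iff_card.mp hKp
    refine IsPGroup.of_card (n := l + j) ?_
    rw [← relIndex_bot_left D', ← relIndex_mul_relIndex ⊥ K D' bot_le hKD, relIndex_bot_left, hj, hl,
      pow_add]
  -- small primes
  rcases hR3 with hab | ⟨α, r, hr, hrp, hαr, hαfix, hαmove, hαline⟩
  · exact haZ (hZmem a haS fun y hy => congrArg Subtype.val (hab ⟨y, hy⟩ ⟨a, haS⟩))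
  -- modulo the centre there are `p ^ 2` elements
  have hreps : ∀ y ∈ (S : Subgroup G), ∃ z ∈ Z, ∃ i < p, ∃ j < p, y = z * a ^ i * x ^ j := by
    intro y hy
    obtain ⟨v, hv, j, rfl⟩ := hsupx y hy
    obtain ⟨l, hl⟩ := mem_zpowers_iff.1 (hder v (hVS hv) x hxS)
    have hz' : v * (a ^ l)⁻¹ ∈ Z := by
      have hal : a ^ l ∈ V := zpow_mem (hZVV (hAZ haA)) l
      refine hZmem _ (hVS (mul_mem hv (inv_mem hal))) fun y hy => ?_
      obtain ⟨w, hw, i, rfl⟩ := hsupx y hy
      have hx1 : x * (v * (a ^ l)⁻¹) = v * (a ^ l)⁻¹ * x := by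
        have h1 : v * x * v⁻¹ = z₀ ^ l * x := by rw [hl, commutatorElement_def]; group
        have h3 : x * a * x⁻¹ = z₀⁻¹ * a := by rw [hz₀, commutatorElement_def]; group
        have h4 : x * a ^ l * x⁻¹ = z₀⁻¹ ^ l * a ^ l := by
          rw [← conj_zpow, h3, (show Commute z₀⁻¹ a from
            ((show Commute a z₀ from hZc z₀ hz₀Z a haS).inv_right).symm).mul_zpow]
        have h2 : a ^ l * x * (a ^ l)⁻¹ = z₀ ^ l * x := by
          calc a ^ l * x * (a ^ l)⁻¹ = a ^ l * (x * a ^ l * x⁻¹)⁻¹ * x := by group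
            _ = z₀ ^ l * x := by rw [h4, inv_zpow]; group
        have hz₁ : ∀ g ∈ (S : Subgroup G), g * z₀ ^ l = z₀ ^ l * g := fun g hg =>
          hZc _ (zpow_mem hz₀Z l) g hg
        have h5 : (a ^ l)⁻¹ * x * a ^ l = (z₀ ^ l)⁻¹ * x := by
          rw [eq_inv_mul_iff_mul_eq]
          calc z₀ ^ l * ((a ^ l)⁻¹ * x * a ^ l) = (a ^ l)⁻¹ * (z₀ ^ l * x) * a ^ l := by
                rw [← mul_assoc, ← mul_assoc, ← hz₁ _ (inv_mem (hVS hal))]; group
            _ = x := by rw [← h2]; group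
        have h6 : v * (a ^ l)⁻¹ * x * (v * (a ^ l)⁻¹)⁻¹ = x := by
          calc v * (a ^ l)⁻¹ * x * (v * (a ^ l)⁻¹)⁻¹ = v * ((a ^ l)⁻¹ * x * a ^ l) * v⁻¹ := by group
            _ = v * (z₀ ^ l)⁻¹ * v⁻¹ * (v * x * v⁻¹) := by rw [h5]; group
            _ = x := by
              rw [h1, hZc _ (inv_mem (zpow_mem hz₀Z l)) v (hVS hv)]; group
        exact (mul_inv_eq_iff_eq_mul.1 h6).symm
      exact (((show Commute w (v * (a ^ l)⁻¹) from hVab w hw _ (mul_mem hv (inv_mem hal)))).mul_left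
        ((show Commute x (v * (a ^ l)⁻¹) from hx1).zpow_left i)).eq
    have hap : a ^ p ∈ Z := ⟨_, hpow ⟨a, haS⟩, rfl⟩
    have hp0 : (p : ℤ) ≠ 0 := Nat.cast_ne_zero.2 hp.out.ne_zero
    obtain ⟨i, hi, hai⟩ : ∃ i < p, ∃ z ∈ Z, a ^ l = z * a ^ i := by
      refine ⟨(l % p).toNat, ?_, (a ^ p) ^ (l / p), zpow_mem hap _, ?_⟩
      · have := Int.emod_lt_of_pos l (b := (p : ℤ)) (by exact_mod_cast hp.out.pos)
        omega
      · rw [← zpow_natCast a (l % p).toNat, Int.toNat_of_nonneg (Int.emod_nonneg l hp0),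
          ← zpow_natCast, ← zpow_mul, ← zpow_add, Int.mul_ediv_add_emod]
    obtain ⟨jn, hjn, hxj⟩ : ∃ i < p, ∃ z ∈ Z, x ^ j = z * x ^ i := by
      refine ⟨(j % p).toNat, ?_, (x ^ p) ^ (j / p), zpow_mem hxp _, ?_⟩
      · have := Int.emod_lt_of_pos j (b := (p : ℤ)) (by exact_mod_cast hp.out.pos)
        omega
      · rw [← zpow_natCast x (j % p).toNat, Int.toNat_of_nonneg (Int.emod_nonneg j hp0),
          ← zpow_natCast, ← zpow_mul, ← zpow_add, Int.mul_ediv_add_emod]
    obtain ⟨z1, hz1, hz1e⟩ := hai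
    obtain ⟨z2, hz2, hz2e⟩ := hxj
    refine ⟨v * (a ^ l)⁻¹ * z1 * z2, mul_mem (mul_mem hz' hz1) hz2, i, hi, jn, hjn, ?_⟩
    calc v * x ^ j = v * (a ^ l)⁻¹ * z1 * (a ^ i * z2) * x ^ jn := by rw [hz1e, hz2e]; group
      _ = _ := by rw [hZc z2 hz2 _ (pow_mem haS i)]; group
  -- the quotient by the centre
  set T := (S : Subgroup G) ⧸ center (S : Subgroup G) with hT
  let π : (S : Subgroup G) →* T := QuotientGroup.mk' _
  have hπ1 : ∀ y, π y = 1 ↔ y ∈ center (S : Subgroup G) := fun y => QuotientGroup.eq_one_iff y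
  have hnotc : ∀ y : (S : Subgroup G), (y : G) ∉ Z → y ∉ center (S : Subgroup G) := fun y hy hc =>
    hy ⟨y, hc, rfl⟩
  let β : T →* T := QuotientGroup.lift _ (π.comp α.toMonoidHom) fun y hy => by
    show π (α y) = 1
    rw [hπ1, hαfix y hy]; exact hy
  have hβ : ∀ y, β (π y) = π (α y) := fun y => rfl
  let aS : (S : Subgroup G) := ⟨a, haS⟩
  let xS : (S : Subgroup G) := ⟨x, hxS⟩
  have haSc : aS ∉ center (S : Subgroup G) := hnotc _ haZ
  have hcardle : Nat.card T ≤ p * p := by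
    have h1 : Function.Surjective fun ij : Fin p × Fin p => π (aS ^ (ij.1 : ℕ) * xS ^ (ij.2 : ℕ)) := by
      intro u
      obtain ⟨y, rfl⟩ := QuotientGroup.mk'_surjective _ u
      obtain ⟨z, hz, i, hi, j, hj, hyz⟩ := hreps y y.2
      refine ⟨(⟨i, hi⟩, ⟨j, hj⟩), ?_⟩
      obtain ⟨zc, hzc, rfl⟩ := hz
      have hy : y = zc * (aS ^ i * xS ^ j) := Subtype.ext (by
        show (y : G) = zc * (a ^ i * x ^ j)
        rw [← mul_assoc]; exact hyz)
      show π (aS ^ i * xS ^ j) = π y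
      rw [hy, map_mul π zc, (hπ1 zc).2 hzc, one_mul]
    refine (Nat.card_le_card_of_surjective _ h1).trans (le_of_eq ?_)
    rw [Nat.card_prod, Nat.card_fin]
  haveI : Fintype T := Fintype.ofFinite T
  classical
  have hne : ∀ y, y ∉ center (S : Subgroup G) → π y ≠ 1 := fun y hy h => hy ((hπ1 y).1 h)
  have hline : ∀ y, y ∉ center (S : Subgroup G) → ∀ i : ℤ, π (α y) ≠ π y ^ i := by
    intro y hy i h
    refine hαline y hy ?_
    have h1 : α y * (y ^ i)⁻¹ ∈ center (S : Subgroup G) := by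
      rw [← hπ1, map_mul, map_inv, map_zpow, h, mul_inv_cancel]
    have h2 := mul_mem (mem_sup_left (T := zpowers y) h1)
      (mem_sup_right (S := center (S : Subgroup G)) (zpow_mem (mem_zpowers y) i))
    rwa [inv_mul_cancel_right] at h2
  have hTcomm : ∀ u w : T, u * w = w * u := by
    intro u w
    obtain ⟨y, rfl⟩ := QuotientGroup.mk'_surjective _ u
    obtain ⟨y', rfl⟩ := QuotientGroup.mk'_surjective _ w
    rw [← commutatorElement_eq_one_iff_mul_comm, ← map_commutatorElement]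
    exact (hπ1 _).2 (hcomm y y')
  have hTexp : ∀ u : T, u ^ p = 1 := by
    intro u
    obtain ⟨y, rfl⟩ := QuotientGroup.mk'_surjective _ u
    rw [← map_pow]
    exact (hπ1 _).2 (hpow y)
  have hxSc : xS ∉ center (S : Subgroup G) := hnotc _ fun h => hxV (hZV h)
  have hcard : Nat.card T = p * p := by
    have hTp : IsPGroup p T := fun u => ⟨1, by rw [pow_one]; exact hTexp u⟩
    obtain ⟨k, hk⟩ := IsPGroup.iff_card.mp hTp
    refine le_antisymm hcardle ?_
    rw [hk, ← sq]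
    refine Nat.pow_le_pow_right hp.out.pos ?_
    by_contra hk2
    have ho : orderOf (π aS) = p := orderOf_eq_prime (hTexp _) (hne _ haSc)
    have htop : zpowers (π aS) = ⊤ := eq_top_of_le_card _ (by
      rw [Nat.card_zpowers, ho, hk]
      calc p ^ k ≤ p ^ 1 := Nat.pow_le_pow_right hp.out.pos (by omega)
        _ = p := pow_one p)
    obtain ⟨i, hi⟩ := mem_zpowers_iff.1 (htop.ge (mem_top (π (α aS))))
    exact hline _ haSc i hi.symm
  have hrdvd : r ∣ p * p - 1 := by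
    haveI := Fact.mk hr
    let F : Equiv.Perm T := Equiv.ofBijective β (Finite.injective_iff_bijective.1
      ((injective_iff_map_eq_one β).2 fun u hu => by
        obtain ⟨y, rfl⟩ := QuotientGroup.mk'_surjective _ u
        rw [hβ, hπ1] at hu
        refine (hπ1 y).2 (mem_center_iff.2 fun g => α.injective ?_)
        rw [map_mul, map_mul, mem_center_iff.1 hu]))
    have hF : ∀ (n : ℕ) y, (F ^ n) (π y) = π ((α ^ n) y) := by
      intro n y
      induction n with
      | zero => rfl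
      | succ n ih =>
        rw [pow_succ' F, Equiv.Perm.mul_apply, ih, pow_succ' α, MulAut.mul_apply]
        rfl
    have hFr : F ^ r = 1 := Equiv.ext fun u => by
      obtain ⟨y, rfl⟩ := QuotientGroup.mk'_surjective _ u
      rw [hF, hαr]; rfl
    have hpg : IsPGroup r (zpowers F) := by
      rintro ⟨g, i, rfl⟩
      refine ⟨1, Subtype.ext ?_⟩
      show (F ^ i) ^ r ^ 1 = 1
      rw [pow_one, ← zpow_natCast, ← zpow_mul, mul_comm, zpow_mul, zpow_natCast, hFr, one_zpow]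
    have hfix : MulAction.fixedPoints (zpowers F) T = {1} := by
      ext u
      constructor
      · intro hu
        obtain ⟨y, rfl⟩ := QuotientGroup.mk'_surjective _ u
        have h1 : F (π y) = π y := hu ⟨F, mem_zpowers F⟩
        refine (hπ1 y).2 (hαmove y ?_)
        rw [← hπ1, map_mul, map_inv, mul_inv_eq_one]
        exact h1
      · rintro rfl ⟨g, i, rfl⟩
        show (F ^ i) 1 = 1
        have h1 : F 1 = 1 := map_one β
        exact Equiv.Perm.zpow_apply_eq_self_of_apply_eq_self h1 i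
    have h := hpg.card_modEq_card_fixedPoints T
    rw [hfix, hcard, show Nat.card ({1} : Set T) = 1 by simp] at h
    exact (Nat.modEq_iff_dvd' (Nat.one_le_iff_ne_zero.2 (Nat.mul_ne_zero hp.out.ne_zero hp.out.ne_zero))).1 h.symm
  have hp23 : p = 2 ∨ p = 3 := by
    have h4 : p ≠ 4 := fun h => by subst h; exact absurd hp.out (by decide)
    have := hp.out.two_le
    omega
  rcases hp23 with rfl | rfl
  swap
  · -- `p = 3`
    have hr2 : r = 2 := by
      have h8 : r ∣ 2 ^ 3 := hrdvd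
      exact (Nat.prime_dvd_prime_iff_eq hr Nat.prime_two).1 (hr.dvd_of_dvd_pow h8)
    subst hr2
    have h2 : π (α (α aS)) = π aS := by
      rw [← MulAut.mul_apply, ← sq, hαr]; rfl
    have h3 : π (aS * α aS) = 1 := (hπ1 _).2 (hαmove _ (by
      rw [← hπ1, map_mul α, map_mul π, map_inv, map_mul π, map_mul π, h2, hTcomm (π (α aS)), mul_inv_cancel]))
    rw [map_mul] at h3
    exact hline aS haSc (-1) (by rw [zpow_neg_one]; exact eq_inv_of_mul_eq_one_right h3)
  -- `p = 2`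
  have hr3 : r = 3 := (Nat.prime_dvd_prime_iff_eq hr Nat.prime_three).1 hrdvd
  subst hr3
  have hZVS : ZV ≤ (S : Subgroup G) := hZVV.trans hVS
  have hAcomm : ∀ u ∈ A, ∀ w ∈ A, u * w = w * u := fun u hu w hw => hVab u (hZVV (hAZ hu)) w (hZVV (hAZ hw))
  have hJA' : J ≤ normalizer (A : Set G) := normalizer_commutator_ge_right ZV J
  obtain ⟨b, hbA, hbZ, hb2⟩ : ∃ b ∈ A, b ∉ Z ∧ b ^ 2 = 1 := by
    by_contra hno
    push Not at hno
    let W : Subgroup G :=
      { carrier := {u | u ∈ A ∧ u ^ 2 = 1}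
        one_mem' := ⟨one_mem _, one_pow _⟩
        mul_mem' := fun {u w} hu hw => ⟨mul_mem hu.1 hw.1, by
          rw [(show Commute u w from hAcomm u hu.1 w hw.1).mul_pow, hu.2, hw.2, one_mul]⟩
        inv_mem' := fun {u} hu => ⟨inv_mem hu.1, by rw [inv_pow, hu.2, inv_one]⟩ }
    have hWJ : J ≤ normalizer (W : Set G) := le_normalizer_iff.2 fun j hj u hu =>
      ⟨(mem_normalizer_iff.1 (hJA' hj) u).1 hu.1, by rw [conj_pow, hu.2, mul_one, mul_inv_cancel]⟩
    have hWc := hJfix W hWJ fun s hs => mem_centralizer_iff.2 fun u hu => by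
      have huZ : u ∈ Z := by
        by_contra huZ
        exact hno u hu.1 huZ hu.2
      exact (hZc u huZ s (hS₀ hs)).symm
    have ha1 : a ≠ 1 := fun h => haZ (h ▸ one_mem _)
    obtain ⟨k, hk⟩ := hVp ⟨a, hZVV (hAZ haA)⟩
    obtain ⟨l, -, hl⟩ := (Nat.dvd_prime_pow Nat.prime_two).1
      (orderOf_dvd_of_pow_eq_one (congrArg Subtype.val hk))
    have hl0 : l ≠ 0 := fun h0 => ha1 (orderOf_eq_one_iff.1 (by rw [hl, h0, pow_zero]))
    have hmem : a ^ 2 ^ (l - 1) ∈ W := ⟨pow_mem haA _, by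
      rw [← pow_mul, ← pow_succ, show l - 1 + 1 = l by omega]
      exact hl ▸ pow_orderOf_eq_one a⟩
    have h1 := hAC _ (pow_mem haA _) ⟨hZVV (hAZ (pow_mem haA _)), mem_centralizer_iff.2 fun g hg =>
      (mem_centralizer_iff.1 (hWc hg) _ hmem).symm⟩
    have h2 := Nat.le_of_dvd (pow_pos two_pos _) (orderOf_dvd_of_pow_eq_one h1)
    rw [hl] at h2
    have := (Nat.pow_le_pow_iff_right (le_refl 2)).1 h2
    omega
  let bS : (S : Subgroup G) := ⟨b, hZVS (hAZ hbA)⟩
  have hbc : bS ∉ center (S : Subgroup G) := hnotc _ hbZ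
  have hbS2 : bS ^ 2 = 1 := Subtype.ext hb2
  have hαc : ∀ y, y ∉ center (S : Subgroup G) → α y ∉ center (S : Subgroup G) := fun y hy h =>
    hy (mem_center_iff.2 fun g => α.injective (by rw [map_mul, map_mul, mem_center_iff.1 h]))
  set c₁ := α bS with hc₁
  set c₂ := α c₁ with hc₂
  have hc1c := hαc _ hbc
  have hc2c := hαc _ hc1c
  have hc3 : α c₂ = bS := by
    rw [hc₂, hc₁, ← MulAut.mul_apply, ← MulAut.mul_apply, ← sq, ← pow_succ, hαr]; rfl
  have hd1 : π c₁ ≠ π bS := fun h => hline _ hbc 1 (by rw [zpow_one]; exact h)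
  have hd2 : π c₂ ≠ π c₁ := fun h => hline _ hc1c 1 (by rw [zpow_one]; exact h)
  have hd3 : π c₂ ≠ π bS := fun h => hline _ hc2c 1 (by rw [zpow_one, hc3]; exact h.symm)
  have hprod : π c₂ = π bS * π c₁ := by
    by_contra hne'
    have hd4 : π bS * π c₁ ≠ 1 := fun h => hd1 (mul_left_cancel (a := π bS) (by
      rw [h, ← sq, ← map_pow, hbS2, map_one]))
    have hd5 : π bS * π c₁ ≠ π bS := fun h => hne _ hc1c (mul_eq_left.1 h)
    have hd6 : π bS * π c₁ ≠ π c₁ := fun h => hne _ hbc (mul_eq_right.1 h)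
    have hnd : ([1, π bS, π c₁, π c₂, π bS * π c₁] : List T).Nodup := by
      simp [Ne.symm (hne _ hbc), Ne.symm (hne _ hc1c), Ne.symm (hne _ hc2c), Ne.symm hd4, Ne.symm hd1,
        Ne.symm hd3, Ne.symm hd5, Ne.symm hd2, Ne.symm hd6, hne']
      exact ⟨fun h => hne _ hc1c h.symm, fun h => hne _ hc2c h.symm⟩
    have h5 := hnd.length_le_card
    rw [← Nat.card_eq_fintype_card, hcard] at h5
    simp at h5
  obtain ⟨zc, hzc, hzce⟩ : ∃ zc ∈ center (S : Subgroup G), c₂ = zc * (bS * c₁) :=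
    ⟨c₂ * (bS * c₁)⁻¹, by rw [← hπ1, map_mul, map_inv, hprod, map_mul, mul_inv_cancel], by group⟩
  have hc₁2 : c₁ ^ 2 = 1 := by rw [hc₁, ← map_pow, hbS2, map_one]
  have hc₂2 : c₂ ^ 2 = 1 := by rw [hc₂, ← map_pow, hc₁2, map_one]
  have hw : zc ^ 2 * ⁅bS, c₁⁆ = 1 := by
    have h1 : (bS * c₁) ^ 2 = ⁅bS, c₁⁆ := by
      rw [commutatorElement_def, inv_eq_of_mul_eq_one_left (by rw [← sq]; exact hbS2),
        inv_eq_of_mul_eq_one_left (by rw [← sq]; exact hc₁2), sq]
      simp only [mul_assoc]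
    rw [← h1, ← (show Commute zc (bS * c₁) from (mem_center_iff.1 hzc _).symm).mul_pow, ← hzce, hc₂2]
  -- `b` and its image generate modulo the centre
  have hbc1 : ⁅bS, c₁⁆ ≠ 1 := by
    intro h
    refine hbc (mem_center_iff.2 fun g => ?_)
    have hgmem : ∃ z ∈ center (S : Subgroup G), g = z ∨ g = z * bS ∨ g = z * c₁ ∨ g = z * (bS * c₁) := by
      by_contra hno
      push Not at hno
      have e : ∀ y, π g = π y → g * y⁻¹ ∈ center (S : Subgroup G) := fun y hy => by
        rw [← hπ1, map_mul, map_inv, hy, mul_inv_cancel]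
      have n0 : π g ≠ 1 := fun hy => (hno g ((hπ1 g).1 hy)).1 rfl
      have n1 : π g ≠ π bS := fun hy => (hno _ (e _ hy)).2.1 (by group)
      have n2 : π g ≠ π c₁ := fun hy => (hno _ (e _ hy)).2.2.1 (by group)
      have n3 : π g ≠ π bS * π c₁ := fun hy => (hno _ (e _ (hy.trans (map_mul π bS c₁).symm))).2.2.2 (by group)
      have hd5 : π bS * π c₁ ≠ π bS := fun h => hne _ hc1c (mul_eq_left.1 h)
      have hd6 : π bS * π c₁ ≠ π c₁ := fun h => hne _ hbc (mul_eq_right.1 h)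
      have hd4 : π bS * π c₁ ≠ 1 := fun h => hd1 (mul_left_cancel (a := π bS) (by
        rw [h, ← sq, ← map_pow, hbS2, map_one]))
      have hnd : ([1, π bS, π c₁, π bS * π c₁, π g] : List T).Nodup := by
        simp [Ne.symm (hne _ hbc), Ne.symm (hne _ hc1c), Ne.symm hd4, Ne.symm hd1, Ne.symm hd5,
          Ne.symm hd6, Ne.symm n0, Ne.symm n1, Ne.symm n2, Ne.symm n3]
        exact fun h => hne _ hc1c h.symm
      have h5 := hnd.length_le_card
      rw [← Nat.card_eq_fintype_card, hcard] at h5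
      simp at h5
    have hbc' : Commute bS c₁ := commutatorElement_eq_one_iff_mul_comm.1 h
    obtain ⟨z, hz, hg⟩ := hgmem
    have hzb : Commute z bS := (mem_center_iff.1 hz bS).symm
    rcases hg with rfl | rfl | rfl | rfl
    · exact hzb.eq
    · exact (hzb.mul_left (Commute.refl _)).eq
    · exact (hzb.mul_left hbc'.symm).eq
    · exact (hzb.mul_left ((Commute.refl _).mul_left hbc'.symm)).eq
  set z : G := (zc : G) with hzdef
  have hzZ : z ∈ Z := ⟨zc, hzc, rfl⟩
  have hzw : z ^ 2 = ⁅(bS : G), (c₁ : G)⁆⁻¹ := by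
    have := congrArg (S : Subgroup G).subtype (eq_inv_of_mul_eq_one_left hw)
    rwa [map_pow, map_inv, map_commutatorElement] at this
  have hwA : z ^ 2 ∈ A := hzw ▸ inv_mem (hderA _ bS.2 _ c₁.2)
  obtain ⟨a', ha', c, hc, hac⟩ : ∃ a' ∈ A, ∃ c ∈ ZV ⊓ centralizer (J : Set G), z = a' * c := by
    have h1 := (Coprime.commutator_sup_centralizer hJZV (hcopJ hZVV) (Or.inl hJsol)).ge (hZZV hzZ)
    have h2 : ZV ⊓ centralizer (J : Set G) ≤ normalizer (A : Set G) :=
      le_normalizer_iff.2 fun d hd u hu => by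
        have : d * u = u * d := hVab d (hZVV hd.1) u (hZVV (hAZ hu))
        rwa [this, mul_inv_cancel_right]
    rw [← hA, sup_comm, ← SetLike.mem_coe, coe_mul_of_left_le_normalizer_right _ _ h2] at h1
    obtain ⟨d, hd, u, hu, hdu⟩ := h1
    exact ⟨u, hu, d, hd, hdu.symm.trans (hVab d (hZVV hd.1) u (hZVV (hAZ hu)))⟩
  have hzsq : z ^ 2 = a' ^ 2 * c ^ 2 := by
    rw [hac, (show Commute a' c from hVab a' (hZVV (hAZ ha')) c (hZVV hc.1)).mul_pow]
  have hc2 : c ^ 2 = 1 := hAC _ (by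
    have := mul_mem (inv_mem (pow_mem ha' 2)) hwA
    rwa [hzsq, inv_mul_cancel_left] at this) ⟨hZVV (pow_mem hc.1 2), pow_mem hc.2 2⟩
  let Sq : Subgroup G :=
    { carrier := {u | ∃ w ∈ A, w ^ 2 = u}
      one_mem' := ⟨1, one_mem _, one_pow _⟩
      mul_mem' := by
        rintro _ _ ⟨u, hu, rfl⟩ ⟨w, hw, rfl⟩
        exact ⟨u * w, mul_mem hu hw, (show Commute u w from hAcomm u hu w hw).mul_pow 2⟩
      inv_mem' := by
        rintro _ ⟨u, hu, rfl⟩
        exact ⟨u⁻¹, inv_mem hu, inv_pow u 2⟩ }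
  have hSqJ : J ≤ normalizer (Sq : Set G) := le_normalizer_iff.2 fun j hj u hu => by
    obtain ⟨w, hw, rfl⟩ := hu
    exact ⟨j * w * j⁻¹, (mem_normalizer_iff.1 (hJA' hj) w).1 hw, conj_pow⟩
  have hSqc := hJfix Sq hSqJ fun s hs => mem_centralizer_iff.2 fun u hu => by
    obtain ⟨w, hw, rfl⟩ := hu
    have hsS := hS₀ hs
    have hwS : w ∈ (S : Subgroup G) := hZVS (hAZ hw)
    obtain ⟨i, hi⟩ := mem_zpowers_iff.1 (hder s hsS w hwS)
    have h1 : s * w * s⁻¹ = z₀ ^ i * w := by rw [hi, commutatorElement_def]; group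
    have h2 : s * w ^ 2 * s⁻¹ = w ^ 2 := by
      rw [← conj_pow, h1,
        (show Commute (z₀ ^ i) w from (hZc _ (zpow_mem hz₀Z i) w hwS).symm).mul_pow,
        ← zpow_natCast (z₀ ^ i), ← zpow_mul, mul_comm, zpow_mul, zpow_natCast, hz₀p, one_zpow, one_mul]
    exact (mul_inv_eq_iff_eq_mul.1 h2).symm
  have hzsq' : z ^ 2 = a' ^ 2 := by rw [hzsq, hc2, mul_one]
  have h1 : z ^ 2 = 1 := hAC _ hwA ⟨pow_mem (hZV hzZ) 2, mem_centralizer_iff.2 fun g hg =>
    (mem_centralizer_iff.1 (hSqc hg) _ (show z ^ 2 ∈ Sq from ⟨a', ha', hzsq'.symm⟩)).symm⟩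
  apply hbc1
  rw [h1] at hzw
  exact (S : Subgroup G).subtype_injective (by
    rw [map_commutatorElement, map_one]; exact inv_eq_one.1 hzw.symm)

end Main

end CfsgLib.Solvable.SchmidtSylow
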