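import Cfsg.Agent.Lib.Fusion.QuadStable
import Cfsg.Agent.Lib.KGroups.OmegaFaithful
import Cfsg.Agent.Lib.Coprime.Action
import Cfsg.Agent.Lib.Fusion.PSolvable
import Cfsg.Prelude.Def_OddOrderLocal

/-!
# Elements centralising a self-centralising normal subgroup of a nilpotent group above the Fitting
subgroup

For a prime `q ≥ 5`, a `q`-element of a solvable group centralising `A` lies in `A`, when `A` is
self-centralising and normal in a subgroup `F` containing the Fitting subgroup.
-/

set_option autoImplicit false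

namespace CfsgLib.Solvable.ScnHallCentralizer

open Subgroup CfsgLib
open scoped commutatorElement

variable {G : Type*} [Group G] [Finite G]

/-- An element of prime power order in the Fitting subgroup lies in the corresponding core. -/
theorem mem_pCore_of_fitting {r : ℕ} [Fact r.Prime] {y : G} (hy : y ∈ Cfsg.fittingSubgroup G)
    (hyr : IsPGroup r (zpowers y)) : y ∈ Cfsg.pCore r G := by
  set R := Cfsg.fittingSubgroup G
  haveI : R.Normal := sSup_normal _ fun _ h => h.1
  obtain ⟨P, hP⟩ := (hyr.comap_subtype (K := R)).exists_le_sylow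
  haveI hPn : (P : Subgroup R).Normal :=
    ((Group.isNilpotent_of_finite_tfae (G := R)).out 0 3 rfl rfl).mp inferInstance r ‹Fact r.Prime› P
  haveI : (P : Subgroup R).Characteristic := P.characteristic_of_normal hPn
  exact Cores.le_pCore (P.isPGroup'.map R.subtype)
    (mem_map_of_mem R.subtype (hP (show (⟨y, hy⟩ : R) ∈ (zpowers y).comap R.subtype from mem_zpowers y)))

theorem mem_of_centralizing_scn [Group.IsSolvable G] {F A : Subgroup G}
    (hRF : Cfsg.fittingSubgroup G ≤ F) (hA : Cfsg.IsSCN F A) {q : ℕ} [Fact q.Prime] (hq : 5 ≤ q)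
    {x : G} {k : ℕ} (hxk : orderOf x = q ^ k) (hxA : x ∈ centralizer (A : Set G)) : x ∈ A := by
  classical
  obtain ⟨hAF, hFA, hCA⟩ := hA
  have hqp : q.Prime := Fact.out
  set R := Cfsg.fittingSubgroup G with hR
  haveI hRn : R.Normal := sSup_normal _ fun _ h => h.1
  suffices hxR : x ∈ R by exact hCA.le ⟨hRF hxR, hxA⟩
  have hkey : ∀ y ∈ zpowers x, ∀ n ∈ R, ⁅n, y⁆ ∈ A := by
    intro y hy n hn
    have hyA : y ∈ centralizer (A : Set G) := zpowers_le.2 hxA hy
    have hc : ⁅n, y⁆ ∈ R := by
      rw [show ⁅n, y⁆ = n * (y * n⁻¹ * y⁻¹) by simp only [commutatorElement_def]; group]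
      exact R.mul_mem hn (hRn.conj_mem _ (R.inv_mem hn) y)
    refine hCA.le ⟨hRF hc, mem_centralizer_iff.2 fun a ha => ?_⟩
    have hyc : ∀ b ∈ A, y * b * y⁻¹ = b := fun b hb => by
      rw [← mem_centralizer_iff.1 hyA b hb, mul_inv_cancel_right]
    have hb : n⁻¹ * a * n ∈ A := by
      have h := (mem_normalizer_iff.1 (hFA (F.inv_mem (hRF hn))) a).1 ha
      rwa [inv_inv] at h
    have h1 : ⁅n, y⁆ * a * ⁅n, y⁆⁻¹ = a := by
      have e : ⁅n, y⁆ * a * ⁅n, y⁆⁻¹ =
          n * (y * (n⁻¹ * (y⁻¹ * a * y) * n) * y⁻¹) * n⁻¹ := by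
        simp only [commutatorElement_def]; group
      rw [e, show y⁻¹ * a * y = a by rw [mul_assoc, mem_centralizer_iff.1 hyA a ha, inv_mul_cancel_left],
        hyc _ hb]
      group
    exact (mul_inv_eq_iff_eq_mul.1 h1).symm
  have hOR : ∀ r : Nat.Primes, Cfsg.pCore (r : ℕ) G ≤ R := fun r =>
    haveI := Fact.mk r.2
    Cores.pCore_le_fittingSubgroup _
  -- the cores for the other primes are centralised
  have hxN : ∀ r : Nat.Primes, (r : ℕ) ≠ q → x ∈ centralizer (Cfsg.pCore (r : ℕ) G : Set G) := by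
    intro r hrq
    haveI := Fact.mk r.2
    set O := Cfsg.pCore (r : ℕ) G with hO
    haveI : O.Normal := sSup_normal _ fun _ h => h.1
    refine mem_centralizer_iff.2 fun n hn => ?_
    have ho : (orderOf x).Coprime r := by
      rw [hxk]; exact ((Nat.coprime_primes hqp r.2).2 (Ne.symm hrq)).pow_left k
    have h1 := KGroups.OmegaFaithful.fix_of_coset (C := O ⊓ A)
      ((Cores.isPGroup_pCore (r : ℕ)).to_le inf_le_left) (x := n) ho
      (fun c hc => by rw [← mem_centralizer_iff.1 hxA c hc.2, mul_inv_cancel_right]) ?_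
    · exact (mul_inv_eq_iff_eq_mul.1 h1).symm
    rw [show n⁻¹ * (x * n * x⁻¹) = ⁅n⁻¹, x⁆ by simp only [commutatorElement_def]; group]
    refine ⟨?_, hkey x (mem_zpowers x) _ (hOR r (O.inv_mem hn))⟩
    rw [show ⁅n⁻¹, x⁆ = n⁻¹ * (x * n * x⁻¹) by simp only [commutatorElement_def]; group]
    exact O.mul_mem (O.inv_mem hn) ((inferInstance : O.Normal).conj_mem n hn x)
  set N : Subgroup G := ⨅ r : {r : Nat.Primes // (r : ℕ) ≠ q},
    centralizer (Cfsg.pCore ((r : Nat.Primes) : ℕ) G : Set G) with hN
  haveI hNn : N.Normal := normal_iInf_normal fun r => by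
    haveI : (Cfsg.pCore ((r : Nat.Primes) : ℕ) G).Normal := sSup_normal _ fun _ h => h.1
    infer_instance
  -- the action on the `q`-core
  set Q := Cfsg.pCore q G with hQ
  haveI : Q.Normal := sSup_normal _ fun _ h => h.1
  set Φ := (frattini ↥Q).map Q.subtype with hΦ
  have hstab := (Fusion.QuadStable.isActionPStable_of_psolvable (p := q) hq
    (Fusion.PSolvable.psolvable_of_solvable (G := G))).2.1
  obtain ⟨D, hDn, hKD, ⟨j, hj⟩, hxD⟩ := hstab x (by
    refine le_trans (le_of_eq ?_) bot_le
    rw [commutator_eq_bot_iff_le_centralizer, commutator_le]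
    intro n hn y hy
    have hnA : ⁅n, y⁆ ∈ A := hkey y hy n (hOR ⟨q, hqp⟩ hn)
    refine mem_centralizer_iff.2 fun z hz => ?_
    exact (mem_centralizer_iff.1 (zpowers_le.2 hxA hz) _ hnA).symm)
  set E := D ⊓ N with hE
  haveI : E.Normal := inferInstance
  have hxE : x ∈ E := ⟨hxD, mem_iInf.2 fun r => hxN r r.2⟩
  -- elements of order prime to `q` are central in `E`
  have hcentral : ∀ b : E, (orderOf b).Coprime q → b ∈ center E := by
    intro b hb
    rw [← orderOf_coe] at hb
    have hbQ : (b : G) ∈ centralizer (Q : Set G) := by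
      set K := Cfsg.sectionKernel Q Φ with hK
      have hbK : (b : G) ∈ K := by
        haveI : (K.subgroupOf D).Normal := by
          haveI : K.Normal := by
            rw [hK, Cfsg.sectionKernel]
            haveI : (Q.map (QuotientGroup.mk' Φ)).Normal :=
              Normal.map inferInstance _ (QuotientGroup.mk'_surjective Φ)
            infer_instance
          infer_instance
        have h1 : (⟨b, b.2.1⟩ : D) ^ (K.relIndex D) ∈ K.subgroupOf D := pow_index_mem (K.subgroupOf D) _
        rw [hj] at h1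
        have h2 : (b : G) ^ (q ^ j) ∈ K := h1
        obtain ⟨m, hm⟩ := exists_pow_eq_self_of_coprime (hb.pow_right j).symm
        rw [← hm]
        exact pow_mem h2 m
      refine (Coprime.le_centralizer_of_frattini (A := zpowers (b : G)) (K := Q)
        (by rw [normalizer_eq_top]; exact le_top) ?_ ?_) (mem_zpowers (b : G))
      · obtain ⟨i, hi⟩ := IsPGroup.iff_card.mp ((Cores.isPGroup_pCore (G := G) q).to_subgroup (frattini Q))
        rw [Nat.card_zpowers, hi]
        exact hb.pow_right i
      · intro c hc y hy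
        have hcK : c ∈ K := zpowers_le.2 hbK hc
        rw [← hΦ, ← QuotientGroup.eq_one_iff]
        show QuotientGroup.mk' Φ ⁅c, y⁆ = 1
        rw [map_commutatorElement, commutatorElement_eq_one_iff_mul_comm]
        exact (mem_centralizer_iff.1 hcK _ (mem_map_of_mem _ hy)).symm
    have hbR : (b : G) ∈ R := by
      refine Cores.centralizer_fittingSubgroup_le ?_
      rw [Cores.fittingSubgroup_eq_iSup_pCore]
      refine zpowers_le.1 (le_centralizer_iff.1 (iSup_le fun r => ?_))
      refine le_centralizer_iff.1 (zpowers_le.2 ?_)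
      by_cases hrq : (r : ℕ) = q
      · rw [hrq]; exact hbQ
      · exact mem_iInf.1 b.2.2 ⟨r, hrq⟩
    refine mem_center_iff.2 fun e => Subtype.ext ?_
    suffices h : zpowers (b : G) ≤ centralizer ({(e : G)} : Set G) from
      (mem_centralizer_singleton_iff.1 (h (mem_zpowers _))).symm
    rw [← subgroupOf_eq_top]
    refine Cores.eq_top_of_sylow_le _ fun r hr => ?_
    haveI := Fact.mk hr
    obtain ⟨P⟩ : Nonempty (Sylow r (zpowers (b : G))) := inferInstance
    refine ⟨P, fun y hy => ?_⟩
    rw [mem_subgroupOf, mem_centralizer_singleton_iff]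
    by_cases hrq : r = q
    · have hy1 : (y : G) = 1 := by
        obtain ⟨i, hi⟩ := P.isPGroup' ⟨y, hy⟩
        have h1 : (y : G) ^ r ^ i = 1 := congrArg (fun z : (P : Subgroup (zpowers (b : G))) => ((z : zpowers (b : G)) : G)) hi
        subst hrq
        exact orderOf_eq_one_iff.1 (Nat.eq_one_of_dvd_coprimes (hb.pow_right i)
          (orderOf_dvd_of_mem_zpowers y.2) (orderOf_dvd_of_pow_eq_one h1))
      rw [hy1, one_mul, mul_one]
    · have hyR : (y : G) ∈ R := zpowers_le.2 hbR y.2
      have hyO : (y : G) ∈ Cfsg.pCore r G := mem_pCore_of_fitting hyR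
        ((P.isPGroup'.map (zpowers (b : G)).subtype).to_le (zpowers_le.2 (mem_map_of_mem _ hy)))
      exact mem_centralizer_iff.1 (mem_iInf.1 e.2.2 ⟨⟨r, hr⟩, hrq⟩) _ hyO
  have hEnil : Group.IsNilpotent E := by
    refine Group.of_quotient_center_nilpotent (IsPGroup.isNilpotent (p := q) fun z => ?_)
    obtain ⟨g, rfl⟩ := QuotientGroup.mk_surjective z
    obtain ⟨a, b, hab, ⟨i, hi⟩, hb, -, -⟩ : ∃ a b : E, g = a * b ∧ (∃ i, orderOf a = q ^ i) ∧
        (orderOf b).Coprime q ∧ a ∈ zpowers g ∧ b ∈ zpowers g :=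
      Fusion.ZJConstrained.isPStableOn_quotient.exists_parts g
    refine ⟨i, ?_⟩
    rw [hab, QuotientGroup.mk_mul, (QuotientGroup.eq_one_iff b).2 (hcentral b hb), mul_one,
      ← QuotientGroup.mk_pow, ← hi, pow_orderOf_eq_one, QuotientGroup.mk_one]
  exact Cores.le_fittingSubgroup hEnil hxE

end CfsgLib.Solvable.ScnHallCentralizer
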