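import Cfsg.Agent.Lib.Solvable.Huppert

/-!
Groups all of whose subgroups satisfy the converse of Lagrange; conjugacy of supersolvable Hall
subgroups.
-/

open scoped Pointwise
set_option linter.style.haveILetI false

namespace CfsgLib.Solvable.SupersolvableHall

open CfsgLib.Solvable.Basic CfsgLib.Solvable.Supersolvable CfsgLib.Solvable.SupersolvableCriteria

universe u

theorem clt_aux : ∀ (N : ℕ) (G : Type u) [Group G] [Finite G], Nat.card G = N →
    (∀ H : Subgroup G, Cfsg.HasSubgroupOfEveryOrder H) → Cfsg.IsSupersolvable G := by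
  intro n
  induction n using Nat.strong_induction_on with
  | _ n ih =>
    intro G _ _ hn h
    rcases subsingleton_or_nontrivial G with hs | hs
    · exact of_subsingleton
    obtain ⟨p, hp, hpd, hmax⟩ := exists_largest_prime (Nat.card G) Finite.one_lt_card
    haveI := Fact.mk hp
    obtain ⟨P⟩ : Nonempty (Sylow p G) := inferInstance
    haveI := sylow_normal_aux _ G rfl h p hmax P
    have hPcop := P.card_coprime_index
    obtain ⟨A, hA⟩ := Subgroup.exists_right_complement'_of_coprime (N := (P : Subgroup G)) hPcop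
    by_cases hAT : A = ⊤
    · exfalso
      exact P.ne_bot_of_dvd_card hpd (eq_bot_iff.mpr fun x hx =>
        Subgroup.disjoint_def.mp hA.disjoint hx (hAT ▸ Subgroup.mem_top x) ▸ one_mem _)
    have hclt : ∀ H : Subgroup A, Cfsg.HasSubgroupOfEveryOrder H := by
      intro H d hd
      have e := H.equivMapOfInjective A.subtype A.subtype_injective
      obtain ⟨K, hK⟩ := h (H.map A.subtype) d (Nat.card_congr e.toEquiv ▸ hd)
      exact ⟨K.map e.symm.toMonoidHom, by rw [Subgroup.card_map_of_injective e.symm.injective, hK]⟩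
    have hASS : Cfsg.IsSupersolvable A := ih _ (hn ▸ card_subgroup_lt A hAT) A rfl hclt
    set q := QuotientGroup.mk' (P : Subgroup G)
    have hqA : Function.Surjective (q.comp A.subtype) := by
      intro x
      obtain ⟨g, rfl⟩ := QuotientGroup.mk'_surjective (P : Subgroup G) x
      obtain ⟨⟨⟨u, hu⟩, a⟩, rfl⟩ := hA.2 g
      refine ⟨a, ?_⟩
      simp only [MonoidHom.comp_apply, map_mul]
      rw [show q u = 1 from (QuotientGroup.eq_one_iff u).mpr hu, one_mul]
      rfl
    have hQSS : Cfsg.IsSupersolvable (G ⧸ (P : Subgroup G)) := of_surjective _ hqA hASS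
    haveI : Group.IsSolvable G := by
      haveI := P.isPGroup'.isNilpotent
      haveI := Supersolvable.isSolvable hQSS
      refine Group.isSolvable_of_ker_le_range (P : Subgroup G).subtype q (le_of_eq ?_)
      rw [Subgroup.range_subtype, QuotientGroup.ker_mk']
    refine Huppert.huppert fun M hM => ?_
    by_cases hPM : (P : Subgroup G) ≤ M
    · have hker : q.ker ≤ M := by rwa [QuotientGroup.ker_mk']
      have hc : IsCoatom (M.map q) := by
        refine ⟨fun h => hM.1 ?_, fun L hL => ?_⟩
        · rw [← Subgroup.comap_map_eq_self hker, h, Subgroup.comap_top]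
        · have h1 : M < L.comap q := by
            rw [← Subgroup.comap_map_eq_self hker]
            exact (Subgroup.comap_lt_comap_of_surjective (QuotientGroup.mk'_surjective _)).mpr hL
          rw [← Subgroup.map_comap_eq_self_of_surjective (QuotientGroup.mk'_surjective _) L,
            hM.2 _ h1, Subgroup.map_top_of_surjective _ (QuotientGroup.mk'_surjective _)]
      have := Supersolvable.index_prime_aux _ (G ⧸ (P : Subgroup G)) rfl hQSS _ hc
      rwa [Subgroup.index_map_eq _ (QuotientGroup.mk'_surjective _) hker] at this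
    clear hA hqA hAT hclt hASS hQSS A
    have hsup : (P : Subgroup G) ⊔ M = ⊤ := hM.2 _ (right_lt_sup.mpr hPM)
    set W := (P : Subgroup G) ⊓ M with hW
    have hrel : (P : Subgroup G).relIndex M = (P : Subgroup G).index := by
      rw [← Subgroup.relIndex_top_right, ← hsup, Subgroup.relIndex_sup_left]
    have hidx : M.index = W.relIndex P := by
      have h1 := Subgroup.relIndex_mul_index (inf_le_left : W ≤ (P : Subgroup G))
      have h2 := Subgroup.relIndex_mul_index (inf_le_right : W ≤ M)
      rw [show W.relIndex M = (P : Subgroup G).index by rw [hW, Subgroup.inf_relIndex_right, hrel],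
        ← h1, mul_comm] at h2
      exact Nat.eq_of_mul_eq_mul_right (Nat.pos_of_ne_zero Subgroup.index_ne_zero_of_finite) h2
    -- a complement inside `M`
    set W₀ := (P : Subgroup G).subgroupOf M
    have hW₀ : (Nat.card W₀).Coprime W₀.index := by
      show (Nat.card W₀).Coprime ((P : Subgroup G).relIndex M)
      rw [hrel]
      refine hPcop.coprime_dvd_left ?_
      rw [show W₀ = W.subgroupOf M by rw [hW, Subgroup.inf_subgroupOf_right],
        Nat.card_congr (Subgroup.subgroupOfEquivOfLe (inf_le_right : W ≤ M)).toEquiv]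
      exact Subgroup.card_dvd_of_le inf_le_left
    obtain ⟨A₀, hA₀⟩ := Subgroup.exists_right_complement'_of_coprime (N := W₀) hW₀
    set A := A₀.map M.subtype
    have hAM : A ≤ M := Subgroup.map_subtype_le _
    have hcA : Nat.card A = (P : Subgroup G).index := by
      rw [Subgroup.card_map_of_injective M.subtype_injective, ← hA₀.symm.index_eq_card]
      exact hrel
    have hPA : (P : Subgroup G) ⊓ A = ⊥ :=
      (Subgroup.disjoint_of_coprime_natCard (hcA.symm ▸ hPcop)).eq_bot
    have hMWA : M = W ⊔ A := by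
      refine le_antisymm ?_ (sup_le inf_le_right hAM)
      have h1 : W₀.map M.subtype = W := by rw [hW, Subgroup.subgroupOf_map_subtype]
      conv_lhs => rw [← M.range_subtype, MonoidHom.range_eq_map, ← hA₀.sup_eq_top,
        Subgroup.map_sup, h1]
    have hWn : W.Normal := by
      rw [← Subgroup.normalizer_eq_top_iff]
      have hMle : M ≤ Subgroup.normalizer (W : Set G) := by
        intro m hm
        rw [Subgroup.mem_normalizer_iff]
        intro y
        constructor
        · intro hy
          exact ⟨Subgroup.Normal.conj_mem ‹(P : Subgroup G).Normal› _ hy.1 m,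
            M.mul_mem (M.mul_mem hm hy.2) (M.inv_mem hm)⟩
        · intro hy
          exact ⟨by
              have h2 := Subgroup.Normal.conj_mem ‹(P : Subgroup G).Normal› _ hy.1 m⁻¹
              simp only [mul_assoc, inv_inv, inv_mul_cancel_left, inv_mul_cancel, mul_one] at h2
              exact h2,
            by simpa [mul_assoc] using M.mul_mem (M.mul_mem (M.inv_mem hm) hy.2) hm⟩
      by_contra hne
      have heq : M = Subgroup.normalizer (W : Set G) :=
        hMle.eq_of_not_lt fun hlt => hne (hM.2 _ hlt)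
      have hWP : W.subgroupOf P < ⊤ := by
        rw [lt_top_iff_ne_top, Ne, Subgroup.subgroupOf_eq_top]
        exact fun hle => hPM (hle.trans inf_le_right)
      haveI := P.isPGroup'.isNilpotent
      have hlt := Group.normalizerCondition_of_isNilpotent (W.subgroupOf P) hWP
      rw [← Subgroup.subgroupOf_normalizer_eq (inf_le_left : W ≤ (P : Subgroup G)), ← heq] at hlt
      apply hlt.ne
      rw [hW, Subgroup.inf_subgroupOf_left]
    haveI := hWn
    -- a minimal supplement of `W` in `P` normalised by `A`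
    obtain ⟨V, -, ⟨hVP, hVA, hVW⟩, hVmin⟩ := Finite.exists_le_minimal
      (p := fun V : Subgroup G => V ≤ (P : Subgroup G) ∧ A ≤ Subgroup.normalizer (V : Set G) ∧
        V ⊔ W = (P : Subgroup G)) (a := (P : Subgroup G))
      ⟨le_rfl, by rw [Subgroup.normalizer_eq_top_iff.mpr ‹(P : Subgroup G).Normal›]; exact le_top,
        sup_eq_left.mpr inf_le_left⟩
    have hVpg : IsPGroup p V := P.isPGroup'.to_le hVP
    have hVne : V ≠ ⊥ := by
      rintro rfl
      rw [bot_sup_eq] at hVW
      exact hPM (hVW ▸ inf_le_right)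
    obtain ⟨i, hi⟩ := IsPGroup.iff_card.mp hVpg
    have hi0 : i ≠ 0 := by rintro rfl; exact hVne (Subgroup.card_eq_one.mp (by simpa using hi))
    set L := V ⊔ A
    have hVA0 : V ⊓ A = ⊥ := le_bot_iff.mp (hPA ▸ inf_le_inf_right A hVP)
    have hcL : Nat.card L = Nat.card V * Nat.card A := by
      have hLset : (L : Set G) = (V : Set G) * (A : Set G) :=
        Subgroup.coe_mul_of_right_le_normalizer_left V A hVA
      let f : V × A → L := fun x => ⟨(x.1 : G) * x.2,
        mul_mem (Subgroup.mem_sup_left x.1.2) (Subgroup.mem_sup_right x.2.2)⟩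
      have hf : Function.Bijective f := by
        constructor
        · rintro ⟨a, b⟩ ⟨a', b'⟩ he
          have he' : (a : G) * b = a' * b' := congrArg Subtype.val he
          have h1 : (a' : G)⁻¹ * a = (b' : G) * (b : G)⁻¹ := by
            calc (a' : G)⁻¹ * a = (a' : G)⁻¹ * ((a : G) * b) * (b : G)⁻¹ := by group
              _ = (b' : G) * (b : G)⁻¹ := by rw [he']; group
          have h2 : (a' : G)⁻¹ * a ∈ V ⊓ A :=
            ⟨V.mul_mem (V.inv_mem a'.2) a.2, h1 ▸ A.mul_mem b'.2 (A.inv_mem b.2)⟩
          rw [hVA0, Subgroup.mem_bot] at h2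
          exact Prod.ext (Subtype.ext (inv_mul_eq_one.mp h2).symm)
            (Subtype.ext (mul_inv_eq_one.mp (h1 ▸ h2)).symm)
        · rintro ⟨x, hx⟩
          have hx' : x ∈ (V : Set G) * (A : Set G) := hLset ▸ hx
          obtain ⟨a, ha, b, hb, rfl⟩ := hx'
          exact ⟨(⟨a, ha⟩, ⟨b, hb⟩), rfl⟩
      rw [← Nat.card_prod]
      exact (Nat.card_eq_of_bijective f hf).symm
    obtain ⟨R, hR⟩ := h L (p ^ (i - 1) * Nat.card A)
      (by rw [hcL, hi]; exact Nat.mul_dvd_mul (pow_dvd_pow p (Nat.sub_le i 1)) dvd_rfl)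
    have hRi : R.index = p := by
      have h1 := R.card_mul_index
      rw [hR, hcL, hi] at h1
      refine Nat.eq_of_mul_eq_mul_left (Nat.mul_pos (pow_pos hp.pos (i - 1)) (Nat.card_pos (α := A))) ?_
      rw [h1]
      have e : p ^ i = p ^ (i - 1) * p := by rw [← pow_succ, Nat.sub_add_cancel (Nat.pos_of_ne_zero hi0)]
      rw [e]; ring
    -- a conjugate containing `A`
    have hAcop : (p ^ (i - 1)).Coprime (Nat.card A) := by
      rw [hcA]; exact (hp.coprime_iff_not_dvd.mpr P.not_dvd_index).pow_left _
    have hAcopL : (Nat.card (A.subgroupOf L)).Coprime p := by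
      rw [Nat.card_congr (Subgroup.subgroupOfEquivOfLe (le_sup_right : A ≤ L)).toEquiv, hcA]
      exact (hp.coprime_iff_not_dvd.mpr P.not_dvd_index).symm
    obtain ⟨H₀, hH₀⟩ := Hall.exists_card_eq (G := R) (m := Nat.card A) (n := p ^ (i - 1))
      (by rw [hR]; ring) hAcop.symm
    obtain ⟨g, hg⟩ := Hall.le_conj (G := L) (m := Nat.card A) (n := Nat.card V)
      (H := H₀.map R.subtype) (K := A.subgroupOf L)
      (by rw [hcL]; ring) (by rw [hi, hcA]; exact Nat.Coprime.pow_right i ((hp.coprime_iff_not_dvd.mpr P.not_dvd_index).symm))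
      (by rw [Subgroup.card_map_of_injective R.subtype_injective, hH₀])
      (by rw [hi]; exact hAcopL.pow_right i)
    set R' := MulAut.conj g • R
    have hAR' : A.subgroupOf L ≤ R' := hg.trans (conj_smul_mono (Subgroup.map_subtype_le _))
    set R₁ := R'.map L.subtype
    have hR₁i : R'.index = p := by rw [index_conj_smul, hRi]
    have hAR₁ : A ≤ R₁ := by
      rw [← Subgroup.map_subgroupOf_eq_of_le (le_sup_right : A ≤ L)]
      exact Subgroup.map_mono hAR'
    set V' := R₁ ⊓ V
    have hV'A : A ≤ Subgroup.normalizer (V' : Set G) := by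
      intro a ha
      rw [Subgroup.mem_normalizer_iff]
      intro y
      constructor
      · intro hy
        exact ⟨R₁.mul_mem (R₁.mul_mem (hAR₁ ha) hy.1) (R₁.inv_mem (hAR₁ ha)),
          (Subgroup.mem_normalizer_iff.mp (hVA ha) y).mp hy.2⟩
      · intro hy
        exact ⟨by simpa [mul_assoc] using R₁.mul_mem (R₁.mul_mem (R₁.inv_mem (hAR₁ ha)) hy.1) (hAR₁ ha),
          (Subgroup.mem_normalizer_iff.mp (hVA ha) y).mpr hy.2⟩
    have hrelV : V'.relIndex V ≤ p := by
      rw [Subgroup.inf_relIndex_right]
      have hR₁L : R₁.relIndex L = p := by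
        rw [Subgroup.relIndex, Subgroup.subgroupOf,
          Subgroup.comap_map_eq_self_of_injective L.subtype_injective, hR₁i]
      have := Subgroup.relIndex_le_of_le_right (H := R₁) (le_sup_left : V ≤ L)
        (by rw [hR₁L]; exact hp.ne_zero)
      rwa [hR₁L] at this
    have hVR : ¬ V ≤ R₁ := by
      intro hle
      have h1 : L ≤ R₁ := sup_le hle hAR₁
      have : R'.index = 1 := by
        rw [Subgroup.index_eq_one, eq_top_iff]
        intro x _
        exact (Subgroup.mem_map_iff_mem L.subtype_injective).mp (h1 x.2)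
      rw [hR₁i] at this
      exact hp.ne_one this
    have hV'lt : V' < V := lt_of_le_of_ne inf_le_right fun e => hVR (e ▸ inf_le_left)
    set X := V' ⊔ W
    have hX : X ≠ (P : Subgroup G) := fun e =>
      hV'lt.not_ge (hVmin ⟨inf_le_right.trans hVP, hV'A, e⟩ inf_le_right)
    have hXP : X ≤ (P : Subgroup G) := sup_le (inf_le_right.trans hVP) inf_le_left
    have hXA : X ⊔ A = M := by
      have hMX : M ≤ X ⊔ A := by
        rw [hMWA]; exact sup_le (le_sup_right.trans le_sup_left) le_sup_right
      refine (hMX.eq_of_not_lt fun hlt => hX ?_).symm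
      have htop := hM.2 _ hlt
      have hnor : A ≤ Subgroup.normalizer (X : Set G) :=
        le_trans (le_inf hV'A (by rw [Subgroup.normalizer_eq_top_iff.mpr hWn]; exact le_top))
          (Subgroup.normalizer_inf_normalizer_le_normalizer_sup V' W)
      refine le_antisymm hXP fun x hx => ?_
      show x ∈ X
      have hx' : x ∈ (X : Set G) * (A : Set G) := by
        rw [← Subgroup.coe_mul_of_right_le_normalizer_left X A hnor, htop]; trivial
      obtain ⟨a, ha, b, hb, rfl⟩ := hx'
      have : b ∈ (P : Subgroup G) ⊓ A :=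
        ⟨by have h2 := (P : Subgroup G).mul_mem ((P : Subgroup G).inv_mem (hXP ha)) hx
            simp only [inv_mul_cancel_left] at h2
            exact h2, hb⟩
      rw [hPA, Subgroup.mem_bot] at this
      show a * b ∈ X
      rw [this, mul_one]; exact ha
    have hV'W : V' ≤ W := le_inf (inf_le_right.trans hVP)
      (hXA ▸ (le_sup_left.trans le_sup_left : V' ≤ X ⊔ A))
    rw [hidx, ← hVW, Subgroup.relIndex_sup_right]
    have hd : W.relIndex V ∣ V'.relIndex V := Subgroup.relIndex_dvd_of_le_left V hV'W
    obtain ⟨k, hk⟩ : ∃ k, V'.relIndex V = p ^ k := hVpg.index (V'.subgroupOf V)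
    have hk1 : k ≤ 1 := by
      have : p ^ k ≤ p ^ 1 := by rw [← hk, pow_one]; exact hrelV
      exact (Nat.pow_le_pow_iff_right hp.one_lt).mp this
    have hWV : W.relIndex V ≠ 1 := fun e => hPM (by
      rw [Subgroup.relIndex_eq_one] at e
      rw [← hVW]
      exact sup_le (e.trans inf_le_right) inf_le_right)
    rw [hk] at hd
    have hd1 : W.relIndex V ∣ p := by
      refine hd.trans ?_
      calc p ^ k ∣ p ^ 1 := pow_dvd_pow p hk1
        _ = p := pow_one p
    exact ((Nat.dvd_prime hp).mp hd1).resolve_left hWV ▸ hp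

theorem hall_conj_aux : ∀ (N : ℕ) (G : Type u) [Group G] [Finite G], Nat.card G = N →
    ∀ H K : Subgroup G, Cfsg.IsSupersolvable H → Cfsg.IsSupersolvable K →
    Nat.card H = Nat.card K → (Nat.card H).Coprime H.index → ∃ x : G, MulAut.conj x • H = K := by
  intro n
  induction n using Nat.strong_induction_on with
  | _ n ih =>
    intro G _ _ hn H K hH hK hc hcop
    by_cases h1 : Nat.card H = 1
    · refine ⟨1, ?_⟩
      rw [map_one, one_smul, Subgroup.card_eq_one.mp h1, Subgroup.card_eq_one.mp (hc.symm.trans h1)]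
    obtain ⟨p, hp, hpd, hmax⟩ := exists_largest_prime (Nat.card H)
      (lt_of_le_of_ne Nat.card_pos (Ne.symm h1))
    haveI := Fact.mk hp
    have hidx : K.index = H.index := by
      have e1 := H.card_mul_index
      rw [← K.card_mul_index, hc] at e1
      exact (Nat.eq_of_mul_eq_mul_left Nat.card_pos e1).symm
    have hnd : ¬ p ∣ H.index := fun hd => hp.ne_one (Nat.eq_one_of_dvd_coprimes hcop hpd hd)
    -- Sylow subgroups of `H` and `K` are Sylow in `G`, normal in `H`, `K`
    have lift : ∀ L : Subgroup G, ¬ p ∣ L.index → Cfsg.IsSupersolvable L →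
        (∀ q : ℕ, q.Prime → q ∣ Nat.card L → q ≤ p) →
        ∃ P : Sylow p G, (P : Subgroup G) ≤ L ∧ L ≤ Subgroup.normalizer ((P : Subgroup G) : Set G) := by
      intro L hL hLs hLmax
      obtain ⟨Q⟩ : Nonempty (Sylow p L) := inferInstance
      have hQn := sylow_normal hLs hLmax Q
      have hnd' : ¬ p ∣ ((Q : Subgroup L).map L.subtype).index := by
        rw [Subgroup.index_map_subtype]
        exact fun hd => (hp.dvd_mul.mp hd).elim Q.not_dvd_index hL
      refine ⟨(Q.isPGroup'.map L.subtype).toSylow hnd', Subgroup.map_subtype_le _, ?_⟩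
      rw [IsPGroup.toSylow_coe]
      refine (Subgroup.normal_subgroupOf_iff_le_normalizer (Subgroup.map_subtype_le _)).mp ?_
      rw [Subgroup.subgroupOf, Subgroup.comap_map_eq_self_of_injective L.subtype_injective]
      exact hQn
    obtain ⟨P, hPH, hHN⟩ := lift H hnd hH hmax
    obtain ⟨Q, hQK, hKN⟩ := lift K (hidx.symm ▸ hnd) hK (hc ▸ hmax)
    obtain ⟨x, hx⟩ := MulAction.exists_smul_eq G P Q
    set H₁ := MulAut.conj x • H with hH₁
    suffices hs : ∃ y : G, MulAut.conj y • H₁ = K by
      obtain ⟨y, hy⟩ := hs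
      exact ⟨y * x, by rw [← conj_smul_conj_smul]; exact hy⟩
    have hH₁s : Cfsg.IsSupersolvable H₁ := of_mulEquiv (Subgroup.equivSMul (MulAut.conj x) H) hH
    have hcH₁ : Nat.card H₁ = Nat.card K := (card_conj_smul x H).trans hc
    have hcop₁ : (Nat.card H₁).Coprime H₁.index := by
      rw [card_conj_smul, index_conj_smul]; exact hcop
    have hQH₁ : (Q : Subgroup G) ≤ H₁ := by
      rw [← hx, Sylow.coe_subgroup_smul]; exact conj_smul_mono hPH
    set J := Subgroup.normalizer ((Q : Subgroup G) : Set G) with hJ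
    have hH₁J : H₁ ≤ J := by
      refine (Subgroup.normal_subgroupOf_iff_le_normalizer hQH₁).mp ⟨fun z hz y => ?_⟩
      rw [Subgroup.mem_subgroupOf] at hz ⊢
      have hQeq : (Q : Subgroup G) = MulAut.conj x • (P : Subgroup G) := by
        rw [← Sylow.coe_subgroup_smul, hx]
      rw [hQeq, mem_conj_smul] at hz ⊢
      have hy : x⁻¹ * (y : G) * x ∈ H := mem_conj_smul.mp y.2
      have := (Subgroup.mem_normalizer_iff.mp (hHN hy) _).mp hz
      simpa [mul_assoc] using this
    by_cases hJT : J ≠ ⊤
    · obtain ⟨y, hy⟩ := ih _ (hn ▸ card_subgroup_lt J hJT) J rfl (H₁.subgroupOf J) (K.subgroupOf J)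
        (of_mulEquiv (Subgroup.subgroupOfEquivOfLe hH₁J).symm hH₁s)
        (of_mulEquiv (Subgroup.subgroupOfEquivOfLe hKN).symm hK)
        (by rw [Nat.card_congr (Subgroup.subgroupOfEquivOfLe hH₁J).toEquiv,
          Nat.card_congr (Subgroup.subgroupOfEquivOfLe hKN).toEquiv, hcH₁])
        (by
          rw [Nat.card_congr (Subgroup.subgroupOfEquivOfLe hH₁J).toEquiv]
          exact hcop₁.coprime_dvd_right (Subgroup.relIndex_dvd_index_of_le hH₁J))
      refine ⟨y, ?_⟩
      have h := congrArg (Subgroup.map J.subtype) hy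
      rwa [map_subtype_conj_smul, Subgroup.map_subgroupOf_eq_of_le hH₁J,
        Subgroup.map_subgroupOf_eq_of_le hKN] at h
    rw [not_not, hJ, Subgroup.normalizer_eq_top_iff] at hJT
    haveI := hJT
    have hQ0 : (Q : Subgroup G) ≠ ⊥ :=
      Q.ne_bot_of_dvd_card (hpd.trans H.card_subgroup_dvd_card)
    set q := QuotientGroup.mk' (Q : Subgroup G)
    have e1 := card_map_mk_of_le (Q : Subgroup G) H₁ hQH₁
    have e2 := card_map_mk_of_le (Q : Subgroup G) K hQK
    obtain ⟨y, hy⟩ := ih _ (hn ▸ card_quotient_lt _ hQ0) (G ⧸ (Q : Subgroup G)) rfl (H₁.map q)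
      (K.map q) (of_surjective _ (q.subgroupMap_surjective H₁) hH₁s)
      (of_surjective _ (q.subgroupMap_surjective K) hK)
      (Nat.eq_of_mul_eq_mul_right Nat.card_pos (e1.trans (hcH₁.trans e2.symm)))
      (by
        refine (hcop₁.coprime_dvd_left (Subgroup.card_map_dvd _ _)).coprime_dvd_right ?_
        rw [Subgroup.index_map_eq _ (QuotientGroup.mk'_surjective _)
          (by rw [QuotientGroup.ker_mk']; exact hQH₁)])
    obtain ⟨y, rfl⟩ := QuotientGroup.mk'_surjective (Q : Subgroup G) y
    rw [← map_conj_smul] at hy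
    refine ⟨y, ?_⟩
    have h := sup_eq_of_map_mk_eq hy
    have hQy : (Q : Subgroup G) ≤ MulAut.conj y • H₁ := by
      calc (Q : Subgroup G) = MulAut.conj y • (Q : Subgroup G) :=
            (Subgroup.Normal.conj_smul_eq_self y _).symm
        _ ≤ _ := conj_smul_mono hQH₁
    rwa [sup_eq_left.mpr hQy, sup_eq_left.mpr hQK] at h

end CfsgLib.Solvable.SupersolvableHall
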