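import Cfsg.Agent.Lib.Solvable.Basic

/-!
A solvable group is the product, in any order, of Sylow subgroups for all its primes.
-/

set_option linter.style.haveILetI false

namespace CfsgLib.Solvable.SylowProduct

open CfsgLib.Solvable.Basic

universe u

/-- Moving an element of a normal subgroup inside a product to position `j`. -/
theorem absorb {G : Type*} [Group G] (N : Subgroup G) [N.Normal] : ∀ (t : ℕ) (j : Fin t)
    (s : Fin t → G) (n : G), n ∈ N → ∃ m ∈ N,
      (List.ofFn s).prod * n = (List.ofFn (Function.update s j (s j * m))).prod := by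
  intro t
  induction t with
  | zero => intro j; exact j.elim0
  | succ t ih =>
    intro j s n hn
    induction j using Fin.cases with
    | zero =>
      set r := (List.ofFn fun i : Fin t => s i.succ).prod
      refine ⟨r * n * r⁻¹, Subgroup.Normal.conj_mem ‹_› n hn r, ?_⟩
      have h : ∀ i : Fin t, Function.update s 0 (s 0 * (r * n * r⁻¹)) i.succ = s i.succ := fun i =>
        Function.update_of_ne (Fin.succ_ne_zero i) _ _
      simp only [List.ofFn_succ, List.prod_cons, Function.update_self, h]
      show s 0 * r * n = s 0 * (r * n * r⁻¹) * r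
      group
    | succ i =>
      obtain ⟨m, hm, he⟩ := ih i (fun k => s k.succ) n hn
      refine ⟨m, hm, ?_⟩
      have h0 : Function.update s i.succ (s i.succ * m) 0 = s 0 :=
        Function.update_of_ne (Fin.succ_ne_zero i).symm _ _
      have h : (fun k : Fin t => Function.update s i.succ (s i.succ * m) k.succ) =
          Function.update (fun k : Fin t => s k.succ) i (s i.succ * m) := by
        funext k
        by_cases hk : k = i
        · subst hk; simp
        · rw [Function.update_of_ne hk, Function.update_of_ne (fun e => hk (Fin.succ_injective _ e))]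
      simp only [List.ofFn_succ, List.prod_cons, h0, h]
      rw [mul_assoc, he]

theorem exists_prod_aux : ∀ (N : ℕ) (G : Type u) [Group G] [Finite G] [Group.IsSolvable G],
    Nat.card G = N → ∀ (t : ℕ) (p : Fin t → ℕ), (∀ i, (p i).Prime) →
    (∀ q : ℕ, q.Prime → q ∣ Nat.card G → ∃ i, p i = q) → ∀ S : (i : Fin t) → Sylow (p i) G,
    ∀ g : G, ∃ s : Fin t → G, (∀ i, s i ∈ (S i : Subgroup G)) ∧ g = (List.ofFn s).prod := by
  intro N
  induction N using Nat.strong_induction_on with
  | _ N ih =>
    intro G _ _ _ hN t p hp hall S g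
    by_cases hG1 : (⊤ : Subgroup G) = ⊥
    · refine ⟨fun _ => 1, fun i => one_mem _, ?_⟩
      have : g ∈ (⊥ : Subgroup G) := hG1 ▸ Subgroup.mem_top g
      rw [Subgroup.mem_bot.mp this, List.prod_eq_one]
      intro x hx
      obtain ⟨_, rfl⟩ := List.mem_ofFn.mp hx
      rfl
    obtain ⟨A, r, hr, hAn, hA, -, -, hAr, -⟩ := exists_minimal_normal_pgroup hG1
    haveI := Fact.mk hr
    obtain ⟨k, hk⟩ := IsPGroup.iff_card.mp hAr
    have hk0 : k ≠ 0 := by
      rintro rfl; exact hA (Subgroup.card_eq_one.mp (by simpa using hk))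
    obtain ⟨j, hj⟩ := hall r hr ((dvd_pow_self r hk0).trans (hk ▸ A.card_subgroup_dvd_card))
    have hAS : A ≤ (S j : Subgroup G) := (hj ▸ hAr).le_sylow_of_normal (S j)
    haveI : ∀ i, Fact (p i).Prime := fun i => ⟨hp i⟩
    obtain ⟨s, hs, hgs⟩ := ih _ (hN ▸ card_quotient_lt A hA) (G ⧸ A) rfl t p hp
      (fun q hq hd => hall q hq (hd.trans (A.index_eq_card ▸ A.index_dvd_card)))
      (fun i => (S i).mapSurjective (QuotientGroup.mk'_surjective A)) (g : G ⧸ A)
    have hs' : ∀ i, ∃ x ∈ (S i : Subgroup G), QuotientGroup.mk' A x = s i := fun i => by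
      have := hs i
      rw [Sylow.coe_mapSurjective] at this
      exact this
    choose x hx hxs using hs'
    have hn : ((List.ofFn x).prod)⁻¹ * g ∈ A := by
      apply QuotientGroup.eq.mp
      rw [← QuotientGroup.mk'_apply, map_list_prod, List.map_ofFn]
      rw [hgs]
      congr 2
      funext i
      exact hxs i
    obtain ⟨m, hm, he⟩ := absorb A t j x _ hn
    refine ⟨_, fun i => ?_, by rw [← he, mul_inv_cancel_left]⟩
    by_cases hi : i = j
    · subst hi
      rw [Function.update_self]
      exact mul_mem (hx i) (hAS hm)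
    · rw [Function.update_of_ne hi]
      exact hx i

end CfsgLib.Solvable.SylowProduct
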