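import Mathlib
import Cfsg.Agent.Lib.Fusion.SubnormalJoin
import Cfsg.Agent.Lib.Frobenius.Zipper

/-!
A generalised zipper lemma: let `A` be a proper subgroup with normal closure the whole group and
suppose all proper subgroups generated by their conjugates of `A` lie in one maximal subgroup `V`.
Then `V` is the only maximal subgroup containing `A`.
-/

set_option autoImplicit false

namespace CfsgLib.Solvable.UniqueMaximal

open Subgroup

universe u

variable {G : Type u} [Group G]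

/-- `H` is the normal closure of `A` in `H`. -/
def Gen (A H : Subgroup G) : Prop :=
  A ≤ H ∧ ∀ K : Subgroup G, A ≤ K → K ≤ H → H ≤ normalizer (K : Set G) → K = H

theorem Gen.refl (A : Subgroup G) : Gen A A :=
  ⟨le_rfl, fun _ h1 h2 _ => le_antisymm h2 h1⟩

theorem Gen.trans {A E H : Subgroup G} (h1 : Gen A E) (h2 : Gen E H) : Gen A H := by
  refine ⟨h1.1.trans h2.1, fun K hAK hKH hn => h2.2 K ?_ hKH hn⟩
  rw [← h1.2 (K ⊓ E) (le_inf hAK h1.1) inf_le_right ((le_inf (h2.1.trans hn) le_normalizer).trans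
    (inf_normalizer_le_normalizer_inf))]
  exact inf_le_left

theorem gen_iff {A H : Subgroup G} (hAH : A ≤ H) :
    Gen A H ↔ normalClosure ((A.subgroupOf H : Subgroup H) : Set H) = ⊤ := by
  set N := normalClosure ((A.subgroupOf H : Subgroup H) : Set H) with hN
  constructor
  · intro h
    have h1 := h.2 (N.map H.subtype) (fun a ha => ⟨⟨a, hAH ha⟩, subset_normalClosure ha, rfl⟩)
      (map_subtype_le _) ((normal_subgroupOf_iff_le_normalizer (map_subtype_le _)).1 (by
        rw [Subgroup.subgroupOf, comap_map_eq_self_of_injective H.subtype_injective, hN]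
        exact normalClosure_normal))
    rw [← map_injective (f := H.subtype) H.subtype_injective |>.eq_iff, h1, ← MonoidHom.range_eq_map,
      range_subtype]
  · intro h
    refine ⟨hAH, fun K hAK hKH hn => le_antisymm hKH ?_⟩
    haveI := (normal_subgroupOf_iff_le_normalizer hKH).2 hn
    have h1 : N ≤ K.subgroupOf H := normalClosure_le_normal fun a ha => hAK ha
    rw [h] at h1
    intro x hx
    exact h1 (mem_top (⟨x, hx⟩ : H))

theorem gen_top_iff {A : Subgroup G} : Gen A ⊤ ↔ normalClosure (A : Set G) = ⊤ := by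
  constructor
  · intro h
    refine h.2 _ subset_normalClosure le_top ?_
    rw [normalizer_eq_top_iff.2 normalClosure_normal]
  · intro h
    refine ⟨le_top, fun K hAK _ hn => ?_⟩
    haveI := normalizer_eq_top_iff.1 (top_le_iff.1 hn)
    exact top_le_iff.1 (h ▸ normalClosure_le_normal hAK)

/-- A subgroup generated by conjugates of a subnormal subgroup coincides with it. -/
theorem Gen.eq_of_isSubnormal {B H : Subgroup G} (h : Gen B H)
    (hs : (B.subgroupOf H).IsSubnormal) : H = B := by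
  refine le_antisymm ?_ h.1
  rcases hs.lt_normal with h1 | ⟨K, hKn, hBK, hKlt⟩
  · exact subgroupOf_eq_top.1 h1
  · exfalso
    have h1 := h.2 (K.map H.subtype) (fun b hb => ⟨⟨b, h.1 hb⟩, hBK hb, rfl⟩) (map_subtype_le _)
      ((normal_subgroupOf_iff_le_normalizer (map_subtype_le _)).1 (by
        rw [Subgroup.subgroupOf, comap_map_eq_self_of_injective H.subtype_injective]
        exact hKn))
    refine hKlt.ne (map_injective H.subtype_injective ?_)
    rw [h1, ← MonoidHom.range_eq_map, range_subtype]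

theorem sn_of_le {A H W : Subgroup G} (h : (A.subgroupOf W).IsSubnormal) (hHW : H ≤ W) :
    (A.subgroupOf H).IsSubnormal := by
  have := h.comap (inclusion hHW)
  exact this

theorem sn_sup [Finite G] {A B W : Subgroup G} (hA : A ≤ W) (hB : B ≤ W)
    (h1 : (A.subgroupOf W).IsSubnormal) (h2 : (B.subgroupOf W).IsSubnormal) :
    ((A ⊔ B).subgroupOf W).IsSubnormal := by
  rw [subgroupOf_sup hA hB]
  exact CfsgLib.Fusion.SubnormalJoin.sup_isSubnormal h1 h2

/-- The subnormal closure of `A` inside `U`. -/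
theorem exists_gen_subnormal [Finite G] {A U : Subgroup G} (hAU : A ≤ U) :
    ∃ E : Subgroup G, A ≤ E ∧ E ≤ U ∧ Gen A E ∧ (E.subgroupOf U).IsSubnormal := by
  obtain ⟨E, ⟨hAE, hEU, hsn⟩, hmin⟩ :=
    ({E : Subgroup G | A ≤ E ∧ E ≤ U ∧ (E.subgroupOf U).IsSubnormal}).toFinite.exists_minimal
      ⟨U, hAU, le_rfl, by rw [subgroupOf_self]; exact Subgroup.IsSubnormal.top⟩
  refine ⟨E, hAE, hEU, ⟨hAE, fun K hAK hKE hn => le_antisymm hKE (hmin ⟨hAK, hKE.trans hEU, ?_⟩ hKE)⟩, hsn⟩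
  refine Subgroup.IsSubnormal.step _ (E.subgroupOf U) (comap_mono hKE) hsn ?_
  rw [normal_subgroupOf_iff_le_normalizer (show K.subgroupOf U ≤ E.subgroupOf U from comap_mono hKE)]
  intro x hx
  rw [mem_normalizer_iff]
  intro y
  exact (mem_normalizer_iff.1 (hn hx) (y : G))

/-- Conjugate subgroup. -/
def cj (g : G) (H : Subgroup G) : Subgroup G := H.map (MulAut.conj g).toMonoidHom

theorem mem_cj {g x : G} {H : Subgroup G} : x ∈ cj g H ↔ g⁻¹ * x * g ∈ H := by
  constructor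
  · rintro ⟨h, hh, rfl⟩
    show g⁻¹ * (g * h * g⁻¹) * g ∈ H
    rwa [show g⁻¹ * (g * h * g⁻¹) * g = h by group]
  · intro h
    exact ⟨_, h, by show g * (g⁻¹ * x * g) * g⁻¹ = x; group⟩

theorem cj_mul (g h : G) (H : Subgroup G) : cj (g * h) H = cj g (cj h H) := by
  ext x; simp only [mem_cj, mul_inv_rev, mul_assoc]

theorem cj_one (H : Subgroup G) : cj 1 H = H := by
  ext x; simp [mem_cj]

theorem cj_inv_cj (g : G) (H : Subgroup G) : cj g⁻¹ (cj g H) = H := by
  rw [← cj_mul, inv_mul_cancel, cj_one]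

theorem cj_cj_inv (g : G) (H : Subgroup G) : cj g (cj g⁻¹ H) = H := by
  rw [← cj_mul, mul_inv_cancel, cj_one]

theorem cj_mono {g : G} {H K : Subgroup G} (h : H ≤ K) : cj g H ≤ cj g K := map_mono h

theorem cj_le_iff {g : G} {H K : Subgroup G} : cj g H ≤ cj g K ↔ H ≤ K :=
  ⟨fun h => by simpa only [cj_inv_cj] using cj_mono (g := g⁻¹) h, cj_mono⟩

theorem cj_injective (g : G) : Function.Injective (cj g) := fun H K h => by
  rw [← cj_inv_cj g H, h, cj_inv_cj]

theorem cj_eq_of_mem_normalizer {g : G} {H : Subgroup G} (h : g ∈ normalizer (H : Set G)) :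
    cj g H = H := mem_normalizer_iff_map_conj_eq.1 h

theorem mem_normalizer_of_cj {g : G} {H : Subgroup G} (h : cj g H = H) :
    g ∈ normalizer (H : Set G) := mem_normalizer_iff_map_conj_eq.2 h

theorem cj_of_mem {g : G} {H : Subgroup G} (h : g ∈ H) : cj g H = H :=
  cj_eq_of_mem_normalizer (le_normalizer h)

theorem card_cj [Finite G] (g : G) (H : Subgroup G) : Nat.card (cj g H) = Nat.card H :=
  card_map_of_injective (MulAut.conj g).injective

theorem cj_top (g : G) : cj g (⊤ : Subgroup G) = ⊤ :=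
  map_top_of_surjective _ (MulAut.conj g).surjective

theorem isCoatom_cj {g : G} {H : Subgroup G} (h : IsCoatom H) : IsCoatom (cj g H) := by
  refine ⟨fun e => h.1 (by rw [← cj_inv_cj g H, e, cj_top]), fun K hK => ?_⟩
  have h1 : H < cj g⁻¹ K := by
    refine lt_of_le_not_ge (by simpa only [cj_inv_cj] using cj_mono (g := g⁻¹) hK.le) fun h2 => ?_
    exact hK.not_ge (by simpa only [cj_cj_inv] using cj_mono (g := g) h2)
  rw [← cj_cj_inv g K, h.2 _ h1, cj_top]

theorem sn_cj {g : G} {A K : Subgroup G} (h : (A.subgroupOf K).IsSubnormal) :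
    ((cj g A).subgroupOf (cj g K)).IsSubnormal :=
  CfsgLib.Frobenius.Zipper.conj_isSubnormal_subgroupOf g⁻¹ (by
    show ((cj g⁻¹ (cj g A)).subgroupOf (cj g⁻¹ (cj g K))).IsSubnormal
    rwa [cj_inv_cj, cj_inv_cj])

theorem Gen.cj_top {A : Subgroup G} (h : Gen A ⊤) (g : G) : Gen (cj g A) ⊤ := by
  refine ⟨le_top, fun K hK _ hn => h.2 K ?_ le_top hn⟩
  intro a ha
  have h1 : g * a * g⁻¹ ∈ K := hK ⟨a, ha, rfl⟩
  haveI := normalizer_eq_top_iff.1 (top_le_iff.1 hn)
  simpa [mul_assoc] using (inferInstance : K.Normal).conj_mem _ h1 g⁻¹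

theorem not_top_le {A B K : Subgroup G} (h : Gen A ⊤) (hA : A ≤ B) (hB : B ≤ K)
    (hK : K ≠ ⊤) : ¬ B.Normal := fun hn => hK (top_le_iff.1
  ((h.2 B hA le_top (le_of_eq (normalizer_eq_top_iff.2 hn).symm)).ge.trans hB))

/-- The stabiliser of a set of subgroups. -/
def stab (T : Set (Subgroup G)) : Subgroup G where
  carrier := {x | cj x '' T = T}
  one_mem' := by
    show cj 1 '' T = T
    rw [show cj (1 : G) = id from funext cj_one, Set.image_id]
  mul_mem' := fun {x y} hx hy => by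
    show cj (x * y) '' T = T
    rw [show cj (x * y) = cj x ∘ cj y from funext (cj_mul x y), Set.image_comp, hy, hx]
  inv_mem' := fun {x} hx => by
    show cj x⁻¹ '' T = T
    conv_lhs => rw [← hx]
    rw [← Set.image_comp, show cj x⁻¹ ∘ cj x = id from funext (cj_inv_cj x), Set.image_id]

theorem mem_stab_of_mapsTo [Finite G] {T : Set (Subgroup G)} {x : G}
    (h : ∀ C ∈ T, cj x C ∈ T) : x ∈ stab T :=
  Set.eq_of_subset_of_ncard_le (Set.image_subset_iff.2 h)
    (Set.ncard_image_of_injective T (cj_injective x)).ge (Set.toFinite _)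

theorem stab_ne_top [Finite G] {A V : Subgroup G} (h : Gen A ⊤) (hV : V ≠ ⊤)
    {T : Set (Subgroup G)} {g : G} (hg : cj g A ∈ T) (hT : ∀ C ∈ T, C ≤ V) : stab T ≠ ⊤ := by
  intro he
  refine not_top_le (h.cj_top g) (le_sSup hg) (sSup_le hT) hV ⟨fun n hn x => ?_⟩
  have hx : x ∈ stab T := he ▸ mem_top x
  have h1 : cj x (sSup T) = sSup T := by
    refine le_antisymm ?_ ?_
    · rw [cj, map_le_iff_le_comap]
      refine sSup_le fun C hC => map_le_iff_le_comap.1 ?_
      exact le_sSup (show cj x C ∈ T from hx ▸ Set.mem_image_of_mem _ hC)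
    · refine sSup_le fun C hC => ?_
      obtain ⟨D, hD, rfl⟩ := hx.ge hC
      exact cj_mono (le_sSup hD)
  exact h1 ▸ ⟨n, hn, rfl⟩

/-- Zipper step: a family of subnormal subgroups of `V`, invariant under `V`. -/
theorem exists_stab_of_not_le [Finite G] {V W : Subgroup G} (Ω : Set (Subgroup G))
    (hle : ∀ C ∈ Ω, C ≤ V) (hsn : ∀ C ∈ Ω, (C.subgroupOf V).IsSubnormal)
    (hinv : ∀ C ∈ Ω, ∀ x ∈ V, cj x C ∈ Ω) (hbad : ∃ C ∈ Ω, ¬ C ≤ W) :
    ∃ d ∈ Ω, ¬ d ≤ W ∧ d ≤ stab {C ∈ Ω | C ≤ W} := by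
  set R := {C ∈ Ω | C ≤ W} with hR
  have hS : ∀ R' : Set (Subgroup G), R' ⊆ R → ((sSup R').subgroupOf V).IsSubnormal := by
    intro R' hR'
    induction R', Set.toFinite R' using Set.Finite.induction_on with
    | empty => rw [sSup_empty, bot_subgroupOf]; exact Subgroup.IsSubnormal.bot
    | @insert a s _ _ ih =>
      rw [Set.insert_subset_iff] at hR'
      rw [sSup_insert]
      exact sn_sup (hle a hR'.1.1) (sSup_le fun C hC => hle C (hR'.2 hC).1) (hsn a hR'.1.1)
        (ih hR'.2)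
  have hQ0 : ∀ K : Subgroup V, K.IsSubnormal → (sSup R).subgroupOf V ≤ K →
      (∀ C ∈ Ω, C.subgroupOf V ≤ K → C ≤ W) → ∃ d ∈ Ω, ¬ d ≤ W ∧ d ≤ stab R := by
    intro K hK
    induction hK with
    | top =>
      intro _ hall
      obtain ⟨C, hC, hCW⟩ := hbad
      exact absurd (hall C hC le_top) hCW
    | step H K hHK _ hN ih =>
      intro hSH hall
      by_cases hall' : ∀ C ∈ Ω, C.subgroupOf V ≤ K → C ≤ W
      · exact ih (hSH.trans hHK) hall'
      push Not at hall'
      obtain ⟨d, hd, hdK, hdW⟩ := hall'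
      refine ⟨d, hd, hdW, fun x hx => mem_stab_of_mapsTo fun C hC => ?_⟩
      have hxV : x ∈ V := hle d hd hx
      refine ⟨hinv C hC.1 x hxV, hall _ (hinv C hC.1 x hxV) ?_⟩
      rintro ⟨y, hyV⟩ hy
      obtain ⟨c, hc, hcy⟩ := (show y ∈ cj x C from hy)
      have hnx := (normal_subgroupOf_iff_le_normalizer hHK).1 hN
        (hdK (show (⟨x, hxV⟩ : V) ∈ d.subgroupOf V from hx))
      have h1 : (⟨c, hle C hC.1 hc⟩ : V) ∈ H := hSH (show c ∈ sSup R from le_sSup (show C ∈ R from hC) hc)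
      have h2 := (mem_normalizer_iff.1 hnx _).1 h1
      convert h2 using 1
      exact Subtype.ext hcy.symm
  refine hQ0 _ (hS R le_rfl) le_rfl fun C hC hCS x hx => ?_
  have h1 : x ∈ sSup R := hCS (show (⟨x, hle C hC hx⟩ : V) ∈ C.subgroupOf V from hx)
  exact (sSup_le fun D hD => hD.2 : sSup R ≤ W) h1

section main

variable [Finite G]

/-- The inductive hypothesis, in the form in which it is used. -/
def Rule (A : Subgroup G) : Prop :=
  ∀ B X : Subgroup G, Nat.card A < Nat.card B → Gen B ⊤ → IsCoatom X → B ≤ X →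
    (∀ W, IsCoatom W → B ≤ W → W ≠ X → (B.subgroupOf W).IsSubnormal) →
      ∀ W, IsCoatom W → B ≤ W → W = X

theorem lt_card_sup {A C D : Subgroup G} (h : Nat.card C = Nat.card A) (hD : Nat.card D = Nat.card A)
    (hne : C ≠ D) : Nat.card A < Nat.card (C ⊔ D : Subgroup G) := by
  by_contra hle
  push Not at hle
  have h1 : C = C ⊔ D := eq_of_le_of_card_ge le_sup_left (h ▸ hle)
  have h2 : D = C ⊔ D := eq_of_le_of_card_ge le_sup_right (hD ▸ hle)
  exact hne (h1.trans h2.symm)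

theorem core {A V : Subgroup G} (hgen : Gen A ⊤) (hrule : Rule A) (hV : IsCoatom V)
    (hNV : normalizer (A : Set G) ≤ V)
    (hsn : ∀ W, IsCoatom W → A ≤ W → W ≠ V → (A.subgroupOf W).IsSubnormal) :
    ∀ U, IsCoatom U → A ≤ U → U = V := by
  intro U hU hAU
  by_contra hUV
  have hAV : A ≤ V := le_normalizer.trans hNV
  -- the maximal subgroup attached to a conjugate
  have hsnc : ∀ g W, IsCoatom W → cj g A ≤ W → W ≠ cj g V →
      ((cj g A).subgroupOf W).IsSubnormal := by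
    intro g W hW hle hne
    have h1 := sn_cj (g := g) (hsn (cj g⁻¹ W) (isCoatom_cj hW)
      (by simpa only [cj_inv_cj] using cj_mono (g := g⁻¹) hle)
      (fun e => hne (by rw [← e, cj_cj_inv])))
    rwa [cj_cj_inv] at h1
  have hwd : ∀ g h, cj g A = cj h A → cj g V = cj h V := by
    intro g h e
    have h1 : cj (h⁻¹ * g) A = A := by rw [cj_mul, e, cj_inv_cj]
    have h2 := cj_of_mem (hNV (mem_normalizer_of_cj h1))
    calc cj g V = cj h (cj (h⁻¹ * g) V) := by rw [← cj_mul, mul_inv_cancel_left]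
      _ = cj h V := by rw [h2]
  have hVn : ∀ g, cj g V = V → g ∈ V := by
    intro g hg
    rcases eq_or_lt_of_le (le_normalizer : V ≤ normalizer (V : Set G)) with h | h
    · exact h ▸ mem_normalizer_of_cj hg
    · exact absurd (normalizer_eq_top_iff.1 (hV.2 _ h)) (not_top_le hgen hAV le_rfl hV.1)
  -- two conjugates with the same attached maximal subgroup lie in no other one together
  have htwo : ∀ g h W, cj g V = cj h V → cj g A ≠ cj h A → IsCoatom W → cj g A ≤ W → cj h A ≤ W →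
      W ≠ cj g V → False := by
    intro g h W hgh hne hW h1 h2 hWne
    refine hWne (hrule (cj g A ⊔ cj h A) (cj g V) (lt_card_sup (card_cj g A) (card_cj h A) hne)
      ((hgen.cj_top g) |> fun hh => ⟨le_top, fun K hK _ hn => hh.2 K (le_sup_left.trans hK) le_top hn⟩)
      (isCoatom_cj hV) (sup_le (cj_mono hAV) (hgh ▸ cj_mono hAV)) ?_ W hW (sup_le h1 h2))
    intro W' hW' hle hne'
    exact sn_sup (le_sup_left.trans hle) (le_sup_right.trans hle)
      (hsnc g W' hW' (le_sup_left.trans hle) hne')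
      (hsnc h W' hW' (le_sup_right.trans hle) (hgh ▸ hne'))
  have hgood : ∀ g W, IsCoatom W → A ≤ W → W ≠ V → cj g A ≤ W → cj g A ≤ V → cj g A ≠ A →
      A ≤ cj g V := by
    intro g W hW hA hWV hgW hgV hne
    by_contra hnot
    refine hWV (hrule (A ⊔ cj g A) V (lt_card_sup rfl (card_cj g A) (Ne.symm hne))
      ⟨le_top, fun K hK _ hn => hgen.2 K (le_sup_left.trans hK) le_top hn⟩
      hV (sup_le hAV hgV) ?_ W hW (sup_le hA hgW))
    intro W' hW' hle hne'
    exact sn_sup (le_sup_left.trans hle) (le_sup_right.trans hle)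
      (hsn W' hW' (le_sup_left.trans hle) hne')
      (hsnc g W' hW' (le_sup_right.trans hle)
        (fun e => hnot (e ▸ le_sup_left.trans hle)))
  -- a conjugate in `U` normalising `A`
  obtain ⟨x, hxU, hxne, hxN⟩ : ∃ x ∈ U, cj x A ≠ A ∧ cj x A ≤ normalizer (A : Set G) := by
    have hnn : ¬ (A.subgroupOf U).Normal := fun h => hUV ((hU.le_iff.1
      (((normal_subgroupOf_iff_le_normalizer hAU).1 h).trans hNV)).resolve_left hV.1).symm
    obtain ⟨⟨x, hx⟩, hx1, hx2⟩ :=
      CfsgLib.Frobenius.Zipper.exists_conj_of_not_normal (hsn U hU hAU hUV) hnn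
    refine ⟨x, hx, fun e => hx1 ?_, ?_⟩
    · ext ⟨y, hy⟩
      constructor
      · rintro ⟨⟨z, hz⟩, hzA, hzy⟩
        show y ∈ A
        rw [← e]
        exact ⟨z, hzA, congrArg Subtype.val hzy⟩
      · intro hyA
        obtain ⟨z, hzA, hzy⟩ := (e.ge hyA : y ∈ cj x A)
        exact ⟨⟨z, hAU hzA⟩, hzA, Subtype.ext hzy⟩
    · rintro _ ⟨a, ha, rfl⟩
      have h1 := hx2 ⟨(⟨a, hAU ha⟩ : U), ha, rfl⟩
      rw [← subgroupOf_normalizer_eq hAU, mem_subgroupOf] at h1
      exact h1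
  have hxAU : cj x A ≤ U := by simpa only [cj_of_mem hxU] using cj_mono (g := x) hAU
  have hxAV : cj x A ≤ V := hxN.trans hNV
  have hxV : cj x V ≠ V := fun e =>
    htwo 1 x U (by rw [cj_one, e]) (by rw [cj_one]; exact hxne.symm) hU (by rwa [cj_one])
      hxAU (by rwa [cj_one])
  -- `A` is not subnormal in `V`
  have hnsn : ¬ (A.subgroupOf V).IsSubnormal := by
    intro hs
    refine hUV (hrule (A ⊔ cj x A) V (lt_card_sup rfl (card_cj x A) hxne.symm)
      ⟨le_top, fun K hK _ hn => hgen.2 K (le_sup_left.trans hK) le_top hn⟩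
      hV (sup_le hAV hxAV) ?_ U hU (sup_le hAU hxAU))
    intro W hW hle hne
    refine sn_sup (le_sup_left.trans hle) (le_sup_right.trans hle)
      (hsn W hW (le_sup_left.trans hle) hne) ?_
    by_cases he : W = cj x V
    · exact he ▸ sn_cj hs
    · exact hsnc x W hW (le_sup_right.trans hle) he
  let Tset : Subgroup G → Set (Subgroup G) := fun W => {C | (∃ g, C = cj g A) ∧ C ≤ V ∧ C ≤ W}
  obtain ⟨W₀, ⟨hW₀, hAW₀, hW₀V⟩, hmax₀⟩ :=
    ({W : Subgroup G | IsCoatom W ∧ A ≤ W ∧ W ≠ V}).toFinite.exists_maximalFor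
      (fun W => (Tset W).ncard) _ ⟨U, hU, hAU, hUV⟩
  have hmax : ∀ W, IsCoatom W → A ≤ W → W ≠ V → (Tset W).ncard ≤ (Tset W₀).ncard := fun W h1 h2 h3 =>
    (le_total _ _).elim id fun h => hmax₀ (j := W) ⟨h1, h2, h3⟩ h
  have hmemA : ∀ W, A ≤ W → A ∈ Tset W := fun W h => ⟨⟨1, (cj_one A).symm⟩, hAV, h⟩
  have hperm : ∀ W y, y ∈ V → y ∈ W → y ∈ stab (Tset W) := fun W y hy hy' =>
    mem_stab_of_mapsTo fun C ⟨⟨g, hg⟩, hCV, hCW⟩ => ⟨⟨y * g, by rw [cj_mul, hg]⟩,
      cj_of_mem hy ▸ cj_mono hCV, cj_of_mem hy' ▸ cj_mono hCW⟩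
  have hown : ∀ W, IsCoatom W → A ≤ W → W ≠ V → ∀ g, cj g A ≤ W → cj g V = V → cj g A = A := by
    intro W hW hA hWV g hgW hgV
    by_contra hne
    exact htwo 1 g W (by rw [cj_one, hgV]) (by rw [cj_one]; exact Ne.symm hne) hW
      (by rwa [cj_one]) hgW (by rwa [cj_one])
  -- the key property of a maximal special pair
  have hspec : ∀ W g, W = cj g V → A ≤ W → W ≠ V → cj g A ≤ V →
      (Tset W).ncard = (Tset W₀).ncard →
      stab (Tset W) ≤ V ∧ ∃ y ∈ stab (Tset W), y ∉ W := by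
    intro W g hWg hAW hWV hgA hcard
    have hW : IsCoatom W := hWg ▸ isCoatom_cj hV
    have hgW : cj g A ≤ W := hWg ▸ cj_mono hAV
    set Ω : Set (Subgroup G) := {C | ∃ h, C = cj h A ∧ cj h V ≠ V ∧ C ≤ V} with hΩ
    have hinv : ∀ C ∈ Ω, ∀ y ∈ V, cj y C ∈ Ω := by
      rintro C ⟨h, rfl, hne, hCV⟩ y hy
      exact ⟨y * h, (cj_mul y h A).symm,
        fun e => hne (cj_injective y (by rw [← cj_mul, e, cj_of_mem hy])),
        cj_of_mem hy ▸ cj_mono hCV⟩
    have hΩle : ∀ C ∈ Ω, C ≤ V := fun C ⟨_, _, _, h⟩ => h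
    have hbad : ∃ C ∈ Ω, ¬ C ≤ W := by
      by_contra hall
      push Not at hall
      apply hnsn
      have hxΩ : cj x A ∈ Ω := ⟨x, rfl, hxV, hxAV⟩
      have hconj : ∀ y ∈ V, cj y A ≤ cj x V := by
        intro y hy
        obtain ⟨h, he, hne, hle⟩ := hinv _ hxΩ y⁻¹ (inv_mem hy)
        have h1 := hgood (y⁻¹ * x) W hW hAW hWV
          ((cj_mul y⁻¹ x A).le.trans (hall _ (hinv _ hxΩ y⁻¹ (inv_mem hy))))
          ((cj_mul y⁻¹ x A).le.trans hle)
          (fun e => hne (by rw [← hwd 1 h (by rw [cj_one, ← he, ← cj_mul, e]), cj_one]))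
        simpa only [← cj_mul, mul_inv_cancel_left] using cj_mono (g := y) h1
      set N := ⨆ y : V, cj (y : G) A with hN
      have hNV' : N ≤ V := iSup_le fun y => (cj_mono hAV).trans (cj_of_mem y.2).le
      have hAN : A ≤ N := le_trans (le_of_eq (cj_one A).symm) (le_iSup (fun y : V => cj (y : G) A) 1)
      refine Subgroup.IsSubnormal.trans (K := N.subgroupOf V) (comap_mono hAN) ?_
        (Subgroup.Normal.isSubnormal ((normal_subgroupOf_iff_le_normalizer hNV').2 fun z hz => ?_))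
      · have h1 : (A.subgroupOf N).IsSubnormal := sn_of_le
          (hsn _ (isCoatom_cj hV) ((cj_one A) ▸ hconj 1 (one_mem V)) hxV)
          (iSup_le fun y => hconj y y.2)
        exact h1.comap (((subgroupOfEquivOfLe hNV').toMonoidHom))
      · refine mem_normalizer_of_cj (le_antisymm ?_ ?_)
        · rw [hN, cj, Subgroup.map_iSup]
          refine iSup_le fun y => ?_
          show cj z (cj (y : G) A) ≤ _
          rw [← cj_mul]
          exact le_iSup (fun y : V => cj (y : G) A) (⟨z, hz⟩ * y)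
        · conv_lhs => rw [← cj_cj_inv z N]
          refine cj_mono ?_
          rw [hN, cj, Subgroup.map_iSup]
          refine iSup_le fun y => ?_
          show cj z⁻¹ (cj (y : G) A) ≤ _
          rw [← cj_mul]
          exact le_iSup (fun y : V => cj (y : G) A) (⟨z, hz⟩⁻¹ * y)
    obtain ⟨d, hd, hdW, hdst⟩ := exists_stab_of_not_le Ω hΩle
      (fun C ⟨h, he, hne, hCV⟩ => he ▸ hsnc h V hV (he ▸ hCV) (Ne.symm hne)) hinv hbad
    obtain ⟨y₀, hy₀d, hy₀W⟩ := SetLike.not_le_iff_exists.1 hdW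
    have hdV : d ≤ V := hΩle d hd
    have heR : cj g A ∈ {C ∈ Ω | C ≤ W} := ⟨⟨g, rfl, hWg ▸ hWV, hgA⟩, hgW⟩
    have hdT : d ≤ stab (Tset W) := by
      intro y hy
      have hyR : cj y '' {C ∈ Ω | C ≤ W} = {C ∈ Ω | C ≤ W} := hdst hy
      have hyA : cj y A = A := by
        obtain ⟨⟨h, he, hne, hle⟩, hle'⟩ := hyR ▸ Set.mem_image_of_mem (cj y) heR
        rw [← cj_mul] at he hle hle'
        have h1 : A ≤ cj (y * g) V := hgood (y * g) W hW hAW hWV hle' hle
          (fun e => hne (by rw [← hwd 1 h (by rw [cj_one, ← he, e]), cj_one]))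
        have hyW : cj (y * g) V = cj y W := by rw [cj_mul, hWg]
        by_contra hne2
        refine htwo 1 y (cj y W) (by rw [cj_one, cj_of_mem (hdV hy)]) (by rw [cj_one]; exact Ne.symm hne2)
          (isCoatom_cj hW) (by rw [cj_one]; exact hyW ▸ h1) (cj_mono hAW) ?_
        rw [cj_one]
        exact fun e => hWV (cj_injective y (e.trans (cj_of_mem (hdV hy)).symm))
      refine mem_stab_of_mapsTo fun C hC => ?_
      obtain ⟨⟨h, rfl⟩, hCV, hCW⟩ := hC
      by_cases hhV : cj h V = V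
      · rw [hown W hW hAW hWV h hCW hhV, hyA]; exact hmemA W hAW
      · obtain ⟨⟨h', he', -, hle⟩, hle'⟩ := hyR ▸ Set.mem_image_of_mem (cj y)
          (show cj h A ∈ {C ∈ Ω | C ≤ W} from ⟨⟨h, rfl, hhV, hCV⟩, hCW⟩)
        exact ⟨⟨h', he'⟩, hle, hle'⟩
    refine ⟨?_, y₀, hdT hy₀d, hy₀W⟩
    have hst := stab_ne_top hgen hV.1 (g := 1) (by rw [cj_one]; exact hmemA W hAW)
      (fun (C : Subgroup G) (hC : C ∈ Tset W) => hC.2.1)
    obtain ⟨X, hX, hle⟩ := (eq_top_or_exists_le_coatom _).resolve_left hst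
    by_contra hnot
    have hXV : X ≠ V := fun e => hnot (e ▸ hle)
    have hAX : A ≤ X := fun a ha => hle (hperm W a (hAV ha) (hAW ha))
    have h1 : insert d (Tset W) ⊆ Tset X := by
      refine Set.insert_subset ⟨let ⟨h, he, _, _⟩ := hd; ⟨h, he⟩, hdV, hdT.trans hle⟩ ?_
      exact fun C hC => ⟨hC.1, hC.2.1, fun c hc => hle (hperm W c (hC.2.1 hc) (hC.2.2 hc))⟩
    have h2 := (Set.ncard_le_ncard h1 (Set.toFinite _)).trans (hmax X hX hAX hXV)
    rw [Set.ncard_insert_of_notMem (fun h => hdW h.2.2) (Set.toFinite _), hcard] at h2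
    omega
  -- move to a special pair
  obtain ⟨W, g, hWg, hAW, hWV, hgA, hcard⟩ : ∃ W g, W = cj g V ∧ A ≤ W ∧ W ≠ V ∧ cj g A ≤ V ∧
      (Tset W).ncard = (Tset W₀).ncard := by
    by_cases hex : ∃ g, cj g A ∈ Tset W₀ ∧ cj g V = W₀
    · obtain ⟨g, hg, he⟩ := hex
      exact ⟨W₀, g, he.symm, hAW₀, hW₀V, hg.2.1, rfl⟩
    push Not at hex
    set Ω : Set (Subgroup G) := {C | ∃ h, C = cj h A ∧ cj h V ≠ W₀ ∧ C ≤ W₀} with hΩ
    have hinv : ∀ C ∈ Ω, ∀ y ∈ W₀, cj y C ∈ Ω := by
      rintro C ⟨h, rfl, hne, hC⟩ y hy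
      exact ⟨y * h, (cj_mul y h A).symm,
        fun e => hne (cj_injective y (by rw [← cj_mul, e, cj_of_mem hy])),
        cj_of_mem hy ▸ cj_mono hC⟩
    have hTΩ : Tset W₀ = {C ∈ Ω | C ≤ V} := by
      ext C
      constructor
      · rintro ⟨⟨h, rfl⟩, h1, h2⟩
        exact ⟨⟨h, rfl, hex h ⟨⟨h, rfl⟩, h1, h2⟩, h2⟩, h1⟩
      · rintro ⟨⟨h, rfl, -, h2⟩, h1⟩
        exact ⟨⟨h, rfl⟩, h1, h2⟩
    obtain ⟨g, hgst, hgV⟩ : ∃ g ∈ stab (Tset W₀), g ∉ V := by
      by_cases hbad : ∃ C ∈ Ω, ¬ C ≤ V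
      · obtain ⟨d, -, hdV, hd⟩ := exists_stab_of_not_le Ω (fun C ⟨_, _, _, h⟩ => h)
          (fun C ⟨h, he, hne, hC⟩ => he ▸ hsnc h W₀ hW₀ (he ▸ hC) (Ne.symm hne)) hinv hbad
        obtain ⟨g, hg, hgV⟩ := SetLike.not_le_iff_exists.1 hdV
        exact ⟨g, hTΩ ▸ hd hg, hgV⟩
      · push Not at hbad
        obtain ⟨g, hg, hgV⟩ := SetLike.not_le_iff_exists.1 (fun h : W₀ ≤ V =>
          hW₀V ((hW₀.le_iff.1 h).resolve_left hV.1).symm)
        refine ⟨g, mem_stab_of_mapsTo fun C hC => ?_, hgV⟩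
        rw [hTΩ] at hC ⊢
        exact ⟨hinv C hC.1 g hg, hbad _ (hinv C hC.1 g hg)⟩
    have hgT : cj g '' Tset W₀ = Tset W₀ := hgst
    have hgA : cj g A ∈ Tset W₀ := hgT ▸ Set.mem_image_of_mem (cj g) (hmemA W₀ hAW₀)
    have hsub : Tset W₀ ⊆ Tset (cj g V) := by
      intro C hC
      refine ⟨hC.1, hC.2.1, ?_⟩
      obtain ⟨D, hD, rfl⟩ := hgT.ge hC
      exact cj_mono hD.2.1
    have hAgV : A ≤ cj g V := (hsub (hmemA W₀ hAW₀)).2.2
    exact ⟨cj g V, g, rfl, hAgV, fun e => hgV (hVn g e), hgA.2.1,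
      le_antisymm (hmax _ (isCoatom_cj hV) hAgV fun e => hgV (hVn g e))
        (Set.ncard_le_ncard hsub (Set.toFinite _))⟩
  obtain ⟨-, y, hy, hyW⟩ := hspec W g hWg hAW hWV hgA hcard
  -- the same pair seen from the other side
  have hT' : cj g⁻¹ '' Tset W = Tset (cj g⁻¹ V) := by
    ext C
    constructor
    · rintro ⟨D, ⟨⟨h, rfl⟩, h1, h2⟩, rfl⟩
      refine ⟨⟨g⁻¹ * h, (cj_mul _ _ _).symm⟩, ?_, cj_mono h1⟩
      simpa only [hWg, cj_inv_cj] using cj_mono (g := g⁻¹) h2
    · rintro ⟨⟨h, rfl⟩, h1, h2⟩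
      refine ⟨cj g (cj h A), ⟨⟨g * h, (cj_mul _ _ _).symm⟩, ?_, ?_⟩, cj_inv_cj _ _⟩
      · simpa only [cj_cj_inv] using cj_mono (g := g) h2
      · simpa only [hWg] using cj_mono (g := g) h1
  obtain ⟨hle, -⟩ := hspec (cj g⁻¹ V) g⁻¹ rfl
    (by simpa only [cj_inv_cj] using cj_mono (g := g⁻¹) hgA)
    (fun e => hWV (by rw [hWg]; conv_lhs => rw [← e, cj_cj_inv]))
    (by simpa only [hWg, cj_inv_cj] using cj_mono (g := g⁻¹) hAW)
    (by rw [← hT', Set.ncard_image_of_injective _ (cj_injective _), hcard])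
  have h1 : g⁻¹ * y * g ∈ stab (Tset (cj g⁻¹ V)) := by
    show cj (g⁻¹ * y * g) '' _ = _
    rw [← hT', ← Set.image_comp]
    have h2 : cj (g⁻¹ * y * g) ∘ cj g⁻¹ = cj g⁻¹ ∘ cj y := funext fun C => by
      simp only [Function.comp_apply, ← cj_mul, mul_assoc, mul_inv_cancel, mul_one]
    rw [h2, Set.image_comp, (hy : cj y '' Tset W = Tset W)]
  exact hyW (by rw [hWg, mem_cj]; exact hle h1)

end main

/-- If all proper subgroups generated by their conjugates of `A` lie in the maximal subgroup `V`,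
then `V` is the only maximal subgroup containing `A`. -/
theorem unique_coatom [Finite G] : ∀ (n : ℕ) (A V : Subgroup G), Nat.card G - Nat.card A ≤ n →
    Gen A ⊤ → IsCoatom V → A ≤ V → (∀ H, Gen A H → H ≠ ⊤ → H ≤ V) →
    ∀ U, IsCoatom U → A ≤ U → U = V := by
  intro n
  induction n using Nat.strong_induction_on with
  | _ n ih =>
    intro A V hn hgen hV hAV hH
    have hrec : ∀ B X : Subgroup G, Nat.card A < Nat.card B → Gen B ⊤ → IsCoatom X → B ≤ X →
        (∀ H, Gen B H → H ≠ ⊤ → H ≤ X) → ∀ U, IsCoatom U → B ≤ U → U = X := by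
      intro B X hlt hB hX hBX h
      have h1 := card_le_card_group B
      exact ih (Nat.card G - Nat.card B) (by omega) B X le_rfl hB hX hBX h
    have hrule : Rule A := by
      intro B X hlt hB hX hBX h
      refine hrec B X hlt hB hX hBX fun H hH hHtop => ?_
      obtain ⟨W, hW, hHW⟩ := (eq_top_or_exists_le_coatom H).resolve_left hHtop
      by_cases hWX : W = X
      · exact hWX ▸ hHW
      · rw [hH.eq_of_isSubnormal (sn_of_le (h W hW (hH.1.trans hHW) hWX) hHW)]
        exact hBX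
    have hsn : ∀ W, IsCoatom W → A ≤ W → W ≠ V → (A.subgroupOf W).IsSubnormal := by
      intro W hW hAW hWV
      obtain ⟨E, hAE, hEW, hgE, hEsn⟩ := exists_gen_subnormal hAW
      by_cases hEA : E = A
      · exact hEA ▸ hEsn
      exfalso
      have hEtop : E ≠ ⊤ := fun e => hW.1 (top_le_iff.1 (e ▸ hEW))
      refine hWV (hrec E V ?_ ?_ hV (hH E hgE hEtop) (fun H h1 h2 => hH H (hgE.trans h1) h2) W hW hEW)
      · by_contra hle
        exact hEA (eq_of_le_of_card_ge hAE (not_lt.1 hle)).symm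
      · exact ⟨le_top, fun K hK _ hn' => hgen.2 K (hAE.trans hK) le_top hn'⟩
    intro U hU hAU
    by_cases hs : (A.subgroupOf V).IsSubnormal
    · have hne : normalizer (A : Set G) ≠ ⊤ := fun e =>
        not_top_le hgen le_rfl hAV hV.1 (normalizer_eq_top_iff.1 e)
      obtain ⟨V', hV', hN⟩ := (eq_top_or_exists_le_coatom _).resolve_left hne
      have h : ∀ W, IsCoatom W → A ≤ W → W = V' := core hgen hrule hV' hN fun W hW hAW _ => by
        by_cases hWV : W = V
        · exact hWV ▸ hs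
        · exact hsn W hW hAW hWV
      rw [h U hU hAU, h V hV hAV]
    · refine core hgen hrule hV (fun z hz => ?_) hsn U hU hAU
      have hz' : cj z V = V := by
        by_contra hne
        refine hs ?_
        have h1 := sn_cj (g := z⁻¹) (hsn _ (isCoatom_cj (g := z) hV)
          (cj_eq_of_mem_normalizer hz ▸ cj_mono hAV) hne)
        rwa [cj_inv_cj, cj_eq_of_mem_normalizer (inv_mem hz)] at h1
      rcases eq_or_lt_of_le (le_normalizer : V ≤ normalizer (V : Set G)) with h | h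
      · exact h ▸ mem_normalizer_of_cj hz'
      · exact absurd (normalizer_eq_top_iff.1 (hV.2 _ h)) (not_top_le hgen hAV le_rfl hV.1)

end CfsgLib.Solvable.UniqueMaximal
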